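import Cfsg.Agent.Rud.Order

/-!
# Orthogonality of the lines of the Rudvalis model
-/

set_option autoImplicit false

namespace Cfsg.Agent.RuRankThree

open Cfsg.Agent.Rud

theorem dot_rotI_right (a b : ℕ) : dot a (rotI b) = -dot (rotI a) b := by
  simp only [dot, cf_rotI, ← Finset.sum_neg_distrib]
  rw [← sum_pairIdx]
  refine Finset.sum_congr rfl fun j _ => ?_
  simp only [rotV, pairIdx]
  rcases Nat.mod_two_eq_zero_or_one j with h | h
  · have h1 : ¬(j + 1) % 2 = 0 := by omega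
    simp only [h, if_true, h1, if_false, Nat.add_sub_cancel]
    ring
  · have h1 : (j - 1) % 2 = 0 := by omega
    have h2 : j - 1 + 1 = j := by omega
    simp only [show ¬(j % 2 = 0) by omega, h1, if_true, if_false, h2]
    ring

/-- Two vectors are orthogonal over the Gaussian integers. -/
def Orth (a b : ℕ) : Prop := dot a b = 0 ∧ dot (rotI a) b = 0

theorem orth_rotI_left (a b : ℕ) : Orth (rotI a) b ↔ Orth a b := by
  have e : dot (rotI (rotI a)) b = -dot a b := by
    have h := dot_rotI_right (rotI a) b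
    rw [dot_rotI] at h
    omega
  unfold Orth
  rw [e, neg_eq_zero, and_comm]

theorem orth_symm {a b : ℕ} (h : Orth a b) : Orth b a := by
  refine ⟨(dot_comm b a).trans h.1, ?_⟩
  rw [dot_comm, dot_rotI_right, h.2, neg_zero]

theorem orth_rotI_right (a b : ℕ) : Orth a (rotI b) ↔ Orth a b :=
  ⟨fun h => orth_symm ((orth_rotI_left b a).1 (orth_symm h)),
    fun h => orth_symm ((orth_rotI_left b a).2 (orth_symm h))⟩

theorem orth_line (a b : ℕ) : Orth (4 * (a / 4)) (4 * (b / 4)) ↔ Orth a b := by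
  have key : ∀ a, ∃ n, rotI^[n] (4 * (a / 4)) = a := by
    intro a
    refine ⟨a % 4, ?_⟩
    rcases (show a % 4 = 0 ∨ a % 4 = 1 ∨ a % 4 = 2 ∨ a % 4 = 3 by omega) with h | h | h | h <;>
      rw [h] <;> simp only [Function.iterate_zero, Function.iterate_succ, Function.comp_apply,
        id_eq, rotI] <;> omega
  have hl : ∀ n c d, Orth (rotI^[n] c) d ↔ Orth c d := by
    intro n
    induction n with
    | zero => intro c d; rfl
    | succ n ih => intro c d; rw [Function.iterate_succ_apply', orth_rotI_left, ih]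
  have hr : ∀ n c d, Orth c (rotI^[n] d) ↔ Orth c d := by
    intro n
    induction n with
    | zero => intro c d; rfl
    | succ n ih => intro c d; rw [Function.iterate_succ_apply', orth_rotI_right, ih]
  obtain ⟨m, hm⟩ := key a
  obtain ⟨n, hn⟩ := key b
  conv_rhs => rw [← hm, ← hn, hl, hr]

/-- Adjacency of lines. -/
def Adj (x y : Fin 4060) : Prop := Orth (4 * (x : ℕ)) (4 * (y : ℕ))

theorem adj_symm {x y : Fin 4060} (h : Adj x y) : Adj y x := orth_symm h

theorem lineHom_adj (p : ↥Kgrp) (x y : Fin 4060) :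
    Adj (lineHom p x) (lineHom p y) ↔ Adj x y := by
  have e : ∀ z : Fin 4060, ((lineHom p z : Fin 4060) : ℕ) =
      ((p : Equiv.Perm (Fin 16240)) ⟨4 * z, by omega⟩ : ℕ) / 4 := fun z => rfl
  unfold Adj
  rw [e, e, orth_line]
  obtain ⟨⟨h1, h2⟩, hp⟩ : ((∀ a b, dot ((p : Equiv.Perm (Fin 16240)) a : ℕ)
      ((p : Equiv.Perm (Fin 16240)) b : ℕ) = dot a b) ∧
      ∀ a, (p : Equiv.Perm (Fin 16240)) (iperm a) = iperm ((p : Equiv.Perm (Fin 16240)) a)) ∧ True :=
    ⟨p.2, trivial⟩
  have h3 := h1 (iperm ⟨4 * x, by omega⟩) ⟨4 * y, by omega⟩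
  rw [h2, iperm_apply, iperm_apply] at h3
  unfold Orth
  rw [h1, h3]

theorem hgrp_adj {g : Equiv.Perm (Fin 4060)} (hg : g ∈ Hgrp) (x y : Fin 4060) :
    Adj (g x) (g y) ↔ Adj x y := by
  obtain ⟨p, rfl⟩ := Hgrp_le_range hg
  exact lineHom_adj p x y

/-- A permutation preserving adjacency. -/
def Pres (π : Equiv.Perm (Fin 4060)) : Prop := ∀ x y, Adj (π x) (π y) ↔ Adj x y

theorem pres_mul {π σ : Equiv.Perm (Fin 4060)} (h1 : Pres π) (h2 : Pres σ) : Pres (π * σ) :=
  fun x y => by rw [Equiv.Perm.mul_apply, Equiv.Perm.mul_apply, h1, h2]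

theorem pres_inv {π : Equiv.Perm (Fin 4060)} (h : Pres π) : Pres π⁻¹ := fun x y => by
  rw [← h (π⁻¹ x) (π⁻¹ y)]
  simp

/-- The automorphisms of the graph. -/
def autGraph : Subgroup (Equiv.Perm (Fin 4060)) where
  carrier := {π | Pres π}
  one_mem' := fun _ _ => Iff.rfl
  mul_mem' := fun ha hb => pres_mul ha hb
  inv_mem' := fun ha => pres_inv ha

theorem hgrp_le_aut : Hgrp ≤ autGraph := fun _ hg => hgrp_adj hg

end Cfsg.Agent.RuRankThree
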