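import Cfsg.Agent.RuRankThree.Rows

/-!
# Automorphisms of the graph fixing the line 0
-/

set_option autoImplicit false
set_option maxRecDepth 100000

namespace Cfsg.Agent.RuRankThree

open Cfsg.Agent.Compute Cfsg.Agent.StemCert

attribute [local irreducible] rowInfo rowMask rowIdx letterCodes cellA cellB classE cellLists
  cellPats singles byCode treeO1 treeD treeE nb

theorem listMask_spec : ∀ (l : List ℕ) (x : ℕ), Nat.testBit (listMask l) x = true ↔ x ∈ l
  | [], x => by simp [listMask]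
  | p :: l, x => by
    show Nat.testBit (Nat.lor (Nat.shiftLeft 1 p) (listMask l)) x = true ↔ _
    rw [testBit_lor_shift, listMask_spec l x, List.mem_cons, eq_comm]

theorem incB_spec {l : List ℕ} (h : incB l = true) : l.Nodup ∧ ∀ p ∈ l, p < 4060 := by
  suffices H : ∀ (l : List ℕ) (lo : ℕ), List.rec (motive := fun _ => ℕ → Bool) (fun _ => true)
      (fun p _ ih lo => Nat.ble lo p && Nat.blt p 4060 && ih (Nat.add p 1)) l lo = true →
      l.Nodup ∧ ∀ p ∈ l, lo ≤ p ∧ p < 4060 from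
    ⟨(H l 0 h).1, fun p hp => ((H l 0 h).2 p hp).2⟩
  intro l
  induction l with
  | nil => exact fun _ _ => ⟨List.nodup_nil, fun p hp => absurd hp List.not_mem_nil⟩
  | cons a l ih =>
    intro lo h'
    simp only [Bool.and_eq_true, Nat.ble_eq, Nat.blt_eq] at h'
    obtain ⟨h1, h2⟩ := ih _ h'.2
    refine ⟨List.nodup_cons.2 ⟨fun ha => ?_, h1⟩, fun p hp => ?_⟩
    · have := (h2 a ha).1
      change a + 1 ≤ a at this
      omega
    · rcases List.mem_cons.1 hp with rfl | hp
      · exact h'.1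
      · have := h2 p hp
        change a + 1 ≤ p ∧ p < 4060 at this
        omega

/-- A permutation fixes the listed lines. -/
def FixAll (π : Equiv.Perm (Fin 4060)) (bs : List ℕ) : Prop :=
  ∀ x : Fin 4060, (x : ℕ) ∈ bs → π x = x

theorem patOf_perm {π : Equiv.Perm (Fin 4060)} (hπ : Pres π) :
    ∀ {bs : List ℕ}, (∀ b ∈ bs, b < 4060 ∧ hasRow b = true) → FixAll π bs →
      ∀ x : Fin 4060, patOf bs (π x : ℕ) = patOf bs (x : ℕ)
  | [], _, _, x => rfl
  | b :: bs, hb, hf, x => by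
    obtain ⟨hlt, hrow⟩ := hb b List.mem_cons_self
    have ih := patOf_perm hπ (fun c hc => hb c (List.mem_cons_of_mem _ hc))
      (fun z hz => hf z (List.mem_cons_of_mem _ hz)) x
    have hfb : π ⟨b, hlt⟩ = ⟨b, hlt⟩ := hf ⟨b, hlt⟩ List.mem_cons_self
    have e : hasBit (nb b) (π x : ℕ) = hasBit (nb b) (x : ℕ) := by
      rw [Bool.eq_iff_iff, hasBit_nb (p := ⟨b, hlt⟩) hrow, hasBit_nb (p := ⟨b, hlt⟩) hrow]
      conv_lhs => rw [← hfb, hπ]
    show Nat.add (Nat.mul 2 (patOf bs (π x : ℕ))) (cond (hasBit (nb b) (π x : ℕ)) 1 0) = _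
    rw [ih, e]
    rfl

theorem base_ok {bs : List ℕ} (h : allB (fun b => Nat.blt b 4060 && hasRow b) bs = true) :
    ∀ b ∈ bs, b < 4060 ∧ hasRow b = true := fun b hb => by
  simpa using allB_spec h b hb

theorem cell_base {bs l : List ℕ} {pat : ℕ} (h : cellB' bs pat l = true) :
    l.Nodup ∧ ∀ p ∈ l, p < 4060 := by
  simp only [cellB', Bool.and_eq_true] at h
  exact incB_spec h.1.2

theorem cell_perm {π : Equiv.Perm (Fin 4060)} (hπ : Pres π) {bs l : List ℕ} {pat : ℕ}
    (h : cellB' bs pat l = true) (hf : FixAll π bs) (x : Fin 4060) :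
    (π x : ℕ) ∈ l ↔ (x : ℕ) ∈ l := by
  simp only [cellB', Bool.and_eq_true, forceN_eq, allBelow_eq_true] at h
  obtain ⟨⟨hbs, -⟩, hm⟩ := h
  have e : ∀ y : Fin 4060, (y : ℕ) ∈ l ↔ patOf bs (y : ℕ) = pat ∧ (y : ℕ) ∉ bs := fun y => by
    have h' := sameB_eq (hm y y.2)
    rw [hasBit_eq] at h'
    rw [← listMask_spec, h', Bool.and_eq_true, Nat.beq_eq, Bool.not_eq_true',
      ← Bool.not_eq_true, memB_eq_true]
  have hmem : (π x : ℕ) ∈ bs ↔ (x : ℕ) ∈ bs := by
    refine ⟨fun hx => ?_, fun hx => by rw [hf x hx]; exact hx⟩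
    have := π.injective (hf (π x) hx)
    rwa [this] at hx
  rw [e, e, patOf_perm hπ (base_ok hbs) hf, hmem]

theorem countB_eq (p : ℕ) : ∀ l : List ℕ, countB p l = l.countP (hasBit (nb p))
  | [] => by simp [countB, forceN_eq]
  | x :: l => by
    have ih := countB_eq p l
    simp only [countB, forceN_eq] at ih ⊢
    rw [List.countP_cons, ← ih]
    cases hasBit (nb p) x <;> rfl

theorem countP_eq_card {l : List ℕ} (hl : l.Nodup ∧ ∀ p ∈ l, p < 4060) (f : ℕ → Bool) :
    l.countP f = (Finset.univ.filter fun x : Fin 4060 => (x : ℕ) ∈ l ∧ f x = true).card := by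
  rw [List.countP_eq_length_filter, ← List.toFinset_card_of_nodup (hl.1.filter f),
    ← Finset.card_image_of_injective (Finset.univ.filter fun x : Fin 4060 =>
      (x : ℕ) ∈ l ∧ f x = true) Fin.val_injective]
  congr 1
  ext n
  simp only [List.mem_toFinset, List.mem_filter, Finset.mem_image, Finset.mem_filter,
    Finset.mem_univ, true_and]
  exact ⟨fun h => ⟨⟨n, hl.2 n h.1⟩, h, rfl⟩, fun ⟨x, hx, e⟩ => e ▸ hx⟩

theorem count_perm {π : Equiv.Perm (Fin 4060)} (hπ : Pres π) {bs l : List ℕ} {pat : ℕ}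
    (h : cellB' bs pat l = true) (hf : FixAll π bs) {p : Fin 4060} (h1 : hasRow p = true)
    (h2 : hasRow (π p : ℕ) = true) : countB (π p : ℕ) l = countB (p : ℕ) l := by
  rw [countB_eq, countB_eq, countP_eq_card (cell_base h), countP_eq_card (cell_base h)]
  refine (Finset.card_equiv π fun x => ?_).symm
  simp only [Finset.mem_filter, Finset.mem_univ, true_and]
  rw [cell_perm hπ h hf x, hasBit_nb h1, hasBit_nb h2, hπ p x]

theorem fixAll_full {π : Equiv.Perm (Fin 4060)} (hπ : Pres π) (hf : FixAll π base4) :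
    FixAll π fullBase := by
  intro x hx
  rw [fullBase, List.mem_reverse, List.mem_append, List.mem_map] at hx
  rcases hx with hx | ⟨e, he, hex⟩
  · exact hf x hx
  have h := allB_spec singles_ok e he
  simp only [singleB, Bool.and_eq_true, Nat.blt_eq, memB_eq_true, Nat.beq_eq] at h
  obtain ⟨⟨⟨⟨⟨hi, hj⟩, hm⟩, hrow⟩, hcnt⟩, hall⟩ := h
  have hc := cells_ok
  simp only [cellsB, Bool.and_eq_true, Nat.beq_eq, allBelow_eq_true] at hc
  rw [hc.1] at hc
  rw [hex] at hm hrow hcnt hall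
  have hm' : (π x : ℕ) ∈ cellLists.getD e.2.1 [] := (cell_perm hπ (hc.2 _ hi) hf x).2 hm
  have hq := allB_spec hall _ hm'
  rw [Bool.or_eq_true, Bool.and_eq_true, Nat.beq_eq] at hq
  rcases hq with hq | ⟨hrow', hne⟩
  · exact Fin.ext hq
  · rw [Bool.not_eq_true', ← Bool.not_eq_true, Nat.beq_eq] at hne
    exact absurd ((count_perm hπ (hc.2 _ hj) hf hrow hrow').trans hcnt) hne

theorem pat_injective : Function.Injective fun x : Fin 4060 => patOf fullBase (x : ℕ) := by
  have h := codes_ok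
  simp only [codesB, Bool.and_eq_true, allBelow_eq_true, Nat.blt_eq] at h
  obtain ⟨⟨-, hlt⟩, hinc⟩ := h
  let f : Fin 4060 → Fin 4060 := fun i => ⟨getField 12 byCode i, hlt i i.2⟩
  have hmono : ∀ j : ℕ, ∀ i : ℕ, i < j → j < 4060 →
      patOf fullBase (getField 12 byCode i) < patOf fullBase (getField 12 byCode j) := by
    intro j
    induction j with
    | zero => intro i hi; exact absurd hi (Nat.not_lt_zero i)
    | succ j ih =>
      intro i hi hj
      have h1 := hinc j (by omega)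
      rcases Nat.lt_succ_iff_lt_or_eq.1 hi with hi' | rfl
      · exact lt_trans (ih i hi' (by omega)) h1
      · exact h1
  have hne : ∀ i j : Fin 4060, patOf fullBase (f i : ℕ) = patOf fullBase (f j : ℕ) → i = j := by
    intro i j e
    rcases Nat.lt_trichotomy (i : ℕ) (j : ℕ) with hij | hij | hij
    · exact absurd e (hmono j i hij j.2).ne
    · exact Fin.ext hij
    · exact absurd e.symm (hmono i j hij i.2).ne
  have hfi : Function.Injective f := fun i j e => hne i j (by rw [e])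
  intro x y e
  obtain ⟨i, rfl⟩ := (Finite.injective_iff_surjective.1 hfi) x
  obtain ⟨j, rfl⟩ := (Finite.injective_iff_surjective.1 hfi) y
  rw [hne i j e]

/-- A graph automorphism fixing four base lines is trivial. -/
theorem eq_one_of_base {π : Equiv.Perm (Fin 4060)} (hπ : Pres π) (hf : FixAll π base4) :
    π = 1 := by
  have hb := codes_ok
  simp only [codesB, Bool.and_eq_true] at hb
  exact Equiv.ext fun x => pat_injective (patOf_perm hπ (base_ok hb.1.1) (fixAll_full hπ hf) x)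

/-- The automorphisms fixing three base lines. -/
def autThree : Subgroup (Equiv.Perm (Fin 4060)) where
  carrier := {π | Pres π ∧ π 0 = 0 ∧ π ⟨2305, by norm_num⟩ = ⟨2305, by norm_num⟩ ∧
    π ⟨2306, by norm_num⟩ = ⟨2306, by norm_num⟩}
  one_mem' := ⟨fun _ _ => Iff.rfl, rfl, rfl, rfl⟩
  mul_mem' := by
    rintro a b ⟨a1, a2, a3, a4⟩ ⟨b1, b2, b3, b4⟩
    exact ⟨pres_mul a1 b1, by rw [Equiv.Perm.mul_apply, b2, a2],
      by rw [Equiv.Perm.mul_apply, b3, a3], by rw [Equiv.Perm.mul_apply, b4, a4]⟩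
  inv_mem' := by
    rintro a ⟨a1, a2, a3, a4⟩
    exact ⟨pres_inv a1, Equiv.Perm.inv_eq_iff_eq.2 a2.symm, Equiv.Perm.inv_eq_iff_eq.2 a3.symm,
      Equiv.Perm.inv_eq_iff_eq.2 a4.symm⟩

theorem fixAll_three {π : Equiv.Perm (Fin 4060)} (h : π ∈ autThree) :
    FixAll π [0, 2305, 2306] := by
  intro x hx
  simp only [List.mem_cons, List.not_mem_nil, or_false] at hx
  rcases hx with e | e | e
  · rw [show x = 0 from Fin.ext e]; exact h.2.1
  · rw [show x = ⟨2305, by norm_num⟩ from Fin.ext e]; exact h.2.2.1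
  · rw [show x = ⟨2306, by norm_num⟩ from Fin.ext e]; exact h.2.2.2

theorem fixAll_base4 {π : Equiv.Perm (Fin 4060)} (h : π ∈ autThree)
    (he : π ⟨3378, by norm_num⟩ = ⟨3378, by norm_num⟩) : FixAll π base4 := by
  intro x hx
  rcases (show (x : ℕ) ∈ [0, 2305, 2306] ∨ (x : ℕ) = 3378 by
    simp only [base4, List.mem_cons, List.not_mem_nil, or_false] at hx ⊢; omega) with hx' | e
  · exact fixAll_three h x hx'
  · rw [show x = ⟨3378, by norm_num⟩ from Fin.ext e]; exact he

theorem card_autThree_le : Nat.card ↥autThree ≤ 25 := by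
  have h := third_ok
  simp only [thirdB, Bool.and_eq_true, Nat.beq_eq, memB_eq_true] at h
  obtain ⟨⟨⟨⟨⟨⟨⟨⟨⟨⟨⟨⟨hA, hB⟩, hrows⟩, hcls⟩, -⟩, hlen⟩, he⟩, hemem⟩, -⟩, -⟩, -⟩, -⟩, -⟩ := h
  have hin : ∀ p : ↥autThree, ((p : Equiv.Perm (Fin 4060)) ⟨3378, by norm_num⟩ : ℕ) ∈ classE := by
    intro p
    have hf := fixAll_three p.2
    have hm := (cell_perm p.2.1 hA hf ⟨3378, by norm_num⟩).2 hemem
    have h1 : hasRow (3378 : ℕ) = true := allB_spec hrows _ hemem
    have h2 := allB_spec hrows _ hm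
    have h3 := sameB_eq (allB_spec hcls _ hm)
    rw [count_perm p.2.1 hB hf (p := ⟨3378, by norm_num⟩) h1 h2, he] at h3
    exact memB_eq_true.1 (h3.symm.trans (by rw [Nat.beq_eq]))
  let f : ↥autThree → {n // n ∈ classE.toFinset} := fun p =>
    ⟨_, List.mem_toFinset.2 (hin p)⟩
  have hf : Function.Injective f := by
    intro p q e
    have e' : (p : Equiv.Perm (Fin 4060)) ⟨3378, by norm_num⟩ =
        (q : Equiv.Perm (Fin 4060)) ⟨3378, by norm_num⟩ := Fin.ext (congrArg Subtype.val e)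
    have h1 : ((q⁻¹ * p : ↥autThree) : Equiv.Perm (Fin 4060)) ⟨3378, by norm_num⟩ =
        ⟨3378, by norm_num⟩ := by
      rw [Subgroup.coe_mul, Equiv.Perm.mul_apply, e', Subgroup.coe_inv, Equiv.Perm.inv_eq_iff_eq]
    have h2 := eq_one_of_base (q⁻¹ * p).2.1 (fixAll_base4 (q⁻¹ * p).2 h1)
    exact (inv_mul_eq_one.1 (Subtype.ext h2 : q⁻¹ * p = 1)).symm
  have h1 := Nat.card_le_card_of_injective f hf
  rw [Nat.card_eq_fintype_card (α := {n // n ∈ classE.toFinset}), Fintype.card_coe] at h1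
  exact h1.trans (hlen ▸ List.toFinset_card_le _)

theorem grp_pres (g : ↥grp) : Pres (g : Equiv.Perm (Fin 4060)) := hgrp_adj g.2.1

theorem autThree_le_grp : autThree ≤ grp := by
  have h := third_ok
  simp only [thirdB, Bool.and_eq_true, Nat.beq_eq, Nat.ble_eq] at h
  obtain ⟨⟨⟨⟨-, hT⟩, hd⟩, hfix⟩, hroot⟩ := h.1
  have hsize := h.2
  set K : Subgroup (Equiv.Perm (Fin 4060)) := grp ⊓ autThree with hK
  have hw : ∀ g ∈ wordsGrp [[18], [19]], (g : Equiv.Perm (Fin 4060)) ∈ K := fun g hg =>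
    ⟨g.2, grp_pres g, ap_zero g, fixB_spec hfix hg (x := ⟨2305, by norm_num⟩) (by simp),
      fixB_spec hfix hg (x := ⟨2306, by norm_num⟩) (by simp)⟩
  have h20 := tree_le_orbit hT hd (fun a ha => mem_wordsGrp ha)
    (r := ⟨3378, by norm_num⟩) hroot.symm
  have hsub : {x : Fin 4060 | ∃ g ∈ wordsGrp [[18], [19]], ap g ⟨3378, by norm_num⟩ = x} ⊆
      Set.range fun p : ↥K => (p : Equiv.Perm (Fin 4060)) ⟨3378, by norm_num⟩ := by
    rintro _ ⟨g, hg, rfl⟩
    exact ⟨⟨_, hw g hg⟩, rfl⟩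
  have h20' : 20 ≤ Nat.card ↥K := by
    have h1 := Set.ncard_le_ncard hsub (Set.toFinite _)
    have h2 : (Set.range fun p : ↥K =>
        (p : Equiv.Perm (Fin 4060)) ⟨3378, by norm_num⟩).ncard ≤ Nat.card ↥K := by
      rw [← Nat.card_coe_set_eq]
      exact Finite.card_range_le _
    omega
  have hle : K ≤ autThree := inf_le_right
  obtain ⟨c, hc⟩ := Subgroup.card_dvd_of_le hle
  have h25 := card_autThree_le
  have hc1 : c = 1 := by
    rcases c with _ | _ | c
    · rw [mul_zero] at hc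
      exact absurd hc Nat.card_pos.ne'
    · rfl
    · exfalso
      have : Nat.card ↥K * (c + 1 + 1) ≥ 20 * 2 := Nat.mul_le_mul h20' (by omega)
      omega
  rw [← Subgroup.eq_of_le_of_card_ge hle (by rw [hc, hc1, mul_one])]
  exact inf_le_left

/-- A graph automorphism fixing the line 0 lies in the stabiliser of the line 0. -/
theorem aut_mem {π : Equiv.Perm (Fin 4060)} (hπ : Pres π) (h0 : π 0 = 0) : π ∈ grp := by
  have h := baseOrbits_ok
  simp only [baseOrbitsB, Bool.and_eq_true, Nat.beq_eq, forceN_eq, allBelow_eq_true] at h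
  obtain ⟨⟨⟨⟨⟨⟨⟨⟨⟨⟨⟨hT1, hr1⟩, hm1⟩, hT2⟩, hr2⟩, hfix⟩, hrow0⟩, hrow1⟩, hcell⟩, hb⟩, hd1⟩, hd2⟩ := h
  set b : Fin 4060 := ⟨2305, by norm_num⟩ with hbdef
  set d : Fin 4060 := ⟨2306, by norm_num⟩ with hddef
  -- move the second base line
  have hπb : Adj 0 (π b) := by
    have := (hπ 0 b).2 ((row0_spec b).1 (by rw [← hasBit_eq]; exact hb))
    rwa [h0] at this
  have hbit : Nat.testBit (treeMask treeO1 treeO1Size) (π b : ℕ) = true := by
    rw [hm1]; exact (row0_spec _).2 hπb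
  obtain ⟨g, -, hg⟩ := tree_reach hT1 (H := ⊤) (fun a _ => Subgroup.mem_top _) (r := b) hr1.symm hbit
  set π1 : Equiv.Perm (Fin 4060) := (g : Equiv.Perm (Fin 4060))⁻¹ * π with hπ1
  have hp1 : Pres π1 := pres_mul (pres_inv (grp_pres g)) hπ
  have h10 : π1 0 = 0 := by
    rw [hπ1, Equiv.Perm.mul_apply, h0, Equiv.Perm.inv_eq_iff_eq]
    exact (ap_zero g).symm
  have h1b : π1 b = b := by
    rw [hπ1, Equiv.Perm.mul_apply, Equiv.Perm.inv_eq_iff_eq]
    exact hg.symm
  -- move the third base line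
  have hA : Adj 0 (π1 d) := by
    have := (hp1 0 d).2 ((nb_spec (p := 0) hrow0 d).1 (by rw [← hasBit_eq]; exact hd1))
    rwa [h10] at this
  have hB : ¬Adj b (π1 d) := fun hh => by
    rw [← h1b, hp1, ← hasBit_nb (p := b) hrow1] at hh
    rw [Bool.not_eq_true'] at hd2
    exact Bool.false_ne_true (hd2.symm.trans hh)
  have hne : (π1 d : ℕ) ≠ 2305 := fun e => by
    have e' : π1 d = π1 b := by rw [h1b]; exact Fin.ext e
    exact absurd (congrArg Fin.val (π1.injective e')) (by norm_num [hbdef, hddef])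
  have hbit2 : Nat.testBit (treeMask treeD treeDSize) (π1 d : ℕ) = true := by
    have h' := sameB_eq (hcell _ (π1 d).2)
    rw [hasBit_eq] at h'
    rw [h', Bool.and_eq_true, Bool.and_eq_true, Bool.not_eq_true', Bool.not_eq_true',
      ← Bool.not_eq_true, ← Bool.not_eq_true, Nat.beq_eq]
    exact ⟨⟨(hasBit_nb (p := 0) hrow0 _).2 hA, fun e => hB ((hasBit_nb (p := b) hrow1 _).1 e)⟩, hne⟩
  obtain ⟨k, hk, hkd⟩ := tree_reach hT2 (fun a ha => mem_wordsGrp ha) (r := d) hr2.symm hbit2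
  set π2 : Equiv.Perm (Fin 4060) := (k : Equiv.Perm (Fin 4060))⁻¹ * π1 with hπ2
  have h2 : π2 ∈ autThree := by
    refine ⟨pres_mul (pres_inv (grp_pres k)) hp1, ?_, ?_, ?_⟩
    · rw [hπ2, Equiv.Perm.mul_apply, h10, Equiv.Perm.inv_eq_iff_eq]
      exact (ap_zero k).symm
    · rw [hπ2, Equiv.Perm.mul_apply, Equiv.Perm.inv_eq_iff_eq]
      exact h1b.trans (fixB_spec hfix hk (x := b) (by simp [hbdef])).symm
    · rw [hπ2, Equiv.Perm.mul_apply, Equiv.Perm.inv_eq_iff_eq]
      exact hkd.symm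
  have e : π = (g : Equiv.Perm (Fin 4060)) * ((k : Equiv.Perm (Fin 4060)) * π2) := by
    rw [hπ2, hπ1]; group
  rw [e]
  exact mul_mem g.2 (mul_mem k.2 (autThree_le_grp h2))

theorem FixAll.of_grp {g : ↥grp}
    (h : ∀ x : Fin 4060, (x : ℕ) ∈ [2305, 2306, 3378] → (g : Equiv.Perm (Fin 4060)) x = x) :
    FixAll (g : Equiv.Perm (Fin 4060)) base4 := by
  intro x hx
  rcases (show (x : ℕ) = 0 ∨ (x : ℕ) ∈ [2305, 2306, 3378] by
    simp only [base4, List.mem_cons, List.not_mem_nil, or_false] at hx ⊢; omega) with e | e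
  · rw [show x = 0 from Fin.ext e]; exact ap_zero g
  · exact h x e

/-- Three lines form a base of the stabiliser. -/
theorem isBase : IsBase grp.subtype [2305, 2306, 3378] := by
  refine ⟨fun b hb => ?_, fun σ hσ => Subtype.ext (eq_one_of_base (grp_pres σ) (FixAll.of_grp hσ))⟩
  simp only [List.mem_cons, List.not_mem_nil, or_false] at hb
  omega

/-- Two words give the same element. -/
noncomputable def eqW (a b : List ℕ) : Bool :=
  knownB a && knownB b && eqOn 12 letterCodes [2305, 2306, 3378] a b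

theorem eqW_spec {a b : List ℕ} (h : eqW a b = true) : evalW letter a = evalW letter b := by
  simp only [eqW, Bool.and_eq_true] at h
  exact eq_of_eqOn coded isBase (knownB_spec h.1.1) (knownB_spec h.1.2) h.2

theorem ne_of_move {a b : List ℕ} (ha : knownB a = true) (hb : knownB b = true) {x : ℕ}
    (hx : x < 4060) (h : Nat.beq (wApp a x) (wApp b x) = false) :
    evalW letter a ≠ evalW letter b := fun e => by
  have h1 := ap_word ha ⟨x, hx⟩
  rw [e, ap_word hb ⟨x, hx⟩] at h1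
  exact Bool.false_ne_true (h.symm.trans (by rw [Nat.beq_eq]; exact h1.symm))

end Cfsg.Agent.RuRankThree
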