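import Cfsg.Agent.RuRankThree.RowDefs

/-! Evaluation of the checks on the base. -/

set_option autoImplicit false
set_option maxRecDepth 100000
set_option maxHeartbeats 0
set_option Elab.async false

namespace Cfsg.Agent.RuRankThree

theorem maps_ok : mapsB = true := by decide +kernel

theorem firstRow_ok : firstRowB = true := by decide +kernel

theorem rowIdx_ok : rowIdxB = true := by decide +kernel

theorem baseOrbits_ok : baseOrbitsB = true := by decide +kernel

theorem third_ok : thirdB = true := by decide +kernel

theorem cells_ok : cellsB = true := by decide +kernel

theorem singles_ok : StemCert.allB singleB singles = true := by decide +kernel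

theorem codes_ok : codesB = true := by decide +kernel

end Cfsg.Agent.RuRankThree
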