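import Mathlib

/-!
# Groups of order 15600 with an element of order 16
-/

set_option autoImplicit false

namespace Cfsg.Agent.RuRankThree

open Subgroup

/-- In a group of order 975 elements of order 13 and 5 commute. -/
theorem commute_of_card_975 {N : Type*} [Group N] [Finite N] (hN : Nat.card N = 975) {x u : N}
    (hx : x ^ 13 = 1) (hu : u ^ 5 = 1) : x * u = u * x := by
  have h13 : Fact (Nat.Prime 13) := ⟨by norm_num⟩
  have h5 : Fact (Nat.Prime 5) := ⟨by norm_num⟩
  have small : ∀ d : ℕ, d ∣ 75 → d % 13 = 1 → d = 1 := by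
    intro d hd
    have := Nat.le_of_dvd (by norm_num) hd
    interval_cases d <;> omega
  have small' : ∀ d : ℕ, d ∣ 39 → d % 5 = 1 → d = 1 := by
    intro d hd
    have := Nat.le_of_dvd (by norm_num) hd
    interval_cases d <;> omega
  have key : ∀ (p m k : ℕ) [Fact p.Prime], 975 = p ^ k * m → ¬p ∣ m →
      (∀ d : ℕ, d ∣ m → d % p = 1 → d = 1) → ∀ (P : Sylow p N),
      Nat.card ↥(P : Subgroup N) = p ^ k ∧ (P : Subgroup N).Normal ∧
        ∀ y : N, y ^ p = 1 → y ∈ P := by
    intro p m k _ he hnd hsmall P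
    have hp : p.Prime := Fact.out
    have hm : m ≠ 0 := fun h => hnd (h ▸ dvd_zero p)
    have hc : Nat.card ↥(P : Subgroup N) = p ^ k := by
      rw [P.card_eq_multiplicity, hN, he, Nat.factorization_mul (pow_ne_zero _ hp.ne_zero) hm,
        hp.factorization_pow, Finsupp.add_apply, Finsupp.single_eq_same,
        Nat.factorization_eq_zero_of_not_dvd hnd, add_zero]
    have hi : (P : Subgroup N).index = m := by
      have h := (P : Subgroup N).card_mul_index
      rw [hc, hN, he] at h
      exact Nat.eq_of_mul_eq_mul_left (pow_pos hp.pos _) h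
    have h1 : Nat.card (Sylow p N) = 1 := by
      refine hsmall _ (hi ▸ P.card_dvd_index) ?_
      have := card_sylow_modEq_one p N
      rwa [Nat.ModEq, Nat.one_mod_eq_one.2 hp.ne_one] at this
    have hss : Subsingleton (Sylow p N) := (Nat.card_eq_one_iff_unique.1 h1).1
    refine ⟨hc, P.normal_of_subsingleton, fun y hy => ?_⟩
    have hY : IsPGroup p ↥(Subgroup.zpowers y) := by
      refine IsPGroup.of_card (n := (Nat.card ↥(Subgroup.zpowers y)).factorization p) ?_
      rw [Nat.card_zpowers]
      rcases (Nat.dvd_prime hp).1 (orderOf_dvd_of_pow_eq_one hy) with e | e <;>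
        simp [e, hp.factorization_self]
    obtain ⟨Q, hQ⟩ := hY.exists_le_sylow
    have hQP : Q = P := Subsingleton.elim Q P
    exact hQP ▸ hQ (Subgroup.mem_zpowers y)
  obtain ⟨P⟩ : Nonempty (Sylow 13 N) := inferInstance
  obtain ⟨Q⟩ : Nonempty (Sylow 5 N) := inferInstance
  obtain ⟨hP1, hP2, hP3⟩ := key 13 75 1 (by norm_num) (by norm_num) small P
  obtain ⟨hQ1, hQ2, hQ3⟩ := key 5 39 2 (by norm_num) (by norm_num) small' Q
  refine Subgroup.commute_of_normal_of_disjoint _ _ hP2 hQ2 ?_ x u (hP3 x hx) (hQ3 u hu)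
  rw [disjoint_iff]
  exact Subgroup.inf_eq_bot_of_coprime (by rw [hP1, hQ1]; norm_num)

/-- In a group of order 15600 with an element of order 16 elements of order 13 and 5 commute. -/
theorem commute_of_order_sixteen {K : Type*} [Group K] [Finite K] (hK : Nat.card K = 15600)
    {w x u : K} (hw : orderOf w = 16) (hx : x ^ 13 = 1) (hu : u ^ 5 = 1) : x * u = u * x := by
  have h2 : Fact (Nat.Prime 2) := ⟨Nat.prime_two⟩
  have hmin : (Nat.card K).minFac = 2 := by rw [hK]; norm_num
  have hmult : (Nat.card K).factorization 2 = 4 := by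
    rw [hK, show (15600 : ℕ) = 2 ^ 4 * 975 by norm_num, Nat.factorization_mul (by norm_num)
      (by norm_num), Nat.Prime.factorization_pow Nat.prime_two, Finsupp.add_apply,
      Finsupp.single_eq_same, Nat.factorization_eq_zero_of_not_dvd (by norm_num)]
  have hcard : Nat.card ↥(Subgroup.zpowers w) = 2 ^ (Nat.card K).factorization 2 := by
    rw [Nat.card_zpowers, hw, hmult]; norm_num
  let P : Sylow 2 K := Sylow.ofCard (Subgroup.zpowers w) hcard
  have hcyc : IsCyclic ↥(P : Subgroup K) := by
    show IsCyclic ↥(Subgroup.zpowers w)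
    infer_instance
  have hle := IsCyclic.normalizer_le_centralizer hmin hcyc
  set φ := MonoidHom.transferSylow P hle with hφ
  have hN := MonoidHom.ker_transferSylow_isComplement' P hle
  have hP16 : Nat.card ↥(P : Subgroup K) = 16 := by
    show Nat.card ↥(Subgroup.zpowers w) = 16
    rw [Nat.card_zpowers, hw]
  have hNc : Nat.card ↥φ.ker = 975 := by
    have h := hN.card_mul_card
    rw [hφ]
    generalize Nat.card ↥(MonoidHom.transferSylow P hle).ker = a at h ⊢
    generalize Nat.card ↥(P : Subgroup K) = q at h hP16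
    subst hP16
    rw [hK] at h
    omega
  have hmem : ∀ y : K, ∀ n : ℕ, y ^ n = 1 → Nat.Coprime n 16 → y ∈ φ.ker := by
    intro y n hy hn
    rw [MonoidHom.mem_ker]
    have h1 : φ y ^ n = 1 := by rw [← map_pow, hy, map_one]
    have h16 : φ y ^ 16 = 1 := by
      have := pow_card_eq_one' (G := ↥(P : Subgroup K)) (x := φ y)
      rwa [show Nat.card ↥(P : Subgroup K) = 16 by
        show Nat.card ↥(Subgroup.zpowers w) = 16
        rw [Nat.card_zpowers, hw]] at this
    have h : φ y ^ n.gcd 16 = 1 := pow_gcd_eq_one.2 ⟨h1, h16⟩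
    rwa [hn, pow_one] at h
  have := commute_of_card_975 hNc (x := ⟨x, hmem x 13 hx (by norm_num)⟩)
    (u := ⟨u, hmem u 5 hu (by norm_num)⟩) (Subtype.ext hx) (Subtype.ext hu)
  exact congrArg Subtype.val this

end Cfsg.Agent.RuRankThree
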