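import Cfsg.Agent.RuRankThree.RowDefs

/-! Evaluation of the check on the orbit of 2304 lines. -/

set_option autoImplicit false
set_option maxRecDepth 100000
set_option maxHeartbeats 0
set_option Elab.async false

namespace Cfsg.Agent.RuRankThree

open Cfsg.Agent.Compute Cfsg.Agent.StemCert

/-- The lines not adjacent to the line 0 form one orbit of 2304 lines. -/
noncomputable def farB : Bool :=
  treeB treeO2 treeO2Size [[0], [1], [2], [3]] && distinctB treeO2 treeO2Size 0 &&
    Nat.beq treeO2Size 2304 && Nat.beq (tPt treeO2 0) 1 &&
    forceN (treeMask treeO2 treeO2Size) fun m => forceN (rMask 0) fun m0 =>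
      allBelow 4060 fun x => sameB (hasBit m x) (!(hasBit m0 x) && !(Nat.beq x 0))

theorem far_ok : farB = true := by decide +kernel

end Cfsg.Agent.RuRankThree
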