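import Cfsg.Agent.RuRankThree.Sets
import Cfsg.Agent.RuRankThree.Burnside
import Cfsg.Agent.RuRankThree.FarCheck

/-!
# Subgroups of order 15600 of the stabiliser of the line 0
-/

set_option autoImplicit false
set_option maxRecDepth 100000

namespace Cfsg.Agent.RuRankThree

open Cfsg.Agent.Compute Cfsg.Agent.StemCert MulAction

attribute [local irreducible] rowInfo rowMask rowIdx letterCodes letterWords setKey setTab setWord
  repSets repOf moveWord witness goodReps nb sPts setBase setZero goodTrees treeO2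

theorem far_facts {c : Fin 4060} (h : ¬Adj 0 c) (h0 : c ≠ 0) :
    ∃ g : ↥grp, ap g ⟨1, by norm_num⟩ = c := by
  have hf := far_ok
  simp only [farB, Bool.and_eq_true, Nat.beq_eq, forceN_eq, allBelow_eq_true] at hf
  obtain ⟨⟨⟨⟨ht, -⟩, -⟩, hr⟩, hm⟩ := hf
  have hbit : Nat.testBit (treeMask treeO2 treeO2Size) (c : ℕ) = true := by
    have h' := sameB_eq (hm c c.2)
    rw [hasBit_eq, hasBit_eq] at h'
    rw [h', Bool.and_eq_true, Bool.not_eq_true', Bool.not_eq_true', ← Bool.not_eq_true,
      ← Bool.not_eq_true, Nat.beq_eq, row0_spec]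
    exact ⟨h, fun e => h0 (Fin.ext e)⟩
  obtain ⟨g, -, hg⟩ := tree_reach ht (H := ⊤) (fun a _ => Subgroup.mem_top _)
    (r := ⟨1, by norm_num⟩) hr.symm hbit
  exact ⟨g, hg⟩

theorem card_stab_far {c : Fin 4060} (h : ¬Adj 0 c) (h0 : c ≠ 0) :
    Nat.card ↥(stabilizer ↥grp c) = 15600 := by
  have hf := far_ok
  simp only [farB, Bool.and_eq_true, Nat.beq_eq, forceN_eq, allBelow_eq_true] at hf
  obtain ⟨⟨⟨⟨ht, hd⟩, hs⟩, hr⟩, hm⟩ := hf
  set r : Fin 4060 := ⟨1, by norm_num⟩
  have horb : orbit ↥grp r = {x : Fin 4060 | ∃ g ∈ (⊤ : Subgroup ↥grp), ap g r = x} :=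
    Set.ext fun x => ⟨fun ⟨g, hg⟩ => ⟨g, Subgroup.mem_top g, hg⟩, fun ⟨g, _, hg⟩ => ⟨g, hg⟩⟩
  have hr1 : ¬Adj 0 r ∧ r ≠ 0 := by
    refine ⟨fun hA => ?_, fun e => absurd (congrArg Fin.val e) (by decide)⟩
    have h1 := sameB_eq (hm 1 (by norm_num))
    rw [hasBit_eq, hasBit_eq, (treeMask_spec _ _ 1).2 ⟨0, by rw [hs]; norm_num, hr⟩,
      (row0_spec r).2 hA] at h1
    exact Bool.false_ne_true h1.symm
  have hle : {x : Fin 4060 | ∃ g ∈ (⊤ : Subgroup ↥grp), ap g r = x} ⊆
      Set.range fun k : Fin treeO2Size => (⟨tPt treeO2 k, tPt_lt ht k.2⟩ : Fin 4060) := by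
    rintro _ ⟨g, -, rfl⟩
    have h' := sameB_eq (hm _ (ap g r).2)
    rw [hasBit_eq, hasBit_eq] at h'
    have hne : ap g r ≠ 0 := fun e => hr1.2 (by
      have := congrArg (ap g⁻¹) e
      rwa [ap_inv_ap, ap_zero] at this)
    have : Nat.testBit (treeMask treeO2 treeO2Size) (ap g r : ℕ) = true := by
      rw [h', Bool.and_eq_true, Bool.not_eq_true', Bool.not_eq_true', ← Bool.not_eq_true,
        ← Bool.not_eq_true, Nat.beq_eq, row0_spec]
      exact ⟨fun hA => hr1.1 ((adj_zero_iff g r).1 hA), fun e => hne (Fin.ext e)⟩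
    obtain ⟨k, hk, e⟩ := (treeMask_spec _ _ _).1 this
    exact ⟨⟨k, hk⟩, Fin.ext e⟩
  have h2304 : (orbit ↥grp r).ncard = 2304 := by
    refine le_antisymm ?_ ?_
    · rw [horb]
      refine (Set.ncard_le_ncard hle (Set.toFinite _)).trans ?_
      rw [← Nat.card_coe_set_eq]
      exact (Finite.card_range_le _).trans (by rw [Nat.card_fin, hs])
    · rw [horb, ← hs]
      exact tree_le_orbit ht hd (fun a _ => Subgroup.mem_top _) hr.symm
  obtain ⟨g, hg⟩ := far_facts h h0
  have hgc : g • r = c := hg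
  have he : Nat.card ↥(stabilizer ↥grp c) = Nat.card ↥(stabilizer ↥grp r) :=
    Nat.card_congr (stabilizerEquivStabilizer hgc.symm).toEquiv.symm
  have hmul := (stabilizer ↥grp r).index_mul_card
  rw [index_stabilizer, h2304, card_grp] at hmul
  omega

/-- A subgroup containing an element of order 13 and a subgroup of order 25 as listed fixes a
line. -/
theorem fixed_of_rep {K : Subgroup ↥grp} (hK : Nat.card ↥K = 15600) {o : ℕ}
    (ho : o < repSets.length) (hL : wordsGrp (lWords o) ≤ K) :
    ∃ c : Fin 4060, ¬Adj 0 c ∧ c ≠ 0 ∧ ∀ g ∈ K, ap g c = c := by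
  have hinv : evalW letter (wInv (repWord o)) = (evalW letter (repWord o))⁻¹ := by
    have h := eqW_spec (allBelow_eq_true.mp repInv_ok o ho)
    rw [evalW_append] at h
    exact eq_inv_of_mul_eq_one_right (h.trans (by simp [evalW]))
  have hs := sylow_ok
  simp only [sylowB, Bool.and_eq_true] at hs
  have h12 : evalW letter [12] ^ 5 = 1 := eqW_pow hs.1.1.1.1.1.1.1.1.2
  have h13 : evalW letter [13] ^ 5 = 1 := eqW_pow hs.1.1.1.1.1.1.1.2
  have h8 : evalW letter [8] ^ 13 = 1 := eqW_pow hs.1.1.1.1.1.2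
  have hu : ∀ s, evalW letter [s] ^ 5 = 1 →
      evalW letter (repWord o ++ ([s] ++ wInv (repWord o))) ^ 5 = 1 := by
    intro s hs5
    rw [evalW_append, evalW_append, hinv, ← mul_assoc, conj_pow, hs5, mul_one, mul_inv_cancel]
  rcases Bool.or_eq_true _ _ |>.mp (allBelow_eq_true.mp cover_ok o ho) with hw | hgood
  · exfalso
    obtain ⟨e, he, rfl⟩ := hasFst_spec hw
    have hall : ∀ x ∈ witness, witB x = true := by
      intro x hx
      rw [← List.take_append_drop 100 witness, List.mem_append] at hx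
      rcases hx with hx | hx
      · exact allB_spec witA_ok x hx
      rw [← List.take_append_drop 100 (witness.drop 100), List.mem_append] at hx
      rcases hx with hx | hx
      exacts [allB_spec witB_ok x hx, allB_spec witC_ok x hx]
    have h := hall e he
    simp only [witB, Bool.and_eq_true] at h
    obtain ⟨⟨⟨⟨-, hlt⟩, h16⟩, h8n⟩, hnc⟩ := h
    have hmem : ∀ i < 3, evalW letter ((lWords e.1).getD i []) ∈ K := by
      intro i hi
      refine hL (mem_wordsGrp ?_)
      rw [List.getD_eq_getElem _ _ (show i < (lWords e.1).length from hi)]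
      exact List.getElem_mem _
    have hwK : evalW letter (witWord e) ∈ K := by
      have hgen : ∀ l : List ℕ, (∀ k ∈ l, k < 3) →
          evalW letter (l.flatMap fun k => (lWords e.1).getD k []) ∈ K := by
        intro l
        induction l with
        | nil => exact fun _ => K.one_mem
        | cons k l ih =>
          intro hk
          rw [List.flatMap_cons, evalW_append]
          exact K.mul_mem (hmem k (hk k List.mem_cons_self))
            (ih fun t ht => hk t (List.mem_cons_of_mem _ ht))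
      exact hgen _ fun k hk => Nat.blt_eq.mp (allB_spec hlt k hk)
    set w : ↥K := ⟨_, hwK⟩
    have hord : orderOf w = 16 := by
      have : Fact (Nat.Prime 2) := ⟨Nat.prime_two⟩
      refine orderOf_eq_prime_pow (p := 2) (n := 3) (fun e2 => ?_) (Subtype.ext ?_)
      · refine neW_spec h8n ?_
        rw [evalW_repW]
        exact (congrArg Subtype.val e2).trans (by simp [evalW])
      · exact eqW_pow h16
    have hcomm := commute_of_order_sixteen hK hord
      (x := ⟨evalW letter [8], hmem 0 (by norm_num)⟩)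
      (u := ⟨evalW letter ((lWords e.1).getD 1 []), hmem 1 (by norm_num)⟩)
      (Subtype.ext h8) (Subtype.ext (hu 12 h12))
    refine neW_spec hnc ?_
    rw [evalW_append, evalW_append]
    exact congrArg Subtype.val hcomm
  obtain ⟨e, he, heo⟩ := hasFst_spec hgood
  obtain ⟨k, hk, hke⟩ := List.getElem_of_mem he
  have hg := goods_ok
  simp only [goodsB, Bool.and_eq_true, Nat.beq_eq, allBelow_eq_true] at hg
  have h := hg.2 k (by omega)
  rw [List.getD_eq_getElem _ _ hk, hke] at h
  simp only [goodB, Bool.and_eq_true, Nat.blt_eq, Bool.not_eq_true', Bool.or_eq_true,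
    allBelow_eq_true] at h
  obtain ⟨⟨⟨⟨⟨⟨⟨-, hc⟩, hc0⟩, hnadj⟩, hfix⟩, hT1⟩, hT2⟩, honly⟩ := h
  rw [heo] at hfix hT1 hT2 honly
  set c : Fin 4060 := ⟨e.2, hc⟩
  have hA : ¬Adj 0 c := fun hA => by
    rw [hasBit_eq, (row0_spec c).2 hA] at hnadj
    exact Bool.false_ne_true hnadj.symm
  have hne : c ≠ 0 := fun e0 => by
    rw [← Bool.not_eq_true, Nat.beq_eq] at hc0
    exact hc0 (congrArg Fin.val e0)
  refine ⟨c, hA, hne, ?_⟩
  set L := wordsGrp (lWords o)
  have hcL : ∀ g ∈ L, ap g c = c := fun g hg => fixB_spec hfix hg (x := c) (by simp [c])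
  -- the orbit sizes
  have horb : ∀ T : Arr (ℕ × ℕ × ℕ) × ℕ, ∀ n, orbitB T (lWords o) n = true →
      n ∣ Nat.card ↥L := by
    intro T n hT
    simp only [orbitB, Bool.and_eq_true, Nat.beq_eq, forceN_eq] at hT
    obtain ⟨⟨⟨hn, ht⟩, hd⟩, hcl⟩ := hT
    have h0 : 0 < T.2 := by
      have h := ht
      simp only [treeB, Bool.and_eq_true, Nat.blt_eq] at h
      exact h.1.1
    set r : Fin 4060 := ⟨tPt T.1 0, tPt_lt ht h0⟩
    have hw : ∀ a ∈ lWords o, knownB a = true := by
      have h := ht
      simp only [treeB, Bool.and_eq_true] at h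
      exact fun a ha => allB_spec h.1.2 a ha
    have hclosed : ∀ g ∈ L, ∀ x : Fin 4060, Nat.testBit (treeMask T.1 T.2) (x : ℕ) = true →
        Nat.testBit (treeMask T.1 T.2) (ap g x : ℕ) = true := by
      intro g hg
      have hg' : g ∈ Submonoid.closure ((fun a => evalW letter a) '' {a | a ∈ lWords o}) := by
        rw [← Subgroup.closure_toSubmonoid_of_finite]
        exact hg
      clear hg
      induction hg' using Submonoid.closure_induction with
      | mem g hg =>
        obtain ⟨a, ha, rfl⟩ := hg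
        intro x hx
        obtain ⟨j, hj, hjx⟩ := (treeMask_spec _ _ _).1 hx
        have h := allBelow_eq_true.mp (allB_spec hcl a ha) j hj
        rw [hasBit_eq, hjx, ← ap_word (hw a ha)] at h
        exact h
      | one => exact fun x hx => hx
      | mul g g' _ _ h1 h2 =>
        exact fun x hx => by
          rw [ap_mul]
          exact h1 _ (h2 x hx)
    have hset : orbit ↥L r = {x : Fin 4060 | ∃ g ∈ L, ap g r = x} :=
      Set.ext fun x => ⟨fun ⟨g, hg⟩ => ⟨g, g.2, hg⟩, fun ⟨g, h, hg⟩ => ⟨⟨g, h⟩, hg⟩⟩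
    have hsub : {x : Fin 4060 | ∃ g ∈ L, ap g r = x} ⊆
        Set.range fun k : Fin T.2 => (⟨tPt T.1 k, tPt_lt ht k.2⟩ : Fin 4060) := by
      rintro _ ⟨g, hg, rfl⟩
      obtain ⟨j, hj, e⟩ := (treeMask_spec _ _ _).1
        (hclosed g hg r ((treeMask_spec _ _ _).2 ⟨0, h0, rfl⟩))
      exact ⟨⟨j, hj⟩, Fin.ext e⟩
    have hcard : (orbit ↥L r).ncard = n := by
      refine le_antisymm ?_ ?_
      · rw [hset]
        refine (Set.ncard_le_ncard hsub (Set.toFinite _)).trans ?_
        rw [← Nat.card_coe_set_eq]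
        exact (Finite.card_range_le _).trans (by rw [Nat.card_fin, hn])
      · rw [hset, ← hn]
        exact tree_le_orbit ht hd (fun a ha => mem_wordsGrp ha) rfl
    rw [← hcard, ← index_stabilizer]
    exact Subgroup.index_dvd_card _
  have h3900 : 3900 ∣ Nat.card ↥L := by
    have := Nat.lcm_dvd (horb _ _ hT1) (horb _ _ hT2)
    rwa [show Nat.lcm 975 300 = 3900 by norm_num] at this
  -- the index is at most 4, so the subgroup is normal
  set L' := L.subgroupOf K
  have hidx : L'.index ≤ 4 ∧ L'.index ∣ 4 := by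
    have h := L'.card_mul_index
    rw [Nat.card_congr (Subgroup.subgroupOfEquivOfLe hL).toEquiv, hK] at h
    obtain ⟨q, hq⟩ := h3900
    rw [hq] at h
    have : q * L'.index = 4 := by
      generalize L'.index = d at h ⊢
      exact Nat.eq_of_mul_eq_mul_left (show 0 < 3900 by norm_num)
        (by rw [← Nat.mul_assoc, h])
    exact ⟨Nat.le_of_dvd (by norm_num) ⟨q, by rw [mul_comm]; exact this.symm⟩,
      ⟨q, by rw [mul_comm]; exact this.symm⟩⟩
  have hcore : L' ≤ L'.normalCore := by
    intro g hg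
    have hall : ∀ a ∈ lWords o, ∀ ha : evalW letter a ∈ K,
        (⟨evalW letter a, ha⟩ : ↥K) ∈ L'.normalCore := by
      intro a ha haK
      rw [Subgroup.normalCore_eq_ker, MonoidHom.mem_ker]
      set π := toPermHom ↥K (↥K ⧸ L') ⟨evalW letter a, haK⟩
      have hdiv : orderOf π ∣ 24 := by
        refine (orderOf_dvd_natCard π).trans ?_
        rw [Nat.card_perm]
        exact Nat.factorial_dvd_factorial (n := 4) hidx.1
      have h65 : π ^ 65 = 1 := by
        have h65' : evalW letter a ^ 65 = 1 := by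
          simp only [lWords, List.mem_cons, List.not_mem_nil, or_false] at ha
          rcases ha with rfl | rfl | rfl
          · rw [show 65 = 13 * 5 from rfl, pow_mul, h8, one_pow]
          · rw [show 65 = 5 * 13 from rfl, pow_mul, hu 12 h12, one_pow]
          · rw [show 65 = 5 * 13 from rfl, pow_mul, hu 13 h13, one_pow]
        show toPermHom ↥K (↥K ⧸ L') ⟨evalW letter a, haK⟩ ^ 65 = 1
        rw [← map_pow, show (⟨evalW letter a, haK⟩ : ↥K) ^ 65 = 1 from Subtype.ext h65', map_one]
      have : orderOf π ∣ 1 := by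
        have := Nat.dvd_gcd hdiv (orderOf_dvd_of_pow_eq_one h65)
        simpa using this
      exact orderOf_eq_one_iff.1 (Nat.dvd_one.1 this)
    have hle : L ≤ L'.normalCore.map K.subtype := by
      show Subgroup.closure _ ≤ _
      rw [Subgroup.closure_le]
      rintro _ ⟨a, ha, rfl⟩
      exact ⟨⟨_, hL (mem_wordsGrp ha)⟩, hall a ha _, rfl⟩
    obtain ⟨y, hy, hyg⟩ := hle (Subgroup.mem_subgroupOf.1 hg)
    rwa [show y = g from Subtype.ext hyg] at hy
  intro g hg
  have hfixg : ∀ a ∈ lWords o, ap (evalW letter a) (ap g c) = ap g c := by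
    intro a ha
    have hn : (⟨g, hg⟩⁻¹ * ⟨_, hL (mem_wordsGrp ha)⟩ * ⟨g, hg⟩ : ↥K) ∈ L' := by
      refine L'.normalCore_le ?_
      have := (inferInstance : L'.normalCore.Normal).conj_mem _
        (hcore (show (⟨_, hL (mem_wordsGrp ha)⟩ : ↥K) ∈ L' from mem_wordsGrp ha)) ⟨g, hg⟩⁻¹
      simpa using this
    have h1 := hcL _ (Subgroup.mem_subgroupOf.1 hn)
    simp only [Subgroup.coe_mul, Subgroup.coe_inv, ap_mul] at h1
    have h2 := congrArg (ap g) h1
    rwa [ap_ap_inv] at h2
  rcases honly _ (ap g c).2 with (h | h) | h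
  · rw [Nat.beq_eq] at h
    exfalso
    refine hne ?_
    have h' := congrArg (ap g⁻¹) (show ap g c = 0 from Fin.ext h)
    rwa [ap_inv_ap, ap_zero] at h'
  · exact Fin.ext (Nat.eq_of_beq_eq_true h)
  · exfalso
    refine Bool.false_ne_true (h.symm.trans ?_)
    have key : ∀ l : List (List ℕ), (∀ a ∈ l, a ∈ lWords o) →
        allB (fun a => Nat.beq (wApp a (ap g c : ℕ)) (ap g c : ℕ)) l = true := by
      intro l
      induction l with
      | nil => exact fun _ => rfl
      | cons a l ih =>
        intro hm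
        show (Nat.beq _ _ && allB _ l) = true
        rw [Bool.and_eq_true, Nat.beq_eq]
        have ha := hm a List.mem_cons_self
        have hk : knownB a = true := by
          have := allB_spec hfix a ha
          rw [Bool.and_eq_true] at this
          exact this.1
        exact ⟨(ap_word hk _).symm.trans (congrArg Fin.val (hfixg a ha)),
          ih fun t ht => hm t (List.mem_cons_of_mem _ ht)⟩
    exact key _ fun a ha => ha

theorem zX_normal {m : List ℕ} (hm : ∀ s ∈ m, s = 8 ∨ s = 10) :
    (Subgroup.zpowers (evalW letter [8])).map (MulAut.conj (evalW letter m)).toMonoidHom =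
      Subgroup.zpowers (evalW letter [8]) := by
  set P := Subgroup.zpowers (evalW letter [8])
  have key : ∀ g : ↥grp, g * evalW letter [8] * g⁻¹ ∈ P →
      P.map (MulAut.conj g).toMonoidHom = P := fun g hg =>
    Subgroup.eq_of_le_of_card_ge
      (by rw [MonoidHom.map_zpowers, Subgroup.zpowers_le]; simpa using hg)
      (by rw [Subgroup.card_map_of_injective (f := (MulAut.conj g).toMonoidHom)
        (MulAut.conj g).injective])
  induction m with
  | nil => exact key _ (by simp [evalW, P])
  | cons s m ih =>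
    have ih' := ih fun t ht => hm t (List.mem_cons_of_mem _ ht)
    have h1 : P.map (MulAut.conj (evalW letter [s])).toMonoidHom = P := by
      refine key _ ?_
      rcases hm s List.mem_cons_self with rfl | rfl
      · simp [P]
      · have h := sylow_ok
        simp only [sylowB, Bool.and_eq_true] at h
        have hy := eqW_spec h.1.1.2
        rw [show [10, 11] = [10] ++ [11] from rfl, evalW_append] at hy
        have hxy := eqW_spec h.1.2
        rw [show [10, 8, 11] = [10] ++ ([8] ++ [11]) from rfl, evalW_append, evalW_append, evalW_repW,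
          ← mul_assoc, show evalW letter [11] = (evalW letter [10])⁻¹ from
            eq_inv_of_mul_eq_one_right (hy.trans (by simp [evalW]))] at hxy
        rw [hxy]
        exact Subgroup.pow_mem _ (Subgroup.mem_zpowers _) _
    have e : (MulAut.conj (evalW letter (s :: m))).toMonoidHom =
        ((MulAut.conj (evalW letter [s])).toMonoidHom).comp
          (MulAut.conj (evalW letter m)).toMonoidHom := by
      refine MonoidHom.ext fun z => ?_
      simp [evalW, mul_assoc]
    rw [e, ← Subgroup.map_map, ih', h1]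

/-- A subgroup of index 2304 fixes exactly a line not adjacent to the line 0. -/
theorem exists_line_far {K : Subgroup ↥grp} (hK : Nat.card ↥K = 15600) :
    ∃ c : Fin 4060, ¬Adj 0 c ∧ c ≠ 0 ∧ ∀ g : ↥grp, g ∈ K ↔ ap g c = c := by
  suffices H : ∃ c : Fin 4060, ¬Adj 0 c ∧ c ≠ 0 ∧ ∀ g ∈ K, ap g c = c by
    obtain ⟨c, h1, h2, h3⟩ := H
    have he := Subgroup.eq_of_le_of_card_ge (H := K) (K := stabilizer ↥grp c)
      (fun g hg => h3 g hg) (by rw [card_stab_far h1 h2, hK])
    exact ⟨c, h1, h2, fun g => by rw [he]; rfl⟩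
  have h13 : Fact (Nat.Prime 13) := ⟨by norm_num⟩
  have h5 : Fact (Nat.Prime 5) := ⟨by norm_num⟩
  have hs := sylow_ok
  simp only [sylowB, Bool.and_eq_true] at hs
  set X := evalW letter [8]
  have hX : orderOf X = 13 := orderOf_eq_prime (eqW_pow hs.1.1.1.1.1.2)
    fun e => neW_spec hs.1.1.1.1.2 (e.trans (by simp [evalW]))
  -- put the element of order 13 into the subgroup
  obtain ⟨g, hg⟩ : ∃ g : ↥grp, X ∈ K.map (MulAut.conj g).toMonoidHom := by
    obtain ⟨x, hx⟩ := exists_prime_orderOf_dvd_card' (G := ↥K) 13 (by rw [hK]; norm_num)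
    rw [← Subgroup.orderOf_coe] at hx
    have hmult : 13 ^ (Nat.card ↥grp).factorization 13 = 13 := by
      rw [card_grp, show (35942400 : ℕ) = 13 ^ 1 * 2764800 by norm_num,
        Nat.factorization_mul (by norm_num) (by norm_num),
        Nat.Prime.factorization_pow (by norm_num), Finsupp.add_apply, Finsupp.single_eq_same,
        Nat.factorization_eq_zero_of_not_dvd (by norm_num)]
      norm_num
    let P : Sylow 13 ↥grp := Sylow.ofCard (Subgroup.zpowers (x : ↥grp))
      (by rw [Nat.card_zpowers, hx, hmult])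
    let Q : Sylow 13 ↥grp := Sylow.ofCard (Subgroup.zpowers X) (by rw [Nat.card_zpowers, hX, hmult])
    obtain ⟨g, hg⟩ := exists_smul_eq ↥grp P Q
    refine ⟨g, ?_⟩
    have hx' : X ∈ ((g • P : Sylow 13 ↥grp) : Subgroup ↥grp) := by
      rw [hg]; exact Subgroup.mem_zpowers X
    rw [Sylow.coe_subgroup_smul, Subgroup.mem_pointwise_smul_iff_inv_smul_mem, MulAut.smul_def,
      ← map_inv, MulAut.conj_apply, inv_inv] at hx'
    refine ⟨_, Subgroup.zpowers_le.2 x.2 hx', ?_⟩
    rw [MulEquiv.coe_toMonoidHom, MulAut.conj_apply]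
    group
  set K1 := K.map (MulAut.conj g).toMonoidHom with hK1
  have hK1c : Nat.card ↥K1 = 15600 := by
    rw [hK1, Subgroup.card_map_of_injective (f := (MulAut.conj g).toMonoidHom)
      (MulAut.conj g).injective, hK]
  -- a conjugate of the subgroup of order 25 inside
  obtain ⟨u, hu⟩ : ∃ u : ↥grp, qConj u ≤ K1 := by
    obtain ⟨S⟩ : Nonempty (Sylow 5 ↥K1) := inferInstance
    have hS : Nat.card ↥((S : Subgroup ↥K1).map K1.subtype) = 25 := by
      rw [Subgroup.card_map_of_injective K1.subtype_injective, S.card_eq_multiplicity, hK1c,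
        show (15600 : ℕ) = 5 ^ 2 * 624 by norm_num, Nat.factorization_mul (by norm_num) (by norm_num),
        Nat.Prime.factorization_pow (by norm_num), Finsupp.add_apply, Finsupp.single_eq_same,
        Nat.factorization_eq_zero_of_not_dvd (by norm_num)]
      norm_num
    have hmult : 5 ^ (Nat.card ↥grp).factorization 5 = 25 := by
      rw [card_grp, show (35942400 : ℕ) = 5 ^ 2 * 1437696 by norm_num,
        Nat.factorization_mul (by norm_num) (by norm_num),
        Nat.Prime.factorization_pow (by norm_num), Finsupp.add_apply, Finsupp.single_eq_same,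
        Nat.factorization_eq_zero_of_not_dvd (by norm_num)]
      norm_num
    let P : Sylow 5 ↥grp := Sylow.ofCard qZero (by rw [card_qZero, hmult])
    let Q : Sylow 5 ↥grp := Sylow.ofCard _ (hS.trans hmult.symm)
    obtain ⟨u, hu⟩ := exists_smul_eq ↥grp P Q
    refine ⟨u, ?_⟩
    rintro _ ⟨q, hq, rfl⟩
    have : u * q * u⁻¹ ∈ ((u • P : Sylow 5 ↥grp) : Subgroup ↥grp) := by
      rw [Sylow.coe_subgroup_smul, Subgroup.mem_pointwise_smul_iff_inv_smul_mem, MulAut.smul_def,
        ← map_inv, MulAut.conj_apply, inv_inv]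
      have e : u⁻¹ * (u * q * u⁻¹) * u = q := by group
      rw [e]
      exact hq
    rw [hu] at this
    obtain ⟨y, -, hy⟩ := this
    rw [MulEquiv.coe_toMonoidHom, MulAut.conj_apply, ← hy]
    exact y.2
  -- move to a representative
  obtain ⟨-, -, hz, hz0⟩ := setBase_facts
  obtain ⟨i, hi, hiu⟩ := gset u setZero hz
  rw [hz0] at hiu
  have hmv := setsB_spec (f := moveB) move0_ok move1_ok move2_ok move3_ok hi
  simp only [moveB, Bool.and_eq_true, Nat.blt_eq] at hmv
  obtain ⟨⟨⟨ho, hr⟩, hmw⟩, him⟩ := hmv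
  have hmw' : ∀ s ∈ moveWord.get [] i, s = 8 ∨ s = 10 := fun s hs => by
    simpa [Nat.beq_eq] using allB_spec hmw s hs
  have hmk : knownB (moveWord.get [] i) = true := by
    have : ∀ l : List ℕ, (∀ s ∈ l, s = 8 ∨ s = 10) → knownB l = true := by
      intro l
      induction l with
      | nil => exact fun _ => rfl
      | cons s l ih =>
        intro h
        show (Nat.blt s nLetters && knownB l) = true
        rw [ih fun t ht => h t (List.mem_cons_of_mem _ ht)]
        rcases h s List.mem_cons_self with rfl | rfl <;> rfl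
    exact this _ hmw'
  set m := evalW letter (moveWord.get [] i) with hm
  set o := repOf.get 0 i with hoo
  set t := evalW letter (repWord o) with ht
  have himg : (lineSet setBase).image (ap (m * t)) = (lineSet setBase).image (ap u) := by
    rw [image_ap_mul, ht]
    show ((lineSet setBase).image (ap (evalW letter (setWord.get [] (repSet i))))).image (ap m) = _
    rw [(setWord_ok hr).2.2, hiu]
    exact image_lineSet hmk (sPts_ok hr).2 him
  rw [← qConj_eq himg] at hu
  set K2 := K1.map (MulAut.conj m⁻¹).toMonoidHom with hK2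
  have hK2c : Nat.card ↥K2 = 15600 := by
    rw [hK2, Subgroup.card_map_of_injective (f := (MulAut.conj m⁻¹).toMonoidHom)
      (MulAut.conj m⁻¹).injective, hK1c]
  have hL : wordsGrp (lWords o) ≤ K2 := by
    rw [wordsGrp, Subgroup.closure_le]
    rintro _ ⟨a, ha, rfl⟩
    simp only [Set.mem_setOf_eq, lWords, List.mem_cons, List.not_mem_nil, or_false] at ha
    have hq : ∀ s, evalW letter [s] ∈ qZero →
        evalW letter (repWord o ++ ([s] ++ wInv (repWord o))) ∈ K2 := by
      intro s hs'
      have hinv := eqW_spec (allBelow_eq_true.mp repInv_ok o ho)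
      rw [evalW_append] at hinv
      refine ⟨_, hu ⟨_, hs', rfl⟩, ?_⟩
      rw [evalW_append, evalW_append,
        show evalW letter (wInv (repWord o)) = (evalW letter (repWord o))⁻¹ from
          eq_inv_of_mul_eq_one_right (hinv.trans (by simp [evalW]))]
      simp only [MulEquiv.coe_toMonoidHom, MulAut.conj_apply, ← ht]
      group
    rcases ha with rfl | rfl | rfl
    · have hz : X ∈ (Subgroup.zpowers X).map (MulAut.conj m).toMonoidHom := by
        rw [zX_normal hmw']; exact Subgroup.mem_zpowers X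
      obtain ⟨y, hy, hyX⟩ := hz
      refine ⟨m * X * m⁻¹, ?_, by simp [mul_assoc, X]⟩
      have h1 : m * X * m⁻¹ ∈ (Subgroup.zpowers X).map (MulAut.conj m).toMonoidHom :=
        ⟨X, Subgroup.mem_zpowers X, rfl⟩
      rw [zX_normal hmw'] at h1
      exact Subgroup.zpowers_le.2 hg h1
    · exact hq 12 (mem_wordsGrp (by simp))
    · exact hq 13 (mem_wordsGrp (by simp))
  obtain ⟨c, hc1, hc2, hc3⟩ := fixed_of_rep hK2c ho hL
  refine ⟨ap (g⁻¹ * m) c, fun h => hc1 ((adj_zero_iff _ c).1 h), fun e => hc2 ?_, fun k hk => ?_⟩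
  · have := congrArg (ap (g⁻¹ * m)⁻¹) e
    rwa [ap_inv_ap, ap_zero] at this
  · have h1 : m⁻¹ * (g * k * g⁻¹) * m⁻¹⁻¹ ∈ K2 :=
      ⟨g * k * g⁻¹, ⟨k, hk, rfl⟩, rfl⟩
    have h2 := hc3 _ h1
    have h3 := congrArg (ap (g⁻¹ * m)) h2
    rw [← ap_mul] at h3
    rw [← ap_mul]
    convert h3 using 2
    group

end Cfsg.Agent.RuRankThree
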