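import Cfsg.Agent.RuRankThree.IsoDefs

/-! Evaluation of the checks on the numbering. -/

set_option autoImplicit false
set_option maxRecDepth 100000
set_option maxHeartbeats 0
set_option Elab.async false

namespace Cfsg.Agent.RuRankThree

theorem keys_ok : TwistedF4Two.MultCert.keysB = true := by decide +kernel

theorem number_ok : numberB = true := by decide +kernel

theorem gen_ok : genB = true := by decide +kernel

theorem four_ok : fourB = true := by decide +kernel

theorem cubeB_ok : TwistedF4Two.powB (TwistedF4Two.comp TwistedF4Two.w1M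
      (TwistedF4Two.sprodB TwistedF4Two.pcMats 2)) 3 = TwistedF4Two.idB ∧
    TwistedF4Two.img (TwistedF4Two.comp TwistedF4Two.w1M
      (TwistedF4Two.sprodB TwistedF4Two.pcMats 2)) 2 < 2 ^ 26 ∧
    TwistedF4Two.img (TwistedF4Two.comp TwistedF4Two.w1M
      (TwistedF4Two.sprodB TwistedF4Two.pcMats 2)) 2 ≠ 2 := by decide +kernel

end Cfsg.Agent.RuRankThree
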