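import Cfsg.Agent.RuRankThree.Aut
import Cfsg.Agent.RuRankThree.IsoCheck

/-!
# The stabiliser of the line 0 is the twisted group
-/

set_option autoImplicit false
set_option maxRecDepth 100000

namespace Cfsg.Agent.RuRankThree

open Cfsg.Agent.Compute Cfsg.Agent.StemCert MulAction
open Cfsg.Agent.TwistedF4Two (T Rep UT PT U1 hi0)

attribute [local irreducible] rowInfo rowMask rowIdx letterCodes letterWords piCode posCode
  treeO1 treeD treeE nb Cfsg.Agent.TwistedF4Two.rho Cfsg.Agent.TwistedF4Two.toM Cfsg.Lie.chevF4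
  Cfsg.Lie.twistedF4 Cfsg.Agent.TwistedF4Two.gen Cfsg.Agent.TwistedF4Two.img

/-- Orbit points times a stabiliser. -/
theorem card_ge_step (H K : Subgroup ↥grp) (hKH : K ≤ H) {r : Fin 4060}
    (hK : ∀ g ∈ K, ap g r = r) {n m : ℕ} (hn : n ≤ {x : Fin 4060 | ∃ g ∈ H, ap g r = x}.ncard)
    (hm : m ≤ Nat.card ↥K) : n * m ≤ Nat.card ↥H := by
  set O := {x : Fin 4060 | ∃ g ∈ H, ap g r = x}
  choose g hgH hg using fun x : ↥O => x.2
  let f : ↥O × ↥K → ↥H := fun p => ⟨g p.1 * p.2, H.mul_mem (hgH _) (hKH p.2.2)⟩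
  have hf : Function.Injective f := by
    rintro ⟨x, k⟩ ⟨x', k'⟩ e
    have e' : g x * (k : ↥grp) = g x' * (k' : ↥grp) := congrArg Subtype.val e
    have hx : x = x' := Subtype.ext (by
      have h1 := congrArg (fun z => ap z r) e'
      simp only [ap_mul, hK _ k.2, hK _ k'.2, hg] at h1
      exact h1)
    subst hx
    rw [Subtype.ext (mul_left_cancel e')]
  have h1 := Nat.card_le_card_of_injective f hf
  rw [Nat.card_prod, Nat.card_coe_set_eq] at h1
  exact (Nat.mul_le_mul hn hm).trans h1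

theorem letter_known {s : ℕ} (hs : s < nLetters) : knownB [s] = true := by
  simp [knownB, allB, Nat.blt_eq, hs]

theorem evalW_mem {H : Subgroup ↥grp} {f : ℕ → ↥grp} :
    ∀ {a : List ℕ}, (∀ s ∈ a, f s ∈ H) → evalW f a ∈ H
  | [], _ => H.one_mem
  | s :: a, h => by
    rw [evalW_cons]
    exact H.mul_mem (h s List.mem_cons_self) (evalW_mem fun t ht => h t (List.mem_cons_of_mem _ ht))

theorem letter_mem_four {s : ℕ} (hs : s < nLetters) :
    letter s ∈ Subgroup.closure (four '' {k | k < 4}) := by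
  refine evalW_mem fun t ht => Subgroup.subset_closure ⟨t, ?_, rfl⟩
  have h := letters_ok
  unfold lettersB LeechModel.wordsB at h
  replace h := allBelow_eq_true.mp h s hs
  simp only [Bool.and_eq_true] at h
  exact Nat.blt_eq.mp (allB_spec h.1 t ht)

theorem wordsGrp_le_four {ws : List (List ℕ)} (h : allB knownB ws = true) :
    wordsGrp ws ≤ Subgroup.closure (four '' {k | k < 4}) := by
  rw [wordsGrp, Subgroup.closure_le]
  rintro _ ⟨a, ha, rfl⟩
  exact evalW_mem fun t ht => letter_mem_four (knownB_spec (allB_spec h a ha) t ht)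

theorem gen_four : Subgroup.closure (four '' {k | k < 4}) = (⊤ : Subgroup ↥grp) := by
  set H := Subgroup.closure (four '' {k | k < 4})
  have hb := baseOrbits_ok
  simp only [baseOrbitsB, Bool.and_eq_true, Nat.beq_eq] at hb
  obtain ⟨⟨⟨⟨⟨⟨⟨⟨⟨⟨⟨hT1, hr1⟩, -⟩, hT2⟩, hr2⟩, hfix2⟩, -⟩, -⟩, -⟩, -⟩, -⟩, -⟩ := hb
  have ht := third_ok
  simp only [thirdB, Bool.and_eq_true, Nat.beq_eq, Nat.ble_eq] at ht
  obtain ⟨⟨⟨⟨-, hT3⟩, hd3⟩, hfix3⟩, hr3⟩ := ht.1
  have hs3 := ht.2
  have h4 := four_ok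
  simp only [fourB, Bool.and_eq_true, Nat.ble_eq] at h4
  obtain ⟨⟨⟨hd1, hd2⟩, hs1⟩, hs2⟩ := h4
  set b : Fin 4060 := ⟨2305, by norm_num⟩
  set d : Fin 4060 := ⟨2306, by norm_num⟩
  set e : Fin 4060 := ⟨3378, by norm_num⟩
  -- three steps
  set K1 : Subgroup ↥grp := H ⊓ (MulAction.stabilizer (Equiv.Perm (Fin 4060)) b).comap grp.subtype
  set K2 : Subgroup ↥grp := K1 ⊓ (MulAction.stabilizer (Equiv.Perm (Fin 4060)) d).comap grp.subtype
  have hP : wordsGrp [[16], [17]] ≤ K1 := le_inf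
    (wordsGrp_le_four (by simp [allB, knownB, nLetters, Nat.blt_eq]))
    fun g hg => fixB_spec hfix2 hg (x := b) (by simp [b])
  have hS : wordsGrp [[18], [19]] ≤ K2 := le_inf (le_inf
    (wordsGrp_le_four (by simp [allB, knownB, nLetters, Nat.blt_eq]))
    fun g hg => fixB_spec hfix3 hg (x := b) (by simp [b]))
    fun g hg => fixB_spec hfix3 hg (x := d) (by simp [d])
  have h20 := card_ge_step K2 ⊥ bot_le (r := e) (fun g hg => by rw [Subgroup.mem_bot.1 hg, ap_one])
    (hs3.trans (tree_le_orbit hT3 hd3 (fun a ha => hS (mem_wordsGrp ha)) hr3.symm))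
    (le_of_eq Subgroup.card_bot.symm)
  have h1024 := card_ge_step K1 K2 inf_le_left (r := d) (fun g hg => hg.2)
    (hs2.trans (tree_le_orbit hT2 hd2 (fun a ha => hP (mem_wordsGrp ha)) hr2.symm)) h20
  have hwa : ∀ a ∈ [[0], [1], [2], [3]], evalW letter a ∈ H := fun a ha =>
    wordsGrp_le_four (ws := [[0], [1], [2], [3]]) (by simp [allB, knownB, nLetters, Nat.blt_eq])
      (mem_wordsGrp ha)
  have hall := card_ge_step H K1 inf_le_left (r := b) (fun g hg => hg.2)
    (hs1.trans (tree_le_orbit hT1 hd1 hwa hr1.symm)) h1024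
  exact Subgroup.eq_top_of_le_card H (by rw [card_grp]; omega)

/-- The neighbours of the line 0. -/
abbrev O1 : Type := {x : Fin 4060 // Adj 0 x}

theorem number_spec : (∀ i < 1755, piN i < 4060 ∧ hasBit (rMask 0) (piN i) = true ∧
      posN (piN i) = i) ∧
    ∀ x : Fin 4060, Adj 0 x → posN x < 1755 ∧ piN (posN x) = x := by
  have h := number_ok
  simp only [numberB, forceN_eq, Bool.and_eq_true, allBelow_eq_true, Nat.blt_eq, Nat.beq_eq,
    Bool.or_eq_true, Bool.not_eq_true'] at h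
  refine ⟨fun i hi => ⟨(h.1 i hi).1.1, (h.1 i hi).1.2, (h.1 i hi).2⟩, fun x hx => ?_⟩
  rcases h.2 x x.2 with h' | h'
  · rw [hasBit_eq] at h'
    exact absurd ((row0_spec x).2 hx) (by rw [h']; exact Bool.false_ne_true)
  · exact h'

/-- The numbered neighbour. -/
noncomputable def piPt (i : Fin 1755) : O1 :=
  ⟨⟨piN i, (number_spec.1 i i.2).1⟩,
    (row0_spec _).1 (by rw [← hasBit_eq]; exact (number_spec.1 i i.2).2.1)⟩

/-- The numbering of the neighbours. -/
noncomputable def numEquiv : Fin 1755 ≃ O1 where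
  toFun := piPt
  invFun x := ⟨posN (x.1 : ℕ), (number_spec.2 x.1 x.2).1⟩
  left_inv i := Fin.ext (number_spec.1 i i.2).2.2
  right_inv x := Subtype.ext (Fin.ext (number_spec.2 x.1 x.2).2)

theorem adj_zero_iff (g : ↥grp) (x : Fin 4060) :
    Adj 0 ((g : Equiv.Perm (Fin 4060)) x) ↔ Adj 0 x := by
  conv_lhs => rw [← show (g : Equiv.Perm (Fin 4060)) 0 = 0 from ap_zero g, grp_pres g]

/-- The action on the numbered neighbours. -/
noncomputable def rho1 : ↥grp →* Equiv.Perm (Fin 1755) where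
  toFun g := numEquiv.symm.permCongr ((g : Equiv.Perm (Fin 4060)).subtypePerm (adj_zero_iff g))
  map_one' := by ext i; simp
  map_mul' g h := by ext i; simp

theorem rho1_apply (g : ↥grp) (i : Fin 1755) :
    (piPt (rho1 g i) : Fin 4060) = (g : Equiv.Perm (Fin 4060)) (piPt i) := by
  show (numEquiv (numEquiv.symm.permCongr _ i) : Fin 4060) = _
  rw [Equiv.permCongr_apply, Equiv.apply_symm_apply]
  rfl

theorem base_adj : ∀ x ∈ [2305, 2306, 3378], x < 4060 ∧ hasBit (rMask 0) x = true := by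
  decide +kernel

theorem rho1_injective : Function.Injective rho1 := by
  refine (MonoidHom.ker_eq_bot_iff rho1).1 ((Subgroup.eq_bot_iff_forall _).2 fun g hg => ?_)
  refine isBase.2 g fun x hx => ?_
  obtain ⟨hlt, hb⟩ := base_adj _ hx
  have hadj : Adj 0 x := (row0_spec x).1 (by rw [← hasBit_eq]; exact hb)
  have h := rho1_apply g (numEquiv.symm ⟨x, hadj⟩)
  rw [MonoidHom.mem_ker.1 hg, Equiv.Perm.one_apply] at h
  change (numEquiv (numEquiv.symm ⟨x, hadj⟩) : Fin 4060) = _ at h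
  simp only [Equiv.apply_symm_apply] at h
  rw [show piPt (numEquiv.symm ⟨x, hadj⟩) = ⟨x, hadj⟩ from numEquiv.apply_symm_apply _] at h
  exact h.symm

/-- The twisted group on the numbered points. -/
noncomputable def iotaT : T →* Equiv.Perm (Fin 1755) :=
  ((Equiv.ofBijective (TwistedF4Two.MultCert.pt keys_ok)
    (TwistedF4Two.MultCert.pt_bijective keys_ok)).symm.permCongrHom).toMonoidHom.comp
    (MulAction.toPermHom T TwistedF4Two.Pt)

theorem iotaT_apply (g : T) (i : Fin 1755) :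
    TwistedF4Two.MultCert.pt keys_ok (iotaT g i) = g • TwistedF4Two.MultCert.pt keys_ok i :=
  Equiv.apply_symm_apply (Equiv.ofBijective (TwistedF4Two.MultCert.pt keys_ok)
    (TwistedF4Two.MultCert.pt_bijective keys_ok)) _

theorem letter_four {s : ℕ} (hs : s < 4) (x : Fin 4060) :
    ((four s : ↥grp) : Equiv.Perm (Fin 4060)) x = wApp [s] (x : ℕ) := coded_four s hs x

theorem rho1_four (k : Fin 4) : rho1 (four k) = iotaT (TwistedF4Two.gen k) := by
  refine Equiv.ext fun i => (TwistedF4Two.MultCert.pt_bijective keys_ok).1 (Subtype.ext ?_)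
  rw [iotaT_apply]
  show TwistedF4Two.vec (TwistedF4Two.MultCert.key (rho1 (four k) i)) =
    TwistedF4Two.gen k • TwistedF4Two.vec (TwistedF4Two.MultCert.key i)
  rw [TwistedF4Two.smul_vec (TwistedF4Two.rep_gen k)]
  have h := allBelow_eq_true.mp (allBelow_eq_true.mp gen_ok k k.2) i i.2
  rw [Nat.eq_of_beq_eq_true h]
  have h2 := congrArg (fun z : Fin 4060 => posN (z : ℕ)) (rho1_apply (four k) i)
  rw [letter_four k.2] at h2
  rw [← show posN (piN (rho1 (four k) i : ℕ)) = _ from (number_spec.1 _ (rho1 (four k) i).2).2.2]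
  exact congrArg (fun n => TwistedF4Two.vec (TwistedF4Two.MultCert.key n)) h2

theorem range_iotaT : iotaT.range = rho1.range := by
  rw [MonoidHom.range_eq_map, ← TwistedF4Two.closure_letters, MonoidHom.map_closure,
    MonoidHom.range_eq_map, ← gen_four, MonoidHom.map_closure]
  congr 1
  ext p
  simp only [Set.mem_image, Set.mem_range, Set.mem_setOf_eq]
  constructor
  · rintro ⟨_, ⟨k, rfl⟩, rfl⟩
    exact ⟨_, ⟨(k : ℕ), k.2, rfl⟩, rho1_four k⟩
  · rintro ⟨_, ⟨k, hk, rfl⟩, rfl⟩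
    exact ⟨_, ⟨⟨k, hk⟩, rfl⟩, (rho1_four ⟨k, hk⟩).symm⟩

/-- The homomorphism onto the stabiliser. -/
noncomputable def toGrp : T →* ↥grp :=
  (MonoidHom.ofInjective rho1_injective).symm.toMonoidHom.comp
    (iotaT.codRestrict rho1.range fun g => range_iotaT ▸ MonoidHom.mem_range.2 ⟨g, rfl⟩)

theorem toGrp_surjective : Function.Surjective toGrp := by
  intro g
  obtain ⟨t, ht⟩ : rho1 g ∈ iotaT.range := range_iotaT ▸ MonoidHom.mem_range.2 ⟨g, rfl⟩
  refine ⟨t, rho1_injective ?_⟩
  have h : ((MonoidHom.ofInjective rho1_injective) (toGrp t) : Equiv.Perm (Fin 1755)) = iotaT t := by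
    rw [toGrp, MonoidHom.comp_apply, MulEquiv.coe_toMonoidHom, MulEquiv.apply_symm_apply]
    rfl
  rw [← ht, ← h]
  rfl

instance finite_T : Finite T :=
  Nat.finite_of_card_ne_zero (by rw [TwistedF4Two.card_T]; norm_num)

/-- The isomorphism of the twisted group with the stabiliser. -/
noncomputable def psi : T ≃* ↥grp :=
  MulEquiv.ofBijective toGrp (toGrp_surjective.bijective_of_nat_card_le
    (by rw [card_grp, TwistedF4Two.card_T]))

theorem cube_spec : ∃ u ∈ UT, orderOf (TwistedF4Two.s1 * u) = 3 := by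
  refine ⟨TwistedF4Two.sprod TwistedF4Two.pc 2, TwistedF4Two.sprod_pc_mem 2, ?_⟩
  have hr : Rep (TwistedF4Two.s1 * TwistedF4Two.sprod TwistedF4Two.pc 2) (TwistedF4Two.comp
      TwistedF4Two.w1M (TwistedF4Two.sprodB TwistedF4Two.pcMats 2)) :=
    TwistedF4Two.rep_s1.mul (TwistedF4Two.rep_pc_prod 2)
  obtain ⟨h3, h4, h5⟩ := cubeB_ok
  have : Fact (Nat.Prime 3) := ⟨by norm_num⟩
  exact orderOf_eq_prime ((hr.pow 3).eq Rep.one h3)
    (TwistedF4Two.ne_one_of_img hr (by norm_num) h4 h5)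

/-- A subgroup of index 1755 is conjugate to the stabiliser of a point. -/
theorem exists_conj_PT {K : Subgroup T} (hK : Nat.card ↥K = 20480) :
    ∃ g : T, K.map (MulAut.conj g).toMonoidHom = PT := by
  obtain ⟨g, hg⟩ : ∃ g : T, UT ≤ K.map (MulAut.conj g).toMonoidHom := by
    have : Fact (Nat.Prime 2) := ⟨by norm_num⟩
    obtain ⟨S⟩ : Nonempty (Sylow 2 ↥K) := inferInstance
    have hS : Nat.card ↥(S : Subgroup ↥K) = 4096 := by
      rw [S.card_eq_multiplicity, hK, show (20480 : ℕ) = 2 ^ 12 * 5 by norm_num,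
        Nat.factorization_mul (by norm_num) (by norm_num), Nat.Prime.factorization_pow Nat.prime_two,
        Finsupp.add_apply, Finsupp.single_eq_same,
        Nat.factorization_eq_zero_of_not_dvd (by norm_num)]
      norm_num
    set S' : Subgroup T := (S : Subgroup ↥K).map K.subtype with hS'
    have hS'c : Nat.card ↥S' = 4096 := by
      rw [hS', Subgroup.card_map_of_injective K.subtype_injective, hS]
    have hmult : 2 ^ (Nat.card T).factorization 2 = 4096 := by
      rw [TwistedF4Two.card_T, show (35942400 : ℕ) = 2 ^ 12 * 8775 by norm_num,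
        Nat.factorization_mul (by norm_num) (by norm_num), Nat.Prime.factorization_pow Nat.prime_two,
        Finsupp.add_apply, Finsupp.single_eq_same,
        Nat.factorization_eq_zero_of_not_dvd (by norm_num)]
      norm_num
    let P : Sylow 2 T := Sylow.ofCard S' (by rw [hS'c, hmult])
    let Q : Sylow 2 T := Sylow.ofCard UT (by rw [TwistedF4Two.card_UT, hmult])
    obtain ⟨g, hg⟩ := MulAction.exists_smul_eq T P Q
    refine ⟨g, ?_⟩
    intro x hx
    have hx' : x ∈ ((g • P : Sylow 2 T) : Subgroup T) := by rw [hg]; exact hx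
    rw [Sylow.coe_subgroup_smul, Subgroup.mem_pointwise_smul_iff_inv_smul_mem, MulAut.smul_def,
      ← map_inv, MulAut.conj_apply, inv_inv] at hx'
    obtain ⟨y, -, hyx⟩ := hx'
    rw [Subgroup.coe_subtype] at hyx
    refine Subgroup.mem_map.2 ⟨(y : T), y.2, ?_⟩
    rw [MulEquiv.coe_toMonoidHom, MulAut.conj_apply, hyx]
    group
  refine ⟨g, ?_⟩
  set K' := K.map (MulAut.conj g).toMonoidHom
  have hK' : Nat.card ↥K' = 20480 := by
    rw [Subgroup.card_map_of_injective (MulAut.conj g).injective, hK]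
  by_cases hs : TwistedF4Two.s2 ∈ K'
  · refine (Subgroup.eq_of_le_of_card_ge ?_ (by rw [hK', TwistedF4Two.card_PT])).symm
    refine (Subgroup.closure_le _).2 fun x hx => ?_
    rcases List.mem_append.1 hx with hx | hx
    · exact hg (Subgroup.subset_closure hx)
    · rw [List.mem_singleton] at hx
      exact hx ▸ hs
  exfalso
  have hall : ∀ x ∈ K', x ∈ UT := by
    intro x hx
    obtain ⟨u, hu, w, hw, u', hu', rfl⟩ := TwistedF4Two.inCells_all x
    have hwK : TwistedF4Two.weylEl w ∈ K' := by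
      have h1 : u⁻¹ * (u * TwistedF4Two.weylEl w * u') * u'⁻¹ ∈ K' :=
        K'.mul_mem (K'.mul_mem (K'.inv_mem (hg hu)) hx) (K'.inv_mem (hg hu'))
      simpa [mul_assoc] using h1
    rcases (show w = 0 ∨ w = 1 ∨ 2 ≤ w by omega) with rfl | rfl | h2
    · rw [TwistedF4Two.weylEl_zero, mul_one]
      exact UT.mul_mem hu hu'
    · exfalso
      rw [TwistedF4Two.weylEl_one] at hwK
      obtain ⟨v, hv, ho⟩ := cube_spec
      have h3 := Subgroup.orderOf_dvd_natCard K' (K'.mul_mem hwK (hg hv))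
      rw [ho, hK'] at h3
      norm_num at h3
    · exact absurd (TwistedF4Two.s2_mem_of_weyl (TwistedF4Two.U1_le.trans hg) hw h2 hwK) hs
  have := Subgroup.card_le_of_le (H := K') (K := UT) hall
  rw [hK', TwistedF4Two.card_UT] at this
  omega

theorem rho1_psi (t : T) : rho1 (psi t) = iotaT t := by
  show ((MonoidHom.ofInjective rho1_injective) (toGrp t) : Equiv.Perm (Fin 1755)) = iotaT t
  rw [toGrp, MonoidHom.comp_apply, MulEquiv.coe_toMonoidHom, MulEquiv.apply_symm_apply]
  rfl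

/-- A subgroup of index 1755 fixes exactly a neighbour of the line 0. -/
theorem exists_line_adj {K : Subgroup ↥grp} (hK : Nat.card ↥K = 20480) :
    ∃ c : Fin 4060, Adj 0 c ∧ ∀ g : ↥grp, g ∈ K ↔ ap g c = c := by
  have hK' : Nat.card ↥(K.map psi.symm.toMonoidHom) = 20480 := by
    rw [Subgroup.card_map_of_injective (f := psi.symm.toMonoidHom) psi.symm.injective, hK]
  obtain ⟨t, ht⟩ := exists_conj_PT hK'
  set hk := TwistedF4Two.MultCert.pt_bijective keys_ok
  obtain ⟨i, hi⟩ := hk.2 ⟨hi0, MulAction.mem_orbit_self hi0⟩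
  -- the conjugate fixes the first point
  have hPT : ∀ u : T, u ∈ PT ↔ iotaT u i = i := by
    intro u
    rw [← TwistedF4Two.stabilizer_hi0, MulAction.mem_stabilizer_iff, ← hk.1.eq_iff, iotaT_apply, hi,
      Subtype.ext_iff]
    rfl
  refine ⟨ap (psi t)⁻¹ (piPt i), ?_, fun g => ?_⟩
  · exact (adj_zero_iff _ _).2 (piPt i).2
  have h1 : g ∈ K ↔ t * psi.symm g * t⁻¹ ∈ PT := by
    rw [← ht]
    refine ⟨fun h => ⟨psi.symm g, ⟨g, h, rfl⟩, rfl⟩, ?_⟩
    rintro ⟨_, ⟨y, hy, rfl⟩, e⟩
    simp only [MulEquiv.coe_toMonoidHom, MulAut.conj_apply, mul_left_inj, mul_right_inj,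
      psi.symm.injective.eq_iff] at e
    exact e ▸ hy
  have h2 : ∀ u : ↥grp, rho1 u i = i ↔ ap u (piPt i) = (piPt i : Fin 4060) := by
    intro u
    rw [show ap u (piPt i) = ((piPt (rho1 u i)) : Fin 4060) from (rho1_apply u i).symm,
      Subtype.coe_inj]
    exact (numEquiv.apply_eq_iff_eq).symm
  rw [h1, hPT, ← rho1_psi, h2, map_mul, map_mul, map_inv, MulEquiv.apply_symm_apply, ap_mul, ap_mul]
  set c := ap (psi t)⁻¹ (piPt i : Fin 4060)
  constructor
  · intro h
    have h' := congrArg (ap (psi t)⁻¹) h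
    rwa [ap_inv_ap] at h'
  · intro h
    rw [h, ap_ap_inv]

end Cfsg.Agent.RuRankThree
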