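import Cfsg.Agent.RuRankThree.RowDefs
import Cfsg.Agent.RuRankThree.IsoData
import Cfsg.Agent.TwistedF4Two.MultGlue

/-!
# Checks on the numbering of the neighbours of the line 0
-/

set_option autoImplicit false
set_option maxRecDepth 100000

namespace Cfsg.Agent.RuRankThree

open Cfsg.Agent.Compute Cfsg.Agent.StemCert

/-- The line of a numbered point. -/
noncomputable def piN (i : ℕ) : ℕ := getField 12 piCode i

/-- The number of a neighbour of the line 0. -/
noncomputable def posN (x : ℕ) : ℕ := getField 11 posCode x

/-- The two numberings are inverse to each other. -/
noncomputable def numberB : Bool :=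
  forceN (rMask 0) fun m =>
    (allBelow 1755 fun i => Nat.blt (piN i) 4060 && hasBit m (piN i) && Nat.beq (posN (piN i)) i) &&
      allBelow 4060 fun x =>
        !(hasBit m x) || (Nat.blt (posN x) 1755 && Nat.beq (piN (posN x)) x)

/-- The letters act as the generators of the twisted group. -/
noncomputable def genB : Bool :=
  allBelow 4 fun k => allBelow 1755 fun i =>
    Nat.beq (TwistedF4Two.img (TwistedF4Two.letters.getD k []) (TwistedF4Two.MultCert.key i))
      (TwistedF4Two.MultCert.key (posN (wApp [k] (piN i))))

/-- The orbit trees used for the order of the subgroup generated by the first four letters. -/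
noncomputable def fourB : Bool :=
  distinctB treeO1 treeO1Size 0 && distinctB treeD treeDSize 0 && Nat.ble 1755 treeO1Size &&
    Nat.ble 1024 treeDSize

end Cfsg.Agent.RuRankThree
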