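import Cfsg.Agent.Rud.Stab
import Cfsg.Agent.LeechModel.Words
import Cfsg.Agent.RuRankThree.LetterData

/-!
# Letters for the point stabiliser of the Rudvalis model
-/

set_option autoImplicit false
set_option maxRecDepth 100000

namespace Cfsg.Agent.RuRankThree

open Cfsg.Agent.Compute Cfsg.Agent.StemCert
open Cfsg.Agent.Leech.Model (fixPts)

/-- The stabiliser of the line 0. -/
noncomputable abbrev grp : Subgroup (Equiv.Perm (Fin 4060)) := Rud.S0

theorem card_grp : Nat.card ↥grp = 35942400 := Rud.card_S0

instance : Finite ↥grp := Nat.finite_of_card_ne_zero (by rw [card_grp]; norm_num)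

/-- The first four letters are given by the words. -/
noncomputable def rudB : Bool :=
  allBelow 4 fun s => (rudWords.getD s []).all (fun a => Nat.blt a 12) &&
    Nat.beq (getField 12 (letterCodes.getD s 0) 0) 0 &&
    allBelow 4060 fun x =>
      Nat.beq (getField 12 (letterCodes.getD s 0) x) (Rud.evF (rudWords.getD s []) x)

/-- The number of letters. -/
def nLetters : ℕ := 20

/-- The other letters are given by their words. -/
noncomputable def lettersB : Bool :=
  LeechModel.wordsB 4060 12 4 letterCodes letterWords letterCodes nLetters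

theorem rud_ok : rudB = true := by decide +kernel

theorem letters_ok : lettersB = true := by decide +kernel

attribute [local irreducible] letterCodes letterWords rudWords

theorem rud_word {s : ℕ} (hs : s < 4) (x : Fin 4060) :
    (Rud.wordPerm (rudWords.getD s []) x : ℕ) = getField 12 (letterCodes.getD s 0) x := by
  have h := allBelow_eq_true.mp rud_ok s hs
  simp only [Bool.and_eq_true, allBelow_eq_true, Nat.beq_eq] at h
  rw [Rud.wordPerm_apply h.1.1, h.2 x x.2]

theorem rud_mem {s : ℕ} (hs : s < 4) : Rud.wordPerm (rudWords.getD s []) ∈ grp := by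
  refine ⟨Rud.wordPerm_mem _, fun i hi => Fin.ext ?_⟩
  have h := allBelow_eq_true.mp rud_ok s hs
  simp only [Bool.and_eq_true, Nat.beq_eq] at h
  rw [rud_word hs, List.mem_singleton.1 hi]
  exact h.1.2

/-- The first four letters. -/
noncomputable def four (s : ℕ) : ↥grp :=
  if h : s < 4 then ⟨_, rud_mem h⟩ else 1

theorem coded_four : Coded (w := 12) (k := 4) grp.subtype four letterCodes := fun s hs x => by
  rw [Subgroup.coe_subtype, four, dif_pos hs]
  exact rud_word hs x

/-- The letters. -/
noncomputable def letter (s : ℕ) : ↥grp := evalW four (letterWords.getD s [])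

theorem coded : Coded (w := 12) (k := nLetters) grp.subtype letter letterCodes :=
  LeechModel.coded_of_wordsB coded_four letters_ok

/-- All letters of a word are known. -/
noncomputable def knownB (a : List ℕ) : Bool := allB (fun s => Nat.blt s nLetters) a

theorem knownB_spec {a : List ℕ} (h : knownB a = true) : ∀ s ∈ a, s < nLetters :=
  fun s hs => Nat.blt_eq.mp (allB_spec h s hs)

/-- The image of a line under a word. -/
noncomputable def wApp (a : List ℕ) (x : ℕ) : ℕ := appW 12 letterCodes a x

theorem apply_word {a : List ℕ} (ha : knownB a = true) (x : Fin 4060) :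
    ((evalW letter a : ↥grp) : Equiv.Perm (Fin 4060)) x = wApp a (x : ℕ) :=
  appW_spec coded a (knownB_spec ha) x

/-- The action on lines. -/
noncomputable def ap (g : ↥grp) (x : Fin 4060) : Fin 4060 := (g : Equiv.Perm (Fin 4060)) x

theorem ap_mul (g h : ↥grp) (x : Fin 4060) : ap (g * h) x = ap g (ap h x) := rfl

theorem ap_one (x : Fin 4060) : ap 1 x = x := rfl

theorem ap_inv_ap (g : ↥grp) (x : Fin 4060) : ap g⁻¹ (ap g x) = x := by
  rw [← ap_mul, inv_mul_cancel, ap_one]

theorem ap_ap_inv (g : ↥grp) (x : Fin 4060) : ap g (ap g⁻¹ x) = x := by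
  rw [← ap_mul, mul_inv_cancel, ap_one]

theorem ap_zero (g : ↥grp) : ap g 0 = 0 := g.2.2 0 (by simp)

theorem ap_word {a : List ℕ} (ha : knownB a = true) (x : Fin 4060) :
    (ap (evalW letter a) x : ℕ) = wApp a (x : ℕ) := apply_word ha x

end Cfsg.Agent.RuRankThree
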