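import Cfsg.Agent.StemCert.Defs

/-! Data: orbits of a group of order 52 on the sets, and witnesses. -/

set_option autoImplicit false
set_option maxRecDepth 100000
set_option maxHeartbeats 0
set_option linter.all false

namespace Cfsg.Agent.RuRankThree

open Cfsg.Agent.StemCert

/-- The representatives of the orbits. -/
def repSets : List ℕ :=
  [22,8824,6221,12404,12470,12941,3221,7288,3444,11962,12637,12411,5364,2077,8227,4317,1370,5628,3258,324,13501,13066,11725,2017,12392,7496,3927,12358,2769,2179,8236,4114,1390,5377,2074,13174,11454,8849,7912,13139,10034,7257,9845,6603,8172,2451,2855,4296,8532,11517,5780,8310,8102,13653,14734,13558,4778,2116,176,6597,4580,2136,11951,13386,3070,8139,2498,6896,5871,6203,12354,4639,1993,6457,10784,9362,7246,9772,8242,4738,7077,6575,2175,11237,7916,13081,8688,401,774,3688,5079,12896,7995,10553,8435,11720,2654,14411,7148,8153,12703,11579,6137,3421,12502,12124,7811,4503,3351,7974,7539,6888,5032,13283,12418,4481,14473,1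3809,13652,14872,8768,8074,6064,10011,10328,1363,5374,8598,2811,5272,6581,2536,1190,12993,7130,507,5702,6728,2832,6155,1995,7320,11366,9251,10620,3464,5877,4733,3055,13605,12518,8681,10699,7245,9718,10155,3205,11239,9949,4321,11097,6596,11739,1374,12894,10475,11296,11868,4707,119,372,7781,6691,7100,3177,7161,1484,2812,7431,5282,8023,8664,1000,1658,7385,1678,1929,7653,12803,855,7261,60,9920,6712,10518,13311,5047,8546,6791,1344,12855,14699,14450,13533,10288,1274,2957,13766,5231,7217,2688,9872,8442,2767,9794,6708,7764,4528,1052,8780,5352,1293,10251,7085,1392,682,3057,10456,10083,11837,6784,10255,5911,14527,13683,5827,4685,6170,6499,10158,13639,14640,6031,8785,10189,9262,1268,11192,12582,11737,8416,2529,1175,2813,4516,9603,4926,5920,12556,9173,1893,10206,7466,3956,5185,13362,8805,1786,3185,5465,77,847,7603,8700,4824,11074,14701,14134,14139,5403,5730,6703,12128,12192,3652,12972,3395,6321,13319,8592,12843,10641,7267,3578,7703,1218]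

/-- Part of `repOf`. -/
noncomputable def repOf_l_l_l_l_l : Arr ℕ :=
  (.node 26 (.node 54 (.node 103 (.node 78 (.node 197 (.node 147 (.node 213 (.node 46 (.node 73 .nil .nil) (.node 277 .nil .nil)) (.node 211 (.node 94 .nil .nil) (.node 164 .nil .nil))) (.node 90 (.node 209 (.node 175 .nil .nil) (.node 195 .nil .nil)) (.node 175 (.node 190 .nil .nil) .nil))) (.node 279 (.node 16 (.node 55 (.node 291 .nil .nil) (.node 192 .nil .nil)) (.node 2 (.node 69 .nil .nil) (.node 31 .nil .nil))) (.node 23 (.node 40 (.node 106 .nil .nil) (.node 198 .nil .nil)) (.node 50 (.node 89 .nil .nil) .nil)))) (.node 77 (.node 226 (.node 194 (.node 289 (.node 277 .nil .nil) (.node 115 .nil .nil)) (.node 117 (.node 240 .nil .nil) (.node 232 .nil .nil))) (.node 178 (.node 233 (.node 113 .nil .nil) (.node 111 .nil .nil)) (.node 174 (.node 138 .nil .nil) .nil))) (.node 22 (.node 259 (.node 147 (.node 88 .nil .nil) (.node 212 .nil .nil)) (.node 66 (.node 237 .nil .nil) .nil)) (.node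 262 (.node 178 (.node 13 .nil .nil) (.node 141 .nil .nil)) (.node 113 (.node 293 .nil .nil) .nil))))) (.node 292 (.node 148 (.node 250 (.node 82 (.node 24 (.node 16 .nil .nil) (.node 200 .nil .nil)) (.node 210 (.node 281 .nil .nil) (.node 170 .nil .nil))) (.node 182 (.node 31 (.node 94 .nil .nil) (.node 154 .nil .nil)) (.node 145 (.node 84 .nil .nil) .nil))) (.node 244 (.node 105 (.node 46 (.node 155 .nil .nil) (.node 215 .nil .nil)) (.node 253 (.node 10 .nil .nil) (.node 229 .nil .nil))) (.node 95 (.node 44 (.node 102 .nil .nil) (.node 31 .nil .nil)) (.node 235 (.node 288 .nil .nil) .nil)))) (.node 85 (.node 178 (.node 22 (.node 102 (.node 280 .nil .nil) (.node 269 .nil .nil)) (.node 253 (.node 292 .nil .nil) (.node 192 .nil .nil))) (.node 291 (.node 92 (.node 182 .nil .nil) (.node 148 .nil .nil)) (.node 280 (.node 150 .nil .nil) .nil))) (.node 3 (.node 217 (.node 17 (.node 122 .nil .nil) (.node 147 .nil .nil)) (.node 263 (.node 158 .nil .nil) .nil))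 (.node 226 (.node 176 (.node 189 .nil .nil) (.node 185 .nil .nil)) (.node 125 (.node 279 .nil .nil) .nil)))))) (.node 155 (.node 93 (.node 131 (.node 4 (.node 165 (.node 287 (.node 167 .nil .nil) (.node 168 .nil .nil)) (.node 173 (.node 214 .nil .nil) (.node 67 .nil .nil))) (.node 125 (.node 236 (.node 231 .nil .nil) (.node 158 .nil .nil)) (.node 123 (.node 200 .nil .nil) .nil))) (.node 235 (.node 189 (.node 181 (.node 228 .nil .nil) (.node 290 .nil .nil)) (.node 115 (.node 155 .nil .nil) (.node 156 .nil .nil))) (.node 281 (.node 143 (.node 195 .nil .nil) (.node 107 .nil .nil)) (.node 208 (.node 110 .nil .nil) .nil)))) (.node 277 (.node 238 (.node 79 (.node 233 (.node 45 .nil .nil) (.node 219 .nil .nil)) (.node 29 (.node 63 .nil .nil) (.node 248 .nil .nil))) (.node 110 (.node 115 (.node 164 .nil .nil) (.node 14 .nil .nil)) (.node 269 (.node 51 .nil .nil) .nil))) (.node 292 (.node 78 (.node 235 (.node 166 .nil .nil) (.node 281 .nil .nil)) (.node 157 (.node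 266 .nil .nil) .nil)) (.node 251 (.node 158 (.node 249 .nil .nil) (.node 154 .nil .nil)) (.node 232 (.node 117 .nil .nil) .nil))))) (.node 93 (.node 291 (.node 258 (.node 274 (.node 4 (.node 20 .nil .nil) (.node 32 .nil .nil)) (.node 262 (.node 288 .nil .nil) (.node 233 .nil .nil))) (.node 234 (.node 4 (.node 153 .nil .nil) (.node 4 .nil .nil)) (.node 198 (.node 63 .nil .nil) .nil))) (.node 174 (.node 120 (.node 79 (.node 202 .nil .nil) (.node 71 .nil .nil)) (.node 37 (.node 245 .nil .nil) .nil)) (.node 215 (.node 250 (.node 110 .nil .nil) (.node 228 .nil .nil)) (.node 62 (.node 28 .nil .nil) .nil)))) (.node 85 (.node 220 (.node 171 (.node 171 (.node 200 .nil .nil) (.node 236 .nil .nil)) (.node 228 (.node 45 .nil .nil) (.node 36 .nil .nil))) (.node 276 (.node 85 (.node 245 .nil .nil) (.node 130 .nil .nil)) (.node 288 (.node 205 .nil .nil) .nil))) (.node 145 (.node 43 (.node 62 (.node 127 .nil .nil) (.node 102 .nil .nil)) (.node 153 (.node 83 .nil .nil)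 .nil)) (.node 81 (.node 112 (.node 179 .nil .nil) (.node 220 .nil .nil)) (.node 26 (.node 111 .nil .nil) .nil))))))) (.node 194 (.node 115 (.node 54 (.node 238 (.node 6 (.node 265 (.node 53 (.node 247 .nil .nil) (.node 152 .nil .nil)) (.node 178 (.node 74 .nil .nil) (.node 265 .nil .nil))) (.node 226 (.node 202 (.node 150 .nil .nil) (.node 10 .nil .nil)) (.node 239 (.node 277 .nil .nil) .nil))) (.node 274 (.node 266 (.node 71 (.node 52 .nil .nil) (.node 85 .nil .nil)) (.node 163 (.node 2 .nil .nil) (.node 287 .nil .nil))) (.node 292 (.node 258 (.node 251 .nil .nil) (.node 210 .nil .nil)) (.node 168 (.node 25 .nil .nil) .nil)))) (.node 153 (.node 86 (.node 87 (.node 117 (.node 187 .nil .nil) (.node 153 .nil .nil)) (.node 42 (.node 69 .nil .nil) (.node 48 .nil .nil))) (.node 136 (.node 91 (.node 103 .nil .nil) (.node 38 .nil .nil)) (.node 122 (.node 144 .nil .nil) .nil))) (.node 260 (.node 268 (.node 27 (.node 65 .nil .nil) (.node 242 .nil .nil)) (.node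 117 (.node 231 .nil .nil) .nil)) (.node 261 (.node 200 (.node 285 .nil .nil) (.node 256 .nil .nil)) (.node 85 (.node 209 .nil .nil) .nil))))) (.node 278 (.node 142 (.node 120 (.node 24 (.node 279 (.node 5 .nil .nil) (.node 21 .nil .nil)) (.node 270 (.node 257 .nil .nil) (.node 164 .nil .nil))) (.node 208 (.node 33 (.node 238 .nil .nil) (.node 64 .nil .nil)) (.node 178 (.node 169 .nil .nil) .nil))) (.node 60 (.node 238 (.node 230 (.node 64 .nil .nil) (.node 261 .nil .nil)) (.node 287 (.node 22 .nil .nil) .nil)) (.node 64 (.node 205 (.node 268 .nil .nil) (.node 226 .nil .nil)) (.node 105 (.node 144 .nil .nil) .nil)))) (.node 154 (.node 182 (.node 295 (.node 150 (.node 278 .nil .nil) (.node 100 .nil .nil)) (.node 68 (.node 57 .nil .nil) (.node 106 .nil .nil))) (.node 231 (.node 157 (.node 272 .nil .nil) (.node 271 .nil .nil)) (.node 178 (.node 81 .nil .nil) .nil))) (.node 192 (.node 226 (.node 206 (.node 214 .nil .nil) (.node 115 .nil .nil)) (.node 166 (.node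 18 .nil .nil) .nil)) (.node 284 (.node 166 (.node 263 .nil .nil) (.node 109 .nil .nil)) (.node 260 (.node 92 .nil .nil) .nil)))))) (.node 127 (.node 281 (.node 58 (.node 225 (.node 242 (.node 195 (.node 230 .nil .nil) (.node 16 .nil .nil)) (.node 251 (.node 38 .nil .nil) (.node 55 .nil .nil))) (.node 161 (.node 32 (.node 120 .nil .nil) (.node 127 .nil .nil)) (.node 188 (.node 153 .nil .nil) .nil))) (.node 19 (.node 32 (.node 69 (.node 132 .nil .nil) (.node 72 .nil .nil)) (.node 277 (.node 110 .nil .nil) (.node 59 .nil .nil))) (.node 200 (.node 253 (.node 107 .nil .nil) (.node 100 .nil .nil)) (.node 71 (.node 219 .nil .nil) .nil)))) (.node 148 (.node 101 (.node 142 (.node 109 (.node 197 .nil .nil) (.node 10 .nil .nil)) (.node 60 (.node 218 .nil .nil) (.node 113 .nil .nil))) (.node 44 (.node 86 (.node 168 .nil .nil) (.node 109 .nil .nil)) (.node 18 (.node 83 .nil .nil) .nil))) (.node 245 (.node 91 (.node 21 (.node 269 .nil .nil) (.node 39 .nil .nil)) (.node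 21 (.node 284 .nil .nil) .nil)) (.node 129 (.node 31 (.node 36 .nil .nil) (.node 140 .nil .nil)) (.node 148 (.node 81 .nil .nil) .nil))))) (.node 181 (.node 279 (.node 85 (.node 20 (.node 138 (.node 239 .nil .nil) (.node 196 .nil .nil)) (.node 70 (.node 24 .nil .nil) (.node 219 .nil .nil))) (.node 292 (.node 275 (.node 291 .nil .nil) (.node 50 .nil .nil)) (.node 200 (.node 275 .nil .nil) .nil))) (.node 158 (.node 95 (.node 110 (.node 8 .nil .nil) (.node 36 .nil .nil)) (.node 214 (.node 96 .nil .nil) .nil)) (.node 182 (.node 112 (.node 268 .nil .nil) (.node 133 .nil .nil)) (.node 126 (.node 177 .nil .nil) .nil)))) (.node 126 (.node 51 (.node 34 (.node 290 (.node 223 .nil .nil) (.node 188 .nil .nil)) (.node 192 (.node 63 .nil .nil) (.node 47 .nil .nil))) (.node 281 (.node 219 (.node 261 .nil .nil) (.node 6 .nil .nil)) (.node 234 (.node 278 .nil .nil) .nil))) (.node 127 (.node 1 (.node 125 (.node 107 .nil .nil) (.node 201 .nil .nil)) (.node 29 (.node 211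 .nil .nil) .nil)) (.node 171 (.node 122 (.node 11 .nil .nil) (.node 60 .nil .nil)) (.node 31 (.node 275 .nil .nil) .nil))))))))

/-- Part of `repOf`. -/
noncomputable def repOf_l_l_l_l_r : Arr ℕ :=
  (.node 109 (.node 72 (.node 29 (.node 181 (.node 250 (.node 46 (.node 144 (.node 153 (.node 242 .nil .nil) (.node 72 .nil .nil)) (.node 286 (.node 231 .nil .nil) (.node 30 .nil .nil))) (.node 106 (.node 131 (.node 114 .nil .nil) (.node 101 .nil .nil)) (.node 165 (.node 113 .nil .nil) .nil))) (.node 173 (.node 177 (.node 90 (.node 7 .nil .nil) (.node 206 .nil .nil)) (.node 103 (.node 244 .nil .nil) (.node 94 .nil .nil))) (.node 137 (.node 133 (.node 59 .nil .nil) (.node 30 .nil .nil)) (.node 225 (.node 93 .nil .nil) .nil)))) (.node 175 (.node 104 (.node 57 (.node 176 (.node 203 .nil .nil) (.node 25 .nil .nil)) (.node 157 (.node 111 .nil .nil) (.node 229 .nil .nil))) (.node 136 (.node 53 (.node 132 .nil .nil) (.node 244 .nil .nil)) (.node 10 (.node 134 .nil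 .nil) .nil))) (.node 217 (.node 21 (.node 169 (.node 150 .nil .nil) (.node 171 .nil .nil)) (.node 182 (.node 88 .nil .nil) .nil)) (.node 152 (.node 15 (.node 218 .nil .nil) (.node 140 .nil .nil)) (.node 154 (.node 84 .nil .nil) .nil))))) (.node 289 (.node 84 (.node 190 (.node 131 (.node 8 (.node 52 .nil .nil) (.node 222 .nil .nil)) (.node 37 (.node 232 .nil .nil) (.node 45 .nil .nil))) (.node 161 (.node 153 (.node 112 .nil .nil) (.node 54 .nil .nil)) (.node 36 (.node 258 .nil .nil) .nil))) (.node 34 (.node 36 (.node 172 (.node 23 .nil .nil) (.node 241 .nil .nil)) (.node 204 (.node 204 .nil .nil) .nil)) (.node 120 (.node 226 (.node 127 .nil .nil) (.node 5 .nil .nil)) (.node 153 (.node 242 .nil .nil) .nil)))) (.node 145 (.node 288 (.node 220 (.node 116 (.node 178 .nil .nil) (.node 183 .nil .nil)) (.node 68 (.node 140 .nil .nil) (.node 227 .nil .nil))) (.node 198 (.node 86 (.node 147 .nil .nil) (.node 268 .nil .nil)) (.node 276 (.node 14 .nil .nil) .nil)))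 (.node 16 (.node 221 (.node 290 (.node 164 .nil .nil) (.node 270 .nil .nil)) (.node 66 (.node 148 .nil .nil) .nil)) (.node 277 (.node 242 (.node 94 .nil .nil) (.node 90 .nil .nil)) (.node 283 (.node 225 .nil .nil) .nil)))))) (.node 65 (.node 116 (.node 134 (.node 61 (.node 151 (.node 52 (.node 238 .nil .nil) (.node 6 .nil .nil)) (.node 171 (.node 157 .nil .nil) (.node 211 .nil .nil))) (.node 287 (.node 45 (.node 47 .nil .nil) (.node 96 .nil .nil)) (.node 147 (.node 49 .nil .nil) .nil))) (.node 126 (.node 67 (.node 32 (.node 154 .nil .nil) (.node 137 .nil .nil)) (.node 274 (.node 142 .nil .nil) (.node 242 .nil .nil))) (.node 172 (.node 241 (.node 27 .nil .nil) (.node 70 .nil .nil)) (.node 155 (.node 262 .nil .nil) .nil)))) (.node 271 (.node 287 (.node 25 (.node 141 (.node 176 .nil .nil) (.node 98 .nil .nil)) (.node 209 (.node 266 .nil .nil) (.node 281 .nil .nil))) (.node 152 (.node 224 (.node 159 .nil .nil) (.node 82 .nil .nil)) (.node 122 (.node 290 .nil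 .nil) .nil))) (.node 41 (.node 233 (.node 154 (.node 3 .nil .nil) (.node 20 .nil .nil)) (.node 281 (.node 286 .nil .nil) .nil)) (.node 71 (.node 52 (.node 152 .nil .nil) (.node 186 .nil .nil)) (.node 264 (.node 276 .nil .nil) .nil))))) (.node 19 (.node 212 (.node 121 (.node 194 (.node 257 (.node 230 .nil .nil) (.node 290 .nil .nil)) (.node 175 (.node 240 .nil .nil) (.node 285 .nil .nil))) (.node 169 (.node 116 (.node 153 .nil .nil) (.node 187 .nil .nil)) (.node 15 (.node 48 .nil .nil) .nil))) (.node 265 (.node 213 (.node 22 (.node 183 .nil .nil) (.node 43 .nil .nil)) (.node 6 (.node 238 .nil .nil) .nil)) (.node 194 (.node 129 (.node 217 .nil .nil) (.node 52 .nil .nil)) (.node 111 (.node 94 .nil .nil) .nil)))) (.node 235 (.node 74 (.node 139 (.node 213 (.node 206 .nil .nil) (.node 34 .nil .nil)) (.node 143 (.node 128 .nil .nil) (.node 241 .nil .nil))) (.node 223 (.node 121 (.node 28 .nil .nil) (.node 4 .nil .nil)) (.node 168 (.node 130 .nil .nil) .nil)))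 (.node 204 (.node 134 (.node 64 (.node 197 .nil .nil) (.node 193 .nil .nil)) (.node 187 (.node 192 .nil .nil) .nil)) (.node 103 (.node 44 (.node 249 .nil .nil) (.node 281 .nil .nil)) (.node 6 (.node 29 .nil .nil) .nil))))))) (.node 195 (.node 4 (.node 134 (.node 288 (.node 47 (.node 64 (.node 227 (.node 102 .nil .nil) (.node 88 .nil .nil)) (.node 267 (.node 133 .nil .nil) (.node 23 .nil .nil))) (.node 14 (.node 111 (.node 262 .nil .nil) (.node 141 .nil .nil)) (.node 20 (.node 209 .nil .nil) .nil))) (.node 254 (.node 61 (.node 190 (.node 249 .nil .nil) (.node 216 .nil .nil)) (.node 281 (.node 124 .nil .nil) (.node 251 .nil .nil))) (.node 76 (.node 253 (.node 88 .nil .nil) (.node 277 .nil .nil)) (.node 40 (.node 52 .nil .nil) .nil)))) (.node 212 (.node 230 (.node 66 (.node 235 (.node 157 .nil .nil) (.node 202 .nil .nil)) (.node 100 (.node 27 .nil .nil) (.node 238 .nil .nil))) (.node 41 (.node 253 (.node 41 .nil .nil) (.node 86 .nil .nil)) (.node 266 (.node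 133 .nil .nil) .nil))) (.node 120 (.node 147 (.node 33 (.node 155 .nil .nil) (.node 43 .nil .nil)) (.node 16 (.node 30 .nil .nil) .nil)) (.node 123 (.node 21 (.node 266 .nil .nil) (.node 24 .nil .nil)) (.node 172 (.node 232 .nil .nil) .nil))))) (.node 39 (.node 255 (.node 167 (.node 168 (.node 138 (.node 165 .nil .nil) (.node 61 .nil .nil)) (.node 75 (.node 132 .nil .nil) (.node 251 .nil .nil))) (.node 138 (.node 243 (.node 12 .nil .nil) (.node 239 .nil .nil)) (.node 175 (.node 108 .nil .nil) .nil))) (.node 184 (.node 277 (.node 64 (.node 34 .nil .nil) (.node 148 .nil .nil)) (.node 58 (.node 194 .nil .nil) .nil)) (.node 216 (.node 49 (.node 174 .nil .nil) (.node 223 .nil .nil)) (.node 12 (.node 62 .nil .nil) .nil)))) (.node 133 (.node 88 (.node 191 (.node 281 (.node 69 .nil .nil) (.node 270 .nil .nil)) (.node 81 (.node 11 .nil .nil) (.node 5 .nil .nil))) (.node 222 (.node 144 (.node 208 .nil .nil) (.node 88 .nil .nil)) (.node 89 (.node 257 .nil .nil) .nil)))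 (.node 240 (.node 220 (.node 34 (.node 226 .nil .nil) (.node 294 .nil .nil)) (.node 156 (.node 26 .nil .nil) .nil)) (.node 221 (.node 178 (.node 288 .nil .nil) (.node 151 .nil .nil)) (.node 228 (.node 220 .nil .nil) .nil)))))) (.node 98 (.node 116 (.node 98 (.node 258 (.node 280 (.node 90 (.node 105 .nil .nil) (.node 4 .nil .nil)) (.node 94 (.node 263 .nil .nil) (.node 95 .nil .nil))) (.node 174 (.node 208 (.node 131 .nil .nil) (.node 294 .nil .nil)) (.node 100 (.node 36 .nil .nil) .nil))) (.node 107 (.node 166 (.node 46 (.node 112 .nil .nil) (.node 222 .nil .nil)) (.node 56 (.node 154 .nil .nil) (.node 195 .nil .nil))) (.node 13 (.node 294 (.node 150 .nil .nil) (.node 115 .nil .nil)) (.node 141 (.node 271 .nil .nil) .nil)))) (.node 22 (.node 232 (.node 101 (.node 218 (.node 74 .nil .nil) (.node 93 .nil .nil)) (.node 28 (.node 239 .nil .nil) (.node 194 .nil .nil))) (.node 135 (.node 242 (.node 164 .nil .nil) (.node 45 .nil .nil)) (.node 16 (.node 288 .nil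 .nil) .nil))) (.node 259 (.node 99 (.node 125 (.node 215 .nil .nil) (.node 8 .nil .nil)) (.node 37 (.node 216 .nil .nil) .nil)) (.node 243 (.node 227 (.node 169 .nil .nil) (.node 285 .nil .nil)) (.node 78 (.node 73 .nil .nil) .nil))))) (.node 256 (.node 280 (.node 191 (.node 182 (.node 148 (.node 208 .nil .nil) (.node 11 .nil .nil)) (.node 156 (.node 207 .nil .nil) (.node 6 .nil .nil))) (.node 70 (.node 64 (.node 281 .nil .nil) (.node 187 .nil .nil)) (.node 268 (.node 187 .nil .nil) .nil))) (.node 46 (.node 103 (.node 124 (.node 63 .nil .nil) (.node 265 .nil .nil)) (.node 37 (.node 1 .nil .nil) .nil)) (.node 16 (.node 68 (.node 163 .nil .nil) (.node 206 .nil .nil)) (.node 135 (.node 76 .nil .nil) .nil)))) (.node 284 (.node 228 (.node 75 (.node 219 (.node 12 .nil .nil) (.node 192 .nil .nil)) (.node 80 (.node 55 .nil .nil) (.node 172 .nil .nil))) (.node 220 (.node 107 (.node 167 .nil .nil) (.node 196 .nil .nil)) (.node 129 (.node 1 .nil .nil) .nil))) (.node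 10 (.node 148 (.node 84 (.node 233 .nil .nil) (.node 198 .nil .nil)) (.node 15 (.node 219 .nil .nil) .nil)) (.node 256 (.node 157 (.node 152 .nil .nil) (.node 157 .nil .nil)) (.node 207 (.node 258 .nil .nil) .nil))))))))

/-- Part of `repOf`. -/
noncomputable def repOf_l_l_l_l : Arr ℕ :=
  .node 0 repOf_l_l_l_l_l repOf_l_l_l_l_r

/-- Part of `repOf`. -/
noncomputable def repOf_l_l_l_r_l : Arr ℕ :=
  (.node 208 (.node 17 (.node 172 (.node 232 (.node 197 (.node 147 (.node 185 (.node 54 (.node 257 .nil .nil) (.node 204 .nil .nil)) (.node 44 (.node 99 .nil .nil) (.node 51 .nil .nil))) (.node 246 (.node 257 (.node 242 .nil .nil) (.node 288 .nil .nil)) (.node 14 (.node 188 .nil .nil) .nil))) (.node 281 (.node 152 (.node 80 (.node 99 .nil .nil) (.node 140 .nil .nil)) (.node 202 (.node 237 .nil .nil) (.node 277 .nil .nil))) (.node 5 (.node 152 (.node 292 .nil .nil) (.node 119 .nil .nil)) (.node 77 (.node 50 .nil .nil) .nil)))) (.node 236 (.node 81 (.node 151 (.node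 240 (.node 121 .nil .nil) (.node 53 .nil .nil)) (.node 50 (.node 151 .nil .nil) (.node 273 .nil .nil))) (.node 24 (.node 239 (.node 289 .nil .nil) (.node 29 .nil .nil)) (.node 178 (.node 129 .nil .nil) .nil))) (.node 189 (.node 88 (.node 188 (.node 71 .nil .nil) (.node 55 .nil .nil)) (.node 24 (.node 40 .nil .nil) .nil)) (.node 218 (.node 224 (.node 199 .nil .nil) (.node 142 .nil .nil)) (.node 121 (.node 74 .nil .nil) .nil))))) (.node 228 (.node 256 (.node 218 (.node 157 (.node 142 (.node 192 .nil .nil) (.node 244 .nil .nil)) (.node 113 (.node 5 .nil .nil) (.node 272 .nil .nil))) (.node 30 (.node 164 (.node 58 .nil .nil) (.node 275 .nil .nil)) (.node 66 (.node 82 .nil .nil) .nil))) (.node 134 (.node 110 (.node 49 (.node 146 .nil .nil) (.node 293 .nil .nil)) (.node 198 (.node 262 .nil .nil) .nil)) (.node 123 (.node 265 (.node 263 .nil .nil) (.node 67 .nil .nil)) (.node 120 (.node 269 .nil .nil) .nil)))) (.node 227 (.node 174 (.node 243 (.node 211 (.node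 165 .nil .nil) (.node 150 .nil .nil)) (.node 270 (.node 206 .nil .nil) (.node 158 .nil .nil))) (.node 191 (.node 279 (.node 168 .nil .nil) (.node 34 .nil .nil)) (.node 111 (.node 259 .nil .nil) .nil))) (.node 152 (.node 69 (.node 177 (.node 80 .nil .nil) (.node 275 .nil .nil)) (.node 162 (.node 42 .nil .nil) .nil)) (.node 220 (.node 158 (.node 65 .nil .nil) (.node 65 .nil .nil)) (.node 145 (.node 45 .nil .nil) .nil)))))) (.node 250 (.node 4 (.node 123 (.node 181 (.node 122 (.node 52 (.node 54 .nil .nil) (.node 33 .nil .nil)) (.node 233 (.node 11 .nil .nil) (.node 83 .nil .nil))) (.node 182 (.node 207 (.node 153 .nil .nil) (.node 292 .nil .nil)) (.node 154 (.node 68 .nil .nil) .nil))) (.node 233 (.node 269 (.node 88 (.node 2 .nil .nil) (.node 211 .nil .nil)) (.node 275 (.node 213 .nil .nil) (.node 217 .nil .nil))) (.node 102 (.node 113 (.node 108 .nil .nil) (.node 288 .nil .nil)) (.node 271 (.node 120 .nil .nil) .nil)))) (.node 171 (.node 141 (.node 285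 (.node 5 (.node 258 .nil .nil) (.node 19 .nil .nil)) (.node 286 (.node 90 .nil .nil) (.node 205 .nil .nil))) (.node 74 (.node 98 (.node 164 .nil .nil) (.node 240 .nil .nil)) (.node 64 (.node 182 .nil .nil) .nil))) (.node 140 (.node 217 (.node 173 (.node 237 .nil .nil) (.node 2 .nil .nil)) (.node 87 (.node 25 .nil .nil) .nil)) (.node 41 (.node 92 (.node 251 .nil .nil) (.node 44 .nil .nil)) (.node 157 (.node 266 .nil .nil) .nil))))) (.node 44 (.node 36 (.node 53 (.node 76 (.node 275 (.node 2 .nil .nil) (.node 162 .nil .nil)) (.node 186 (.node 122 .nil .nil) (.node 189 .nil .nil))) (.node 4 (.node 66 (.node 145 .nil .nil) (.node 42 .nil .nil)) (.node 70 (.node 217 .nil .nil) .nil))) (.node 12 (.node 178 (.node 135 (.node 52 .nil .nil) (.node 159 .nil .nil)) (.node 6 (.node 217 .nil .nil) .nil)) (.node 289 (.node 288 (.node 33 .nil .nil) (.node 240 .nil .nil)) (.node 98 (.node 222 .nil .nil) .nil)))) (.node 26 (.node 220 (.node 256 (.node 107 (.node 51 .nil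 .nil) (.node 142 .nil .nil)) (.node 132 (.node 127 .nil .nil) (.node 213 .nil .nil))) (.node 156 (.node 154 (.node 62 .nil .nil) (.node 182 .nil .nil)) (.node 200 (.node 205 .nil .nil) .nil))) (.node 269 (.node 284 (.node 224 (.node 172 .nil .nil) (.node 255 .nil .nil)) (.node 31 (.node 219 .nil .nil) .nil)) (.node 37 (.node 139 (.node 179 .nil .nil) (.node 264 .nil .nil)) (.node 218 (.node 241 .nil .nil) .nil))))))) (.node 75 (.node 153 (.node 265 (.node 73 (.node 250 (.node 64 (.node 202 (.node 258 .nil .nil) (.node 102 .nil .nil)) (.node 124 (.node 15 .nil .nil) (.node 266 .nil .nil))) (.node 278 (.node 162 (.node 27 .nil .nil) (.node 198 .nil .nil)) (.node 91 (.node 279 .nil .nil) .nil))) (.node 276 (.node 32 (.node 199 (.node 235 .nil .nil) (.node 81 .nil .nil)) (.node 188 (.node 85 .nil .nil) (.node 150 .nil .nil))) (.node 29 (.node 136 (.node 225 .nil .nil) (.node 208 .nil .nil)) (.node 171 (.node 172 .nil .nil) .nil)))) (.node 11 (.node 189 (.node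 66 (.node 258 (.node 212 .nil .nil) (.node 56 .nil .nil)) (.node 186 (.node 7 .nil .nil) (.node 141 .nil .nil))) (.node 246 (.node 257 (.node 81 .nil .nil) (.node 174 .nil .nil)) (.node 275 (.node 176 .nil .nil) .nil))) (.node 245 (.node 46 (.node 76 (.node 249 .nil .nil) (.node 133 .nil .nil)) (.node 55 (.node 47 .nil .nil) .nil)) (.node 188 (.node 284 (.node 74 .nil .nil) (.node 69 .nil .nil)) (.node 15 (.node 177 .nil .nil) .nil))))) (.node 136 (.node 45 (.node 132 (.node 127 (.node 144 (.node 245 .nil .nil) (.node 205 .nil .nil)) (.node 115 (.node 77 .nil .nil) (.node 235 .nil .nil))) (.node 62 (.node 4 (.node 178 .nil .nil) (.node 282 .nil .nil)) (.node 231 (.node 264 .nil .nil) .nil))) (.node 21 (.node 64 (.node 120 (.node 219 .nil .nil) (.node 22 .nil .nil)) (.node 121 (.node 12 .nil .nil) .nil)) (.node 24 (.node 9 (.node 158 .nil .nil) (.node 80 .nil .nil)) (.node 86 (.node 16 .nil .nil) .nil)))) (.node 27 (.node 278 (.node 188 (.node 154 (.node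 33 .nil .nil) (.node 13 .nil .nil)) (.node 106 (.node 3 .nil .nil) (.node 77 .nil .nil))) (.node 244 (.node 77 (.node 76 .nil .nil) (.node 166 .nil .nil)) (.node 146 (.node 64 .nil .nil) .nil))) (.node 242 (.node 225 (.node 81 (.node 116 .nil .nil) (.node 168 .nil .nil)) (.node 70 (.node 216 .nil .nil) .nil)) (.node 106 (.node 15 (.node 190 .nil .nil) (.node 246 .nil .nil)) (.node 228 (.node 157 .nil .nil) .nil)))))) (.node 110 (.node 215 (.node 93 (.node 14 (.node 127 (.node 265 (.node 12 .nil .nil) (.node 183 .nil .nil)) (.node 68 (.node 77 .nil .nil) (.node 95 .nil .nil))) (.node 268 (.node 96 (.node 153 .nil .nil) (.node 168 .nil .nil)) (.node 100 (.node 150 .nil .nil) .nil))) (.node 213 (.node 224 (.node 290 (.node 232 .nil .nil) (.node 99 .nil .nil)) (.node 127 (.node 7 .nil .nil) (.node 234 .nil .nil))) (.node 3 (.node 285 (.node 259 .nil .nil) (.node 290 .nil .nil)) (.node 141 (.node 125 .nil .nil) .nil)))) (.node 149 (.node 96 (.node 163 (.node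 235 (.node 46 .nil .nil) (.node 163 .nil .nil)) (.node 178 (.node 212 .nil .nil) (.node 206 .nil .nil))) (.node 282 (.node 2 (.node 240 .nil .nil) (.node 36 .nil .nil)) (.node 117 (.node 212 .nil .nil) .nil))) (.node 33 (.node 88 (.node 261 (.node 75 .nil .nil) (.node 57 .nil .nil)) (.node 138 (.node 63 .nil .nil) .nil)) (.node 6 (.node 294 (.node 105 .nil .nil) (.node 150 .nil .nil)) (.node 279 (.node 235 .nil .nil) .nil))))) (.node 130 (.node 80 (.node 175 (.node 282 (.node 160 (.node 141 .nil .nil) (.node 167 .nil .nil)) (.node 248 (.node 65 .nil .nil) (.node 276 .nil .nil))) (.node 114 (.node 263 (.node 281 .nil .nil) (.node 6 .nil .nil)) (.node 81 (.node 129 .nil .nil) .nil))) (.node 251 (.node 195 (.node 274 (.node 153 .nil .nil) (.node 176 .nil .nil)) (.node 242 (.node 152 .nil .nil) .nil)) (.node 262 (.node 193 (.node 182 .nil .nil) (.node 206 .nil .nil)) (.node 209 (.node 241 .nil .nil) .nil)))) (.node 160 (.node 132 (.node 191 (.node 277 (.node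 183 .nil .nil) (.node 150 .nil .nil)) (.node 240 (.node 21 .nil .nil) (.node 265 .nil .nil))) (.node 220 (.node 259 (.node 259 .nil .nil) (.node 243 .nil .nil)) (.node 49 (.node 210 .nil .nil) .nil))) (.node 64 (.node 19 (.node 176 (.node 23 .nil .nil) (.node 216 .nil .nil)) (.node 85 (.node 157 .nil .nil) .nil)) (.node 189 (.node 87 (.node 89 .nil .nil) (.node 20 .nil .nil)) (.node 70 (.node 97 .nil .nil) .nil))))))))

/-- Part of `repOf`. -/
noncomputable def repOf_l_l_l_r_r : Arr ℕ :=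
  (.node 13 (.node 176 (.node 133 (.node 96 (.node 155 (.node 244 (.node 188 (.node 52 (.node 111 .nil .nil) (.node 203 .nil .nil)) (.node 84 (.node 237 .nil .nil) (.node 91 .nil .nil))) (.node 226 (.node 191 (.node 34 .nil .nil) (.node 47 .nil .nil)) (.node 136 (.node 221 .nil .nil) .nil))) (.node 13 (.node 253 (.node 24 (.node 31 .nil .nil) (.node 43 .nil .nil)) (.node 54 (.node 6 .nil .nil) (.node 45 .nil .nil))) (.node 213 (.node 177 (.node 198 .nil .nil) (.node 278 .nil .nil)) (.node 294 (.node 160 .nil .nil) .nil)))) (.node 70 (.node 41 (.node 193 (.node 81 (.node 207 .nil .nil) (.node 53 .nil .nil)) (.node 72 (.node 23 .nil .nil) (.node 1 .nil .nil))) (.node 108 (.node 121 (.node 37 .nil .nil) (.node 59 .nil .nil)) (.node 96 (.node 263 .nil .nil) .nil))) (.node 245 (.node 16 (.node 144 (.node 45 .nil .nil) (.node 250 .nil .nil)) (.node 125 (.node 153 .nil .nil) .nil)) (.node 182 (.node 232 (.node 288 .nil .nil) (.node 160 .nil .nil)) (.node 257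 (.node 269 .nil .nil) .nil))))) (.node 24 (.node 182 (.node 252 (.node 263 (.node 275 (.node 233 .nil .nil) (.node 203 .nil .nil)) (.node 257 (.node 37 .nil .nil) (.node 150 .nil .nil))) (.node 65 (.node 12 (.node 112 .nil .nil) (.node 265 .nil .nil)) (.node 184 (.node 180 .nil .nil) .nil))) (.node 294 (.node 146 (.node 133 (.node 275 .nil .nil) (.node 263 .nil .nil)) (.node 154 (.node 122 .nil .nil) .nil)) (.node 277 (.node 181 (.node 98 .nil .nil) (.node 113 .nil .nil)) (.node 228 (.node 103 .nil .nil) .nil)))) (.node 257 (.node 284 (.node 272 (.node 107 (.node 155 .nil .nil) (.node 102 .nil .nil)) (.node 29 (.node 154 .nil .nil) (.node 277 .nil .nil))) (.node 41 (.node 11 (.node 24 .nil .nil) (.node 275 .nil .nil)) (.node 238 (.node 214 .nil .nil) .nil))) (.node 20 (.node 104 (.node 252 (.node 206 .nil .nil) (.node 187 .nil .nil)) (.node 278 (.node 144 .nil .nil) .nil)) (.node 25 (.node 181 (.node 19 .nil .nil) (.node 157 .nil .nil)) (.node 268 (.node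 78 .nil .nil) .nil)))))) (.node 37 (.node 260 (.node 53 (.node 181 (.node 27 (.node 202 (.node 109 .nil .nil) (.node 268 .nil .nil)) (.node 177 (.node 117 .nil .nil) (.node 240 .nil .nil))) (.node 51 (.node 45 (.node 111 .nil .nil) (.node 16 .nil .nil)) (.node 70 (.node 19 .nil .nil) .nil))) (.node 70 (.node 237 (.node 164 (.node 2 .nil .nil) (.node 32 .nil .nil)) (.node 120 (.node 105 .nil .nil) (.node 54 .nil .nil))) (.node 50 (.node 68 (.node 37 .nil .nil) (.node 89 .nil .nil)) (.node 189 (.node 142 .nil .nil) .nil)))) (.node 189 (.node 110 (.node 41 (.node 199 (.node 40 .nil .nil) (.node 153 .nil .nil)) (.node 74 (.node 204 .nil .nil) (.node 1 .nil .nil))) (.node 186 (.node 248 (.node 38 .nil .nil) (.node 211 .nil .nil)) (.node 204 (.node 290 .nil .nil) .nil))) (.node 86 (.node 215 (.node 162 (.node 224 .nil .nil) (.node 283 .nil .nil)) (.node 16 (.node 6 .nil .nil) .nil)) (.node 26 (.node 143 (.node 203 .nil .nil) (.node 198 .nil .nil)) (.node 180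 (.node 174 .nil .nil) .nil))))) (.node 206 (.node 147 (.node 239 (.node 261 (.node 166 (.node 288 .nil .nil) (.node 31 .nil .nil)) (.node 187 (.node 164 .nil .nil) (.node 222 .nil .nil))) (.node 153 (.node 53 (.node 153 .nil .nil) (.node 178 .nil .nil)) (.node 136 (.node 240 .nil .nil) .nil))) (.node 15 (.node 60 (.node 124 (.node 246 .nil .nil) (.node 96 .nil .nil)) (.node 109 (.node 62 .nil .nil) .nil)) (.node 282 (.node 72 (.node 214 .nil .nil) (.node 90 .nil .nil)) (.node 111 (.node 96 .nil .nil) .nil)))) (.node 249 (.node 282 (.node 183 (.node 158 (.node 104 .nil .nil) (.node 292 .nil .nil)) (.node 187 (.node 65 .nil .nil) (.node 156 .nil .nil))) (.node 128 (.node 108 (.node 169 .nil .nil) (.node 135 .nil .nil)) (.node 27 (.node 251 .nil .nil) .nil))) (.node 275 (.node 91 (.node 90 (.node 150 .nil .nil) (.node 116 .nil .nil)) (.node 49 (.node 52 .nil .nil) .nil)) (.node 156 (.node 85 (.node 230 .nil .nil) (.node 146 .nil .nil)) (.node 65 (.node 263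 .nil .nil) .nil))))))) (.node 169 (.node 238 (.node 139 (.node 282 (.node 91 (.node 290 (.node 75 (.node 114 .nil .nil) (.node 37 .nil .nil)) (.node 147 (.node 80 .nil .nil) (.node 229 .nil .nil))) (.node 31 (.node 61 (.node 151 .nil .nil) (.node 98 .nil .nil)) (.node 91 (.node 259 .nil .nil) .nil))) (.node 233 (.node 221 (.node 118 (.node 173 .nil .nil) (.node 200 .nil .nil)) (.node 8 (.node 290 .nil .nil) (.node 24 .nil .nil))) (.node 49 (.node 237 (.node 252 .nil .nil) (.node 36 .nil .nil)) (.node 212 (.node 205 .nil .nil) .nil)))) (.node 60 (.node 249 (.node 245 (.node 25 (.node 51 .nil .nil) (.node 203 .nil .nil)) (.node 5 (.node 91 .nil .nil) (.node 235 .nil .nil))) (.node 177 (.node 114 (.node 59 .nil .nil) (.node 72 .nil .nil)) (.node 12 (.node 40 .nil .nil) .nil))) (.node 267 (.node 223 (.node 43 (.node 223 .nil .nil) (.node 281 .nil .nil)) (.node 198 (.node 58 .nil .nil) .nil)) (.node 39 (.node 161 (.node 208 .nil .nil) (.node 144 .nil .nil))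 (.node 234 (.node 149 .nil .nil) .nil))))) (.node 172 (.node 272 (.node 45 (.node 11 (.node 276 (.node 91 .nil .nil) (.node 280 .nil .nil)) (.node 101 (.node 158 .nil .nil) (.node 25 .nil .nil))) (.node 203 (.node 209 (.node 273 .nil .nil) (.node 237 .nil .nil)) (.node 246 (.node 137 .nil .nil) .nil))) (.node 194 (.node 246 (.node 124 (.node 131 .nil .nil) (.node 182 .nil .nil)) (.node 269 (.node 264 .nil .nil) .nil)) (.node 73 (.node 133 (.node 205 .nil .nil) (.node 168 .nil .nil)) (.node 211 (.node 241 .nil .nil) .nil)))) (.node 51 (.node 272 (.node 176 (.node 92 (.node 277 .nil .nil) (.node 222 .nil .nil)) (.node 106 (.node 7 .nil .nil) (.node 22 .nil .nil))) (.node 222 (.node 202 (.node 139 .nil .nil) (.node 266 .nil .nil)) (.node 58 (.node 119 .nil .nil) .nil))) (.node 248 (.node 234 (.node 196 (.node 98 .nil .nil) (.node 56 .nil .nil)) (.node 54 (.node 24 .nil .nil) .nil)) (.node 189 (.node 293 (.node 179 .nil .nil) (.node 237 .nil .nil)) (.node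 57 (.node 38 .nil .nil) .nil)))))) (.node 93 (.node 114 (.node 267 (.node 247 (.node 241 (.node 86 (.node 110 .nil .nil) (.node 259 .nil .nil)) (.node 222 (.node 71 .nil .nil) (.node 270 .nil .nil))) (.node 103 (.node 84 (.node 11 .nil .nil) (.node 177 .nil .nil)) (.node 145 (.node 67 .nil .nil) .nil))) (.node 89 (.node 125 (.node 79 (.node 122 .nil .nil) (.node 30 .nil .nil)) (.node 83 (.node 8 .nil .nil) (.node 157 .nil .nil))) (.node 265 (.node 195 (.node 213 .nil .nil) (.node 192 .nil .nil)) (.node 103 (.node 156 .nil .nil) .nil)))) (.node 191 (.node 280 (.node 181 (.node 250 (.node 67 .nil .nil) (.node 169 .nil .nil)) (.node 130 (.node 133 .nil .nil) (.node 220 .nil .nil))) (.node 246 (.node 155 (.node 74 .nil .nil) (.node 10 .nil .nil)) (.node 196 (.node 26 .nil .nil) .nil))) (.node 89 (.node 184 (.node 142 (.node 273 .nil .nil) (.node 170 .nil .nil)) (.node 257 (.node 177 .nil .nil) .nil)) (.node 285 (.node 202 (.node 221 .nil .nil) (.node 21 .nil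 .nil)) (.node 191 (.node 201 .nil .nil) .nil))))) (.node 267 (.node 294 (.node 191 (.node 90 (.node 147 (.node 202 .nil .nil) (.node 42 .nil .nil)) (.node 90 (.node 98 .nil .nil) (.node 33 .nil .nil))) (.node 254 (.node 147 (.node 113 .nil .nil) (.node 103 .nil .nil)) (.node 158 (.node 30 .nil .nil) .nil))) (.node 46 (.node 225 (.node 135 (.node 278 .nil .nil) (.node 3 .nil .nil)) (.node 234 (.node 201 .nil .nil) .nil)) (.node 197 (.node 40 (.node 186 .nil .nil) (.node 56 .nil .nil)) (.node 286 (.node 123 .nil .nil) .nil)))) (.node 223 (.node 62 (.node 101 (.node 190 (.node 190 .nil .nil) (.node 221 .nil .nil)) (.node 199 (.node 164 .nil .nil) (.node 155 .nil .nil))) (.node 293 (.node 254 (.node 34 .nil .nil) (.node 241 .nil .nil)) (.node 276 (.node 122 .nil .nil) .nil))) (.node 217 (.node 248 (.node 253 (.node 43 .nil .nil) (.node 128 .nil .nil)) (.node 185 (.node 227 .nil .nil) .nil)) (.node 46 (.node 193 (.node 142 .nil .nil) (.node 64 .nil .nil)) (.node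 118 (.node 89 .nil .nil) .nil))))))))

/-- Part of `repOf`. -/
noncomputable def repOf_l_l_l_r : Arr ℕ :=
  .node 0 repOf_l_l_l_r_l repOf_l_l_l_r_r

/-- Part of `repOf`. -/
noncomputable def repOf_l_l_l : Arr ℕ :=
  .node 0 repOf_l_l_l_l repOf_l_l_l_r

/-- Part of `repOf`. -/
noncomputable def repOf_l_l_r_l_l : Arr ℕ :=
  (.node 141 (.node 169 (.node 113 (.node 207 (.node 46 (.node 22 (.node 141 (.node 223 (.node 218 .nil .nil) (.node 145 .nil .nil)) (.node 100 (.node 236 .nil .nil) (.node 159 .nil .nil))) (.node 55 (.node 166 (.node 15 .nil .nil) (.node 250 .nil .nil)) (.node 9 (.node 190 .nil .nil) .nil))) (.node 171 (.node 117 (.node 86 (.node 99 .nil .nil) (.node 188 .nil .nil)) (.node 188 (.node 184 .nil .nil) (.node 198 .nil .nil))) (.node 23 (.node 265 (.node 102 .nil .nil) (.node 173 .nil .nil)) (.node 242 (.node 95 .nil .nil) .nil)))) (.node 259 (.node 112 (.node 12 (.node 132 (.node 121 .nil .nil) (.node 248 .nil .nil)) (.node 261 (.node 227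 .nil .nil) (.node 92 .nil .nil))) (.node 139 (.node 209 (.node 221 .nil .nil) (.node 264 .nil .nil)) (.node 141 (.node 70 .nil .nil) .nil))) (.node 41 (.node 266 (.node 131 (.node 236 .nil .nil) (.node 36 .nil .nil)) (.node 228 (.node 156 .nil .nil) .nil)) (.node 23 (.node 208 (.node 217 .nil .nil) (.node 84 .nil .nil)) (.node 100 (.node 101 .nil .nil) .nil))))) (.node 187 (.node 256 (.node 288 (.node 29 (.node 69 (.node 262 .nil .nil) (.node 5 .nil .nil)) (.node 141 (.node 245 .nil .nil) (.node 259 .nil .nil))) (.node 49 (.node 217 (.node 60 .nil .nil) (.node 142 .nil .nil)) (.node 295 (.node 33 .nil .nil) .nil))) (.node 144 (.node 163 (.node 256 (.node 6 .nil .nil) (.node 233 .nil .nil)) (.node 143 (.node 220 .nil .nil) .nil)) (.node 191 (.node 85 (.node 66 .nil .nil) (.node 195 .nil .nil)) (.node 106 (.node 37 .nil .nil) .nil)))) (.node 75 (.node 69 (.node 226 (.node 100 (.node 90 .nil .nil) (.node 158 .nil .nil)) (.node 72 (.node 56 .nil .nil) (.node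 248 .nil .nil))) (.node 131 (.node 13 (.node 255 .nil .nil) (.node 33 .nil .nil)) (.node 84 (.node 143 .nil .nil) .nil))) (.node 201 (.node 5 (.node 226 (.node 18 .nil .nil) (.node 112 .nil .nil)) (.node 278 (.node 283 .nil .nil) .nil)) (.node 17 (.node 251 (.node 93 .nil .nil) (.node 271 .nil .nil)) (.node 26 (.node 59 .nil .nil) .nil)))))) (.node 199 (.node 102 (.node 265 (.node 240 (.node 272 (.node 274 (.node 45 .nil .nil) (.node 18 .nil .nil)) (.node 237 (.node 211 .nil .nil) (.node 33 .nil .nil))) (.node 262 (.node 45 (.node 291 .nil .nil) (.node 178 .nil .nil)) (.node 6 (.node 9 .nil .nil) .nil))) (.node 293 (.node 66 (.node 96 (.node 132 .nil .nil) (.node 141 .nil .nil)) (.node 129 (.node 152 .nil .nil) (.node 122 .nil .nil))) (.node 177 (.node 35 (.node 128 .nil .nil) (.node 233 .nil .nil)) (.node 6 (.node 52 .nil .nil) .nil)))) (.node 86 (.node 118 (.node 8 (.node 25 (.node 247 .nil .nil) (.node 268 .nil .nil)) (.node 38 (.node 134 .nil .nil)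 (.node 280 .nil .nil))) (.node 286 (.node 187 (.node 72 .nil .nil) (.node 98 .nil .nil)) (.node 279 (.node 105 .nil .nil) .nil))) (.node 56 (.node 260 (.node 90 (.node 88 .nil .nil) (.node 51 .nil .nil)) (.node 281 (.node 243 .nil .nil) .nil)) (.node 138 (.node 214 (.node 97 .nil .nil) (.node 107 .nil .nil)) (.node 48 (.node 242 .nil .nil) .nil))))) (.node 70 (.node 83 (.node 220 (.node 153 (.node 240 (.node 277 .nil .nil) (.node 64 .nil .nil)) (.node 16 (.node 229 .nil .nil) (.node 119 .nil .nil))) (.node 209 (.node 102 (.node 191 .nil .nil) (.node 116 .nil .nil)) (.node 48 (.node 96 .nil .nil) .nil))) (.node 24 (.node 10 (.node 180 (.node 169 .nil .nil) (.node 123 .nil .nil)) (.node 19 (.node 151 .nil .nil) .nil)) (.node 112 (.node 235 (.node 281 .nil .nil) (.node 236 .nil .nil)) (.node 56 (.node 91 .nil .nil) .nil)))) (.node 73 (.node 272 (.node 111 (.node 183 (.node 3 .nil .nil) (.node 87 .nil .nil)) (.node 53 (.node 38 .nil .nil) (.node 82 .nil .nil)))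 (.node 102 (.node 185 (.node 62 .nil .nil) (.node 261 .nil .nil)) (.node 154 (.node 66 .nil .nil) .nil))) (.node 3 (.node 31 (.node 221 (.node 115 .nil .nil) (.node 147 .nil .nil)) (.node 52 (.node 248 .nil .nil) .nil)) (.node 127 (.node 134 (.node 179 .nil .nil) (.node 45 .nil .nil)) (.node 109 (.node 39 .nil .nil) .nil))))))) (.node 30 (.node 263 (.node 85 (.node 6 (.node 146 (.node 162 (.node 144 (.node 14 .nil .nil) (.node 15 .nil .nil)) (.node 160 (.node 279 .nil .nil) (.node 136 .nil .nil))) (.node 252 (.node 265 (.node 143 .nil .nil) (.node 26 .nil .nil)) (.node 156 (.node 109 .nil .nil) .nil))) (.node 91 (.node 232 (.node 8 (.node 250 .nil .nil) (.node 226 .nil .nil)) (.node 172 (.node 51 .nil .nil) (.node 29 .nil .nil))) (.node 36 (.node 225 (.node 250 .nil .nil) (.node 150 .nil .nil)) (.node 96 (.node 138 .nil .nil) .nil)))) (.node 187 (.node 92 (.node 165 (.node 136 (.node 116 .nil .nil) (.node 119 .nil .nil)) (.node 273 (.node 174 .nil .nil)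 (.node 84 .nil .nil))) (.node 273 (.node 166 (.node 103 .nil .nil) (.node 160 .nil .nil)) (.node 144 (.node 181 .nil .nil) .nil))) (.node 120 (.node 62 (.node 70 (.node 129 .nil .nil) (.node 118 .nil .nil)) (.node 62 (.node 8 .nil .nil) .nil)) (.node 191 (.node 127 (.node 85 .nil .nil) (.node 118 .nil .nil)) (.node 277 (.node 253 .nil .nil) .nil))))) (.node 28 (.node 74 (.node 264 (.node 110 (.node 123 (.node 41 .nil .nil) (.node 106 .nil .nil)) (.node 273 (.node 216 .nil .nil) (.node 144 .nil .nil))) (.node 250 (.node 94 (.node 184 .nil .nil) (.node 28 .nil .nil)) (.node 26 (.node 212 .nil .nil) .nil))) (.node 10 (.node 292 (.node 60 (.node 11 .nil .nil) (.node 204 .nil .nil)) (.node 243 (.node 272 .nil .nil) .nil)) (.node 93 (.node 231 (.node 268 .nil .nil) (.node 154 .nil .nil)) (.node 269 (.node 138 .nil .nil) .nil)))) (.node 3 (.node 71 (.node 247 (.node 36 (.node 176 .nil .nil) (.node 144 .nil .nil)) (.node 61 (.node 194 .nil .nil) (.node 144 .nil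 .nil))) (.node 149 (.node 3 (.node 69 .nil .nil) (.node 49 .nil .nil)) (.node 184 (.node 232 .nil .nil) .nil))) (.node 203 (.node 50 (.node 226 (.node 273 .nil .nil) (.node 147 .nil .nil)) (.node 30 (.node 121 .nil .nil) .nil)) (.node 112 (.node 32 (.node 18 .nil .nil) (.node 43 .nil .nil)) (.node 260 (.node 157 .nil .nil) .nil)))))) (.node 140 (.node 217 (.node 211 (.node 247 (.node 269 (.node 185 (.node 64 .nil .nil) (.node 254 .nil .nil)) (.node 32 (.node 225 .nil .nil) (.node 92 .nil .nil))) (.node 161 (.node 77 (.node 246 .nil .nil) (.node 170 .nil .nil)) (.node 292 (.node 219 .nil .nil) .nil))) (.node 115 (.node 225 (.node 168 (.node 89 .nil .nil) (.node 104 .nil .nil)) (.node 155 (.node 54 .nil .nil) (.node 290 .nil .nil))) (.node 277 (.node 128 (.node 11 .nil .nil) (.node 21 .nil .nil)) (.node 267 (.node 224 .nil .nil) .nil)))) (.node 124 (.node 77 (.node 196 (.node 73 (.node 79 .nil .nil) (.node 160 .nil .nil)) (.node 238 (.node 137 .nil .nil)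 (.node 197 .nil .nil))) (.node 137 (.node 156 (.node 59 .nil .nil) (.node 83 .nil .nil)) (.node 282 (.node 117 .nil .nil) .nil))) (.node 41 (.node 126 (.node 101 (.node 289 .nil .nil) (.node 10 .nil .nil)) (.node 62 (.node 236 .nil .nil) .nil)) (.node 190 (.node 34 (.node 228 .nil .nil) (.node 267 .nil .nil)) (.node 22 (.node 129 .nil .nil) .nil))))) (.node 81 (.node 185 (.node 26 (.node 287 (.node 144 (.node 288 .nil .nil) (.node 197 .nil .nil)) (.node 246 (.node 236 .nil .nil) (.node 255 .nil .nil))) (.node 187 (.node 285 (.node 270 .nil .nil) (.node 157 .nil .nil)) (.node 200 (.node 47 .nil .nil) .nil))) (.node 183 (.node 227 (.node 287 (.node 291 .nil .nil) (.node 70 .nil .nil)) (.node 110 (.node 214 .nil .nil) .nil)) (.node 84 (.node 42 (.node 214 .nil .nil) (.node 101 .nil .nil)) (.node 254 (.node 133 .nil .nil) .nil)))) (.node 210 (.node 20 (.node 270 (.node 46 (.node 250 .nil .nil) (.node 203 .nil .nil)) (.node 187 (.node 14 .nil .nil) (.node 73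 .nil .nil))) (.node 87 (.node 106 (.node 51 .nil .nil) (.node 19 .nil .nil)) (.node 237 (.node 128 .nil .nil) .nil))) (.node 103 (.node 263 (.node 186 (.node 203 .nil .nil) (.node 113 .nil .nil)) (.node 43 (.node 201 .nil .nil) .nil)) (.node 245 (.node 157 (.node 277 .nil .nil) (.node 130 .nil .nil)) (.node 30 (.node 45 .nil .nil) .nil))))))))

/-- Part of `repOf`. -/
noncomputable def repOf_l_l_r_l_r : Arr ℕ :=
  (.node 238 (.node 57 (.node 133 (.node 280 (.node 249 (.node 118 (.node 227 (.node 120 (.node 37 .nil .nil) (.node 87 .nil .nil)) (.node 32 (.node 41 .nil .nil) (.node 128 .nil .nil))) (.node 104 (.node 95 (.node 219 .nil .nil) (.node 246 .nil .nil)) (.node 258 (.node 9 .nil .nil) .nil))) (.node 156 (.node 294 (.node 87 (.node 107 .nil .nil) (.node 123 .nil .nil)) (.node 85 (.node 129 .nil .nil) (.node 236 .nil .nil))) (.node 184 (.node 159 (.node 48 .nil .nil) (.node 69 .nil .nil)) (.node 4 (.node 94 .nil .nil) .nil)))) (.node 170 (.node 112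 (.node 178 (.node 242 (.node 138 .nil .nil) (.node 126 .nil .nil)) (.node 57 (.node 119 .nil .nil) (.node 248 .nil .nil))) (.node 116 (.node 116 (.node 198 .nil .nil) (.node 99 .nil .nil)) (.node 48 (.node 237 .nil .nil) .nil))) (.node 86 (.node 203 (.node 103 (.node 54 .nil .nil) (.node 151 .nil .nil)) (.node 20 (.node 166 .nil .nil) .nil)) (.node 142 (.node 77 (.node 65 .nil .nil) (.node 137 .nil .nil)) (.node 239 (.node 183 .nil .nil) .nil))))) (.node 174 (.node 210 (.node 245 (.node 26 (.node 289 (.node 110 .nil .nil) (.node 138 .nil .nil)) (.node 263 (.node 23 .nil .nil) (.node 158 .nil .nil))) (.node 199 (.node 64 (.node 195 .nil .nil) (.node 195 .nil .nil)) (.node 217 (.node 161 .nil .nil) .nil))) (.node 251 (.node 96 (.node 136 (.node 127 .nil .nil) (.node 216 .nil .nil)) (.node 104 (.node 18 .nil .nil) .nil)) (.node 290 (.node 206 (.node 19 .nil .nil) (.node 84 .nil .nil)) (.node 31 (.node 227 .nil .nil) .nil)))) (.node 140 (.node 229 (.node 45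 (.node 259 (.node 145 .nil .nil) (.node 59 .nil .nil)) (.node 172 (.node 121 .nil .nil) (.node 186 .nil .nil))) (.node 230 (.node 281 (.node 294 .nil .nil) (.node 60 .nil .nil)) (.node 36 (.node 128 .nil .nil) .nil))) (.node 176 (.node 226 (.node 114 (.node 33 .nil .nil) (.node 88 .nil .nil)) (.node 145 (.node 248 .nil .nil) .nil)) (.node 163 (.node 259 (.node 266 .nil .nil) (.node 271 .nil .nil)) (.node 62 (.node 171 .nil .nil) .nil)))))) (.node 162 (.node 279 (.node 54 (.node 112 (.node 229 (.node 103 (.node 250 .nil .nil) (.node 38 .nil .nil)) (.node 163 (.node 277 .nil .nil) (.node 165 .nil .nil))) (.node 282 (.node 99 (.node 260 .nil .nil) (.node 278 .nil .nil)) (.node 73 (.node 102 .nil .nil) .nil))) (.node 102 (.node 12 (.node 266 (.node 104 .nil .nil) (.node 221 .nil .nil)) (.node 94 (.node 182 .nil .nil) (.node 245 .nil .nil))) (.node 222 (.node 28 (.node 10 .nil .nil) (.node 242 .nil .nil)) (.node 73 (.node 34 .nil .nil) .nil)))) (.node 13 (.node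 125 (.node 32 (.node 249 (.node 85 .nil .nil) (.node 125 .nil .nil)) (.node 256 (.node 229 .nil .nil) (.node 150 .nil .nil))) (.node 182 (.node 190 (.node 200 .nil .nil) (.node 133 .nil .nil)) (.node 275 (.node 23 .nil .nil) .nil))) (.node 201 (.node 184 (.node 214 (.node 129 .nil .nil) (.node 39 .nil .nil)) (.node 198 (.node 54 .nil .nil) .nil)) (.node 281 (.node 94 (.node 114 .nil .nil) (.node 164 .nil .nil)) (.node 197 (.node 103 .nil .nil) .nil))))) (.node 187 (.node 170 (.node 279 (.node 6 (.node 123 (.node 129 .nil .nil) (.node 160 .nil .nil)) (.node 19 (.node 192 .nil .nil) (.node 232 .nil .nil))) (.node 24 (.node 25 (.node 125 .nil .nil) (.node 170 .nil .nil)) (.node 177 (.node 60 .nil .nil) .nil))) (.node 46 (.node 48 (.node 205 (.node 183 .nil .nil) (.node 197 .nil .nil)) (.node 271 (.node 170 .nil .nil) .nil)) (.node 75 (.node 57 (.node 13 .nil .nil) (.node 86 .nil .nil)) (.node 268 (.node 137 .nil .nil) .nil)))) (.node 282 (.node 261 (.node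 84 (.node 222 (.node 252 .nil .nil) (.node 100 .nil .nil)) (.node 205 (.node 155 .nil .nil) (.node 77 .nil .nil))) (.node 199 (.node 100 (.node 104 .nil .nil) (.node 1 .nil .nil)) (.node 61 (.node 22 .nil .nil) .nil))) (.node 232 (.node 278 (.node 248 (.node 87 .nil .nil) (.node 2 .nil .nil)) (.node 197 (.node 187 .nil .nil) .nil)) (.node 9 (.node 34 (.node 146 .nil .nil) (.node 140 .nil .nil)) (.node 284 (.node 204 .nil .nil) .nil))))))) (.node 270 (.node 30 (.node 227 (.node 235 (.node 243 (.node 23 (.node 265 (.node 100 .nil .nil) (.node 257 .nil .nil)) (.node 256 (.node 10 .nil .nil) (.node 228 .nil .nil))) (.node 165 (.node 80 (.node 228 .nil .nil) (.node 251 .nil .nil)) (.node 270 (.node 60 .nil .nil) .nil))) (.node 241 (.node 106 (.node 129 (.node 118 .nil .nil) (.node 184 .nil .nil)) (.node 1 (.node 184 .nil .nil) (.node 151 .nil .nil))) (.node 29 (.node 183 (.node 208 .nil .nil) (.node 136 .nil .nil)) (.node 28 (.node 192 .nil .nil) .nil)))) (.node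 137 (.node 73 (.node 295 (.node 23 (.node 120 .nil .nil) (.node 29 .nil .nil)) (.node 114 (.node 177 .nil .nil) (.node 237 .nil .nil))) (.node 25 (.node 209 (.node 100 .nil .nil) (.node 223 .nil .nil)) (.node 224 (.node 210 .nil .nil) .nil))) (.node 132 (.node 22 (.node 22 (.node 173 .nil .nil) (.node 66 .nil .nil)) (.node 216 (.node 115 .nil .nil) .nil)) (.node 294 (.node 161 (.node 137 .nil .nil) (.node 285 .nil .nil)) (.node 157 (.node 117 .nil .nil) .nil))))) (.node 241 (.node 220 (.node 258 (.node 72 (.node 209 (.node 63 .nil .nil) (.node 66 .nil .nil)) (.node 282 (.node 176 .nil .nil) (.node 278 .nil .nil))) (.node 198 (.node 274 (.node 279 .nil .nil) (.node 173 .nil .nil)) (.node 145 (.node 48 .nil .nil) .nil))) (.node 213 (.node 56 (.node 119 (.node 144 .nil .nil) (.node 14 .nil .nil)) (.node 80 (.node 6 .nil .nil) .nil)) (.node 247 (.node 28 (.node 187 .nil .nil) (.node 216 .nil .nil)) (.node 155 (.node 113 .nil .nil) .nil)))) (.node 138 (.node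 167 (.node 61 (.node 245 (.node 184 .nil .nil) (.node 163 .nil .nil)) (.node 104 (.node 11 .nil .nil) (.node 40 .nil .nil))) (.node 31 (.node 265 (.node 181 .nil .nil) (.node 277 .nil .nil)) (.node 272 (.node 209 .nil .nil) .nil))) (.node 83 (.node 59 (.node 233 (.node 17 .nil .nil) (.node 295 .nil .nil)) (.node 90 (.node 263 .nil .nil) .nil)) (.node 226 (.node 122 (.node 282 .nil .nil) (.node 115 .nil .nil)) (.node 288 (.node 183 .nil .nil) .nil)))))) (.node 116 (.node 30 (.node 197 (.node 59 (.node 232 (.node 278 (.node 1 .nil .nil) (.node 194 .nil .nil)) (.node 99 (.node 257 .nil .nil) (.node 261 .nil .nil))) (.node 50 (.node 192 (.node 57 .nil .nil) (.node 152 .nil .nil)) (.node 7 (.node 24 .nil .nil) .nil))) (.node 31 (.node 186 (.node 160 (.node 236 .nil .nil) (.node 116 .nil .nil)) (.node 98 (.node 131 .nil .nil) (.node 118 .nil .nil))) (.node 294 (.node 185 (.node 158 .nil .nil) (.node 191 .nil .nil)) (.node 135 (.node 212 .nil .nil) .nil)))) (.node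 160 (.node 166 (.node 263 (.node 146 (.node 32 .nil .nil) (.node 125 .nil .nil)) (.node 257 (.node 118 .nil .nil) (.node 279 .nil .nil))) (.node 10 (.node 80 (.node 210 .nil .nil) (.node 234 .nil .nil)) (.node 110 (.node 141 .nil .nil) .nil))) (.node 51 (.node 233 (.node 186 (.node 136 .nil .nil) (.node 4 .nil .nil)) (.node 265 (.node 184 .nil .nil) .nil)) (.node 144 (.node 131 (.node 112 .nil .nil) (.node 119 .nil .nil)) (.node 173 (.node 245 .nil .nil) .nil))))) (.node 160 (.node 166 (.node 246 (.node 69 (.node 135 (.node 94 .nil .nil) (.node 118 .nil .nil)) (.node 105 (.node 265 .nil .nil) (.node 187 .nil .nil))) (.node 169 (.node 286 (.node 32 .nil .nil) (.node 8 .nil .nil)) (.node 92 (.node 157 .nil .nil) .nil))) (.node 197 (.node 39 (.node 267 (.node 174 .nil .nil) (.node 83 .nil .nil)) (.node 183 (.node 117 .nil .nil) .nil)) (.node 197 (.node 36 (.node 117 .nil .nil) (.node 18 .nil .nil)) (.node 24 (.node 72 .nil .nil) .nil)))) (.node 14 (.node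 52 (.node 185 (.node 289 (.node 289 .nil .nil) (.node 52 .nil .nil)) (.node 156 (.node 138 .nil .nil) (.node 183 .nil .nil))) (.node 23 (.node 87 (.node 11 .nil .nil) (.node 101 .nil .nil)) (.node 288 (.node 236 .nil .nil) .nil))) (.node 67 (.node 156 (.node 105 (.node 23 .nil .nil) (.node 214 .nil .nil)) (.node 204 (.node 217 .nil .nil) .nil)) (.node 79 (.node 207 (.node 7 .nil .nil) (.node 237 .nil .nil)) (.node 93 (.node 157 .nil .nil) .nil))))))))

/-- Part of `repOf`. -/
noncomputable def repOf_l_l_r_l : Arr ℕ :=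
  .node 0 repOf_l_l_r_l_l repOf_l_l_r_l_r

/-- Part of `repOf`. -/
noncomputable def repOf_l_l_r_r_l : Arr ℕ :=
  (.node 118 (.node 123 (.node 28 (.node 15 (.node 26 (.node 267 (.node 270 (.node 191 (.node 58 .nil .nil) (.node 242 .nil .nil)) (.node 139 (.node 222 .nil .nil) (.node 6 .nil .nil))) (.node 130 (.node 270 (.node 199 .nil .nil) (.node 78 .nil .nil)) (.node 201 (.node 41 .nil .nil) .nil))) (.node 260 (.node 286 (.node 64 (.node 212 .nil .nil) (.node 59 .nil .nil)) (.node 123 (.node 82 .nil .nil) (.node 98 .nil .nil))) (.node 178 (.node 278 (.node 79 .nil .nil) (.node 55 .nil .nil)) (.node 255 (.node 42 .nil .nil) .nil)))) (.node 208 (.node 130 (.node 71 (.node 158 (.node 62 .nil .nil) (.node 266 .nil .nil)) (.node 3 (.node 245 .nil .nil) (.node 14 .nil .nil))) (.node 75 (.node 159 (.node 15 .nil .nil) (.node 288 .nil .nil)) (.node 146 (.node 187 .nil .nil) .nil))) (.node 279 (.node 32 (.node 294 (.node 284 .nil .nil) (.node 96 .nil .nil)) (.node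 261 (.node 15 .nil .nil) .nil)) (.node 262 (.node 40 (.node 190 .nil .nil) (.node 110 .nil .nil)) (.node 2 (.node 182 .nil .nil) .nil))))) (.node 229 (.node 261 (.node 238 (.node 171 (.node 72 (.node 274 .nil .nil) (.node 156 .nil .nil)) (.node 255 (.node 101 .nil .nil) (.node 115 .nil .nil))) (.node 234 (.node 37 (.node 252 .nil .nil) (.node 4 .nil .nil)) (.node 21 (.node 194 .nil .nil) .nil))) (.node 39 (.node 262 (.node 68 (.node 82 .nil .nil) (.node 235 .nil .nil)) (.node 237 (.node 181 .nil .nil) .nil)) (.node 246 (.node 112 (.node 70 .nil .nil) (.node 214 .nil .nil)) (.node 256 (.node 168 .nil .nil) .nil)))) (.node 169 (.node 8 (.node 80 (.node 19 (.node 63 .nil .nil) (.node 31 .nil .nil)) (.node 136 (.node 253 .nil .nil) (.node 113 .nil .nil))) (.node 198 (.node 233 (.node 147 .nil .nil) (.node 217 .nil .nil)) (.node 169 (.node 116 .nil .nil) .nil))) (.node 105 (.node 156 (.node 222 (.node 219 .nil .nil) (.node 186 .nil .nil)) (.node 245 (.node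 19 .nil .nil) .nil)) (.node 32 (.node 240 (.node 134 .nil .nil) (.node 64 .nil .nil)) (.node 138 (.node 220 .nil .nil) .nil)))))) (.node 288 (.node 100 (.node 139 (.node 50 (.node 23 (.node 124 (.node 27 .nil .nil) (.node 73 .nil .nil)) (.node 143 (.node 95 .nil .nil) (.node 97 .nil .nil))) (.node 286 (.node 207 (.node 8 .nil .nil) (.node 213 .nil .nil)) (.node 194 (.node 76 .nil .nil) .nil))) (.node 25 (.node 24 (.node 273 (.node 140 .nil .nil) (.node 185 .nil .nil)) (.node 60 (.node 61 .nil .nil) (.node 247 .nil .nil))) (.node 71 (.node 133 (.node 140 .nil .nil) (.node 203 .nil .nil)) (.node 208 (.node 245 .nil .nil) .nil)))) (.node 41 (.node 210 (.node 251 (.node 244 (.node 175 .nil .nil) (.node 17 .nil .nil)) (.node 135 (.node 220 .nil .nil) (.node 108 .nil .nil))) (.node 84 (.node 4 (.node 164 .nil .nil) (.node 168 .nil .nil)) (.node 220 (.node 127 .nil .nil) .nil))) (.node 188 (.node 33 (.node 145 (.node 247 .nil .nil) (.node 159 .nil .nil)) (.node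 87 (.node 106 .nil .nil) .nil)) (.node 222 (.node 106 (.node 97 .nil .nil) (.node 212 .nil .nil)) (.node 7 (.node 80 .nil .nil) .nil))))) (.node 126 (.node 83 (.node 51 (.node 27 (.node 240 (.node 166 .nil .nil) (.node 81 .nil .nil)) (.node 114 (.node 193 .nil .nil) (.node 290 .nil .nil))) (.node 228 (.node 58 (.node 8 .nil .nil) (.node 28 .nil .nil)) (.node 240 (.node 184 .nil .nil) .nil))) (.node 71 (.node 184 (.node 256 (.node 52 .nil .nil) (.node 116 .nil .nil)) (.node 155 (.node 96 .nil .nil) .nil)) (.node 57 (.node 118 (.node 69 .nil .nil) (.node 250 .nil .nil)) (.node 118 (.node 160 .nil .nil) .nil)))) (.node 65 (.node 196 (.node 12 (.node 244 (.node 112 .nil .nil) (.node 203 .nil .nil)) (.node 43 (.node 152 .nil .nil) (.node 248 .nil .nil))) (.node 30 (.node 287 (.node 220 .nil .nil) (.node 71 .nil .nil)) (.node 127 (.node 66 .nil .nil) .nil))) (.node 140 (.node 93 (.node 279 (.node 65 .nil .nil) (.node 230 .nil .nil)) (.node 115 (.node 290 .nil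 .nil) .nil)) (.node 101 (.node 270 (.node 199 .nil .nil) (.node 162 .nil .nil)) (.node 65 (.node 113 .nil .nil) .nil))))))) (.node 227 (.node 70 (.node 34 (.node 146 (.node 250 (.node 37 (.node 195 (.node 292 .nil .nil) (.node 254 .nil .nil)) (.node 135 (.node 2 .nil .nil) (.node 155 .nil .nil))) (.node 65 (.node 27 (.node 167 .nil .nil) (.node 263 .nil .nil)) (.node 253 (.node 257 .nil .nil) .nil))) (.node 274 (.node 206 (.node 109 (.node 218 .nil .nil) (.node 290 .nil .nil)) (.node 32 (.node 166 .nil .nil) (.node 184 .nil .nil))) (.node 39 (.node 179 (.node 177 .nil .nil) (.node 40 .nil .nil)) (.node 217 (.node 277 .nil .nil) .nil)))) (.node 202 (.node 33 (.node 7 (.node 225 (.node 94 .nil .nil) (.node 248 .nil .nil)) (.node 222 (.node 143 .nil .nil) (.node 117 .nil .nil))) (.node 88 (.node 270 (.node 79 .nil .nil) (.node 105 .nil .nil)) (.node 229 (.node 128 .nil .nil) .nil))) (.node 245 (.node 197 (.node 18 (.node 109 .nil .nil) (.node 201 .nil .nil))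 (.node 164 (.node 100 .nil .nil) .nil)) (.node 251 (.node 242 (.node 77 .nil .nil) (.node 192 .nil .nil)) (.node 129 (.node 168 .nil .nil) .nil))))) (.node 49 (.node 14 (.node 119 (.node 204 (.node 121 (.node 14 .nil .nil) (.node 130 .nil .nil)) (.node 232 (.node 240 .nil .nil) (.node 107 .nil .nil))) (.node 21 (.node 240 (.node 169 .nil .nil) (.node 84 .nil .nil)) (.node 47 (.node 99 .nil .nil) .nil))) (.node 48 (.node 119 (.node 202 (.node 152 .nil .nil) (.node 275 .nil .nil)) (.node 21 (.node 130 .nil .nil) .nil)) (.node 26 (.node 172 (.node 268 .nil .nil) (.node 243 .nil .nil)) (.node 140 (.node 180 .nil .nil) .nil)))) (.node 109 (.node 160 (.node 226 (.node 2 (.node 245 .nil .nil) (.node 188 .nil .nil)) (.node 112 (.node 137 .nil .nil) (.node 3 .nil .nil))) (.node 67 (.node 120 (.node 21 .nil .nil) (.node 294 .nil .nil)) (.node 58 (.node 270 .nil .nil) .nil))) (.node 150 (.node 14 (.node 181 (.node 58 .nil .nil) (.node 255 .nil .nil)) (.node 212 (.node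 21 .nil .nil) .nil)) (.node 181 (.node 6 (.node 155 .nil .nil) (.node 289 .nil .nil)) (.node 119 (.node 157 .nil .nil) .nil)))))) (.node 19 (.node 184 (.node 30 (.node 45 (.node 214 (.node 193 (.node 271 .nil .nil) (.node 67 .nil .nil)) (.node 71 (.node 93 .nil .nil) (.node 282 .nil .nil))) (.node 158 (.node 132 (.node 145 .nil .nil) (.node 230 .nil .nil)) (.node 206 (.node 107 .nil .nil) .nil))) (.node 283 (.node 266 (.node 248 (.node 122 .nil .nil) (.node 94 .nil .nil)) (.node 98 (.node 203 .nil .nil) (.node 123 .nil .nil))) (.node 137 (.node 96 (.node 244 .nil .nil) (.node 207 .nil .nil)) (.node 207 (.node 248 .nil .nil) .nil)))) (.node 197 (.node 177 (.node 76 (.node 282 (.node 124 .nil .nil) (.node 126 .nil .nil)) (.node 68 (.node 55 .nil .nil) (.node 201 .nil .nil))) (.node 235 (.node 199 (.node 83 .nil .nil) (.node 281 .nil .nil)) (.node 76 (.node 6 .nil .nil) .nil))) (.node 117 (.node 236 (.node 286 (.node 14 .nil .nil) (.node 291 .nil .nil)) (.node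 42 (.node 159 .nil .nil) .nil)) (.node 230 (.node 270 (.node 139 .nil .nil) (.node 148 .nil .nil)) (.node 233 (.node 218 .nil .nil) .nil))))) (.node 112 (.node 169 (.node 153 (.node 196 (.node 149 (.node 155 .nil .nil) (.node 107 .nil .nil)) (.node 55 (.node 165 .nil .nil) (.node 199 .nil .nil))) (.node 263 (.node 6 (.node 256 .nil .nil) (.node 58 .nil .nil)) (.node 174 (.node 82 .nil .nil) .nil))) (.node 256 (.node 123 (.node 256 (.node 151 .nil .nil) (.node 289 .nil .nil)) (.node 27 (.node 51 .nil .nil) .nil)) (.node 196 (.node 67 (.node 287 .nil .nil) (.node 164 .nil .nil)) (.node 67 (.node 35 .nil .nil) .nil)))) (.node 91 (.node 52 (.node 134 (.node 290 (.node 48 .nil .nil) (.node 206 .nil .nil)) (.node 212 (.node 268 .nil .nil) (.node 99 .nil .nil))) (.node 157 (.node 11 (.node 83 .nil .nil) (.node 215 .nil .nil)) (.node 232 (.node 155 .nil .nil) .nil))) (.node 37 (.node 248 (.node 74 (.node 25 .nil .nil) (.node 26 .nil .nil)) (.node 48 (.node 259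 .nil .nil) .nil)) (.node 215 (.node 281 (.node 212 .nil .nil) (.node 264 .nil .nil)) (.node 114 (.node 167 .nil .nil) .nil))))))))

/-- Part of `repOf`. -/
noncomputable def repOf_l_l_r_r_r : Arr ℕ :=
  (.node 144 (.node 270 (.node 172 (.node 285 (.node 159 (.node 288 (.node 123 (.node 94 (.node 14 .nil .nil) (.node 142 .nil .nil)) (.node 269 (.node 230 .nil .nil) (.node 67 .nil .nil))) (.node 221 (.node 85 (.node 45 .nil .nil) (.node 175 .nil .nil)) (.node 38 (.node 32 .nil .nil) .nil))) (.node 179 (.node 273 (.node 194 (.node 150 .nil .nil) (.node 118 .nil .nil)) (.node 285 (.node 73 .nil .nil) (.node 61 .nil .nil))) (.node 217 (.node 290 (.node 185 .nil .nil) (.node 168 .nil .nil)) (.node 230 (.node 134 .nil .nil) .nil)))) (.node 66 (.node 2 (.node 289 (.node 159 (.node 53 .nil .nil) (.node 19 .nil .nil)) (.node 193 (.node 12 .nil .nil) (.node 279 .nil .nil))) (.node 112 (.node 279 (.node 290 .nil .nil) (.node 45 .nil .nil)) (.node 19 (.node 53 .nil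 .nil) .nil))) (.node 13 (.node 216 (.node 34 (.node 142 .nil .nil) (.node 198 .nil .nil)) (.node 38 (.node 10 .nil .nil) .nil)) (.node 76 (.node 154 (.node 123 .nil .nil) (.node 262 .nil .nil)) (.node 133 (.node 24 .nil .nil) .nil))))) (.node 288 (.node 1 (.node 173 (.node 267 (.node 118 (.node 184 .nil .nil) (.node 216 .nil .nil)) (.node 107 (.node 265 .nil .nil) (.node 174 .nil .nil))) (.node 238 (.node 27 (.node 55 .nil .nil) (.node 226 .nil .nil)) (.node 28 (.node 28 .nil .nil) .nil))) (.node 292 (.node 170 (.node 133 (.node 232 .nil .nil) (.node 24 .nil .nil)) (.node 287 (.node 181 .nil .nil) .nil)) (.node 248 (.node 104 (.node 167 .nil .nil) (.node 221 .nil .nil)) (.node 289 (.node 134 .nil .nil) .nil)))) (.node 11 (.node 94 (.node 258 (.node 114 (.node 226 .nil .nil) (.node 190 .nil .nil)) (.node 133 (.node 154 .nil .nil) (.node 27 .nil .nil))) (.node 230 (.node 259 (.node 86 .nil .nil) (.node 90 .nil .nil)) (.node 48 (.node 165 .nil .nil) .nil)))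 (.node 287 (.node 112 (.node 189 (.node 168 .nil .nil) (.node 284 .nil .nil)) (.node 2 (.node 216 .nil .nil) .nil)) (.node 172 (.node 236 (.node 248 .nil .nil) (.node 89 .nil .nil)) (.node 132 (.node 2 .nil .nil) .nil)))))) (.node 80 (.node 189 (.node 114 (.node 81 (.node 140 (.node 39 (.node 235 .nil .nil) (.node 155 .nil .nil)) (.node 281 (.node 216 .nil .nil) (.node 203 .nil .nil))) (.node 214 (.node 266 (.node 173 .nil .nil) (.node 265 .nil .nil)) (.node 190 (.node 114 .nil .nil) .nil))) (.node 114 (.node 89 (.node 206 (.node 88 .nil .nil) (.node 221 .nil .nil)) (.node 201 (.node 261 .nil .nil) (.node 158 .nil .nil))) (.node 94 (.node 273 (.node 154 .nil .nil) (.node 58 .nil .nil)) (.node 257 (.node 150 .nil .nil) .nil)))) (.node 256 (.node 152 (.node 51 (.node 159 (.node 15 .nil .nil) (.node 246 .nil .nil)) (.node 40 (.node 178 .nil .nil) (.node 72 .nil .nil))) (.node 84 (.node 105 (.node 91 .nil .nil) (.node 160 .nil .nil)) (.node 263 (.node 274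 .nil .nil) .nil))) (.node 281 (.node 63 (.node 242 (.node 86 .nil .nil) (.node 21 .nil .nil)) (.node 55 (.node 104 .nil .nil) .nil)) (.node 65 (.node 59 (.node 106 .nil .nil) (.node 177 .nil .nil)) (.node 124 (.node 84 .nil .nil) .nil))))) (.node 189 (.node 246 (.node 166 (.node 101 (.node 53 (.node 250 .nil .nil) (.node 63 .nil .nil)) (.node 98 (.node 217 .nil .nil) (.node 167 .nil .nil))) (.node 126 (.node 258 (.node 8 .nil .nil) (.node 164 .nil .nil)) (.node 38 (.node 250 .nil .nil) .nil))) (.node 175 (.node 270 (.node 192 (.node 8 .nil .nil) (.node 106 .nil .nil)) (.node 10 (.node 221 .nil .nil) .nil)) (.node 1 (.node 107 (.node 158 .nil .nil) (.node 93 .nil .nil)) (.node 268 (.node 88 .nil .nil) .nil)))) (.node 250 (.node 262 (.node 17 (.node 219 (.node 85 .nil .nil) (.node 56 .nil .nil)) (.node 274 (.node 71 .nil .nil) (.node 170 .nil .nil))) (.node 122 (.node 154 (.node 104 .nil .nil) (.node 199 .nil .nil)) (.node 115 (.node 162 .nil .nil) .nil)))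 (.node 23 (.node 17 (.node 80 (.node 36 .nil .nil) (.node 43 .nil .nil)) (.node 232 (.node 274 .nil .nil) .nil)) (.node 2 (.node 122 (.node 60 .nil .nil) (.node 77 .nil .nil)) (.node 236 (.node 122 .nil .nil) .nil))))))) (.node 191 (.node 159 (.node 30 (.node 218 (.node 94 (.node 289 (.node 192 (.node 53 .nil .nil) (.node 72 .nil .nil)) (.node 69 (.node 284 .nil .nil) (.node 68 .nil .nil))) (.node 222 (.node 37 (.node 245 .nil .nil) (.node 183 .nil .nil)) (.node 209 (.node 3 .nil .nil) .nil))) (.node 23 (.node 81 (.node 249 (.node 235 .nil .nil) (.node 100 .nil .nil)) (.node 176 (.node 100 .nil .nil) (.node 25 .nil .nil))) (.node 113 (.node 136 (.node 214 .nil .nil) (.node 87 .nil .nil)) (.node 167 (.node 213 .nil .nil) .nil)))) (.node 276 (.node 235 (.node 145 (.node 235 (.node 258 .nil .nil) (.node 290 .nil .nil)) (.node 117 (.node 236 .nil .nil) (.node 227 .nil .nil))) (.node 102 (.node 102 (.node 32 .nil .nil) (.node 91 .nil .nil)) (.node 105 (.node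 101 .nil .nil) .nil))) (.node 206 (.node 160 (.node 54 (.node 80 .nil .nil) (.node 68 .nil .nil)) (.node 220 (.node 148 .nil .nil) .nil)) (.node 79 (.node 174 (.node 128 .nil .nil) (.node 278 .nil .nil)) (.node 92 (.node 117 .nil .nil) .nil))))) (.node 53 (.node 255 (.node 272 (.node 269 (.node 91 (.node 15 .nil .nil) (.node 139 .nil .nil)) (.node 152 (.node 242 .nil .nil) (.node 25 .nil .nil))) (.node 283 (.node 114 (.node 271 .nil .nil) (.node 210 .nil .nil)) (.node 250 (.node 218 .nil .nil) .nil))) (.node 165 (.node 219 (.node 22 (.node 34 .nil .nil) (.node 278 .nil .nil)) (.node 168 (.node 52 .nil .nil) .nil)) (.node 263 (.node 244 (.node 274 .nil .nil) (.node 123 .nil .nil)) (.node 271 (.node 172 .nil .nil) .nil)))) (.node 239 (.node 45 (.node 268 (.node 279 (.node 211 .nil .nil) (.node 99 .nil .nil)) (.node 114 (.node 199 .nil .nil) (.node 28 .nil .nil))) (.node 52 (.node 103 (.node 120 .nil .nil) (.node 287 .nil .nil)) (.node 250 (.node 293 .nil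 .nil) .nil))) (.node 11 (.node 45 (.node 206 (.node 171 .nil .nil) (.node 41 .nil .nil)) (.node 279 (.node 261 .nil .nil) .nil)) (.node 221 (.node 54 (.node 179 .nil .nil) (.node 136 .nil .nil)) (.node 122 (.node 24 .nil .nil) .nil)))))) (.node 126 (.node 19 (.node 180 (.node 282 (.node 187 (.node 87 (.node 117 .nil .nil) (.node 11 .nil .nil)) (.node 236 (.node 173 .nil .nil) (.node 130 .nil .nil))) (.node 196 (.node 203 (.node 50 .nil .nil) (.node 45 .nil .nil)) (.node 278 (.node 269 .nil .nil) .nil))) (.node 52 (.node 176 (.node 256 (.node 271 .nil .nil) (.node 112 .nil .nil)) (.node 215 (.node 291 .nil .nil) (.node 37 .nil .nil))) (.node 188 (.node 131 (.node 211 .nil .nil) (.node 149 .nil .nil)) (.node 84 (.node 166 .nil .nil) .nil)))) (.node 265 (.node 208 (.node 53 (.node 153 (.node 111 .nil .nil) (.node 12 .nil .nil)) (.node 270 (.node 159 .nil .nil) (.node 34 .nil .nil))) (.node 175 (.node 49 (.node 20 .nil .nil) (.node 140 .nil .nil)) (.node 234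 (.node 27 .nil .nil) .nil))) (.node 83 (.node 41 (.node 81 (.node 144 .nil .nil) (.node 149 .nil .nil)) (.node 198 (.node 31 .nil .nil) .nil)) (.node 19 (.node 250 (.node 112 .nil .nil) (.node 272 .nil .nil)) (.node 8 (.node 271 .nil .nil) .nil))))) (.node 135 (.node 128 (.node 61 (.node 288 (.node 79 (.node 83 .nil .nil) (.node 82 .nil .nil)) (.node 42 (.node 15 .nil .nil) (.node 253 .nil .nil))) (.node 280 (.node 34 (.node 218 .nil .nil) (.node 108 .nil .nil)) (.node 214 (.node 242 .nil .nil) .nil))) (.node 135 (.node 128 (.node 223 (.node 210 .nil .nil) (.node 274 .nil .nil)) (.node 32 (.node 78 .nil .nil) .nil)) (.node 197 (.node 217 (.node 279 .nil .nil) (.node 33 .nil .nil)) (.node 140 (.node 174 .nil .nil) .nil)))) (.node 160 (.node 245 (.node 210 (.node 48 (.node 169 .nil .nil) (.node 240 .nil .nil)) (.node 155 (.node 245 .nil .nil) (.node 5 .nil .nil))) (.node 233 (.node 38 (.node 7 .nil .nil) (.node 282 .nil .nil)) (.node 80 (.node 184 .nil .nil)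 .nil))) (.node 184 (.node 35 (.node 166 (.node 40 .nil .nil) (.node 108 .nil .nil)) (.node 179 (.node 24 .nil .nil) .nil)) (.node 267 (.node 53 (.node 54 .nil .nil) (.node 185 .nil .nil)) (.node 249 (.node 95 .nil .nil) .nil))))))))

/-- Part of `repOf`. -/
noncomputable def repOf_l_l_r_r : Arr ℕ :=
  .node 199 repOf_l_l_r_r_l repOf_l_l_r_r_r

/-- Part of `repOf`. -/
noncomputable def repOf_l_l_r : Arr ℕ :=
  .node 0 repOf_l_l_r_l repOf_l_l_r_r

/-- Part of `repOf`. -/
noncomputable def repOf_l_l : Arr ℕ :=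
  .node 0 repOf_l_l_l repOf_l_l_r

/-- Part of `repOf`. -/
noncomputable def repOf_l_r_l_l_l : Arr ℕ :=
  (.node 73 (.node 95 (.node 13 (.node 102 (.node 79 (.node 135 (.node 238 (.node 160 (.node 288 .nil .nil) (.node 269 .nil .nil)) (.node 126 (.node 160 .nil .nil) (.node 218 .nil .nil))) (.node 273 (.node 174 (.node 250 .nil .nil) (.node 58 .nil .nil)) (.node 260 (.node 56 .nil .nil) .nil))) (.node 201 (.node 110 (.node 140 (.node 25 .nil .nil) (.node 292 .nil .nil)) (.node 251 (.node 186 .nil .nil) (.node 249 .nil .nil))) (.node 241 (.node 171 (.node 102 .nil .nil) (.node 103 .nil .nil)) (.node 2 (.node 11 .nil .nil) .nil)))) (.node 285 (.node 106 (.node 71 (.node 175 (.node 117 .nil .nil) (.node 22 .nil .nil)) (.node 201 (.node 250 .nil .nil) (.node 234 .nil .nil))) (.node 32 (.node 33 (.node 164 .nil .nil) (.node 151 .nil .nil)) (.node 63 (.node 187 .nil .nil) .nil))) (.node 124 (.node 40 (.node 265 (.node 243 .nil .nil) (.node 170 .nil .nil)) (.node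 237 (.node 271 .nil .nil) .nil)) (.node 197 (.node 132 (.node 260 .nil .nil) (.node 32 .nil .nil)) (.node 113 (.node 16 .nil .nil) .nil))))) (.node 115 (.node 46 (.node 65 (.node 78 (.node 71 (.node 286 .nil .nil) (.node 177 .nil .nil)) (.node 73 (.node 13 .nil .nil) (.node 177 .nil .nil))) (.node 242 (.node 195 (.node 51 .nil .nil) (.node 75 .nil .nil)) (.node 7 (.node 274 .nil .nil) .nil))) (.node 169 (.node 1 (.node 135 (.node 282 .nil .nil) (.node 235 .nil .nil)) (.node 136 (.node 246 .nil .nil) .nil)) (.node 54 (.node 169 (.node 115 .nil .nil) (.node 99 .nil .nil)) (.node 239 (.node 255 .nil .nil) .nil)))) (.node 270 (.node 57 (.node 229 (.node 115 (.node 193 .nil .nil) (.node 158 .nil .nil)) (.node 72 (.node 267 .nil .nil) (.node 214 .nil .nil))) (.node 57 (.node 171 (.node 125 .nil .nil) (.node 147 .nil .nil)) (.node 105 (.node 34 .nil .nil) .nil))) (.node 157 (.node 215 (.node 38 (.node 19 .nil .nil) (.node 273 .nil .nil)) (.node 7 (.node 244 .nil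 .nil) .nil)) (.node 229 (.node 85 (.node 226 .nil .nil) (.node 90 .nil .nil)) (.node 246 (.node 45 .nil .nil) .nil)))))) (.node 26 (.node 114 (.node 17 (.node 209 (.node 71 (.node 213 (.node 143 .nil .nil) (.node 194 .nil .nil)) (.node 41 (.node 110 .nil .nil) (.node 286 .nil .nil))) (.node 110 (.node 264 (.node 57 .nil .nil) (.node 137 .nil .nil)) (.node 129 (.node 113 .nil .nil) .nil))) (.node 25 (.node 139 (.node 285 (.node 54 .nil .nil) (.node 235 .nil .nil)) (.node 270 (.node 268 .nil .nil) (.node 248 .nil .nil))) (.node 32 (.node 9 (.node 273 .nil .nil) (.node 215 .nil .nil)) (.node 83 (.node 228 .nil .nil) .nil)))) (.node 78 (.node 208 (.node 281 (.node 233 (.node 45 .nil .nil) (.node 60 .nil .nil)) (.node 276 (.node 165 .nil .nil) (.node 144 .nil .nil))) (.node 125 (.node 263 (.node 218 .nil .nil) (.node 220 .nil .nil)) (.node 140 (.node 186 .nil .nil) .nil))) (.node 79 (.node 245 (.node 159 (.node 102 .nil .nil) (.node 172 .nil .nil)) (.node 157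 (.node 226 .nil .nil) .nil)) (.node 284 (.node 174 (.node 162 .nil .nil) (.node 7 .nil .nil)) (.node 36 (.node 196 .nil .nil) .nil))))) (.node 170 (.node 157 (.node 234 (.node 126 (.node 94 (.node 53 .nil .nil) (.node 64 .nil .nil)) (.node 38 (.node 90 .nil .nil) (.node 37 .nil .nil))) (.node 32 (.node 19 (.node 10 .nil .nil) (.node 170 .nil .nil)) (.node 98 (.node 171 .nil .nil) .nil))) (.node 57 (.node 170 (.node 147 (.node 123 .nil .nil) (.node 133 .nil .nil)) (.node 127 (.node 111 .nil .nil) .nil)) (.node 1 (.node 249 (.node 287 .nil .nil) (.node 111 .nil .nil)) (.node 167 (.node 165 .nil .nil) .nil)))) (.node 15 (.node 255 (.node 237 (.node 89 (.node 157 .nil .nil) (.node 106 .nil .nil)) (.node 153 (.node 106 .nil .nil) (.node 265 .nil .nil))) (.node 182 (.node 131 (.node 132 .nil .nil) (.node 142 .nil .nil)) (.node 21 (.node 281 .nil .nil) .nil))) (.node 255 (.node 182 (.node 92 (.node 234 .nil .nil) (.node 149 .nil .nil)) (.node 191 (.node 203 .nil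 .nil) .nil)) (.node 275 (.node 95 (.node 179 .nil .nil) (.node 122 .nil .nil)) (.node 199 (.node 172 .nil .nil) .nil))))))) (.node 289 (.node 66 (.node 251 (.node 230 (.node 161 (.node 290 (.node 17 (.node 45 .nil .nil) (.node 177 .nil .nil)) (.node 147 (.node 172 .nil .nil) (.node 195 .nil .nil))) (.node 205 (.node 188 (.node 199 .nil .nil) (.node 73 .nil .nil)) (.node 244 (.node 138 .nil .nil) .nil))) (.node 91 (.node 96 (.node 122 (.node 222 .nil .nil) (.node 136 .nil .nil)) (.node 79 (.node 20 .nil .nil) (.node 196 .nil .nil))) (.node 63 (.node 200 (.node 158 .nil .nil) (.node 83 .nil .nil)) (.node 146 (.node 254 .nil .nil) .nil)))) (.node 207 (.node 233 (.node 122 (.node 73 (.node 263 .nil .nil) (.node 119 .nil .nil)) (.node 129 (.node 139 .nil .nil) (.node 55 .nil .nil))) (.node 128 (.node 119 (.node 165 .nil .nil) (.node 267 .nil .nil)) (.node 1 (.node 1 .nil .nil) .nil))) (.node 111 (.node 62 (.node 147 (.node 73 .nil .nil) (.node 109 .nil .nil))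 (.node 203 (.node 191 .nil .nil) .nil)) (.node 20 (.node 80 (.node 172 .nil .nil) (.node 197 .nil .nil)) (.node 121 (.node 77 .nil .nil) .nil))))) (.node 29 (.node 38 (.node 62 (.node 119 (.node 20 (.node 171 .nil .nil) (.node 50 .nil .nil)) (.node 142 (.node 71 .nil .nil) (.node 118 .nil .nil))) (.node 82 (.node 254 (.node 291 .nil .nil) (.node 119 .nil .nil)) (.node 145 (.node 124 .nil .nil) .nil))) (.node 55 (.node 48 (.node 46 (.node 114 .nil .nil) (.node 18 .nil .nil)) (.node 113 (.node 266 .nil .nil) .nil)) (.node 248 (.node 113 (.node 214 .nil .nil) (.node 258 .nil .nil)) (.node 7 (.node 283 .nil .nil) .nil)))) (.node 61 (.node 243 (.node 272 (.node 11 (.node 210 .nil .nil) (.node 39 .nil .nil)) (.node 226 (.node 89 .nil .nil) (.node 202 .nil .nil))) (.node 215 (.node 89 (.node 90 .nil .nil) (.node 39 .nil .nil)) (.node 60 (.node 9 .nil .nil) .nil))) (.node 33 (.node 112 (.node 50 (.node 252 .nil .nil) (.node 35 .nil .nil)) (.node 276 (.node 62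 .nil .nil) .nil)) (.node 285 (.node 280 (.node 272 .nil .nil) (.node 116 .nil .nil)) (.node 252 (.node 220 .nil .nil) .nil)))))) (.node 242 (.node 156 (.node 44 (.node 225 (.node 80 (.node 227 (.node 90 .nil .nil) (.node 135 .nil .nil)) (.node 88 (.node 17 .nil .nil) (.node 247 .nil .nil))) (.node 214 (.node 40 (.node 132 .nil .nil) (.node 61 .nil .nil)) (.node 267 (.node 197 .nil .nil) .nil))) (.node 44 (.node 128 (.node 216 (.node 280 .nil .nil) (.node 14 .nil .nil)) (.node 208 (.node 199 .nil .nil) (.node 237 .nil .nil))) (.node 117 (.node 15 (.node 54 .nil .nil) (.node 3 .nil .nil)) (.node 42 (.node 86 .nil .nil) .nil)))) (.node 147 (.node 117 (.node 110 (.node 190 (.node 79 .nil .nil) (.node 210 .nil .nil)) (.node 48 (.node 63 .nil .nil) (.node 167 .nil .nil))) (.node 227 (.node 48 (.node 217 .nil .nil) (.node 161 .nil .nil)) (.node 262 (.node 194 .nil .nil) .nil))) (.node 2 (.node 222 (.node 111 (.node 105 .nil .nil) (.node 131 .nil .nil)) (.node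 283 (.node 196 .nil .nil) .nil)) (.node 159 (.node 188 (.node 286 .nil .nil) (.node 206 .nil .nil)) (.node 124 (.node 159 .nil .nil) .nil))))) (.node 81 (.node 7 (.node 145 (.node 186 (.node 159 (.node 159 .nil .nil) (.node 96 .nil .nil)) (.node 271 (.node 99 .nil .nil) (.node 272 .nil .nil))) (.node 58 (.node 1 (.node 95 .nil .nil) (.node 60 .nil .nil)) (.node 117 (.node 209 .nil .nil) .nil))) (.node 204 (.node 17 (.node 240 (.node 125 .nil .nil) (.node 251 .nil .nil)) (.node 154 (.node 167 .nil .nil) .nil)) (.node 210 (.node 273 (.node 92 .nil .nil) (.node 290 .nil .nil)) (.node 139 (.node 39 .nil .nil) .nil)))) (.node 99 (.node 142 (.node 251 (.node 202 (.node 98 .nil .nil) (.node 242 .nil .nil)) (.node 124 (.node 99 .nil .nil) (.node 44 .nil .nil))) (.node 128 (.node 7 (.node 137 .nil .nil) (.node 193 .nil .nil)) (.node 134 (.node 188 .nil .nil) .nil))) (.node 23 (.node 25 (.node 287 (.node 54 .nil .nil) (.node 171 .nil .nil)) (.node 175 (.node 3 .nil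 .nil) .nil)) (.node 271 (.node 87 (.node 95 .nil .nil) (.node 212 .nil .nil)) (.node 88 (.node 59 .nil .nil) .nil))))))))

/-- Part of `repOf`. -/
noncomputable def repOf_l_r_l_l_r : Arr ℕ :=
  (.node 6 (.node 193 (.node 39 (.node 177 (.node 199 (.node 199 (.node 103 (.node 159 (.node 284 .nil .nil) (.node 45 .nil .nil)) (.node 254 (.node 237 .nil .nil) (.node 215 .nil .nil))) (.node 130 (.node 227 (.node 167 .nil .nil) (.node 26 .nil .nil)) (.node 159 (.node 221 .nil .nil) .nil))) (.node 86 (.node 40 (.node 228 (.node 89 .nil .nil) (.node 53 .nil .nil)) (.node 34 (.node 288 .nil .nil) (.node 71 .nil .nil))) (.node 40 (.node 5 (.node 253 .nil .nil) (.node 115 .nil .nil)) (.node 230 (.node 31 .nil .nil) .nil)))) (.node 93 (.node 81 (.node 63 (.node 48 (.node 164 .nil .nil) (.node 66 .nil .nil)) (.node 275 (.node 120 .nil .nil) (.node 55 .nil .nil))) (.node 116 (.node 20 (.node 240 .nil .nil) (.node 222 .nil .nil)) (.node 217 (.node 172 .nil .nil) .nil)))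 (.node 201 (.node 164 (.node 134 (.node 36 .nil .nil) (.node 40 .nil .nil)) (.node 152 (.node 232 .nil .nil) .nil)) (.node 282 (.node 280 (.node 6 .nil .nil) (.node 295 .nil .nil)) (.node 159 (.node 84 .nil .nil) .nil))))) (.node 87 (.node 51 (.node 244 (.node 261 (.node 194 (.node 287 .nil .nil) (.node 164 .nil .nil)) (.node 77 (.node 101 .nil .nil) (.node 150 .nil .nil))) (.node 159 (.node 126 (.node 14 .nil .nil) (.node 85 .nil .nil)) (.node 55 (.node 121 .nil .nil) .nil))) (.node 202 (.node 28 (.node 76 (.node 37 .nil .nil) (.node 26 .nil .nil)) (.node 154 (.node 266 .nil .nil) .nil)) (.node 230 (.node 189 (.node 56 .nil .nil) (.node 186 .nil .nil)) (.node 279 (.node 188 .nil .nil) .nil)))) (.node 10 (.node 278 (.node 234 (.node 142 (.node 194 .nil .nil) (.node 140 .nil .nil)) (.node 49 (.node 291 .nil .nil) (.node 138 .nil .nil))) (.node 237 (.node 217 (.node 225 .nil .nil) (.node 210 .nil .nil)) (.node 21 (.node 136 .nil .nil) .nil))) (.node 142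 (.node 106 (.node 5 (.node 99 .nil .nil) (.node 247 .nil .nil)) (.node 7 (.node 243 .nil .nil) .nil)) (.node 88 (.node 77 (.node 163 .nil .nil) (.node 215 .nil .nil)) (.node 164 (.node 41 .nil .nil) .nil)))))) (.node 111 (.node 170 (.node 195 (.node 205 (.node 87 (.node 205 (.node 199 .nil .nil) (.node 133 .nil .nil)) (.node 15 (.node 201 .nil .nil) (.node 162 .nil .nil))) (.node 38 (.node 249 (.node 111 .nil .nil) (.node 38 .nil .nil)) (.node 126 (.node 126 .nil .nil) .nil))) (.node 207 (.node 209 (.node 294 (.node 243 .nil .nil) (.node 113 .nil .nil)) (.node 211 (.node 1 .nil .nil) (.node 72 .nil .nil))) (.node 41 (.node 113 (.node 242 .nil .nil) (.node 58 .nil .nil)) (.node 192 (.node 114 .nil .nil) .nil)))) (.node 2 (.node 262 (.node 71 (.node 146 (.node 183 .nil .nil) (.node 231 .nil .nil)) (.node 139 (.node 272 .nil .nil) (.node 7 .nil .nil))) (.node 210 (.node 246 (.node 216 .nil .nil) (.node 274 .nil .nil)) (.node 144 (.node 162 .nil .nil) .nil)))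 (.node 78 (.node 186 (.node 61 (.node 187 .nil .nil) (.node 76 .nil .nil)) (.node 16 (.node 1 .nil .nil) .nil)) (.node 25 (.node 210 (.node 34 .nil .nil) (.node 176 .nil .nil)) (.node 291 (.node 185 .nil .nil) .nil))))) (.node 116 (.node 25 (.node 2 (.node 82 (.node 20 (.node 65 .nil .nil) (.node 210 .nil .nil)) (.node 93 (.node 203 .nil .nil) (.node 238 .nil .nil))) (.node 237 (.node 80 (.node 291 .nil .nil) (.node 153 .nil .nil)) (.node 244 (.node 40 .nil .nil) .nil))) (.node 43 (.node 28 (.node 221 (.node 150 .nil .nil) (.node 142 .nil .nil)) (.node 109 (.node 212 .nil .nil) .nil)) (.node 275 (.node 82 (.node 215 .nil .nil) (.node 35 .nil .nil)) (.node 93 (.node 259 .nil .nil) .nil)))) (.node 199 (.node 16 (.node 105 (.node 183 (.node 50 .nil .nil) (.node 100 .nil .nil)) (.node 221 (.node 188 .nil .nil) (.node 289 .nil .nil))) (.node 70 (.node 140 (.node 180 .nil .nil) (.node 6 .nil .nil)) (.node 140 (.node 249 .nil .nil) .nil))) (.node 111 (.node 160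 (.node 105 (.node 232 .nil .nil) (.node 239 .nil .nil)) (.node 82 (.node 52 .nil .nil) .nil)) (.node 232 (.node 75 (.node 161 .nil .nil) (.node 66 .nil .nil)) (.node 14 (.node 272 .nil .nil) .nil))))))) (.node 54 (.node 93 (.node 131 (.node 250 (.node 274 (.node 103 (.node 169 (.node 170 .nil .nil) (.node 204 .nil .nil)) (.node 223 (.node 11 .nil .nil) (.node 193 .nil .nil))) (.node 91 (.node 72 (.node 252 .nil .nil) (.node 48 .nil .nil)) (.node 209 (.node 211 .nil .nil) .nil))) (.node 254 (.node 130 (.node 238 (.node 161 .nil .nil) (.node 200 .nil .nil)) (.node 118 (.node 222 .nil .nil) (.node 130 .nil .nil))) (.node 49 (.node 18 (.node 168 .nil .nil) (.node 259 .nil .nil)) (.node 213 (.node 240 .nil .nil) .nil)))) (.node 50 (.node 159 (.node 162 (.node 5 (.node 202 .nil .nil) (.node 83 .nil .nil)) (.node 124 (.node 167 .nil .nil) (.node 232 .nil .nil))) (.node 284 (.node 130 (.node 188 .nil .nil) (.node 46 .nil .nil)) (.node 190 (.node 75 .nil .nil)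 .nil))) (.node 264 (.node 149 (.node 143 (.node 49 .nil .nil) (.node 281 .nil .nil)) (.node 268 (.node 170 .nil .nil) .nil)) (.node 144 (.node 108 (.node 273 .nil .nil) (.node 119 .nil .nil)) (.node 134 (.node 195 .nil .nil) .nil))))) (.node 49 (.node 167 (.node 14 (.node 214 (.node 257 (.node 99 .nil .nil) (.node 74 .nil .nil)) (.node 287 (.node 151 .nil .nil) (.node 249 .nil .nil))) (.node 203 (.node 35 (.node 156 .nil .nil) (.node 249 .nil .nil)) (.node 10 (.node 83 .nil .nil) .nil))) (.node 63 (.node 46 (.node 277 (.node 254 .nil .nil) (.node 94 .nil .nil)) (.node 3 (.node 126 .nil .nil) .nil)) (.node 171 (.node 39 (.node 287 .nil .nil) (.node 164 .nil .nil)) (.node 127 (.node 133 .nil .nil) .nil)))) (.node 118 (.node 234 (.node 19 (.node 156 (.node 260 .nil .nil) (.node 65 .nil .nil)) (.node 181 (.node 202 .nil .nil) (.node 224 .nil .nil))) (.node 183 (.node 227 (.node 76 .nil .nil) (.node 25 .nil .nil)) (.node 89 (.node 270 .nil .nil) .nil))) (.node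 195 (.node 59 (.node 142 (.node 213 .nil .nil) (.node 102 .nil .nil)) (.node 210 (.node 263 .nil .nil) .nil)) (.node 106 (.node 236 (.node 230 .nil .nil) (.node 172 .nil .nil)) (.node 165 (.node 254 .nil .nil) .nil)))))) (.node 292 (.node 126 (.node 148 (.node 234 (.node 3 (.node 229 (.node 169 .nil .nil) (.node 117 .nil .nil)) (.node 90 (.node 37 .nil .nil) (.node 11 .nil .nil))) (.node 268 (.node 83 (.node 291 .nil .nil) (.node 143 .nil .nil)) (.node 278 (.node 286 .nil .nil) .nil))) (.node 222 (.node 285 (.node 197 (.node 286 .nil .nil) (.node 14 .nil .nil)) (.node 208 (.node 291 .nil .nil) (.node 45 .nil .nil))) (.node 169 (.node 54 (.node 89 .nil .nil) (.node 127 .nil .nil)) (.node 217 (.node 199 .nil .nil) .nil)))) (.node 267 (.node 132 (.node 262 (.node 288 (.node 178 .nil .nil) (.node 35 .nil .nil)) (.node 166 (.node 138 .nil .nil) (.node 257 .nil .nil))) (.node 246 (.node 173 (.node 117 .nil .nil) (.node 295 .nil .nil)) (.node 84 (.node 235 .nil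 .nil) .nil))) (.node 94 (.node 182 (.node 152 (.node 58 .nil .nil) (.node 294 .nil .nil)) (.node 119 (.node 81 .nil .nil) .nil)) (.node 260 (.node 123 (.node 226 .nil .nil) (.node 132 .nil .nil)) (.node 33 (.node 2 .nil .nil) .nil))))) (.node 124 (.node 156 (.node 231 (.node 165 (.node 256 (.node 95 .nil .nil) (.node 30 .nil .nil)) (.node 224 (.node 243 .nil .nil) (.node 49 .nil .nil))) (.node 286 (.node 76 (.node 95 .nil .nil) (.node 175 .nil .nil)) (.node 161 (.node 134 .nil .nil) .nil))) (.node 256 (.node 144 (.node 223 (.node 87 .nil .nil) (.node 95 .nil .nil)) (.node 84 (.node 176 .nil .nil) .nil)) (.node 125 (.node 292 (.node 152 .nil .nil) (.node 18 .nil .nil)) (.node 276 (.node 166 .nil .nil) .nil)))) (.node 71 (.node 228 (.node 202 (.node 46 (.node 185 .nil .nil) (.node 287 .nil .nil)) (.node 182 (.node 216 .nil .nil) (.node 271 .nil .nil))) (.node 235 (.node 219 (.node 114 .nil .nil) (.node 117 .nil .nil)) (.node 173 (.node 54 .nil .nil) .nil)))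 (.node 36 (.node 226 (.node 110 (.node 241 .nil .nil) (.node 215 .nil .nil)) (.node 265 (.node 290 .nil .nil) .nil)) (.node 124 (.node 19 (.node 203 .nil .nil) (.node 82 .nil .nil)) (.node 175 (.node 50 .nil .nil) .nil))))))))

/-- Part of `repOf`. -/
noncomputable def repOf_l_r_l_l : Arr ℕ :=
  .node 0 repOf_l_r_l_l_l repOf_l_r_l_l_r

/-- Part of `repOf`. -/
noncomputable def repOf_l_r_l_r_l : Arr ℕ :=
  (.node 235 (.node 265 (.node 35 (.node 77 (.node 118 (.node 148 (.node 251 (.node 224 (.node 3 .nil .nil) (.node 154 .nil .nil)) (.node 24 (.node 182 .nil .nil) (.node 1 .nil .nil))) (.node 7 (.node 72 (.node 11 .nil .nil) (.node 69 .nil .nil)) (.node 259 (.node 188 .nil .nil) .nil))) (.node 233 (.node 163 (.node 169 (.node 36 .nil .nil) (.node 206 .nil .nil)) (.node 169 (.node 86 .nil .nil) (.node 154 .nil .nil))) (.node 233 (.node 127 (.node 140 .nil .nil) (.node 216 .nil .nil)) (.node 193 (.node 77 .nil .nil) .nil)))) (.node 181 (.node 221 (.node 178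 (.node 198 (.node 18 .nil .nil) (.node 19 .nil .nil)) (.node 89 (.node 252 .nil .nil) (.node 116 .nil .nil))) (.node 234 (.node 285 (.node 242 .nil .nil) (.node 241 .nil .nil)) (.node 68 (.node 247 .nil .nil) .nil))) (.node 33 (.node 132 (.node 270 (.node 278 .nil .nil) (.node 218 .nil .nil)) (.node 16 (.node 236 .nil .nil) .nil)) (.node 38 (.node 294 (.node 208 .nil .nil) (.node 196 .nil .nil)) (.node 121 (.node 163 .nil .nil) .nil))))) (.node 194 (.node 197 (.node 73 (.node 263 (.node 232 (.node 52 .nil .nil) (.node 136 .nil .nil)) (.node 216 (.node 9 .nil .nil) (.node 116 .nil .nil))) (.node 13 (.node 154 (.node 215 .nil .nil) (.node 240 .nil .nil)) (.node 291 (.node 129 .nil .nil) .nil))) (.node 44 (.node 117 (.node 28 (.node 26 .nil .nil) (.node 23 .nil .nil)) (.node 143 (.node 25 .nil .nil) .nil)) (.node 219 (.node 181 (.node 93 .nil .nil) (.node 63 .nil .nil)) (.node 52 (.node 72 .nil .nil) .nil)))) (.node 123 (.node 24 (.node 19 (.node 78 (.node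 228 .nil .nil) (.node 52 .nil .nil)) (.node 136 (.node 79 .nil .nil) (.node 40 .nil .nil))) (.node 47 (.node 173 (.node 4 .nil .nil) (.node 173 .nil .nil)) (.node 183 (.node 75 .nil .nil) .nil))) (.node 186 (.node 281 (.node 159 (.node 17 .nil .nil) (.node 118 .nil .nil)) (.node 245 (.node 222 .nil .nil) .nil)) (.node 15 (.node 185 (.node 63 .nil .nil) (.node 88 .nil .nil)) (.node 198 (.node 247 .nil .nil) .nil)))))) (.node 161 (.node 126 (.node 103 (.node 81 (.node 90 (.node 221 (.node 199 .nil .nil) (.node 233 .nil .nil)) (.node 271 (.node 259 .nil .nil) (.node 127 .nil .nil))) (.node 186 (.node 99 (.node 291 .nil .nil) (.node 21 .nil .nil)) (.node 33 (.node 49 .nil .nil) .nil))) (.node 5 (.node 38 (.node 132 (.node 121 .nil .nil) (.node 79 .nil .nil)) (.node 89 (.node 60 .nil .nil) (.node 75 .nil .nil))) (.node 107 (.node 133 (.node 111 .nil .nil) (.node 29 .nil .nil)) (.node 109 (.node 260 .nil .nil) .nil)))) (.node 143 (.node 51 (.node 68 (.node 218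 (.node 234 .nil .nil) (.node 191 .nil .nil)) (.node 228 (.node 243 .nil .nil) (.node 291 .nil .nil))) (.node 282 (.node 211 (.node 32 .nil .nil) (.node 69 .nil .nil)) (.node 262 (.node 9 .nil .nil) .nil))) (.node 190 (.node 156 (.node 140 (.node 241 .nil .nil) (.node 116 .nil .nil)) (.node 157 (.node 293 .nil .nil) .nil)) (.node 277 (.node 224 (.node 22 .nil .nil) (.node 199 .nil .nil)) (.node 212 (.node 182 .nil .nil) .nil))))) (.node 211 (.node 170 (.node 116 (.node 130 (.node 254 (.node 159 .nil .nil) (.node 9 .nil .nil)) (.node 153 (.node 272 .nil .nil) (.node 200 .nil .nil))) (.node 178 (.node 44 (.node 47 .nil .nil) (.node 49 .nil .nil)) (.node 183 (.node 10 .nil .nil) .nil))) (.node 23 (.node 137 (.node 267 (.node 31 .nil .nil) (.node 85 .nil .nil)) (.node 208 (.node 146 .nil .nil) .nil)) (.node 249 (.node 146 (.node 184 .nil .nil) (.node 94 .nil .nil)) (.node 231 (.node 90 .nil .nil) .nil)))) (.node 118 (.node 247 (.node 209 (.node 213 (.node 205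 .nil .nil) (.node 219 .nil .nil)) (.node 31 (.node 75 .nil .nil) (.node 144 .nil .nil))) (.node 196 (.node 291 (.node 151 .nil .nil) (.node 284 .nil .nil)) (.node 255 (.node 66 .nil .nil) .nil))) (.node 72 (.node 65 (.node 246 (.node 78 .nil .nil) (.node 170 .nil .nil)) (.node 3 (.node 195 .nil .nil) .nil)) (.node 23 (.node 17 (.node 141 .nil .nil) (.node 251 .nil .nil)) (.node 235 (.node 241 .nil .nil) .nil))))))) (.node 123 (.node 187 (.node 202 (.node 230 (.node 238 (.node 165 (.node 44 (.node 220 .nil .nil) (.node 277 .nil .nil)) (.node 79 (.node 239 .nil .nil) (.node 204 .nil .nil))) (.node 63 (.node 11 (.node 11 .nil .nil) (.node 24 .nil .nil)) (.node 174 (.node 74 .nil .nil) .nil))) (.node 243 (.node 205 (.node 73 (.node 141 .nil .nil) (.node 200 .nil .nil)) (.node 15 (.node 133 .nil .nil) (.node 8 .nil .nil))) (.node 68 (.node 198 (.node 266 .nil .nil) (.node 236 .nil .nil)) (.node 68 (.node 107 .nil .nil) .nil)))) (.node 120 (.node 215 (.node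 7 (.node 290 (.node 3 .nil .nil) (.node 230 .nil .nil)) (.node 239 (.node 96 .nil .nil) (.node 152 .nil .nil))) (.node 222 (.node 20 (.node 140 .nil .nil) (.node 214 .nil .nil)) (.node 204 (.node 268 .nil .nil) .nil))) (.node 62 (.node 267 (.node 194 (.node 244 .nil .nil) (.node 53 .nil .nil)) (.node 203 (.node 19 .nil .nil) .nil)) (.node 17 (.node 37 (.node 116 .nil .nil) (.node 23 .nil .nil)) (.node 237 (.node 224 .nil .nil) .nil))))) (.node 35 (.node 247 (.node 119 (.node 61 (.node 109 (.node 94 .nil .nil) (.node 112 .nil .nil)) (.node 194 (.node 255 .nil .nil) (.node 150 .nil .nil))) (.node 216 (.node 250 (.node 68 .nil .nil) (.node 16 .nil .nil)) (.node 291 (.node 99 .nil .nil) .nil))) (.node 146 (.node 60 (.node 119 (.node 150 .nil .nil) (.node 266 .nil .nil)) (.node 284 (.node 33 .nil .nil) .nil)) (.node 146 (.node 68 (.node 108 .nil .nil) (.node 2 .nil .nil)) (.node 246 (.node 121 .nil .nil) .nil)))) (.node 166 (.node 91 (.node 133 (.node 78 (.node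 5 .nil .nil) (.node 44 .nil .nil)) (.node 81 (.node 259 .nil .nil) (.node 34 .nil .nil))) (.node 150 (.node 202 (.node 46 .nil .nil) (.node 97 .nil .nil)) (.node 244 (.node 275 .nil .nil) .nil))) (.node 69 (.node 295 (.node 226 (.node 136 .nil .nil) (.node 149 .nil .nil)) (.node 49 (.node 18 .nil .nil) .nil)) (.node 104 (.node 271 (.node 6 .nil .nil) (.node 47 .nil .nil)) (.node 264 (.node 128 .nil .nil) .nil)))))) (.node 269 (.node 2 (.node 126 (.node 272 (.node 111 (.node 251 (.node 49 .nil .nil) (.node 38 .nil .nil)) (.node 104 (.node 198 .nil .nil) (.node 281 .nil .nil))) (.node 174 (.node 273 (.node 246 .nil .nil) (.node 4 .nil .nil)) (.node 59 (.node 114 .nil .nil) .nil))) (.node 150 (.node 208 (.node 240 (.node 177 .nil .nil) (.node 243 .nil .nil)) (.node 6 (.node 150 .nil .nil) (.node 25 .nil .nil))) (.node 261 (.node 236 (.node 7 .nil .nil) (.node 93 .nil .nil)) (.node 55 (.node 185 .nil .nil) .nil)))) (.node 148 (.node 137 (.node 20 (.node 26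 (.node 148 .nil .nil) (.node 99 .nil .nil)) (.node 36 (.node 292 .nil .nil) (.node 33 .nil .nil))) (.node 50 (.node 266 (.node 242 .nil .nil) (.node 237 .nil .nil)) (.node 125 (.node 249 .nil .nil) .nil))) (.node 171 (.node 31 (.node 20 (.node 112 .nil .nil) (.node 175 .nil .nil)) (.node 171 (.node 29 .nil .nil) .nil)) (.node 141 (.node 144 (.node 269 .nil .nil) (.node 45 .nil .nil)) (.node 215 (.node 146 .nil .nil) .nil))))) (.node 50 (.node 48 (.node 145 (.node 142 (.node 267 (.node 249 .nil .nil) (.node 177 .nil .nil)) (.node 86 (.node 104 .nil .nil) (.node 82 .nil .nil))) (.node 175 (.node 260 (.node 205 .nil .nil) (.node 73 .nil .nil)) (.node 92 (.node 115 .nil .nil) .nil))) (.node 160 (.node 251 (.node 256 (.node 57 .nil .nil) (.node 240 .nil .nil)) (.node 204 (.node 287 .nil .nil) .nil)) (.node 101 (.node 213 (.node 196 .nil .nil) (.node 41 .nil .nil)) (.node 74 (.node 136 .nil .nil) .nil)))) (.node 94 (.node 260 (.node 103 (.node 119 (.node 151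 .nil .nil) (.node 29 .nil .nil)) (.node 276 (.node 62 .nil .nil) (.node 232 .nil .nil))) (.node 283 (.node 167 (.node 3 .nil .nil) (.node 2 .nil .nil)) (.node 197 (.node 265 .nil .nil) .nil))) (.node 64 (.node 262 (.node 51 (.node 23 .nil .nil) (.node 141 .nil .nil)) (.node 115 (.node 89 .nil .nil) .nil)) (.node 217 (.node 128 (.node 77 .nil .nil) (.node 151 .nil .nil)) (.node 116 (.node 14 .nil .nil) .nil))))))))

/-- Part of `repOf`. -/
noncomputable def repOf_l_r_l_r_r : Arr ℕ :=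
  (.node 294 (.node 107 (.node 39 (.node 208 (.node 73 (.node 155 (.node 54 (.node 114 (.node 59 .nil .nil) (.node 107 .nil .nil)) (.node 234 (.node 143 .nil .nil) (.node 274 .nil .nil))) (.node 189 (.node 294 (.node 203 .nil .nil) (.node 145 .nil .nil)) (.node 290 (.node 72 .nil .nil) .nil))) (.node 35 (.node 132 (.node 229 (.node 213 .nil .nil) (.node 2 .nil .nil)) (.node 27 (.node 190 .nil .nil) (.node 209 .nil .nil))) (.node 170 (.node 200 (.node 204 .nil .nil) (.node 242 .nil .nil)) (.node 61 (.node 196 .nil .nil) .nil)))) (.node 211 (.node 201 (.node 151 (.node 239 (.node 93 .nil .nil) (.node 58 .nil .nil)) (.node 1 (.node 151 .nil .nil) (.node 269 .nil .nil))) (.node 215 (.node 123 (.node 275 .nil .nil) (.node 234 .nil .nil)) (.node 18 (.node 122 .nil .nil) .nil))) (.node 69 (.node 16 (.node 233 (.node 96 .nil .nil) (.node 85 .nil .nil)) (.node 196 (.node 191 .nil .nil) .nil)) (.node 74 (.node 61 (.node 239 .nil .nil) (.node 74 .nil .nil)) (.node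 144 (.node 280 .nil .nil) .nil))))) (.node 71 (.node 110 (.node 120 (.node 146 (.node 186 (.node 173 .nil .nil) (.node 16 .nil .nil)) (.node 42 (.node 165 .nil .nil) (.node 174 .nil .nil))) (.node 118 (.node 258 (.node 137 .nil .nil) (.node 127 .nil .nil)) (.node 213 (.node 220 .nil .nil) .nil))) (.node 123 (.node 21 (.node 29 (.node 23 .nil .nil) (.node 265 .nil .nil)) (.node 121 (.node 275 .nil .nil) .nil)) (.node 120 (.node 104 (.node 167 .nil .nil) (.node 206 .nil .nil)) (.node 156 (.node 294 .nil .nil) .nil)))) (.node 284 (.node 104 (.node 225 (.node 45 (.node 98 .nil .nil) (.node 140 .nil .nil)) (.node 39 (.node 219 .nil .nil) (.node 293 .nil .nil))) (.node 183 (.node 201 (.node 228 .nil .nil) (.node 91 .nil .nil)) (.node 55 (.node 273 .nil .nil) .nil))) (.node 101 (.node 61 (.node 112 (.node 248 .nil .nil) (.node 92 .nil .nil)) (.node 50 (.node 275 .nil .nil) .nil)) (.node 102 (.node 273 (.node 275 .nil .nil) (.node 95 .nil .nil)) (.node 16 (.node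 33 .nil .nil) .nil)))))) (.node 168 (.node 41 (.node 175 (.node 189 (.node 284 (.node 294 (.node 161 .nil .nil) (.node 265 .nil .nil)) (.node 285 (.node 290 .nil .nil) (.node 289 .nil .nil))) (.node 158 (.node 128 (.node 245 .nil .nil) (.node 152 .nil .nil)) (.node 41 (.node 170 .nil .nil) .nil))) (.node 187 (.node 280 (.node 192 (.node 236 .nil .nil) (.node 113 .nil .nil)) (.node 95 (.node 16 .nil .nil) (.node 96 .nil .nil))) (.node 259 (.node 208 (.node 27 .nil .nil) (.node 32 .nil .nil)) (.node 263 (.node 199 .nil .nil) .nil)))) (.node 5 (.node 38 (.node 74 (.node 129 (.node 240 .nil .nil) (.node 291 .nil .nil)) (.node 218 (.node 258 .nil .nil) (.node 9 .nil .nil))) (.node 146 (.node 269 (.node 136 .nil .nil) (.node 207 .nil .nil)) (.node 226 (.node 276 .nil .nil) .nil))) (.node 143 (.node 94 (.node 72 (.node 49 .nil .nil) (.node 181 .nil .nil)) (.node 121 (.node 160 .nil .nil) .nil)) (.node 218 (.node 279 (.node 154 .nil .nil) (.node 152 .nil .nil))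 (.node 197 (.node 55 .nil .nil) .nil))))) (.node 252 (.node 35 (.node 172 (.node 74 (.node 43 (.node 244 .nil .nil) (.node 94 .nil .nil)) (.node 4 (.node 219 .nil .nil) (.node 31 .nil .nil))) (.node 170 (.node 266 (.node 145 .nil .nil) (.node 121 .nil .nil)) (.node 184 (.node 254 .nil .nil) .nil))) (.node 185 (.node 67 (.node 247 (.node 26 .nil .nil) (.node 107 .nil .nil)) (.node 255 (.node 5 .nil .nil) .nil)) (.node 261 (.node 142 (.node 108 .nil .nil) (.node 70 .nil .nil)) (.node 231 (.node 273 .nil .nil) .nil)))) (.node 159 (.node 84 (.node 276 (.node 52 (.node 106 .nil .nil) (.node 140 .nil .nil)) (.node 247 (.node 90 .nil .nil) (.node 116 .nil .nil))) (.node 87 (.node 104 (.node 220 .nil .nil) (.node 46 .nil .nil)) (.node 238 (.node 249 .nil .nil) .nil))) (.node 47 (.node 204 (.node 169 (.node 152 .nil .nil) (.node 133 .nil .nil)) (.node 241 (.node 247 .nil .nil) .nil)) (.node 69 (.node 281 (.node 73 .nil .nil) (.node 37 .nil .nil)) (.node 99 (.node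 18 .nil .nil) .nil))))))) (.node 75 (.node 235 (.node 187 (.node 239 (.node 275 (.node 162 (.node 274 (.node 187 .nil .nil) (.node 255 .nil .nil)) (.node 279 (.node 162 .nil .nil) (.node 41 .nil .nil))) (.node 94 (.node 255 (.node 151 .nil .nil) (.node 176 .nil .nil)) (.node 293 (.node 51 .nil .nil) .nil))) (.node 241 (.node 112 (.node 161 (.node 210 .nil .nil) (.node 29 .nil .nil)) (.node 82 (.node 5 .nil .nil) (.node 158 .nil .nil))) (.node 136 (.node 230 (.node 215 .nil .nil) (.node 27 .nil .nil)) (.node 62 (.node 247 .nil .nil) .nil)))) (.node 274 (.node 65 (.node 145 (.node 235 (.node 255 .nil .nil) (.node 216 .nil .nil)) (.node 73 (.node 93 .nil .nil) (.node 69 .nil .nil))) (.node 285 (.node 70 (.node 206 .nil .nil) (.node 209 .nil .nil)) (.node 169 (.node 282 .nil .nil) .nil))) (.node 59 (.node 160 (.node 53 (.node 196 .nil .nil) (.node 205 .nil .nil)) (.node 128 (.node 260 .nil .nil) .nil)) (.node 75 (.node 268 (.node 15 .nil .nil) (.node 86 .nil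 .nil)) (.node 78 (.node 261 .nil .nil) .nil))))) (.node 76 (.node 43 (.node 59 (.node 111 (.node 275 (.node 134 .nil .nil) (.node 67 .nil .nil)) (.node 74 (.node 115 .nil .nil) (.node 7 .nil .nil))) (.node 138 (.node 211 (.node 224 .nil .nil) (.node 1 .nil .nil)) (.node 175 (.node 178 .nil .nil) .nil))) (.node 192 (.node 277 (.node 46 (.node 85 .nil .nil) (.node 31 .nil .nil)) (.node 110 (.node 62 .nil .nil) .nil)) (.node 263 (.node 159 (.node 274 .nil .nil) (.node 103 .nil .nil)) (.node 208 (.node 35 .nil .nil) .nil)))) (.node 172 (.node 14 (.node 145 (.node 86 (.node 120 .nil .nil) (.node 94 .nil .nil)) (.node 90 (.node 259 .nil .nil) (.node 163 .nil .nil))) (.node 213 (.node 75 (.node 228 .nil .nil) (.node 50 .nil .nil)) (.node 86 (.node 174 .nil .nil) .nil))) (.node 200 (.node 167 (.node 5 (.node 155 .nil .nil) (.node 253 .nil .nil)) (.node 43 (.node 257 .nil .nil) .nil)) (.node 112 (.node 286 (.node 179 .nil .nil) (.node 215 .nil .nil)) (.node 23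 (.node 32 .nil .nil) .nil)))))) (.node 170 (.node 44 (.node 147 (.node 155 (.node 234 (.node 23 (.node 287 .nil .nil) (.node 50 .nil .nil)) (.node 196 (.node 186 .nil .nil) (.node 162 .nil .nil))) (.node 212 (.node 59 (.node 137 .nil .nil) (.node 203 .nil .nil)) (.node 162 (.node 237 .nil .nil) .nil))) (.node 150 (.node 20 (.node 180 (.node 294 .nil .nil) (.node 112 .nil .nil)) (.node 179 (.node 10 .nil .nil) (.node 30 .nil .nil))) (.node 251 (.node 202 (.node 89 .nil .nil) (.node 174 .nil .nil)) (.node 227 (.node 77 .nil .nil) .nil)))) (.node 54 (.node 236 (.node 1 (.node 4 (.node 237 .nil .nil) (.node 246 .nil .nil)) (.node 174 (.node 277 .nil .nil) (.node 196 .nil .nil))) (.node 175 (.node 70 (.node 16 .nil .nil) (.node 86 .nil .nil)) (.node 178 (.node 219 .nil .nil) .nil))) (.node 274 (.node 237 (.node 76 (.node 248 .nil .nil) (.node 170 .nil .nil)) (.node 77 (.node 213 .nil .nil) .nil)) (.node 148 (.node 151 (.node 106 .nil .nil) (.node 257 .nil .nil))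 (.node 8 (.node 156 .nil .nil) .nil))))) (.node 46 (.node 273 (.node 8 (.node 289 (.node 147 (.node 11 .nil .nil) (.node 3 .nil .nil)) (.node 259 (.node 70 .nil .nil) (.node 274 .nil .nil))) (.node 66 (.node 194 (.node 164 .nil .nil) (.node 135 .nil .nil)) (.node 214 (.node 234 .nil .nil) .nil))) (.node 160 (.node 96 (.node 148 (.node 86 .nil .nil) (.node 42 .nil .nil)) (.node 169 (.node 33 .nil .nil) .nil)) (.node 51 (.node 137 (.node 245 .nil .nil) (.node 69 .nil .nil)) (.node 57 (.node 253 .nil .nil) .nil)))) (.node 223 (.node 111 (.node 182 (.node 248 (.node 125 .nil .nil) (.node 110 .nil .nil)) (.node 138 (.node 173 .nil .nil) (.node 244 .nil .nil))) (.node 5 (.node 213 (.node 96 .nil .nil) (.node 190 .nil .nil)) (.node 49 (.node 236 .nil .nil) .nil))) (.node 146 (.node 49 (.node 20 (.node 204 .nil .nil) (.node 75 .nil .nil)) (.node 175 (.node 69 .nil .nil) .nil)) (.node 160 (.node 102 (.node 27 .nil .nil) (.node 198 .nil .nil)) (.node 250 (.node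 137 .nil .nil) .nil))))))))

/-- Part of `repOf`. -/
noncomputable def repOf_l_r_l_r : Arr ℕ :=
  .node 0 repOf_l_r_l_r_l repOf_l_r_l_r_r

/-- Part of `repOf`. -/
noncomputable def repOf_l_r_l : Arr ℕ :=
  .node 0 repOf_l_r_l_l repOf_l_r_l_r

/-- Part of `repOf`. -/
noncomputable def repOf_l_r_r_l_l : Arr ℕ :=
  (.node 230 (.node 75 (.node 241 (.node 273 (.node 147 (.node 22 (.node 96 (.node 267 (.node 199 .nil .nil) (.node 127 .nil .nil)) (.node 170 (.node 31 .nil .nil) (.node 43 .nil .nil))) (.node 80 (.node 123 (.node 251 .nil .nil) (.node 69 .nil .nil)) (.node 203 (.node 295 .nil .nil) .nil))) (.node 5 (.node 261 (.node 280 (.node 7 .nil .nil) (.node 253 .nil .nil)) (.node 17 (.node 260 .nil .nil) (.node 133 .nil .nil))) (.node 25 (.node 16 (.node 56 .nil .nil) (.node 119 .nil .nil)) (.node 212 (.node 83 .nil .nil) .nil)))) (.node 224 (.node 252 (.node 192 (.node 185 (.node 55 .nil .nil) (.node 18 .nil .nil)) (.node 83 (.node 132 .nil .nil) (.node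 208 .nil .nil))) (.node 135 (.node 85 (.node 98 .nil .nil) (.node 133 .nil .nil)) (.node 170 (.node 157 .nil .nil) .nil))) (.node 281 (.node 168 (.node 123 (.node 65 .nil .nil) (.node 48 .nil .nil)) (.node 269 (.node 86 .nil .nil) .nil)) (.node 262 (.node 273 (.node 271 .nil .nil) (.node 67 .nil .nil)) (.node 108 (.node 196 .nil .nil) .nil))))) (.node 66 (.node 147 (.node 109 (.node 238 (.node 273 (.node 192 .nil .nil) (.node 124 .nil .nil)) (.node 265 (.node 217 .nil .nil) (.node 19 .nil .nil))) (.node 156 (.node 227 (.node 95 .nil .nil) (.node 232 .nil .nil)) (.node 245 (.node 37 .nil .nil) .nil))) (.node 227 (.node 261 (.node 39 (.node 161 .nil .nil) (.node 5 .nil .nil)) (.node 253 (.node 263 .nil .nil) .nil)) (.node 139 (.node 144 (.node 207 .nil .nil) (.node 31 .nil .nil)) (.node 161 (.node 21 .nil .nil) .nil)))) (.node 195 (.node 289 (.node 260 (.node 114 (.node 87 .nil .nil) (.node 31 .nil .nil)) (.node 20 (.node 190 .nil .nil) (.node 168 .nil .nil)))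 (.node 231 (.node 184 (.node 255 .nil .nil) (.node 12 .nil .nil)) (.node 66 (.node 96 .nil .nil) .nil))) (.node 1 (.node 86 (.node 91 (.node 285 .nil .nil) (.node 8 .nil .nil)) (.node 7 (.node 67 .nil .nil) .nil)) (.node 248 (.node 198 (.node 126 .nil .nil) (.node 134 .nil .nil)) (.node 131 (.node 258 .nil .nil) .nil)))))) (.node 239 (.node 66 (.node 294 (.node 130 (.node 24 (.node 110 (.node 219 .nil .nil) (.node 12 .nil .nil)) (.node 215 (.node 50 .nil .nil) (.node 18 .nil .nil))) (.node 261 (.node 236 (.node 175 .nil .nil) (.node 291 .nil .nil)) (.node 37 (.node 136 .nil .nil) .nil))) (.node 235 (.node 84 (.node 232 (.node 239 .nil .nil) (.node 245 .nil .nil)) (.node 194 (.node 98 .nil .nil) (.node 174 .nil .nil))) (.node 188 (.node 136 (.node 30 .nil .nil) (.node 234 .nil .nil)) (.node 6 (.node 264 .nil .nil) .nil)))) (.node 173 (.node 190 (.node 222 (.node 293 (.node 43 .nil .nil) (.node 155 .nil .nil)) (.node 4 (.node 88 .nil .nil) (.node 273 .nil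 .nil))) (.node 117 (.node 44 (.node 218 .nil .nil) (.node 43 .nil .nil)) (.node 246 (.node 38 .nil .nil) .nil))) (.node 295 (.node 41 (.node 132 (.node 82 .nil .nil) (.node 121 .nil .nil)) (.node 87 (.node 272 .nil .nil) .nil)) (.node 15 (.node 92 (.node 22 .nil .nil) (.node 139 .nil .nil)) (.node 170 (.node 138 .nil .nil) .nil))))) (.node 30 (.node 147 (.node 225 (.node 154 (.node 91 (.node 285 .nil .nil) (.node 165 .nil .nil)) (.node 182 (.node 87 .nil .nil) (.node 61 .nil .nil))) (.node 286 (.node 153 (.node 291 .nil .nil) (.node 212 .nil .nil)) (.node 115 (.node 146 .nil .nil) .nil))) (.node 178 (.node 68 (.node 197 (.node 150 .nil .nil) (.node 118 .nil .nil)) (.node 208 (.node 213 .nil .nil) .nil)) (.node 30 (.node 239 (.node 2 .nil .nil) (.node 178 .nil .nil)) (.node 6 (.node 126 .nil .nil) .nil)))) (.node 161 (.node 234 (.node 67 (.node 150 (.node 117 .nil .nil) (.node 114 .nil .nil)) (.node 59 (.node 145 .nil .nil) (.node 6 .nil .nil))) (.node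 2 (.node 251 (.node 111 .nil .nil) (.node 196 .nil .nil)) (.node 269 (.node 68 .nil .nil) .nil))) (.node 127 (.node 222 (.node 7 (.node 82 .nil .nil) (.node 294 .nil .nil)) (.node 120 (.node 164 .nil .nil) .nil)) (.node 232 (.node 195 (.node 179 .nil .nil) (.node 207 .nil .nil)) (.node 82 (.node 9 .nil .nil) .nil))))))) (.node 82 (.node 44 (.node 44 (.node 26 (.node 249 (.node 165 (.node 191 (.node 247 .nil .nil) (.node 71 .nil .nil)) (.node 22 (.node 116 .nil .nil) (.node 248 .nil .nil))) (.node 196 (.node 169 (.node 87 .nil .nil) (.node 192 .nil .nil)) (.node 226 (.node 15 .nil .nil) .nil))) (.node 94 (.node 88 (.node 146 (.node 6 .nil .nil) (.node 177 .nil .nil)) (.node 102 (.node 53 .nil .nil) (.node 293 .nil .nil))) (.node 172 (.node 244 (.node 224 .nil .nil) (.node 96 .nil .nil)) (.node 60 (.node 15 .nil .nil) .nil)))) (.node 30 (.node 260 (.node 245 (.node 156 (.node 100 .nil .nil) (.node 219 .nil .nil)) (.node 112 (.node 8 .nil .nil) (.node 55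 .nil .nil))) (.node 79 (.node 97 (.node 165 .nil .nil) (.node 149 .nil .nil)) (.node 181 (.node 148 .nil .nil) .nil))) (.node 132 (.node 164 (.node 274 (.node 26 .nil .nil) (.node 74 .nil .nil)) (.node 216 (.node 145 .nil .nil) .nil)) (.node 195 (.node 204 (.node 277 .nil .nil) (.node 257 .nil .nil)) (.node 74 (.node 236 .nil .nil) .nil))))) (.node 136 (.node 97 (.node 52 (.node 154 (.node 159 (.node 271 .nil .nil) (.node 221 .nil .nil)) (.node 8 (.node 131 .nil .nil) (.node 233 .nil .nil))) (.node 16 (.node 47 (.node 48 .nil .nil) (.node 172 .nil .nil)) (.node 57 (.node 7 .nil .nil) .nil))) (.node 238 (.node 40 (.node 60 (.node 259 .nil .nil) (.node 248 .nil .nil)) (.node 57 (.node 64 .nil .nil) .nil)) (.node 119 (.node 136 (.node 214 .nil .nil) (.node 127 .nil .nil)) (.node 49 (.node 55 .nil .nil) .nil)))) (.node 214 (.node 236 (.node 247 (.node 27 (.node 186 .nil .nil) (.node 139 .nil .nil)) (.node 221 (.node 83 .nil .nil) (.node 182 .nil .nil))) (.node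 42 (.node 194 (.node 23 .nil .nil) (.node 91 .nil .nil)) (.node 28 (.node 290 .nil .nil) .nil))) (.node 31 (.node 221 (.node 61 (.node 215 .nil .nil) (.node 147 .nil .nil)) (.node 80 (.node 203 .nil .nil) .nil)) (.node 206 (.node 88 (.node 238 .nil .nil) (.node 239 .nil .nil)) (.node 151 (.node 87 .nil .nil) .nil)))))) (.node 204 (.node 143 (.node 263 (.node 295 (.node 11 (.node 270 (.node 185 .nil .nil) (.node 12 .nil .nil)) (.node 172 (.node 184 .nil .nil) (.node 66 .nil .nil))) (.node 158 (.node 259 (.node 8 .nil .nil) (.node 170 .nil .nil)) (.node 292 (.node 34 .nil .nil) .nil))) (.node 78 (.node 181 (.node 24 (.node 266 .nil .nil) (.node 71 .nil .nil)) (.node 83 (.node 167 .nil .nil) (.node 93 .nil .nil))) (.node 211 (.node 32 (.node 36 .nil .nil) (.node 37 .nil .nil)) (.node 171 (.node 279 .nil .nil) .nil)))) (.node 267 (.node 285 (.node 287 (.node 238 (.node 147 .nil .nil) (.node 90 .nil .nil)) (.node 184 (.node 238 .nil .nil) (.node 219 .nil .nil)))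 (.node 245 (.node 187 (.node 227 .nil .nil) (.node 212 .nil .nil)) (.node 261 (.node 200 .nil .nil) .nil))) (.node 260 (.node 65 (.node 282 (.node 12 .nil .nil) (.node 246 .nil .nil)) (.node 164 (.node 93 .nil .nil) .nil)) (.node 239 (.node 195 (.node 84 .nil .nil) (.node 7 .nil .nil)) (.node 171 (.node 6 .nil .nil) .nil))))) (.node 50 (.node 49 (.node 125 (.node 286 (.node 135 (.node 65 .nil .nil) (.node 154 .nil .nil)) (.node 190 (.node 31 .nil .nil) (.node 211 .nil .nil))) (.node 78 (.node 272 (.node 256 .nil .nil) (.node 239 .nil .nil)) (.node 5 (.node 3 .nil .nil) .nil))) (.node 151 (.node 44 (.node 240 (.node 125 .nil .nil) (.node 43 .nil .nil)) (.node 162 (.node 76 .nil .nil) .nil)) (.node 125 (.node 270 (.node 101 .nil .nil) (.node 103 .nil .nil)) (.node 237 (.node 68 .nil .nil) .nil)))) (.node 88 (.node 173 (.node 44 (.node 120 (.node 289 .nil .nil) (.node 168 .nil .nil)) (.node 192 (.node 243 .nil .nil) (.node 24 .nil .nil))) (.node 122 (.node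 150 (.node 202 .nil .nil) (.node 121 .nil .nil)) (.node 187 (.node 127 .nil .nil) .nil))) (.node 127 (.node 243 (.node 76 (.node 233 .nil .nil) (.node 37 .nil .nil)) (.node 242 (.node 83 .nil .nil) .nil)) (.node 279 (.node 128 (.node 94 .nil .nil) (.node 257 .nil .nil)) (.node 53 (.node 167 .nil .nil) .nil))))))))

/-- Part of `repOf`. -/
noncomputable def repOf_l_r_r_l_r : Arr ℕ :=
  (.node 39 (.node 112 (.node 35 (.node 137 (.node 282 (.node 109 (.node 131 (.node 143 (.node 11 .nil .nil) (.node 254 .nil .nil)) (.node 12 (.node 198 .nil .nil) (.node 254 .nil .nil))) (.node 61 (.node 139 (.node 152 .nil .nil) (.node 57 .nil .nil)) (.node 200 (.node 218 .nil .nil) .nil))) (.node 245 (.node 137 (.node 69 (.node 67 .nil .nil) (.node 201 .nil .nil)) (.node 95 (.node 199 .nil .nil) (.node 171 .nil .nil))) (.node 141 (.node 29 (.node 85 .nil .nil) (.node 122 .nil .nil)) (.node 294 (.node 207 .nil .nil) .nil)))) (.node 44 (.node 237 (.node 69 (.node 85 (.node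 175 .nil .nil) (.node 187 .nil .nil)) (.node 82 (.node 122 .nil .nil) (.node 101 .nil .nil))) (.node 195 (.node 118 (.node 151 .nil .nil) (.node 71 .nil .nil)) (.node 28 (.node 39 .nil .nil) .nil))) (.node 233 (.node 138 (.node 227 (.node 87 .nil .nil) (.node 158 .nil .nil)) (.node 262 (.node 128 .nil .nil) .nil)) (.node 210 (.node 236 (.node 73 .nil .nil) (.node 185 .nil .nil)) (.node 201 (.node 178 .nil .nil) .nil))))) (.node 178 (.node 282 (.node 245 (.node 255 (.node 215 (.node 124 .nil .nil) (.node 121 .nil .nil)) (.node 189 (.node 162 .nil .nil) (.node 89 .nil .nil))) (.node 6 (.node 70 (.node 108 .nil .nil) (.node 34 .nil .nil)) (.node 96 (.node 124 .nil .nil) .nil))) (.node 103 (.node 68 (.node 29 (.node 47 .nil .nil) (.node 171 .nil .nil)) (.node 100 (.node 260 .nil .nil) .nil)) (.node 56 (.node 81 (.node 83 .nil .nil) (.node 57 .nil .nil)) (.node 132 (.node 251 .nil .nil) .nil)))) (.node 37 (.node 272 (.node 225 (.node 177 (.node 265 .nil .nil)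 (.node 206 .nil .nil)) (.node 9 (.node 121 .nil .nil) (.node 275 .nil .nil))) (.node 204 (.node 117 (.node 229 .nil .nil) (.node 4 .nil .nil)) (.node 137 (.node 215 .nil .nil) .nil))) (.node 210 (.node 104 (.node 221 (.node 192 .nil .nil) (.node 134 .nil .nil)) (.node 278 (.node 226 .nil .nil) .nil)) (.node 246 (.node 266 (.node 148 .nil .nil) (.node 233 .nil .nil)) (.node 62 (.node 215 .nil .nil) .nil)))))) (.node 11 (.node 201 (.node 95 (.node 221 (.node 200 (.node 188 (.node 244 .nil .nil) (.node 191 .nil .nil)) (.node 25 (.node 29 .nil .nil) (.node 127 .nil .nil))) (.node 142 (.node 207 (.node 52 .nil .nil) (.node 17 .nil .nil)) (.node 27 (.node 115 .nil .nil) .nil))) (.node 30 (.node 111 (.node 219 (.node 104 .nil .nil) (.node 164 .nil .nil)) (.node 259 (.node 196 .nil .nil) (.node 229 .nil .nil))) (.node 285 (.node 39 (.node 3 .nil .nil) (.node 284 .nil .nil)) (.node 77 (.node 87 .nil .nil) .nil)))) (.node 215 (.node 286 (.node 254 (.node 73 (.node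 223 .nil .nil) (.node 131 .nil .nil)) (.node 12 (.node 226 .nil .nil) (.node 178 .nil .nil))) (.node 38 (.node 280 (.node 73 .nil .nil) (.node 53 .nil .nil)) (.node 229 (.node 127 .nil .nil) .nil))) (.node 215 (.node 5 (.node 168 (.node 125 .nil .nil) (.node 46 .nil .nil)) (.node 268 (.node 236 .nil .nil) .nil)) (.node 109 (.node 43 (.node 259 .nil .nil) (.node 216 .nil .nil)) (.node 267 (.node 223 .nil .nil) .nil))))) (.node 205 (.node 48 (.node 133 (.node 286 (.node 133 (.node 161 .nil .nil) (.node 99 .nil .nil)) (.node 116 (.node 195 .nil .nil) (.node 88 .nil .nil))) (.node 66 (.node 243 (.node 10 .nil .nil) (.node 63 .nil .nil)) (.node 100 (.node 35 .nil .nil) .nil))) (.node 48 (.node 63 (.node 52 (.node 244 .nil .nil) (.node 7 .nil .nil)) (.node 211 (.node 233 .nil .nil) .nil)) (.node 129 (.node 215 (.node 268 .nil .nil) (.node 210 .nil .nil)) (.node 93 (.node 224 .nil .nil) .nil)))) (.node 146 (.node 1 (.node 32 (.node 150 (.node 130 .nil .nil) (.node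 102 .nil .nil)) (.node 240 (.node 134 .nil .nil) (.node 168 .nil .nil))) (.node 166 (.node 113 (.node 180 .nil .nil) (.node 178 .nil .nil)) (.node 10 (.node 97 .nil .nil) .nil))) (.node 37 (.node 126 (.node 269 (.node 259 .nil .nil) (.node 121 .nil .nil)) (.node 157 (.node 229 .nil .nil) .nil)) (.node 13 (.node 191 (.node 235 .nil .nil) (.node 102 .nil .nil)) (.node 93 (.node 19 .nil .nil) .nil))))))) (.node 134 (.node 126 (.node 195 (.node 199 (.node 35 (.node 127 (.node 131 (.node 126 .nil .nil) (.node 242 .nil .nil)) (.node 46 (.node 127 .nil .nil) (.node 237 .nil .nil))) (.node 90 (.node 214 (.node 62 .nil .nil) (.node 151 .nil .nil)) (.node 130 (.node 212 .nil .nil) .nil))) (.node 235 (.node 226 (.node 288 (.node 114 .nil .nil) (.node 136 .nil .nil)) (.node 107 (.node 81 .nil .nil) (.node 233 .nil .nil))) (.node 133 (.node 41 (.node 294 .nil .nil) (.node 253 .nil .nil)) (.node 63 (.node 287 .nil .nil) .nil)))) (.node 157 (.node 218 (.node 66 (.node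 25 (.node 83 .nil .nil) (.node 266 .nil .nil)) (.node 81 (.node 199 .nil .nil) (.node 50 .nil .nil))) (.node 281 (.node 66 (.node 102 .nil .nil) (.node 223 .nil .nil)) (.node 48 (.node 60 .nil .nil) .nil))) (.node 151 (.node 147 (.node 31 (.node 70 .nil .nil) (.node 256 .nil .nil)) (.node 268 (.node 211 .nil .nil) .nil)) (.node 169 (.node 214 (.node 181 .nil .nil) (.node 172 .nil .nil)) (.node 49 (.node 195 .nil .nil) .nil))))) (.node 29 (.node 14 (.node 59 (.node 145 (.node 35 (.node 71 .nil .nil) (.node 286 .nil .nil)) (.node 210 (.node 48 .nil .nil) (.node 71 .nil .nil))) (.node 16 (.node 240 (.node 48 .nil .nil) (.node 92 .nil .nil)) (.node 10 (.node 28 .nil .nil) .nil))) (.node 87 (.node 64 (.node 219 (.node 191 .nil .nil) (.node 243 .nil .nil)) (.node 204 (.node 111 .nil .nil) .nil)) (.node 71 (.node 35 (.node 52 .nil .nil) (.node 127 .nil .nil)) (.node 109 (.node 136 .nil .nil) .nil)))) (.node 53 (.node 59 (.node 98 (.node 186 (.node 215 .nil .nil)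 (.node 126 .nil .nil)) (.node 130 (.node 154 .nil .nil) (.node 21 .nil .nil))) (.node 89 (.node 39 (.node 208 .nil .nil) (.node 70 .nil .nil)) (.node 288 (.node 209 .nil .nil) .nil))) (.node 227 (.node 220 (.node 241 (.node 278 .nil .nil) (.node 140 .nil .nil)) (.node 114 (.node 171 .nil .nil) .nil)) (.node 181 (.node 6 (.node 141 .nil .nil) (.node 234 .nil .nil)) (.node 87 (.node 276 .nil .nil) .nil)))))) (.node 263 (.node 4 (.node 124 (.node 14 (.node 284 (.node 8 (.node 84 .nil .nil) (.node 94 .nil .nil)) (.node 91 (.node 42 .nil .nil) (.node 281 .nil .nil))) (.node 276 (.node 266 (.node 259 .nil .nil) (.node 219 .nil .nil)) (.node 162 (.node 276 .nil .nil) .nil))) (.node 52 (.node 142 (.node 223 (.node 6 .nil .nil) (.node 116 .nil .nil)) (.node 109 (.node 175 .nil .nil) (.node 239 .nil .nil))) (.node 131 (.node 75 (.node 42 .nil .nil) (.node 63 .nil .nil)) (.node 245 (.node 138 .nil .nil) .nil)))) (.node 13 (.node 128 (.node 258 (.node 6 (.node 38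 .nil .nil) (.node 80 .nil .nil)) (.node 123 (.node 85 .nil .nil) (.node 169 .nil .nil))) (.node 125 (.node 103 (.node 84 .nil .nil) (.node 37 .nil .nil)) (.node 163 (.node 238 .nil .nil) .nil))) (.node 95 (.node 189 (.node 163 (.node 14 .nil .nil) (.node 168 .nil .nil)) (.node 189 (.node 17 .nil .nil) .nil)) (.node 275 (.node 39 (.node 104 .nil .nil) (.node 269 .nil .nil)) (.node 245 (.node 233 .nil .nil) .nil))))) (.node 79 (.node 132 (.node 47 (.node 87 (.node 124 (.node 157 .nil .nil) (.node 232 .nil .nil)) (.node 269 (.node 175 .nil .nil) (.node 12 .nil .nil))) (.node 209 (.node 129 (.node 9 .nil .nil) (.node 148 .nil .nil)) (.node 92 (.node 196 .nil .nil) .nil))) (.node 79 (.node 208 (.node 267 (.node 229 .nil .nil) (.node 201 .nil .nil)) (.node 280 (.node 184 .nil .nil) .nil)) (.node 218 (.node 146 (.node 125 .nil .nil) (.node 56 .nil .nil)) (.node 178 (.node 97 .nil .nil) .nil)))) (.node 222 (.node 262 (.node 176 (.node 125 (.node 280 .nil .nil)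 (.node 240 .nil .nil)) (.node 223 (.node 268 .nil .nil) (.node 204 .nil .nil))) (.node 241 (.node 142 (.node 254 .nil .nil) (.node 182 .nil .nil)) (.node 234 (.node 122 .nil .nil) .nil))) (.node 63 (.node 279 (.node 97 (.node 5 .nil .nil) (.node 112 .nil .nil)) (.node 46 (.node 28 .nil .nil) .nil)) (.node 135 (.node 30 (.node 34 .nil .nil) (.node 162 .nil .nil)) (.node 159 (.node 274 .nil .nil) .nil))))))))

/-- Part of `repOf`. -/
noncomputable def repOf_l_r_r_l : Arr ℕ :=
  .node 0 repOf_l_r_r_l_l repOf_l_r_r_l_r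

/-- Part of `repOf`. -/
noncomputable def repOf_l_r_r_r_l : Arr ℕ :=
  (.node 161 (.node 270 (.node 68 (.node 259 (.node 239 (.node 148 (.node 191 (.node 228 (.node 200 .nil .nil) (.node 11 .nil .nil)) (.node 38 (.node 243 .nil .nil) (.node 106 .nil .nil))) (.node 61 (.node 34 (.node 27 .nil .nil) (.node 86 .nil .nil)) (.node 259 (.node 100 .nil .nil) .nil))) (.node 184 (.node 74 (.node 86 (.node 264 .nil .nil) (.node 41 .nil .nil)) (.node 44 (.node 239 .nil .nil) (.node 294 .nil .nil))) (.node 48 (.node 145 (.node 253 .nil .nil) (.node 62 .nil .nil)) (.node 149 (.node 90 .nil .nil) .nil)))) (.node 78 (.node 221 (.node 272 (.node 43 (.node 283 .nil .nil) (.node 285 .nil .nil)) (.node 277 (.node 173 .nil .nil) (.node 165 .nil .nil))) (.node 252 (.node 257 (.node 176 .nil .nil) (.node 109 .nil .nil)) (.node 137 (.node 241 .nil .nil) .nil))) (.node 237 (.node 18 (.node 191 (.node 224 .nil .nil) (.node 184 .nil .nil)) (.node 286 (.node 253 .nil .nil) .nil))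 (.node 286 (.node 137 (.node 250 .nil .nil) (.node 59 .nil .nil)) (.node 291 (.node 105 .nil .nil) .nil))))) (.node 193 (.node 117 (.node 129 (.node 71 (.node 115 (.node 213 .nil .nil) (.node 226 .nil .nil)) (.node 71 (.node 165 .nil .nil) (.node 78 .nil .nil))) (.node 282 (.node 130 (.node 273 .nil .nil) (.node 188 .nil .nil)) (.node 238 (.node 12 .nil .nil) .nil))) (.node 13 (.node 212 (.node 28 (.node 199 .nil .nil) (.node 5 .nil .nil)) (.node 18 (.node 148 .nil .nil) .nil)) (.node 119 (.node 61 (.node 271 .nil .nil) (.node 85 .nil .nil)) (.node 22 (.node 200 .nil .nil) .nil)))) (.node 134 (.node 87 (.node 220 (.node 292 (.node 122 .nil .nil) (.node 42 .nil .nil)) (.node 113 (.node 292 .nil .nil) (.node 104 .nil .nil))) (.node 143 (.node 2 (.node 230 .nil .nil) (.node 215 .nil .nil)) (.node 32 (.node 58 .nil .nil) .nil))) (.node 117 (.node 206 (.node 156 (.node 240 .nil .nil) (.node 232 .nil .nil)) (.node 162 (.node 258 .nil .nil) .nil)) (.node 71 (.node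 46 (.node 207 .nil .nil) (.node 48 .nil .nil)) (.node 16 (.node 167 .nil .nil) .nil)))))) (.node 118 (.node 58 (.node 227 (.node 106 (.node 228 (.node 192 (.node 259 .nil .nil) (.node 129 .nil .nil)) (.node 2 (.node 83 .nil .nil) (.node 58 .nil .nil))) (.node 176 (.node 133 (.node 8 .nil .nil) (.node 238 .nil .nil)) (.node 153 (.node 39 .nil .nil) .nil))) (.node 170 (.node 276 (.node 236 (.node 154 .nil .nil) (.node 223 .nil .nil)) (.node 200 (.node 128 .nil .nil) (.node 62 .nil .nil))) (.node 36 (.node 172 (.node 127 .nil .nil) (.node 227 .nil .nil)) (.node 167 (.node 111 .nil .nil) .nil)))) (.node 69 (.node 176 (.node 177 (.node 238 (.node 158 .nil .nil) (.node 226 .nil .nil)) (.node 32 (.node 248 .nil .nil) (.node 66 .nil .nil))) (.node 261 (.node 7 (.node 114 .nil .nil) (.node 64 .nil .nil)) (.node 248 (.node 275 .nil .nil) .nil))) (.node 292 (.node 271 (.node 80 (.node 269 .nil .nil) (.node 166 .nil .nil)) (.node 122 (.node 271 .nil .nil) .nil)) (.node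 36 (.node 191 (.node 130 .nil .nil) (.node 102 .nil .nil)) (.node 83 (.node 166 .nil .nil) .nil))))) (.node 114 (.node 7 (.node 109 (.node 33 (.node 51 (.node 199 .nil .nil) (.node 103 .nil .nil)) (.node 30 (.node 178 .nil .nil) (.node 121 .nil .nil))) (.node 12 (.node 170 (.node 175 .nil .nil) (.node 136 .nil .nil)) (.node 40 (.node 67 .nil .nil) .nil))) (.node 229 (.node 238 (.node 160 (.node 107 .nil .nil) (.node 172 .nil .nil)) (.node 56 (.node 171 .nil .nil) .nil)) (.node 193 (.node 141 (.node 233 .nil .nil) (.node 124 .nil .nil)) (.node 118 (.node 104 .nil .nil) .nil)))) (.node 109 (.node 287 (.node 4 (.node 107 (.node 221 .nil .nil) (.node 254 .nil .nil)) (.node 191 (.node 17 .nil .nil) (.node 272 .nil .nil))) (.node 138 (.node 205 (.node 28 .nil .nil) (.node 78 .nil .nil)) (.node 162 (.node 22 .nil .nil) .nil))) (.node 10 (.node 236 (.node 190 (.node 241 .nil .nil) (.node 168 .nil .nil)) (.node 65 (.node 124 .nil .nil) .nil)) (.node 64 (.node 144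 (.node 244 .nil .nil) (.node 95 .nil .nil)) (.node 208 (.node 39 .nil .nil) .nil))))))) (.node 95 (.node 211 (.node 185 (.node 249 (.node 179 (.node 275 (.node 123 (.node 153 .nil .nil) (.node 172 .nil .nil)) (.node 148 (.node 20 .nil .nil) (.node 173 .nil .nil))) (.node 134 (.node 168 (.node 262 .nil .nil) (.node 261 .nil .nil)) (.node 253 (.node 116 .nil .nil) .nil))) (.node 275 (.node 81 (.node 155 (.node 155 .nil .nil) (.node 91 .nil .nil)) (.node 68 (.node 226 .nil .nil) (.node 63 .nil .nil))) (.node 39 (.node 253 (.node 181 .nil .nil) (.node 276 .nil .nil)) (.node 36 (.node 32 .nil .nil) .nil)))) (.node 261 (.node 279 (.node 66 (.node 200 (.node 117 .nil .nil) (.node 64 .nil .nil)) (.node 177 (.node 87 .nil .nil) (.node 157 .nil .nil))) (.node 254 (.node 257 (.node 56 .nil .nil) (.node 289 .nil .nil)) (.node 220 (.node 127 .nil .nil) .nil))) (.node 262 (.node 135 (.node 121 (.node 230 .nil .nil) (.node 166 .nil .nil)) (.node 164 (.node 187 .nil .nil)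 .nil)) (.node 44 (.node 255 (.node 285 .nil .nil) (.node 192 .nil .nil)) (.node 247 (.node 294 .nil .nil) .nil))))) (.node 35 (.node 167 (.node 234 (.node 10 (.node 118 (.node 284 .nil .nil) (.node 81 .nil .nil)) (.node 3 (.node 98 .nil .nil) (.node 130 .nil .nil))) (.node 55 (.node 243 (.node 80 .nil .nil) (.node 146 .nil .nil)) (.node 291 (.node 170 .nil .nil) .nil))) (.node 178 (.node 119 (.node 290 (.node 167 .nil .nil) (.node 263 .nil .nil)) (.node 242 (.node 33 .nil .nil) .nil)) (.node 77 (.node 241 (.node 158 .nil .nil) (.node 46 .nil .nil)) (.node 280 (.node 203 .nil .nil) .nil)))) (.node 285 (.node 126 (.node 75 (.node 201 (.node 173 .nil .nil) (.node 85 .nil .nil)) (.node 50 (.node 274 .nil .nil) (.node 129 .nil .nil))) (.node 52 (.node 60 (.node 21 .nil .nil) (.node 13 .nil .nil)) (.node 78 (.node 123 .nil .nil) .nil))) (.node 99 (.node 272 (.node 267 (.node 195 .nil .nil) (.node 170 .nil .nil)) (.node 223 (.node 141 .nil .nil) .nil)) (.node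 206 (.node 1 (.node 82 .nil .nil) (.node 86 .nil .nil)) (.node 8 (.node 122 .nil .nil) .nil)))))) (.node 115 (.node 100 (.node 170 (.node 272 (.node 145 (.node 228 (.node 279 .nil .nil) (.node 286 .nil .nil)) (.node 31 (.node 267 .nil .nil) (.node 20 .nil .nil))) (.node 214 (.node 88 (.node 26 .nil .nil) (.node 193 .nil .nil)) (.node 188 (.node 45 .nil .nil) .nil))) (.node 31 (.node 177 (.node 147 (.node 178 .nil .nil) (.node 88 .nil .nil)) (.node 211 (.node 45 .nil .nil) (.node 257 .nil .nil))) (.node 95 (.node 166 (.node 52 .nil .nil) (.node 126 .nil .nil)) (.node 44 (.node 140 .nil .nil) .nil)))) (.node 223 (.node 294 (.node 125 (.node 155 (.node 135 .nil .nil) (.node 196 .nil .nil)) (.node 137 (.node 53 .nil .nil) (.node 276 .nil .nil))) (.node 207 (.node 223 (.node 192 .nil .nil) (.node 5 .nil .nil)) (.node 287 (.node 129 .nil .nil) .nil))) (.node 276 (.node 90 (.node 196 (.node 58 .nil .nil) (.node 246 .nil .nil)) (.node 146 (.node 117 .nil .nil)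 .nil)) (.node 118 (.node 185 (.node 4 .nil .nil) (.node 122 .nil .nil)) (.node 281 (.node 249 .nil .nil) .nil))))) (.node 104 (.node 289 (.node 153 (.node 152 (.node 46 (.node 73 .nil .nil) (.node 106 .nil .nil)) (.node 64 (.node 63 .nil .nil) (.node 118 .nil .nil))) (.node 193 (.node 82 (.node 95 .nil .nil) (.node 114 .nil .nil)) (.node 161 (.node 269 .nil .nil) .nil))) (.node 135 (.node 134 (.node 124 (.node 90 .nil .nil) (.node 46 .nil .nil)) (.node 284 (.node 16 .nil .nil) .nil)) (.node 20 (.node 55 (.node 74 .nil .nil) (.node 203 .nil .nil)) (.node 269 (.node 28 .nil .nil) .nil)))) (.node 90 (.node 264 (.node 188 (.node 248 (.node 48 .nil .nil) (.node 195 .nil .nil)) (.node 77 (.node 203 .nil .nil) (.node 147 .nil .nil))) (.node 283 (.node 203 (.node 95 .nil .nil) (.node 82 .nil .nil)) (.node 92 (.node 6 .nil .nil) .nil))) (.node 60 (.node 275 (.node 38 (.node 233 .nil .nil) (.node 24 .nil .nil)) (.node 151 (.node 33 .nil .nil) .nil)) (.node 78 (.node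 281 (.node 254 .nil .nil) (.node 228 .nil .nil)) (.node 4 (.node 220 .nil .nil) .nil))))))))

/-- Part of `repOf`. -/
noncomputable def repOf_l_r_r_r_r : Arr ℕ :=
  (.node 34 (.node 275 (.node 19 (.node 88 (.node 82 (.node 239 (.node 13 (.node 279 (.node 295 .nil .nil) (.node 224 .nil .nil)) (.node 4 (.node 204 .nil .nil) (.node 213 .nil .nil))) (.node 81 (.node 54 (.node 142 .nil .nil) (.node 153 .nil .nil)) (.node 184 (.node 32 .nil .nil) .nil))) (.node 250 (.node 225 (.node 23 (.node 183 .nil .nil) (.node 239 .nil .nil)) (.node 138 (.node 172 .nil .nil) (.node 204 .nil .nil))) (.node 212 (.node 73 (.node 240 .nil .nil) (.node 243 .nil .nil)) (.node 170 (.node 71 .nil .nil) .nil)))) (.node 53 (.node 281 (.node 23 (.node 91 (.node 211 .nil .nil) (.node 4 .nil .nil)) (.node 115 (.node 192 .nil .nil) (.node 289 .nil .nil))) (.node 112 (.node 72 (.node 47 .nil .nil) (.node 135 .nil .nil)) (.node 80 (.node 22 .nil .nil) .nil))) (.node 260 (.node 203 (.node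 37 (.node 152 .nil .nil) (.node 204 .nil .nil)) (.node 142 (.node 57 .nil .nil) .nil)) (.node 84 (.node 145 (.node 159 .nil .nil) (.node 124 .nil .nil)) (.node 118 (.node 254 .nil .nil) .nil))))) (.node 139 (.node 101 (.node 262 (.node 73 (.node 277 (.node 215 .nil .nil) (.node 55 .nil .nil)) (.node 112 (.node 192 .nil .nil) (.node 192 .nil .nil))) (.node 230 (.node 18 (.node 67 .nil .nil) (.node 56 .nil .nil)) (.node 146 (.node 104 .nil .nil) .nil))) (.node 28 (.node 178 (.node 172 (.node 232 .nil .nil) (.node 131 .nil .nil)) (.node 219 (.node 17 .nil .nil) .nil)) (.node 60 (.node 112 (.node 6 .nil .nil) (.node 61 .nil .nil)) (.node 190 (.node 85 .nil .nil) .nil)))) (.node 269 (.node 93 (.node 255 (.node 106 (.node 268 .nil .nil) (.node 206 .nil .nil)) (.node 28 (.node 140 .nil .nil) (.node 259 .nil .nil))) (.node 237 (.node 274 (.node 87 .nil .nil) (.node 12 .nil .nil)) (.node 63 (.node 103 .nil .nil) .nil))) (.node 262 (.node 81 (.node 130 (.node 116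 .nil .nil) (.node 280 .nil .nil)) (.node 102 (.node 268 .nil .nil) .nil)) (.node 188 (.node 208 (.node 1 .nil .nil) (.node 209 .nil .nil)) (.node 245 (.node 156 .nil .nil) .nil)))))) (.node 255 (.node 13 (.node 100 (.node 226 (.node 257 (.node 169 (.node 146 .nil .nil) (.node 40 .nil .nil)) (.node 188 (.node 5 .nil .nil) (.node 164 .nil .nil))) (.node 92 (.node 280 (.node 262 .nil .nil) (.node 268 .nil .nil)) (.node 190 (.node 58 .nil .nil) .nil))) (.node 175 (.node 168 (.node 84 (.node 166 .nil .nil) (.node 113 .nil .nil)) (.node 194 (.node 282 .nil .nil) (.node 128 .nil .nil))) (.node 212 (.node 40 (.node 106 .nil .nil) (.node 30 .nil .nil)) (.node 247 (.node 45 .nil .nil) .nil)))) (.node 46 (.node 84 (.node 84 (.node 155 (.node 46 .nil .nil) (.node 10 .nil .nil)) (.node 96 (.node 217 .nil .nil) (.node 72 .nil .nil))) (.node 103 (.node 169 (.node 81 .nil .nil) (.node 208 .nil .nil)) (.node 285 (.node 95 .nil .nil) .nil))) (.node 69 (.node 196 (.node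 10 (.node 246 .nil .nil) (.node 189 .nil .nil)) (.node 180 (.node 126 .nil .nil) .nil)) (.node 208 (.node 159 (.node 150 .nil .nil) (.node 224 .nil .nil)) (.node 148 (.node 227 .nil .nil) .nil))))) (.node 106 (.node 90 (.node 144 (.node 176 (.node 15 (.node 238 .nil .nil) (.node 91 .nil .nil)) (.node 115 (.node 168 .nil .nil) (.node 87 .nil .nil))) (.node 102 (.node 181 (.node 47 .nil .nil) (.node 203 .nil .nil)) (.node 73 (.node 94 .nil .nil) .nil))) (.node 242 (.node 131 (.node 192 (.node 10 .nil .nil) (.node 45 .nil .nil)) (.node 269 (.node 10 .nil .nil) .nil)) (.node 152 (.node 249 (.node 158 .nil .nil) (.node 213 .nil .nil)) (.node 126 (.node 132 .nil .nil) .nil)))) (.node 65 (.node 286 (.node 169 (.node 230 (.node 175 .nil .nil) (.node 79 .nil .nil)) (.node 110 (.node 284 .nil .nil) (.node 217 .nil .nil))) (.node 220 (.node 57 (.node 201 .nil .nil) (.node 73 .nil .nil)) (.node 135 (.node 171 .nil .nil) .nil))) (.node 232 (.node 260 (.node 152 (.node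 167 .nil .nil) (.node 74 .nil .nil)) (.node 39 (.node 276 .nil .nil) .nil)) (.node 233 (.node 128 (.node 83 .nil .nil) (.node 89 .nil .nil)) (.node 126 (.node 285 .nil .nil) .nil))))))) (.node 139 (.node 109 (.node 207 (.node 169 (.node 35 (.node 8 (.node 247 (.node 197 .nil .nil) (.node 200 .nil .nil)) (.node 217 (.node 242 .nil .nil) (.node 96 .nil .nil))) (.node 104 (.node 10 (.node 62 .nil .nil) (.node 204 .nil .nil)) (.node 257 (.node 89 .nil .nil) .nil))) (.node 241 (.node 252 (.node 280 (.node 52 .nil .nil) (.node 225 .nil .nil)) (.node 42 (.node 244 .nil .nil) (.node 222 .nil .nil))) (.node 246 (.node 143 (.node 112 .nil .nil) (.node 102 .nil .nil)) (.node 98 (.node 229 .nil .nil) .nil)))) (.node 94 (.node 146 (.node 162 (.node 23 (.node 255 .nil .nil) (.node 24 .nil .nil)) (.node 225 (.node 243 .nil .nil) (.node 122 .nil .nil))) (.node 107 (.node 78 (.node 72 .nil .nil) (.node 225 .nil .nil)) (.node 7 (.node 142 .nil .nil) .nil))) (.node 206 (.node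 256 (.node 228 (.node 30 .nil .nil) (.node 270 .nil .nil)) (.node 283 (.node 144 .nil .nil) .nil)) (.node 254 (.node 268 (.node 162 .nil .nil) (.node 87 .nil .nil)) (.node 241 (.node 20 .nil .nil) .nil))))) (.node 100 (.node 295 (.node 247 (.node 129 (.node 209 (.node 201 .nil .nil) (.node 276 .nil .nil)) (.node 20 (.node 194 .nil .nil) (.node 25 .nil .nil))) (.node 164 (.node 193 (.node 145 .nil .nil) (.node 20 .nil .nil)) (.node 43 (.node 48 .nil .nil) .nil))) (.node 139 (.node 290 (.node 124 (.node 188 .nil .nil) (.node 99 .nil .nil)) (.node 162 (.node 132 .nil .nil) .nil)) (.node 118 (.node 190 (.node 221 .nil .nil) (.node 228 .nil .nil)) (.node 271 (.node 49 .nil .nil) .nil)))) (.node 209 (.node 167 (.node 278 (.node 173 (.node 194 .nil .nil) (.node 134 .nil .nil)) (.node 94 (.node 87 .nil .nil) (.node 192 .nil .nil))) (.node 242 (.node 270 (.node 173 .nil .nil) (.node 251 .nil .nil)) (.node 180 (.node 270 .nil .nil) .nil))) (.node 27 (.node 258 (.node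 214 (.node 19 .nil .nil) (.node 190 .nil .nil)) (.node 59 (.node 29 .nil .nil) .nil)) (.node 101 (.node 236 (.node 179 .nil .nil) (.node 283 .nil .nil)) (.node 151 (.node 84 .nil .nil) .nil)))))) (.node 153 (.node 207 (.node 223 (.node 199 (.node 134 (.node 272 (.node 163 .nil .nil) (.node 42 .nil .nil)) (.node 14 (.node 156 .nil .nil) (.node 193 .nil .nil))) (.node 223 (.node 69 (.node 212 .nil .nil) (.node 224 .nil .nil)) (.node 66 (.node 169 .nil .nil) .nil))) (.node 42 (.node 84 (.node 147 (.node 73 .nil .nil) (.node 14 .nil .nil)) (.node 231 (.node 26 .nil .nil) (.node 119 .nil .nil))) (.node 17 (.node 251 (.node 78 .nil .nil) (.node 89 .nil .nil)) (.node 146 (.node 70 .nil .nil) .nil)))) (.node 251 (.node 71 (.node 266 (.node 187 (.node 254 .nil .nil) (.node 156 .nil .nil)) (.node 257 (.node 116 .nil .nil) (.node 266 .nil .nil))) (.node 291 (.node 156 (.node 76 .nil .nil) (.node 80 .nil .nil)) (.node 237 (.node 87 .nil .nil) .nil))) (.node 60 (.node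 78 (.node 200 (.node 148 .nil .nil) (.node 255 .nil .nil)) (.node 216 (.node 150 .nil .nil) .nil)) (.node 258 (.node 204 (.node 189 .nil .nil) (.node 97 .nil .nil)) (.node 57 (.node 186 .nil .nil) .nil))))) (.node 147 (.node 137 (.node 50 (.node 193 (.node 70 (.node 60 .nil .nil) (.node 194 .nil .nil)) (.node 11 (.node 198 .nil .nil) (.node 237 .nil .nil))) (.node 256 (.node 148 (.node 9 .nil .nil) (.node 291 .nil .nil)) (.node 158 (.node 49 .nil .nil) .nil))) (.node 124 (.node 253 (.node 160 (.node 63 .nil .nil) (.node 277 .nil .nil)) (.node 276 (.node 69 .nil .nil) .nil)) (.node 125 (.node 171 (.node 86 .nil .nil) (.node 26 .nil .nil)) (.node 287 (.node 123 .nil .nil) .nil)))) (.node 180 (.node 119 (.node 20 (.node 273 (.node 7 .nil .nil) (.node 247 .nil .nil)) (.node 266 (.node 217 .nil .nil) (.node 258 .nil .nil))) (.node 233 (.node 226 (.node 152 .nil .nil) (.node 216 .nil .nil)) (.node 30 (.node 120 .nil .nil) .nil))) (.node 171 (.node 269 (.node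 20 (.node 151 .nil .nil) (.node 128 .nil .nil)) (.node 14 (.node 292 .nil .nil) .nil)) (.node 256 (.node 70 (.node 104 .nil .nil) (.node 289 .nil .nil)) (.node 6 (.node 120 .nil .nil) .nil))))))))

/-- Part of `repOf`. -/
noncomputable def repOf_l_r_r_r : Arr ℕ :=
  .node 288 repOf_l_r_r_r_l repOf_l_r_r_r_r

/-- Part of `repOf`. -/
noncomputable def repOf_l_r_r : Arr ℕ :=
  .node 0 repOf_l_r_r_l repOf_l_r_r_r

/-- Part of `repOf`. -/
noncomputable def repOf_l_r : Arr ℕ :=
  .node 0 repOf_l_r_l repOf_l_r_r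

/-- Part of `repOf`. -/
noncomputable def repOf_l : Arr ℕ :=
  .node 0 repOf_l_l repOf_l_r

/-- Part of `repOf`. -/
noncomputable def repOf_r_l_l_l_l : Arr ℕ :=
  (.node 82 (.node 131 (.node 188 (.node 193 (.node 160 (.node 79 (.node 212 (.node 180 (.node 141 .nil .nil) (.node 111 .nil .nil)) (.node 114 (.node 71 .nil .nil) (.node 113 .nil .nil))) (.node 190 (.node 91 (.node 46 .nil .nil) (.node 250 .nil .nil)) (.node 190 (.node 267 .nil .nil) .nil))) (.node 215 (.node 186 (.node 12 (.node 83 .nil .nil) (.node 100 .nil .nil)) (.node 265 (.node 281 .nil .nil) (.node 3 .nil .nil))) (.node 235 (.node 98 (.node 100 .nil .nil) (.node 49 .nil .nil)) (.node 102 (.node 212 .nil .nil) .nil)))) (.node 253 (.node 206 (.node 174 (.node 204 (.node 3 .nil .nil) (.node 220 .nil .nil)) (.node 211 (.node 204 .nil .nil) (.node 39 .nil .nil))) (.node 84 (.node 130 (.node 218 .nil .nil) (.node 120 .nil .nil)) (.node 291 (.node 212 .nil .nil) .nil))) (.node 149 (.node 232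 (.node 251 (.node 182 .nil .nil) (.node 213 .nil .nil)) (.node 111 (.node 92 .nil .nil) .nil)) (.node 23 (.node 259 (.node 281 .nil .nil) (.node 139 .nil .nil)) (.node 219 (.node 142 .nil .nil) .nil))))) (.node 70 (.node 160 (.node 6 (.node 129 (.node 289 (.node 38 .nil .nil) (.node 216 .nil .nil)) (.node 26 (.node 69 .nil .nil) (.node 219 .nil .nil))) (.node 77 (.node 290 (.node 42 .nil .nil) (.node 176 .nil .nil)) (.node 245 (.node 139 .nil .nil) .nil))) (.node 54 (.node 210 (.node 267 (.node 159 .nil .nil) (.node 241 .nil .nil)) (.node 230 (.node 191 .nil .nil) .nil)) (.node 202 (.node 17 (.node 292 .nil .nil) (.node 29 .nil .nil)) (.node 94 (.node 162 .nil .nil) .nil)))) (.node 39 (.node 228 (.node 204 (.node 44 (.node 278 .nil .nil) (.node 244 .nil .nil)) (.node 166 (.node 102 .nil .nil) (.node 268 .nil .nil))) (.node 26 (.node 143 (.node 163 .nil .nil) (.node 135 .nil .nil)) (.node 254 (.node 197 .nil .nil) .nil))) (.node 137 (.node 173 (.node 29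 (.node 272 .nil .nil) (.node 289 .nil .nil)) (.node 162 (.node 158 .nil .nil) .nil)) (.node 204 (.node 227 (.node 81 .nil .nil) (.node 64 .nil .nil)) (.node 246 (.node 43 .nil .nil) .nil)))))) (.node 244 (.node 98 (.node 144 (.node 275 (.node 193 (.node 247 (.node 87 .nil .nil) (.node 148 .nil .nil)) (.node 186 (.node 72 .nil .nil) (.node 37 .nil .nil))) (.node 105 (.node 249 (.node 145 .nil .nil) (.node 171 .nil .nil)) (.node 18 (.node 35 .nil .nil) .nil))) (.node 25 (.node 61 (.node 166 (.node 120 .nil .nil) (.node 105 .nil .nil)) (.node 72 (.node 210 .nil .nil) (.node 280 .nil .nil))) (.node 277 (.node 76 (.node 136 .nil .nil) (.node 189 .nil .nil)) (.node 271 (.node 62 .nil .nil) .nil)))) (.node 281 (.node 199 (.node 102 (.node 241 (.node 167 .nil .nil) (.node 16 .nil .nil)) (.node 237 (.node 210 .nil .nil) (.node 275 .nil .nil))) (.node 196 (.node 292 (.node 221 .nil .nil) (.node 255 .nil .nil)) (.node 280 (.node 76 .nil .nil) .nil))) (.node 267 (.node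 189 (.node 106 (.node 234 .nil .nil) (.node 133 .nil .nil)) (.node 128 (.node 248 .nil .nil) .nil)) (.node 172 (.node 161 (.node 287 .nil .nil) (.node 150 .nil .nil)) (.node 147 (.node 223 .nil .nil) .nil))))) (.node 193 (.node 264 (.node 97 (.node 121 (.node 209 (.node 121 .nil .nil) (.node 103 .nil .nil)) (.node 286 (.node 24 .nil .nil) (.node 24 .nil .nil))) (.node 38 (.node 187 (.node 57 .nil .nil) (.node 126 .nil .nil)) (.node 227 (.node 40 .nil .nil) .nil))) (.node 86 (.node 55 (.node 147 (.node 44 .nil .nil) (.node 277 .nil .nil)) (.node 271 (.node 52 .nil .nil) .nil)) (.node 82 (.node 238 (.node 192 .nil .nil) (.node 173 .nil .nil)) (.node 83 (.node 71 .nil .nil) .nil)))) (.node 159 (.node 225 (.node 38 (.node 41 (.node 274 .nil .nil) (.node 45 .nil .nil)) (.node 235 (.node 177 .nil .nil) (.node 139 .nil .nil))) (.node 80 (.node 294 (.node 132 .nil .nil) (.node 286 .nil .nil)) (.node 145 (.node 256 .nil .nil) .nil))) (.node 214 (.node 207 (.node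 10 (.node 92 .nil .nil) (.node 44 .nil .nil)) (.node 106 (.node 206 .nil .nil) .nil)) (.node 290 (.node 227 (.node 179 .nil .nil) (.node 157 .nil .nil)) (.node 239 (.node 76 .nil .nil) .nil))))))) (.node 42 (.node 98 (.node 270 (.node 288 (.node 159 (.node 81 (.node 85 (.node 272 .nil .nil) (.node 79 .nil .nil)) (.node 180 (.node 51 .nil .nil) (.node 214 .nil .nil))) (.node 181 (.node 13 (.node 154 .nil .nil) (.node 257 .nil .nil)) (.node 200 (.node 166 .nil .nil) .nil))) (.node 4 (.node 208 (.node 57 (.node 107 .nil .nil) (.node 5 .nil .nil)) (.node 254 (.node 74 .nil .nil) (.node 63 .nil .nil))) (.node 96 (.node 184 (.node 242 .nil .nil) (.node 29 .nil .nil)) (.node 184 (.node 71 .nil .nil) .nil)))) (.node 292 (.node 143 (.node 194 (.node 100 (.node 193 .nil .nil) (.node 277 .nil .nil)) (.node 194 (.node 228 .nil .nil) (.node 90 .nil .nil))) (.node 58 (.node 119 (.node 275 .nil .nil) (.node 254 .nil .nil)) (.node 248 (.node 80 .nil .nil) .nil))) (.node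 62 (.node 121 (.node 129 (.node 199 .nil .nil) (.node 123 .nil .nil)) (.node 21 (.node 291 .nil .nil) .nil)) (.node 186 (.node 257 (.node 121 .nil .nil) (.node 135 .nil .nil)) (.node 123 (.node 15 .nil .nil) .nil))))) (.node 68 (.node 76 (.node 151 (.node 192 (.node 239 (.node 260 .nil .nil) (.node 130 .nil .nil)) (.node 176 (.node 37 .nil .nil) (.node 15 .nil .nil))) (.node 129 (.node 4 (.node 212 .nil .nil) (.node 120 .nil .nil)) (.node 153 (.node 28 .nil .nil) .nil))) (.node 171 (.node 63 (.node 64 (.node 142 .nil .nil) (.node 19 .nil .nil)) (.node 219 (.node 263 .nil .nil) .nil)) (.node 119 (.node 133 (.node 214 .nil .nil) (.node 200 .nil .nil)) (.node 185 (.node 198 .nil .nil) .nil)))) (.node 242 (.node 14 (.node 14 (.node 54 (.node 133 .nil .nil) (.node 131 .nil .nil)) (.node 61 (.node 287 .nil .nil) (.node 123 .nil .nil))) (.node 229 (.node 276 (.node 8 .nil .nil) (.node 28 .nil .nil)) (.node 40 (.node 162 .nil .nil) .nil))) (.node 164 (.node 61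 (.node 206 (.node 128 .nil .nil) (.node 230 .nil .nil)) (.node 138 (.node 16 .nil .nil) .nil)) (.node 27 (.node 225 (.node 220 .nil .nil) (.node 166 .nil .nil)) (.node 52 (.node 283 .nil .nil) .nil)))))) (.node 154 (.node 171 (.node 4 (.node 43 (.node 154 (.node 44 (.node 273 .nil .nil) (.node 84 .nil .nil)) (.node 36 (.node 200 .nil .nil) (.node 197 .nil .nil))) (.node 214 (.node 137 (.node 62 .nil .nil) (.node 225 .nil .nil)) (.node 59 (.node 167 .nil .nil) .nil))) (.node 100 (.node 232 (.node 227 (.node 32 .nil .nil) (.node 91 .nil .nil)) (.node 271 (.node 87 .nil .nil) (.node 254 .nil .nil))) (.node 202 (.node 225 (.node 150 .nil .nil) (.node 80 .nil .nil)) (.node 93 (.node 169 .nil .nil) .nil)))) (.node 124 (.node 261 (.node 210 (.node 208 (.node 148 .nil .nil) (.node 243 .nil .nil)) (.node 292 (.node 291 .nil .nil) (.node 164 .nil .nil))) (.node 211 (.node 35 (.node 33 .nil .nil) (.node 73 .nil .nil)) (.node 186 (.node 60 .nil .nil) .nil))) (.node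 186 (.node 14 (.node 127 (.node 280 .nil .nil) (.node 8 .nil .nil)) (.node 216 (.node 165 .nil .nil) .nil)) (.node 288 (.node 169 (.node 67 .nil .nil) (.node 190 .nil .nil)) (.node 147 (.node 282 .nil .nil) .nil))))) (.node 130 (.node 125 (.node 291 (.node 84 (.node 209 (.node 250 .nil .nil) (.node 143 .nil .nil)) (.node 279 (.node 71 .nil .nil) (.node 14 .nil .nil))) (.node 30 (.node 22 (.node 68 .nil .nil) (.node 42 .nil .nil)) (.node 216 (.node 274 .nil .nil) .nil))) (.node 289 (.node 169 (.node 264 (.node 191 .nil .nil) (.node 115 .nil .nil)) (.node 58 (.node 74 .nil .nil) .nil)) (.node 286 (.node 176 (.node 174 .nil .nil) (.node 171 .nil .nil)) (.node 111 (.node 76 .nil .nil) .nil)))) (.node 165 (.node 105 (.node 39 (.node 248 (.node 158 .nil .nil) (.node 248 .nil .nil)) (.node 221 (.node 182 .nil .nil) (.node 211 .nil .nil))) (.node 220 (.node 199 (.node 194 .nil .nil) (.node 30 .nil .nil)) (.node 172 (.node 16 .nil .nil) .nil))) (.node 162 (.node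 285 (.node 262 (.node 142 .nil .nil) (.node 42 .nil .nil)) (.node 158 (.node 51 .nil .nil) .nil)) (.node 5 (.node 122 (.node 42 .nil .nil) (.node 261 .nil .nil)) (.node 165 (.node 234 .nil .nil) .nil))))))))

/-- Part of `repOf`. -/
noncomputable def repOf_r_l_l_l_r : Arr ℕ :=
  (.node 155 (.node 186 (.node 136 (.node 266 (.node 146 (.node 282 (.node 95 (.node 43 (.node 255 .nil .nil) (.node 154 .nil .nil)) (.node 105 (.node 253 .nil .nil) (.node 214 .nil .nil))) (.node 206 (.node 123 (.node 107 .nil .nil) (.node 125 .nil .nil)) (.node 5 (.node 164 .nil .nil) .nil))) (.node 271 (.node 89 (.node 192 (.node 244 .nil .nil) (.node 74 .nil .nil)) (.node 39 (.node 218 .nil .nil) (.node 228 .nil .nil))) (.node 28 (.node 226 (.node 206 .nil .nil) (.node 66 .nil .nil)) (.node 193 (.node 99 .nil .nil) .nil)))) (.node 100 (.node 226 (.node 278 (.node 115 (.node 216 .nil .nil) (.node 207 .nil .nil)) (.node 142 (.node 52 .nil .nil) (.node 280 .nil .nil))) (.node 75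 (.node 51 (.node 183 .nil .nil) (.node 160 .nil .nil)) (.node 292 (.node 238 .nil .nil) .nil))) (.node 186 (.node 138 (.node 185 (.node 7 .nil .nil) (.node 46 .nil .nil)) (.node 186 (.node 137 .nil .nil) .nil)) (.node 110 (.node 225 (.node 249 .nil .nil) (.node 267 .nil .nil)) (.node 138 (.node 139 .nil .nil) .nil))))) (.node 192 (.node 176 (.node 208 (.node 257 (.node 57 (.node 264 .nil .nil) (.node 62 .nil .nil)) (.node 263 (.node 232 .nil .nil) (.node 167 .nil .nil))) (.node 73 (.node 274 (.node 128 .nil .nil) (.node 17 .nil .nil)) (.node 218 (.node 64 .nil .nil) .nil))) (.node 265 (.node 60 (.node 39 (.node 64 .nil .nil) (.node 77 .nil .nil)) (.node 108 (.node 144 .nil .nil) .nil)) (.node 60 (.node 106 (.node 211 .nil .nil) (.node 282 .nil .nil)) (.node 224 (.node 95 .nil .nil) .nil)))) (.node 80 (.node 151 (.node 258 (.node 167 (.node 289 .nil .nil) (.node 292 .nil .nil)) (.node 39 (.node 291 .nil .nil) (.node 21 .nil .nil))) (.node 41 (.node 201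 (.node 61 .nil .nil) (.node 265 .nil .nil)) (.node 10 (.node 108 .nil .nil) .nil))) (.node 163 (.node 206 (.node 184 (.node 29 .nil .nil) (.node 129 .nil .nil)) (.node 278 (.node 204 .nil .nil) .nil)) (.node 36 (.node 132 (.node 14 .nil .nil) (.node 2 .nil .nil)) (.node 198 (.node 189 .nil .nil) .nil)))))) (.node 214 (.node 53 (.node 202 (.node 130 (.node 192 (.node 264 (.node 190 .nil .nil) (.node 188 .nil .nil)) (.node 277 (.node 3 .nil .nil) (.node 116 .nil .nil))) (.node 163 (.node 236 (.node 119 .nil .nil) (.node 75 .nil .nil)) (.node 274 (.node 70 .nil .nil) .nil))) (.node 58 (.node 178 (.node 77 (.node 57 .nil .nil) (.node 113 .nil .nil)) (.node 212 (.node 186 .nil .nil) (.node 221 .nil .nil))) (.node 8 (.node 68 (.node 72 .nil .nil) (.node 185 .nil .nil)) (.node 131 (.node 259 .nil .nil) .nil)))) (.node 156 (.node 282 (.node 36 (.node 250 (.node 198 .nil .nil) (.node 175 .nil .nil)) (.node 111 (.node 22 .nil .nil) (.node 203 .nil .nil))) (.node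 76 (.node 289 (.node 258 .nil .nil) (.node 153 .nil .nil)) (.node 243 (.node 232 .nil .nil) .nil))) (.node 184 (.node 201 (.node 3 (.node 92 .nil .nil) (.node 202 .nil .nil)) (.node 268 (.node 178 .nil .nil) .nil)) (.node 163 (.node 54 (.node 45 .nil .nil) (.node 182 .nil .nil)) (.node 25 (.node 282 .nil .nil) .nil))))) (.node 4 (.node 101 (.node 123 (.node 37 (.node 121 (.node 208 .nil .nil) (.node 134 .nil .nil)) (.node 100 (.node 28 .nil .nil) (.node 279 .nil .nil))) (.node 276 (.node 292 (.node 26 .nil .nil) (.node 115 .nil .nil)) (.node 222 (.node 170 .nil .nil) .nil))) (.node 176 (.node 218 (.node 287 (.node 149 .nil .nil) (.node 152 .nil .nil)) (.node 19 (.node 292 .nil .nil) .nil)) (.node 232 (.node 118 (.node 86 .nil .nil) (.node 55 .nil .nil)) (.node 268 (.node 166 .nil .nil) .nil)))) (.node 244 (.node 125 (.node 280 (.node 31 (.node 206 .nil .nil) (.node 41 .nil .nil)) (.node 213 (.node 67 .nil .nil) (.node 194 .nil .nil))) (.node 288 (.node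 113 (.node 161 .nil .nil) (.node 126 .nil .nil)) (.node 37 (.node 287 .nil .nil) .nil))) (.node 80 (.node 90 (.node 185 (.node 157 .nil .nil) (.node 20 .nil .nil)) (.node 172 (.node 229 .nil .nil) .nil)) (.node 275 (.node 202 (.node 6 .nil .nil) (.node 66 .nil .nil)) (.node 71 (.node 148 .nil .nil) .nil))))))) (.node 131 (.node 58 (.node 188 (.node 129 (.node 274 (.node 232 (.node 294 (.node 263 .nil .nil) (.node 27 .nil .nil)) (.node 124 (.node 204 .nil .nil) (.node 86 .nil .nil))) (.node 182 (.node 154 (.node 52 .nil .nil) (.node 46 .nil .nil)) (.node 72 (.node 94 .nil .nil) .nil))) (.node 250 (.node 226 (.node 282 (.node 109 .nil .nil) (.node 159 .nil .nil)) (.node 112 (.node 177 .nil .nil) (.node 147 .nil .nil))) (.node 28 (.node 230 (.node 40 .nil .nil) (.node 261 .nil .nil)) (.node 178 (.node 52 .nil .nil) .nil)))) (.node 83 (.node 161 (.node 7 (.node 235 (.node 274 .nil .nil) (.node 164 .nil .nil)) (.node 38 (.node 36 .nil .nil) (.node 241 .nil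 .nil))) (.node 27 (.node 293 (.node 79 .nil .nil) (.node 79 .nil .nil)) (.node 271 (.node 61 .nil .nil) .nil))) (.node 119 (.node 22 (.node 210 (.node 138 .nil .nil) (.node 95 .nil .nil)) (.node 55 (.node 93 .nil .nil) .nil)) (.node 85 (.node 268 (.node 232 .nil .nil) (.node 131 .nil .nil)) (.node 3 (.node 261 .nil .nil) .nil))))) (.node 113 (.node 258 (.node 45 (.node 257 (.node 43 (.node 163 .nil .nil) (.node 256 .nil .nil)) (.node 51 (.node 265 .nil .nil) (.node 249 .nil .nil))) (.node 216 (.node 274 (.node 90 .nil .nil) (.node 82 .nil .nil)) (.node 8 (.node 48 .nil .nil) .nil))) (.node 291 (.node 202 (.node 202 (.node 45 .nil .nil) (.node 196 .nil .nil)) (.node 11 (.node 258 .nil .nil) .nil)) (.node 261 (.node 76 (.node 110 .nil .nil) (.node 83 .nil .nil)) (.node 98 (.node 49 .nil .nil) .nil)))) (.node 277 (.node 247 (.node 155 (.node 217 (.node 233 .nil .nil) (.node 207 .nil .nil)) (.node 181 (.node 157 .nil .nil) (.node 7 .nil .nil))) (.node 107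 (.node 191 (.node 202 .nil .nil) (.node 222 .nil .nil)) (.node 101 (.node 253 .nil .nil) .nil))) (.node 28 (.node 234 (.node 144 (.node 60 .nil .nil) (.node 188 .nil .nil)) (.node 143 (.node 146 .nil .nil) .nil)) (.node 50 (.node 122 (.node 65 .nil .nil) (.node 247 .nil .nil)) (.node 229 (.node 286 .nil .nil) .nil)))))) (.node 30 (.node 93 (.node 22 (.node 255 (.node 172 (.node 192 (.node 248 .nil .nil) (.node 276 .nil .nil)) (.node 163 (.node 189 .nil .nil) (.node 274 .nil .nil))) (.node 92 (.node 168 (.node 57 .nil .nil) (.node 150 .nil .nil)) (.node 245 (.node 135 .nil .nil) .nil))) (.node 158 (.node 15 (.node 267 (.node 106 .nil .nil) (.node 215 .nil .nil)) (.node 62 (.node 152 .nil .nil) (.node 142 .nil .nil))) (.node 227 (.node 13 (.node 283 .nil .nil) (.node 38 .nil .nil)) (.node 163 (.node 103 .nil .nil) .nil)))) (.node 223 (.node 224 (.node 261 (.node 230 (.node 139 .nil .nil) (.node 273 .nil .nil)) (.node 174 (.node 166 .nil .nil) (.node 285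 .nil .nil))) (.node 123 (.node 156 (.node 261 .nil .nil) (.node 225 .nil .nil)) (.node 182 (.node 109 .nil .nil) .nil))) (.node 277 (.node 278 (.node 51 (.node 195 .nil .nil) (.node 35 .nil .nil)) (.node 267 (.node 244 .nil .nil) .nil)) (.node 272 (.node 251 (.node 280 .nil .nil) (.node 262 .nil .nil)) (.node 143 (.node 41 .nil .nil) .nil))))) (.node 267 (.node 271 (.node 57 (.node 228 (.node 223 (.node 274 .nil .nil) (.node 129 .nil .nil)) (.node 49 (.node 14 .nil .nil) (.node 269 .nil .nil))) (.node 67 (.node 258 (.node 270 .nil .nil) (.node 57 .nil .nil)) (.node 268 (.node 247 .nil .nil) .nil))) (.node 267 (.node 34 (.node 180 (.node 23 .nil .nil) (.node 276 .nil .nil)) (.node 67 (.node 182 .nil .nil) .nil)) (.node 23 (.node 60 (.node 84 .nil .nil) (.node 21 .nil .nil)) (.node 280 (.node 209 .nil .nil) .nil)))) (.node 134 (.node 62 (.node 265 (.node 293 (.node 86 .nil .nil) (.node 110 .nil .nil)) (.node 49 (.node 164 .nil .nil) (.node 78 .nil .nil)))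 (.node 25 (.node 143 (.node 107 .nil .nil) (.node 16 .nil .nil)) (.node 13 (.node 178 .nil .nil) .nil))) (.node 55 (.node 144 (.node 117 (.node 25 .nil .nil) (.node 136 .nil .nil)) (.node 227 (.node 216 .nil .nil) .nil)) (.node 197 (.node 66 (.node 219 .nil .nil) (.node 280 .nil .nil)) (.node 187 (.node 261 .nil .nil) .nil))))))))

/-- Part of `repOf`. -/
noncomputable def repOf_r_l_l_l : Arr ℕ :=
  .node 0 repOf_r_l_l_l_l repOf_r_l_l_l_r

/-- Part of `repOf`. -/
noncomputable def repOf_r_l_l_r_l : Arr ℕ :=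
  (.node 65 (.node 185 (.node 241 (.node 224 (.node 161 (.node 124 (.node 134 (.node 256 (.node 110 .nil .nil) (.node 162 .nil .nil)) (.node 256 (.node 88 .nil .nil) (.node 122 .nil .nil))) (.node 48 (.node 72 (.node 45 .nil .nil) (.node 89 .nil .nil)) (.node 65 (.node 206 .nil .nil) .nil))) (.node 2 (.node 142 (.node 271 (.node 25 .nil .nil) (.node 292 .nil .nil)) (.node 270 (.node 189 .nil .nil) (.node 73 .nil .nil))) (.node 241 (.node 268 (.node 41 .nil .nil) (.node 151 .nil .nil)) (.node 147 (.node 200 .nil .nil) .nil)))) (.node 225 (.node 50 (.node 24 (.node 46 (.node 138 .nil .nil) (.node 229 .nil .nil)) (.node 51 (.node 245 .nil .nil) (.node 195 .nil .nil))) (.node 228 (.node 2 (.node 223 .nil .nil) (.node 136 .nil .nil)) (.node 60 (.node 115 .nil .nil) .nil))) (.node 78 (.node 137 (.node 44 (.node 14 .nil .nil) (.node 68 .nil .nil)) (.node 210 (.node 285 .nil .nil) .nil)) (.node 218 (.node 166 (.node 129 .nil .nil) (.node 101 .nil .nil)) (.node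 243 (.node 261 .nil .nil) .nil))))) (.node 151 (.node 46 (.node 235 (.node 141 (.node 42 (.node 213 .nil .nil) (.node 73 .nil .nil)) (.node 267 (.node 33 .nil .nil) (.node 258 .nil .nil))) (.node 266 (.node 147 (.node 195 .nil .nil) (.node 240 .nil .nil)) (.node 170 (.node 154 .nil .nil) .nil))) (.node 188 (.node 152 (.node 113 (.node 230 .nil .nil) (.node 235 .nil .nil)) (.node 41 (.node 53 .nil .nil) .nil)) (.node 246 (.node 221 (.node 19 .nil .nil) (.node 134 .nil .nil)) (.node 191 (.node 27 .nil .nil) .nil)))) (.node 139 (.node 90 (.node 248 (.node 193 (.node 57 .nil .nil) (.node 52 .nil .nil)) (.node 76 (.node 79 .nil .nil) (.node 236 .nil .nil))) (.node 145 (.node 5 (.node 149 .nil .nil) (.node 41 .nil .nil)) (.node 24 (.node 254 .nil .nil) .nil))) (.node 38 (.node 260 (.node 225 (.node 258 .nil .nil) (.node 75 .nil .nil)) (.node 145 (.node 213 .nil .nil) .nil)) (.node 41 (.node 183 (.node 278 .nil .nil) (.node 165 .nil .nil)) (.node 216 (.node 255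 .nil .nil) .nil)))))) (.node 208 (.node 70 (.node 270 (.node 189 (.node 12 (.node 187 (.node 203 .nil .nil) (.node 130 .nil .nil)) (.node 189 (.node 117 .nil .nil) (.node 208 .nil .nil))) (.node 76 (.node 99 (.node 125 .nil .nil) (.node 60 .nil .nil)) (.node 233 (.node 39 .nil .nil) .nil))) (.node 23 (.node 286 (.node 253 (.node 291 .nil .nil) (.node 103 .nil .nil)) (.node 137 (.node 127 .nil .nil) (.node 17 .nil .nil))) (.node 79 (.node 35 (.node 110 .nil .nil) (.node 227 .nil .nil)) (.node 98 (.node 173 .nil .nil) .nil)))) (.node 245 (.node 186 (.node 246 (.node 6 (.node 225 .nil .nil) (.node 265 .nil .nil)) (.node 84 (.node 19 .nil .nil) (.node 154 .nil .nil))) (.node 176 (.node 53 (.node 32 .nil .nil) (.node 242 .nil .nil)) (.node 25 (.node 47 .nil .nil) .nil))) (.node 140 (.node 173 (.node 59 (.node 65 .nil .nil) (.node 85 .nil .nil)) (.node 157 (.node 112 .nil .nil) .nil)) (.node 188 (.node 120 (.node 130 .nil .nil) (.node 17 .nil .nil)) (.node 7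 (.node 288 .nil .nil) .nil))))) (.node 263 (.node 36 (.node 15 (.node 18 (.node 47 (.node 74 .nil .nil) (.node 37 .nil .nil)) (.node 126 (.node 63 .nil .nil) (.node 17 .nil .nil))) (.node 280 (.node 115 (.node 246 .nil .nil) (.node 277 .nil .nil)) (.node 176 (.node 292 .nil .nil) .nil))) (.node 90 (.node 212 (.node 160 (.node 31 .nil .nil) (.node 285 .nil .nil)) (.node 167 (.node 36 .nil .nil) .nil)) (.node 72 (.node 82 (.node 156 .nil .nil) (.node 254 .nil .nil)) (.node 160 (.node 88 .nil .nil) .nil)))) (.node 218 (.node 255 (.node 234 (.node 67 (.node 221 .nil .nil) (.node 154 .nil .nil)) (.node 106 (.node 278 .nil .nil) (.node 74 .nil .nil))) (.node 187 (.node 243 (.node 119 .nil .nil) (.node 14 .nil .nil)) (.node 3 (.node 95 .nil .nil) .nil))) (.node 168 (.node 71 (.node 55 (.node 39 .nil .nil) (.node 225 .nil .nil)) (.node 238 (.node 24 .nil .nil) .nil)) (.node 47 (.node 123 (.node 65 .nil .nil) (.node 97 .nil .nil)) (.node 161 (.node 136 .nil .nil)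 .nil))))))) (.node 17 (.node 207 (.node 13 (.node 65 (.node 65 (.node 9 (.node 188 (.node 225 .nil .nil) (.node 222 .nil .nil)) (.node 135 (.node 121 .nil .nil) (.node 262 .nil .nil))) (.node 284 (.node 145 (.node 106 .nil .nil) (.node 71 .nil .nil)) (.node 97 (.node 159 .nil .nil) .nil))) (.node 4 (.node 104 (.node 159 (.node 146 .nil .nil) (.node 100 .nil .nil)) (.node 177 (.node 209 .nil .nil) (.node 231 .nil .nil))) (.node 172 (.node 204 (.node 253 .nil .nil) (.node 266 .nil .nil)) (.node 218 (.node 88 .nil .nil) .nil)))) (.node 259 (.node 217 (.node 162 (.node 200 (.node 42 .nil .nil) (.node 60 .nil .nil)) (.node 156 (.node 219 .nil .nil) (.node 125 .nil .nil))) (.node 163 (.node 174 (.node 253 .nil .nil) (.node 92 .nil .nil)) (.node 263 (.node 155 .nil .nil) .nil))) (.node 173 (.node 124 (.node 126 (.node 288 .nil .nil) (.node 20 .nil .nil)) (.node 18 (.node 44 .nil .nil) .nil)) (.node 103 (.node 3 (.node 209 .nil .nil) (.node 289 .nil .nil)) (.node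 135 (.node 208 .nil .nil) .nil))))) (.node 68 (.node 59 (.node 260 (.node 80 (.node 166 (.node 222 .nil .nil) (.node 189 .nil .nil)) (.node 30 (.node 73 .nil .nil) (.node 244 .nil .nil))) (.node 62 (.node 275 (.node 60 .nil .nil) (.node 152 .nil .nil)) (.node 131 (.node 101 .nil .nil) .nil))) (.node 218 (.node 246 (.node 290 (.node 203 .nil .nil) (.node 243 .nil .nil)) (.node 127 (.node 154 .nil .nil) .nil)) (.node 113 (.node 68 (.node 214 .nil .nil) (.node 140 .nil .nil)) (.node 248 (.node 18 .nil .nil) .nil)))) (.node 257 (.node 90 (.node 128 (.node 33 (.node 92 .nil .nil) (.node 54 .nil .nil)) (.node 189 (.node 95 .nil .nil) (.node 123 .nil .nil))) (.node 31 (.node 83 (.node 283 .nil .nil) (.node 119 .nil .nil)) (.node 101 (.node 165 .nil .nil) .nil))) (.node 216 (.node 247 (.node 112 (.node 14 .nil .nil) (.node 61 .nil .nil)) (.node 182 (.node 138 .nil .nil) .nil)) (.node 226 (.node 295 (.node 199 .nil .nil) (.node 231 .nil .nil)) (.node 120 (.node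 157 .nil .nil) .nil)))))) (.node 257 (.node 186 (.node 207 (.node 167 (.node 10 (.node 139 (.node 289 .nil .nil) (.node 24 .nil .nil)) (.node 126 (.node 261 .nil .nil) (.node 68 .nil .nil))) (.node 108 (.node 168 (.node 10 .nil .nil) (.node 61 .nil .nil)) (.node 295 (.node 177 .nil .nil) .nil))) (.node 158 (.node 273 (.node 99 (.node 15 .nil .nil) (.node 126 .nil .nil)) (.node 155 (.node 219 .nil .nil) (.node 233 .nil .nil))) (.node 89 (.node 177 (.node 143 .nil .nil) (.node 4 .nil .nil)) (.node 223 (.node 35 .nil .nil) .nil)))) (.node 135 (.node 88 (.node 186 (.node 129 (.node 22 .nil .nil) (.node 104 .nil .nil)) (.node 67 (.node 141 .nil .nil) (.node 84 .nil .nil))) (.node 55 (.node 196 (.node 219 .nil .nil) (.node 156 .nil .nil)) (.node 1 (.node 82 .nil .nil) .nil))) (.node 233 (.node 165 (.node 1 (.node 214 .nil .nil) (.node 47 .nil .nil)) (.node 192 (.node 200 .nil .nil) .nil)) (.node 82 (.node 13 (.node 32 .nil .nil) (.node 96 .nil .nil)) (.node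 260 (.node 109 .nil .nil) .nil))))) (.node 112 (.node 273 (.node 291 (.node 16 (.node 22 (.node 230 .nil .nil) (.node 254 .nil .nil)) (.node 140 (.node 284 .nil .nil) (.node 109 .nil .nil))) (.node 44 (.node 220 (.node 205 .nil .nil) (.node 249 .nil .nil)) (.node 108 (.node 172 .nil .nil) .nil))) (.node 22 (.node 265 (.node 22 (.node 228 .nil .nil) (.node 198 .nil .nil)) (.node 111 (.node 110 .nil .nil) .nil)) (.node 142 (.node 218 (.node 176 .nil .nil) (.node 292 .nil .nil)) (.node 38 (.node 39 .nil .nil) .nil)))) (.node 182 (.node 151 (.node 131 (.node 119 (.node 176 .nil .nil) (.node 219 .nil .nil)) (.node 30 (.node 55 .nil .nil) (.node 273 .nil .nil))) (.node 128 (.node 152 (.node 50 .nil .nil) (.node 219 .nil .nil)) (.node 284 (.node 67 .nil .nil) .nil))) (.node 101 (.node 229 (.node 182 (.node 293 .nil .nil) (.node 255 .nil .nil)) (.node 176 (.node 212 .nil .nil) .nil)) (.node 260 (.node 220 (.node 202 .nil .nil) (.node 151 .nil .nil)) (.node 66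 (.node 272 .nil .nil) .nil))))))))

/-- Part of `repOf`. -/
noncomputable def repOf_r_l_l_r_r : Arr ℕ :=
  (.node 202 (.node 249 (.node 49 (.node 168 (.node 218 (.node 190 (.node 195 (.node 161 (.node 255 .nil .nil) (.node 150 .nil .nil)) (.node 183 (.node 183 .nil .nil) (.node 240 .nil .nil))) (.node 106 (.node 103 (.node 36 .nil .nil) (.node 246 .nil .nil)) (.node 17 (.node 72 .nil .nil) .nil))) (.node 209 (.node 166 (.node 12 (.node 42 .nil .nil) (.node 15 .nil .nil)) (.node 41 (.node 146 .nil .nil) (.node 119 .nil .nil))) (.node 291 (.node 156 (.node 289 .nil .nil) (.node 33 .nil .nil)) (.node 168 (.node 91 .nil .nil) .nil)))) (.node 263 (.node 156 (.node 8 (.node 216 (.node 114 .nil .nil) (.node 263 .nil .nil)) (.node 176 (.node 278 .nil .nil) (.node 163 .nil .nil))) (.node 14 (.node 43 (.node 64 .nil .nil) (.node 45 .nil .nil)) (.node 22 (.node 248 .nil .nil) .nil))) (.node 215 (.node 198 (.node 130 (.node 143 .nil .nil) (.node 251 .nil .nil)) (.node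 1 (.node 246 .nil .nil) .nil)) (.node 117 (.node 58 (.node 144 .nil .nil) (.node 20 .nil .nil)) (.node 209 (.node 234 .nil .nil) .nil))))) (.node 90 (.node 20 (.node 111 (.node 265 (.node 75 (.node 86 .nil .nil) (.node 198 .nil .nil)) (.node 249 (.node 64 .nil .nil) (.node 161 .nil .nil))) (.node 244 (.node 129 (.node 28 .nil .nil) (.node 16 .nil .nil)) (.node 141 (.node 169 .nil .nil) .nil))) (.node 75 (.node 213 (.node 113 (.node 127 .nil .nil) (.node 267 .nil .nil)) (.node 113 (.node 80 .nil .nil) .nil)) (.node 293 (.node 206 (.node 62 .nil .nil) (.node 100 .nil .nil)) (.node 48 (.node 270 .nil .nil) .nil)))) (.node 111 (.node 222 (.node 167 (.node 34 (.node 60 .nil .nil) (.node 79 .nil .nil)) (.node 35 (.node 113 .nil .nil) (.node 64 .nil .nil))) (.node 18 (.node 261 (.node 165 .nil .nil) (.node 276 .nil .nil)) (.node 68 (.node 75 .nil .nil) .nil))) (.node 125 (.node 81 (.node 221 (.node 242 .nil .nil) (.node 29 .nil .nil)) (.node 234 (.node 1 .nil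 .nil) .nil)) (.node 68 (.node 224 (.node 260 .nil .nil) (.node 261 .nil .nil)) (.node 180 (.node 5 .nil .nil) .nil)))))) (.node 61 (.node 237 (.node 292 (.node 206 (.node 61 (.node 17 (.node 118 .nil .nil) (.node 67 .nil .nil)) (.node 79 (.node 124 .nil .nil) (.node 176 .nil .nil))) (.node 268 (.node 294 (.node 228 .nil .nil) (.node 40 .nil .nil)) (.node 79 (.node 207 .nil .nil) .nil))) (.node 263 (.node 32 (.node 29 (.node 128 .nil .nil) (.node 72 .nil .nil)) (.node 202 (.node 152 .nil .nil) (.node 7 .nil .nil))) (.node 120 (.node 224 (.node 145 .nil .nil) (.node 285 .nil .nil)) (.node 263 (.node 203 .nil .nil) .nil)))) (.node 33 (.node 76 (.node 1 (.node 118 (.node 151 .nil .nil) (.node 291 .nil .nil)) (.node 146 (.node 181 .nil .nil) (.node 9 .nil .nil))) (.node 148 (.node 90 (.node 222 .nil .nil) (.node 105 .nil .nil)) (.node 53 (.node 94 .nil .nil) .nil))) (.node 156 (.node 104 (.node 257 (.node 64 .nil .nil) (.node 21 .nil .nil)) (.node 164 (.node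 94 .nil .nil) .nil)) (.node 161 (.node 161 (.node 87 .nil .nil) (.node 7 .nil .nil)) (.node 256 (.node 141 .nil .nil) .nil))))) (.node 221 (.node 86 (.node 20 (.node 110 (.node 277 (.node 235 .nil .nil) (.node 88 .nil .nil)) (.node 58 (.node 227 .nil .nil) (.node 42 .nil .nil))) (.node 115 (.node 122 (.node 175 .nil .nil) (.node 62 .nil .nil)) (.node 290 (.node 209 .nil .nil) .nil))) (.node 70 (.node 96 (.node 274 (.node 191 .nil .nil) (.node 219 .nil .nil)) (.node 200 (.node 292 .nil .nil) .nil)) (.node 110 (.node 186 (.node 158 .nil .nil) (.node 78 .nil .nil)) (.node 126 (.node 253 .nil .nil) .nil)))) (.node 82 (.node 117 (.node 169 (.node 52 (.node 181 .nil .nil) (.node 267 .nil .nil)) (.node 287 (.node 236 .nil .nil) (.node 193 .nil .nil))) (.node 157 (.node 243 (.node 28 .nil .nil) (.node 160 .nil .nil)) (.node 157 (.node 97 .nil .nil) .nil))) (.node 290 (.node 88 (.node 48 (.node 106 .nil .nil) (.node 85 .nil .nil)) (.node 280 (.node 240 .nil .nil)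 .nil)) (.node 237 (.node 220 (.node 129 .nil .nil) (.node 265 .nil .nil)) (.node 207 (.node 226 .nil .nil) .nil))))))) (.node 85 (.node 129 (.node 292 (.node 238 (.node 4 (.node 23 (.node 95 (.node 93 .nil .nil) (.node 61 .nil .nil)) (.node 201 (.node 145 .nil .nil) (.node 183 .nil .nil))) (.node 207 (.node 110 (.node 260 .nil .nil) (.node 85 .nil .nil)) (.node 174 (.node 194 .nil .nil) .nil))) (.node 25 (.node 104 (.node 6 (.node 53 .nil .nil) (.node 114 .nil .nil)) (.node 193 (.node 91 .nil .nil) (.node 158 .nil .nil))) (.node 231 (.node 198 (.node 14 .nil .nil) (.node 224 .nil .nil)) (.node 83 (.node 274 .nil .nil) .nil)))) (.node 211 (.node 239 (.node 7 (.node 241 (.node 14 .nil .nil) (.node 195 .nil .nil)) (.node 258 (.node 94 .nil .nil) (.node 164 .nil .nil))) (.node 251 (.node 100 (.node 41 .nil .nil) (.node 174 .nil .nil)) (.node 289 (.node 163 .nil .nil) .nil))) (.node 190 (.node 267 (.node 191 (.node 2 .nil .nil) (.node 68 .nil .nil)) (.node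 128 (.node 17 .nil .nil) .nil)) (.node 185 (.node 174 (.node 168 .nil .nil) (.node 288 .nil .nil)) (.node 39 (.node 238 .nil .nil) .nil))))) (.node 133 (.node 272 (.node 167 (.node 58 (.node 94 (.node 182 .nil .nil) (.node 183 .nil .nil)) (.node 163 (.node 43 .nil .nil) (.node 147 .nil .nil))) (.node 198 (.node 30 (.node 64 .nil .nil) (.node 76 .nil .nil)) (.node 46 (.node 217 .nil .nil) .nil))) (.node 122 (.node 290 (.node 149 (.node 270 .nil .nil) (.node 163 .nil .nil)) (.node 214 (.node 262 .nil .nil) .nil)) (.node 141 (.node 65 (.node 247 .nil .nil) (.node 207 .nil .nil)) (.node 83 (.node 29 .nil .nil) .nil)))) (.node 20 (.node 258 (.node 210 (.node 237 (.node 60 .nil .nil) (.node 243 .nil .nil)) (.node 224 (.node 54 .nil .nil) (.node 210 .nil .nil))) (.node 89 (.node 169 (.node 260 .nil .nil) (.node 13 .nil .nil)) (.node 69 (.node 72 .nil .nil) .nil))) (.node 61 (.node 167 (.node 87 (.node 67 .nil .nil) (.node 206 .nil .nil)) (.node 94 (.node 247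 .nil .nil) .nil)) (.node 50 (.node 112 (.node 179 .nil .nil) (.node 230 .nil .nil)) (.node 12 (.node 139 .nil .nil) .nil)))))) (.node 44 (.node 58 (.node 223 (.node 141 (.node 39 (.node 122 (.node 196 .nil .nil) (.node 83 .nil .nil)) (.node 63 (.node 201 .nil .nil) (.node 249 .nil .nil))) (.node 2 (.node 216 (.node 211 .nil .nil) (.node 96 .nil .nil)) (.node 7 (.node 209 .nil .nil) .nil))) (.node 244 (.node 76 (.node 160 (.node 1 .nil .nil) (.node 273 .nil .nil)) (.node 229 (.node 57 .nil .nil) (.node 207 .nil .nil))) (.node 185 (.node 188 (.node 183 .nil .nil) (.node 122 .nil .nil)) (.node 282 (.node 196 .nil .nil) .nil)))) (.node 44 (.node 40 (.node 275 (.node 98 (.node 286 .nil .nil) (.node 185 .nil .nil)) (.node 123 (.node 257 .nil .nil) (.node 92 .nil .nil))) (.node 10 (.node 182 (.node 196 .nil .nil) (.node 214 .nil .nil)) (.node 135 (.node 106 .nil .nil) .nil))) (.node 202 (.node 143 (.node 38 (.node 243 .nil .nil) (.node 61 .nil .nil)) (.node 26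 (.node 156 .nil .nil) .nil)) (.node 266 (.node 223 (.node 50 .nil .nil) (.node 110 .nil .nil)) (.node 191 (.node 78 .nil .nil) .nil))))) (.node 22 (.node 232 (.node 8 (.node 229 (.node 256 (.node 200 .nil .nil) (.node 72 .nil .nil)) (.node 274 (.node 223 .nil .nil) (.node 27 .nil .nil))) (.node 237 (.node 121 (.node 32 .nil .nil) (.node 44 .nil .nil)) (.node 158 (.node 156 .nil .nil) .nil))) (.node 147 (.node 285 (.node 135 (.node 178 .nil .nil) (.node 120 .nil .nil)) (.node 209 (.node 41 .nil .nil) .nil)) (.node 218 (.node 48 (.node 78 .nil .nil) (.node 219 .nil .nil)) (.node 291 (.node 130 .nil .nil) .nil)))) (.node 267 (.node 111 (.node 196 (.node 279 (.node 90 .nil .nil) (.node 205 .nil .nil)) (.node 13 (.node 156 .nil .nil) (.node 190 .nil .nil))) (.node 241 (.node 155 (.node 54 .nil .nil) (.node 250 .nil .nil)) (.node 182 (.node 271 .nil .nil) .nil))) (.node 170 (.node 280 (.node 119 (.node 48 .nil .nil) (.node 214 .nil .nil)) (.node 190 (.node 206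 .nil .nil) .nil)) (.node 147 (.node 4 (.node 177 .nil .nil) (.node 162 .nil .nil)) (.node 109 (.node 212 .nil .nil) .nil))))))))

/-- Part of `repOf`. -/
noncomputable def repOf_r_l_l_r : Arr ℕ :=
  .node 0 repOf_r_l_l_r_l repOf_r_l_l_r_r

/-- Part of `repOf`. -/
noncomputable def repOf_r_l_l : Arr ℕ :=
  .node 0 repOf_r_l_l_l repOf_r_l_l_r

/-- Part of `repOf`. -/
noncomputable def repOf_r_l_r_l_l : Arr ℕ :=
  (.node 250 (.node 227 (.node 29 (.node 132 (.node 256 (.node 149 (.node 292 (.node 149 (.node 235 .nil .nil) (.node 214 .nil .nil)) (.node 116 (.node 278 .nil .nil) (.node 2 .nil .nil))) (.node 86 (.node 270 (.node 185 .nil .nil) (.node 101 .nil .nil)) (.node 260 (.node 140 .nil .nil) .nil))) (.node 186 (.node 262 (.node 90 (.node 83 .nil .nil) (.node 295 .nil .nil)) (.node 294 (.node 271 .nil .nil) (.node 285 .nil .nil))) (.node 5 (.node 210 (.node 100 .nil .nil) (.node 132 .nil .nil)) (.node 103 (.node 157 .nil .nil) .nil)))) (.node 32 (.node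 61 (.node 63 (.node 40 (.node 21 .nil .nil) (.node 263 .nil .nil)) (.node 212 (.node 62 .nil .nil) (.node 181 .nil .nil))) (.node 269 (.node 109 (.node 265 .nil .nil) (.node 35 .nil .nil)) (.node 40 (.node 2 .nil .nil) .nil))) (.node 173 (.node 89 (.node 34 (.node 31 .nil .nil) (.node 63 .nil .nil)) (.node 74 (.node 13 .nil .nil) .nil)) (.node 262 (.node 128 (.node 41 .nil .nil) (.node 111 .nil .nil)) (.node 57 (.node 20 .nil .nil) .nil))))) (.node 193 (.node 79 (.node 239 (.node 247 (.node 1 (.node 221 .nil .nil) (.node 200 .nil .nil)) (.node 24 (.node 215 .nil .nil) (.node 25 .nil .nil))) (.node 80 (.node 99 (.node 157 .nil .nil) (.node 118 .nil .nil)) (.node 145 (.node 70 .nil .nil) .nil))) (.node 17 (.node 182 (.node 124 (.node 250 .nil .nil) (.node 25 .nil .nil)) (.node 198 (.node 272 .nil .nil) .nil)) (.node 195 (.node 134 (.node 4 .nil .nil) (.node 89 .nil .nil)) (.node 43 (.node 80 .nil .nil) .nil)))) (.node 144 (.node 165 (.node 122 (.node 207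 (.node 139 .nil .nil) (.node 244 .nil .nil)) (.node 97 (.node 41 .nil .nil) (.node 162 .nil .nil))) (.node 153 (.node 33 (.node 170 .nil .nil) (.node 233 .nil .nil)) (.node 256 (.node 45 .nil .nil) .nil))) (.node 282 (.node 279 (.node 124 (.node 220 .nil .nil) (.node 1 .nil .nil)) (.node 66 (.node 31 .nil .nil) .nil)) (.node 1 (.node 70 (.node 91 .nil .nil) (.node 63 .nil .nil)) (.node 125 (.node 14 .nil .nil) .nil)))))) (.node 73 (.node 19 (.node 188 (.node 61 (.node 57 (.node 187 (.node 142 .nil .nil) (.node 34 .nil .nil)) (.node 281 (.node 60 .nil .nil) (.node 258 .nil .nil))) (.node 117 (.node 133 (.node 57 .nil .nil) (.node 67 .nil .nil)) (.node 286 (.node 172 .nil .nil) .nil))) (.node 5 (.node 228 (.node 208 (.node 143 .nil .nil) (.node 50 .nil .nil)) (.node 30 (.node 265 .nil .nil) (.node 50 .nil .nil))) (.node 284 (.node 28 (.node 58 .nil .nil) (.node 13 .nil .nil)) (.node 109 (.node 62 .nil .nil) .nil)))) (.node 233 (.node 282 (.node 188 (.node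 5 (.node 59 .nil .nil) (.node 152 .nil .nil)) (.node 178 (.node 207 .nil .nil) (.node 271 .nil .nil))) (.node 262 (.node 126 (.node 113 .nil .nil) (.node 250 .nil .nil)) (.node 55 (.node 84 .nil .nil) .nil))) (.node 188 (.node 13 (.node 94 (.node 134 .nil .nil) (.node 43 .nil .nil)) (.node 128 (.node 258 .nil .nil) .nil)) (.node 102 (.node 268 (.node 287 .nil .nil) (.node 270 .nil .nil)) (.node 99 (.node 103 .nil .nil) .nil))))) (.node 153 (.node 157 (.node 225 (.node 258 (.node 4 (.node 116 .nil .nil) (.node 23 .nil .nil)) (.node 1 (.node 23 .nil .nil) (.node 221 .nil .nil))) (.node 135 (.node 100 (.node 231 .nil .nil) (.node 274 .nil .nil)) (.node 185 (.node 137 .nil .nil) .nil))) (.node 278 (.node 141 (.node 223 (.node 222 .nil .nil) (.node 15 .nil .nil)) (.node 211 (.node 55 .nil .nil) .nil)) (.node 3 (.node 26 (.node 260 .nil .nil) (.node 294 .nil .nil)) (.node 155 (.node 196 .nil .nil) .nil)))) (.node 6 (.node 14 (.node 24 (.node 42 (.node 201 .nil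 .nil) (.node 259 .nil .nil)) (.node 161 (.node 16 .nil .nil) (.node 288 .nil .nil))) (.node 155 (.node 134 (.node 52 .nil .nil) (.node 74 .nil .nil)) (.node 204 (.node 270 .nil .nil) .nil))) (.node 162 (.node 210 (.node 86 (.node 247 .nil .nil) (.node 4 .nil .nil)) (.node 159 (.node 242 .nil .nil) .nil)) (.node 37 (.node 103 (.node 179 .nil .nil) (.node 99 .nil .nil)) (.node 249 (.node 68 .nil .nil) .nil))))))) (.node 273 (.node 175 (.node 39 (.node 141 (.node 82 (.node 81 (.node 251 (.node 272 .nil .nil) (.node 25 .nil .nil)) (.node 197 (.node 257 .nil .nil) (.node 252 .nil .nil))) (.node 93 (.node 270 (.node 7 .nil .nil) (.node 113 .nil .nil)) (.node 177 (.node 43 .nil .nil) .nil))) (.node 240 (.node 77 (.node 244 (.node 238 .nil .nil) (.node 222 .nil .nil)) (.node 88 (.node 279 .nil .nil) (.node 294 .nil .nil))) (.node 35 (.node 81 (.node 96 .nil .nil) (.node 225 .nil .nil)) (.node 21 (.node 68 .nil .nil) .nil)))) (.node 115 (.node 5 (.node 162 (.node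 114 (.node 115 .nil .nil) (.node 120 .nil .nil)) (.node 270 (.node 229 .nil .nil) (.node 211 .nil .nil))) (.node 8 (.node 91 (.node 23 .nil .nil) (.node 267 .nil .nil)) (.node 260 (.node 266 .nil .nil) .nil))) (.node 52 (.node 21 (.node 73 (.node 235 .nil .nil) (.node 239 .nil .nil)) (.node 198 (.node 131 .nil .nil) .nil)) (.node 34 (.node 72 (.node 109 .nil .nil) (.node 121 .nil .nil)) (.node 172 (.node 132 .nil .nil) .nil))))) (.node 9 (.node 258 (.node 260 (.node 21 (.node 51 (.node 156 .nil .nil) (.node 226 .nil .nil)) (.node 186 (.node 93 .nil .nil) (.node 233 .nil .nil))) (.node 109 (.node 91 (.node 36 .nil .nil) (.node 9 .nil .nil)) (.node 26 (.node 170 .nil .nil) .nil))) (.node 141 (.node 217 (.node 120 (.node 87 .nil .nil) (.node 258 .nil .nil)) (.node 140 (.node 147 .nil .nil) .nil)) (.node 189 (.node 172 (.node 92 .nil .nil) (.node 168 .nil .nil)) (.node 279 (.node 268 .nil .nil) .nil)))) (.node 255 (.node 210 (.node 255 (.node 254 (.node 41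 .nil .nil) (.node 251 .nil .nil)) (.node 112 (.node 120 .nil .nil) (.node 165 .nil .nil))) (.node 42 (.node 277 (.node 71 .nil .nil) (.node 136 .nil .nil)) (.node 171 (.node 64 .nil .nil) .nil))) (.node 290 (.node 189 (.node 61 (.node 58 .nil .nil) (.node 168 .nil .nil)) (.node 242 (.node 268 .nil .nil) .nil)) (.node 205 (.node 294 (.node 109 .nil .nil) (.node 166 .nil .nil)) (.node 173 (.node 128 .nil .nil) .nil)))))) (.node 3 (.node 92 (.node 19 (.node 43 (.node 162 (.node 134 (.node 48 .nil .nil) (.node 228 .nil .nil)) (.node 222 (.node 222 .nil .nil) (.node 29 .nil .nil))) (.node 174 (.node 253 (.node 191 .nil .nil) (.node 193 .nil .nil)) (.node 140 (.node 154 .nil .nil) .nil))) (.node 116 (.node 236 (.node 150 (.node 77 .nil .nil) (.node 163 .nil .nil)) (.node 19 (.node 143 .nil .nil) (.node 91 .nil .nil))) (.node 276 (.node 132 (.node 177 .nil .nil) (.node 165 .nil .nil)) (.node 119 (.node 49 .nil .nil) .nil)))) (.node 79 (.node 168 (.node 16 (.node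 159 (.node 160 .nil .nil) (.node 14 .nil .nil)) (.node 55 (.node 21 .nil .nil) (.node 152 .nil .nil))) (.node 81 (.node 50 (.node 266 .nil .nil) (.node 99 .nil .nil)) (.node 38 (.node 259 .nil .nil) .nil))) (.node 5 (.node 160 (.node 84 (.node 279 .nil .nil) (.node 291 .nil .nil)) (.node 55 (.node 31 .nil .nil) .nil)) (.node 249 (.node 75 (.node 135 .nil .nil) (.node 27 .nil .nil)) (.node 217 (.node 238 .nil .nil) .nil))))) (.node 106 (.node 269 (.node 175 (.node 51 (.node 197 (.node 218 .nil .nil) (.node 224 .nil .nil)) (.node 12 (.node 210 .nil .nil) (.node 212 .nil .nil))) (.node 53 (.node 17 (.node 256 .nil .nil) (.node 282 .nil .nil)) (.node 124 (.node 241 .nil .nil) .nil))) (.node 132 (.node 85 (.node 247 (.node 26 .nil .nil) (.node 185 .nil .nil)) (.node 145 (.node 163 .nil .nil) .nil)) (.node 74 (.node 30 (.node 108 .nil .nil) (.node 101 .nil .nil)) (.node 105 (.node 49 .nil .nil) .nil)))) (.node 243 (.node 252 (.node 139 (.node 60 (.node 70 .nil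 .nil) (.node 99 .nil .nil)) (.node 274 (.node 93 .nil .nil) (.node 276 .nil .nil))) (.node 281 (.node 96 (.node 120 .nil .nil) (.node 98 .nil .nil)) (.node 241 (.node 133 .nil .nil) .nil))) (.node 165 (.node 266 (.node 261 (.node 235 .nil .nil) (.node 131 .nil .nil)) (.node 289 (.node 277 .nil .nil) .nil)) (.node 201 (.node 128 (.node 137 .nil .nil) (.node 123 .nil .nil)) (.node 193 (.node 295 .nil .nil) .nil))))))))

/-- Part of `repOf`. -/
noncomputable def repOf_r_l_r_l_r : Arr ℕ :=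
  (.node 139 (.node 3 (.node 9 (.node 236 (.node 208 (.node 141 (.node 75 (.node 239 (.node 204 .nil .nil) (.node 54 .nil .nil)) (.node 276 (.node 18 .nil .nil) (.node 275 .nil .nil))) (.node 50 (.node 195 (.node 142 .nil .nil) (.node 57 .nil .nil)) (.node 100 (.node 164 .nil .nil) .nil))) (.node 92 (.node 285 (.node 272 (.node 183 .nil .nil) (.node 116 .nil .nil)) (.node 131 (.node 208 .nil .nil) (.node 260 .nil .nil))) (.node 67 (.node 222 (.node 70 .nil .nil) (.node 193 .nil .nil)) (.node 44 (.node 284 .nil .nil) .nil)))) (.node 58 (.node 271 (.node 139 (.node 151 (.node 102 .nil .nil) (.node 100 .nil .nil)) (.node 8 (.node 264 .nil .nil) (.node 84 .nil .nil))) (.node 273 (.node 144 (.node 43 .nil .nil) (.node 163 .nil .nil)) (.node 36 (.node 3 .nil .nil) .nil))) (.node 171 (.node 121 (.node 139 (.node 197 .nil .nil) (.node 43 .nil .nil)) (.node 84 (.node 273 .nil .nil) .nil)) (.node 287 (.node 96 (.node 238 .nil .nil) (.node 141 .nil .nil)) (.node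 20 (.node 32 .nil .nil) .nil))))) (.node 86 (.node 287 (.node 52 (.node 77 (.node 129 (.node 240 .nil .nil) (.node 216 .nil .nil)) (.node 247 (.node 275 .nil .nil) (.node 222 .nil .nil))) (.node 218 (.node 286 (.node 75 .nil .nil) (.node 85 .nil .nil)) (.node 48 (.node 161 .nil .nil) .nil))) (.node 139 (.node 184 (.node 241 (.node 165 .nil .nil) (.node 146 .nil .nil)) (.node 57 (.node 243 .nil .nil) .nil)) (.node 290 (.node 50 (.node 211 .nil .nil) (.node 154 .nil .nil)) (.node 173 (.node 75 .nil .nil) .nil)))) (.node 110 (.node 194 (.node 59 (.node 203 (.node 61 .nil .nil) (.node 79 .nil .nil)) (.node 28 (.node 100 .nil .nil) (.node 276 .nil .nil))) (.node 18 (.node 260 (.node 12 .nil .nil) (.node 209 .nil .nil)) (.node 213 (.node 195 .nil .nil) .nil))) (.node 182 (.node 106 (.node 106 (.node 59 .nil .nil) (.node 82 .nil .nil)) (.node 162 (.node 229 .nil .nil) .nil)) (.node 79 (.node 128 (.node 262 .nil .nil) (.node 78 .nil .nil)) (.node 216 (.node 271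 .nil .nil) .nil)))))) (.node 27 (.node 173 (.node 75 (.node 106 (.node 168 (.node 131 (.node 65 .nil .nil) (.node 226 .nil .nil)) (.node 284 (.node 81 .nil .nil) (.node 47 .nil .nil))) (.node 210 (.node 264 (.node 132 .nil .nil) (.node 67 .nil .nil)) (.node 130 (.node 98 .nil .nil) .nil))) (.node 292 (.node 254 (.node 203 (.node 121 .nil .nil) (.node 164 .nil .nil)) (.node 42 (.node 286 .nil .nil) (.node 228 .nil .nil))) (.node 15 (.node 29 (.node 200 .nil .nil) (.node 111 .nil .nil)) (.node 216 (.node 152 .nil .nil) .nil)))) (.node 279 (.node 105 (.node 172 (.node 288 (.node 48 .nil .nil) (.node 8 .nil .nil)) (.node 280 (.node 25 .nil .nil) (.node 286 .nil .nil))) (.node 287 (.node 185 (.node 177 .nil .nil) (.node 118 .nil .nil)) (.node 266 (.node 64 .nil .nil) .nil))) (.node 237 (.node 237 (.node 204 (.node 169 .nil .nil) (.node 189 .nil .nil)) (.node 203 (.node 184 .nil .nil) .nil)) (.node 235 (.node 173 (.node 142 .nil .nil) (.node 138 .nil .nil))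 (.node 223 (.node 207 .nil .nil) .nil))))) (.node 206 (.node 99 (.node 209 (.node 147 (.node 279 (.node 239 .nil .nil) (.node 93 .nil .nil)) (.node 207 (.node 59 .nil .nil) (.node 92 .nil .nil))) (.node 254 (.node 204 (.node 191 .nil .nil) (.node 146 .nil .nil)) (.node 239 (.node 276 .nil .nil) .nil))) (.node 40 (.node 292 (.node 213 (.node 89 .nil .nil) (.node 167 .nil .nil)) (.node 127 (.node 92 .nil .nil) .nil)) (.node 107 (.node 115 (.node 174 .nil .nil) (.node 235 .nil .nil)) (.node 160 (.node 77 .nil .nil) .nil)))) (.node 238 (.node 76 (.node 178 (.node 67 (.node 81 .nil .nil) (.node 59 .nil .nil)) (.node 229 (.node 163 .nil .nil) (.node 127 .nil .nil))) (.node 266 (.node 100 (.node 161 .nil .nil) (.node 236 .nil .nil)) (.node 284 (.node 251 .nil .nil) .nil))) (.node 9 (.node 163 (.node 289 (.node 27 .nil .nil) (.node 138 .nil .nil)) (.node 129 (.node 110 .nil .nil) .nil)) (.node 127 (.node 13 (.node 288 .nil .nil) (.node 188 .nil .nil)) (.node 134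 (.node 22 .nil .nil) .nil))))))) (.node 265 (.node 292 (.node 95 (.node 161 (.node 91 (.node 101 (.node 134 (.node 116 .nil .nil) (.node 58 .nil .nil)) (.node 46 (.node 200 .nil .nil) (.node 18 .nil .nil))) (.node 126 (.node 257 (.node 173 .nil .nil) (.node 242 .nil .nil)) (.node 166 (.node 120 .nil .nil) .nil))) (.node 5 (.node 112 (.node 141 (.node 279 .nil .nil) (.node 38 .nil .nil)) (.node 215 (.node 200 .nil .nil) (.node 233 .nil .nil))) (.node 9 (.node 229 (.node 273 .nil .nil) (.node 41 .nil .nil)) (.node 67 (.node 247 .nil .nil) .nil)))) (.node 117 (.node 129 (.node 278 (.node 5 (.node 200 .nil .nil) (.node 168 .nil .nil)) (.node 184 (.node 34 .nil .nil) (.node 282 .nil .nil))) (.node 172 (.node 207 (.node 102 .nil .nil) (.node 22 .nil .nil)) (.node 185 (.node 98 .nil .nil) .nil))) (.node 52 (.node 148 (.node 114 (.node 288 .nil .nil) (.node 68 .nil .nil)) (.node 18 (.node 193 .nil .nil) .nil)) (.node 95 (.node 108 (.node 88 .nil .nil) (.node 201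 .nil .nil)) (.node 238 (.node 238 .nil .nil) .nil))))) (.node 76 (.node 225 (.node 255 (.node 27 (.node 276 (.node 160 .nil .nil) (.node 24 .nil .nil)) (.node 84 (.node 223 .nil .nil) (.node 122 .nil .nil))) (.node 18 (.node 35 (.node 269 .nil .nil) (.node 13 .nil .nil)) (.node 8 (.node 291 .nil .nil) .nil))) (.node 289 (.node 120 (.node 248 (.node 251 .nil .nil) (.node 160 .nil .nil)) (.node 154 (.node 228 .nil .nil) .nil)) (.node 198 (.node 136 (.node 187 .nil .nil) (.node 58 .nil .nil)) (.node 109 (.node 35 .nil .nil) .nil)))) (.node 144 (.node 43 (.node 60 (.node 215 (.node 86 .nil .nil) (.node 196 .nil .nil)) (.node 226 (.node 224 .nil .nil) (.node 268 .nil .nil))) (.node 158 (.node 95 (.node 189 .nil .nil) (.node 288 .nil .nil)) (.node 250 (.node 91 .nil .nil) .nil))) (.node 217 (.node 97 (.node 167 (.node 188 .nil .nil) (.node 206 .nil .nil)) (.node 239 (.node 42 .nil .nil) .nil)) (.node 61 (.node 184 (.node 218 .nil .nil) (.node 241 .nil .nil))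 (.node 86 (.node 209 .nil .nil) .nil)))))) (.node 175 (.node 170 (.node 79 (.node 255 (.node 115 (.node 194 (.node 176 .nil .nil) (.node 3 .nil .nil)) (.node 93 (.node 265 .nil .nil) (.node 270 .nil .nil))) (.node 187 (.node 28 (.node 89 .nil .nil) (.node 87 .nil .nil)) (.node 295 (.node 38 .nil .nil) .nil))) (.node 222 (.node 16 (.node 124 (.node 178 .nil .nil) (.node 75 .nil .nil)) (.node 211 (.node 153 .nil .nil) (.node 146 .nil .nil))) (.node 85 (.node 227 (.node 42 .nil .nil) (.node 17 .nil .nil)) (.node 185 (.node 13 .nil .nil) .nil)))) (.node 131 (.node 225 (.node 262 (.node 239 (.node 12 .nil .nil) (.node 271 .nil .nil)) (.node 119 (.node 2 .nil .nil) (.node 28 .nil .nil))) (.node 8 (.node 77 (.node 1 .nil .nil) (.node 284 .nil .nil)) (.node 20 (.node 161 .nil .nil) .nil))) (.node 212 (.node 171 (.node 176 (.node 116 .nil .nil) (.node 230 .nil .nil)) (.node 113 (.node 114 .nil .nil) .nil)) (.node 263 (.node 134 (.node 61 .nil .nil) (.node 264 .nil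 .nil)) (.node 2 (.node 237 .nil .nil) .nil))))) (.node 135 (.node 177 (.node 246 (.node 23 (.node 180 (.node 261 .nil .nil) (.node 193 .nil .nil)) (.node 35 (.node 242 .nil .nil) (.node 88 .nil .nil))) (.node 105 (.node 12 (.node 218 .nil .nil) (.node 153 .nil .nil)) (.node 174 (.node 155 .nil .nil) .nil))) (.node 148 (.node 15 (.node 197 (.node 288 .nil .nil) (.node 51 .nil .nil)) (.node 4 (.node 286 .nil .nil) .nil)) (.node 262 (.node 291 (.node 38 .nil .nil) (.node 56 .nil .nil)) (.node 169 (.node 270 .nil .nil) .nil)))) (.node 236 (.node 260 (.node 105 (.node 224 (.node 269 .nil .nil) (.node 192 .nil .nil)) (.node 187 (.node 198 .nil .nil) (.node 21 .nil .nil))) (.node 235 (.node 224 (.node 27 .nil .nil) (.node 109 .nil .nil)) (.node 70 (.node 294 .nil .nil) .nil))) (.node 218 (.node 105 (.node 91 (.node 25 .nil .nil) (.node 75 .nil .nil)) (.node 198 (.node 164 .nil .nil) .nil)) (.node 148 (.node 187 (.node 11 .nil .nil) (.node 23 .nil .nil)) (.node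 230 (.node 42 .nil .nil) .nil))))))))

/-- Part of `repOf`. -/
noncomputable def repOf_r_l_r_l : Arr ℕ :=
  .node 0 repOf_r_l_r_l_l repOf_r_l_r_l_r

/-- Part of `repOf`. -/
noncomputable def repOf_r_l_r_r_l : Arr ℕ :=
  (.node 159 (.node 134 (.node 76 (.node 40 (.node 109 (.node 79 (.node 202 (.node 59 (.node 27 .nil .nil) (.node 257 .nil .nil)) (.node 135 (.node 165 .nil .nil) (.node 236 .nil .nil))) (.node 50 (.node 257 (.node 150 .nil .nil) (.node 272 .nil .nil)) (.node 199 (.node 253 .nil .nil) .nil))) (.node 143 (.node 76 (.node 288 (.node 101 .nil .nil) (.node 267 .nil .nil)) (.node 195 (.node 282 .nil .nil) (.node 39 .nil .nil))) (.node 146 (.node 191 (.node 188 .nil .nil) (.node 164 .nil .nil)) (.node 225 (.node 194 .nil .nil) .nil)))) (.node 4 (.node 181 (.node 288 (.node 183 (.node 268 .nil .nil) (.node 258 .nil .nil)) (.node 137 (.node 120 .nil .nil) (.node 71 .nil .nil))) (.node 30 (.node 133 (.node 204 .nil .nil) (.node 155 .nil .nil)) (.node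 21 (.node 92 .nil .nil) .nil))) (.node 2 (.node 166 (.node 85 (.node 203 .nil .nil) (.node 141 .nil .nil)) (.node 105 (.node 96 .nil .nil) .nil)) (.node 163 (.node 285 (.node 118 .nil .nil) (.node 79 .nil .nil)) (.node 104 (.node 1 .nil .nil) .nil))))) (.node 57 (.node 262 (.node 118 (.node 198 (.node 30 (.node 124 .nil .nil) (.node 225 .nil .nil)) (.node 42 (.node 162 .nil .nil) (.node 126 .nil .nil))) (.node 239 (.node 121 (.node 214 .nil .nil) (.node 202 .nil .nil)) (.node 137 (.node 126 .nil .nil) .nil))) (.node 270 (.node 171 (.node 49 (.node 109 .nil .nil) (.node 5 .nil .nil)) (.node 18 (.node 80 .nil .nil) .nil)) (.node 219 (.node 226 (.node 155 .nil .nil) (.node 233 .nil .nil)) (.node 235 (.node 154 .nil .nil) .nil)))) (.node 185 (.node 23 (.node 43 (.node 126 (.node 23 .nil .nil) (.node 222 .nil .nil)) (.node 76 (.node 41 .nil .nil) (.node 205 .nil .nil))) (.node 143 (.node 271 (.node 230 .nil .nil) (.node 189 .nil .nil)) (.node 209 (.node 195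 .nil .nil) .nil))) (.node 51 (.node 181 (.node 73 (.node 216 .nil .nil) (.node 42 .nil .nil)) (.node 145 (.node 80 .nil .nil) .nil)) (.node 177 (.node 15 (.node 31 .nil .nil) (.node 269 .nil .nil)) (.node 164 (.node 295 .nil .nil) .nil)))))) (.node 6 (.node 211 (.node 34 (.node 226 (.node 69 (.node 110 (.node 150 .nil .nil) (.node 76 .nil .nil)) (.node 92 (.node 137 .nil .nil) (.node 66 .nil .nil))) (.node 74 (.node 45 (.node 191 .nil .nil) (.node 55 .nil .nil)) (.node 64 (.node 35 .nil .nil) .nil))) (.node 66 (.node 183 (.node 137 (.node 219 .nil .nil) (.node 160 .nil .nil)) (.node 261 (.node 19 .nil .nil) (.node 55 .nil .nil))) (.node 138 (.node 241 (.node 154 .nil .nil) (.node 98 .nil .nil)) (.node 127 (.node 151 .nil .nil) .nil)))) (.node 92 (.node 182 (.node 284 (.node 239 (.node 289 .nil .nil) (.node 128 .nil .nil)) (.node 234 (.node 53 .nil .nil) (.node 256 .nil .nil))) (.node 1 (.node 55 (.node 225 .nil .nil) (.node 28 .nil .nil)) (.node 181 (.node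 101 .nil .nil) .nil))) (.node 100 (.node 143 (.node 284 (.node 232 .nil .nil) (.node 123 .nil .nil)) (.node 87 (.node 122 .nil .nil) .nil)) (.node 107 (.node 90 (.node 249 .nil .nil) (.node 266 .nil .nil)) (.node 99 (.node 30 .nil .nil) .nil))))) (.node 102 (.node 101 (.node 201 (.node 12 (.node 2 (.node 159 .nil .nil) (.node 275 .nil .nil)) (.node 53 (.node 12 .nil .nil) (.node 159 .nil .nil))) (.node 111 (.node 93 (.node 246 .nil .nil) (.node 76 .nil .nil)) (.node 251 (.node 63 .nil .nil) .nil))) (.node 151 (.node 217 (.node 148 (.node 42 .nil .nil) (.node 257 .nil .nil)) (.node 62 (.node 60 .nil .nil) .nil)) (.node 270 (.node 109 (.node 186 .nil .nil) (.node 124 .nil .nil)) (.node 93 (.node 99 .nil .nil) .nil)))) (.node 141 (.node 176 (.node 269 (.node 283 (.node 61 .nil .nil) (.node 167 .nil .nil)) (.node 52 (.node 171 .nil .nil) (.node 59 .nil .nil))) (.node 234 (.node 219 (.node 28 .nil .nil) (.node 292 .nil .nil)) (.node 257 (.node 22 .nil .nil)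 .nil))) (.node 284 (.node 104 (.node 49 (.node 238 .nil .nil) (.node 294 .nil .nil)) (.node 92 (.node 187 .nil .nil) .nil)) (.node 23 (.node 294 (.node 109 .nil .nil) (.node 162 .nil .nil)) (.node 73 (.node 28 .nil .nil) .nil))))))) (.node 185 (.node 193 (.node 17 (.node 82 (.node 250 (.node 101 (.node 103 (.node 30 .nil .nil) (.node 27 .nil .nil)) (.node 22 (.node 53 .nil .nil) (.node 138 .nil .nil))) (.node 88 (.node 3 (.node 111 .nil .nil) (.node 263 .nil .nil)) (.node 123 (.node 53 .nil .nil) .nil))) (.node 276 (.node 189 (.node 65 (.node 129 .nil .nil) (.node 225 .nil .nil)) (.node 251 (.node 109 .nil .nil) (.node 31 .nil .nil))) (.node 133 (.node 18 (.node 77 .nil .nil) (.node 89 .nil .nil)) (.node 141 (.node 163 .nil .nil) .nil)))) (.node 3 (.node 69 (.node 295 (.node 226 (.node 194 .nil .nil) (.node 293 .nil .nil)) (.node 91 (.node 152 .nil .nil) (.node 237 .nil .nil))) (.node 68 (.node 253 (.node 190 .nil .nil) (.node 12 .nil .nil)) (.node 285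 (.node 171 .nil .nil) .nil))) (.node 252 (.node 124 (.node 64 (.node 218 .nil .nil) (.node 144 .nil .nil)) (.node 283 (.node 66 .nil .nil) .nil)) (.node 202 (.node 168 (.node 259 .nil .nil) (.node 198 .nil .nil)) (.node 269 (.node 273 .nil .nil) .nil))))) (.node 241 (.node 247 (.node 220 (.node 284 (.node 53 (.node 104 .nil .nil) (.node 181 .nil .nil)) (.node 118 (.node 185 .nil .nil) (.node 42 .nil .nil))) (.node 21 (.node 254 (.node 246 .nil .nil) (.node 238 .nil .nil)) (.node 246 (.node 101 .nil .nil) .nil))) (.node 137 (.node 202 (.node 230 (.node 36 .nil .nil) (.node 285 .nil .nil)) (.node 27 (.node 37 .nil .nil) .nil)) (.node 267 (.node 241 (.node 268 .nil .nil) (.node 46 .nil .nil)) (.node 80 (.node 216 .nil .nil) .nil)))) (.node 116 (.node 99 (.node 127 (.node 189 (.node 201 .nil .nil) (.node 195 .nil .nil)) (.node 206 (.node 276 .nil .nil) (.node 65 .nil .nil))) (.node 158 (.node 95 (.node 202 .nil .nil) (.node 34 .nil .nil)) (.node 272 (.node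 97 .nil .nil) .nil))) (.node 24 (.node 247 (.node 96 (.node 128 .nil .nil) (.node 4 .nil .nil)) (.node 173 (.node 73 .nil .nil) .nil)) (.node 252 (.node 271 (.node 146 .nil .nil) (.node 174 .nil .nil)) (.node 272 (.node 87 .nil .nil) .nil)))))) (.node 66 (.node 102 (.node 78 (.node 234 (.node 37 (.node 288 (.node 7 .nil .nil) (.node 237 .nil .nil)) (.node 182 (.node 24 .nil .nil) (.node 1 .nil .nil))) (.node 268 (.node 232 (.node 175 .nil .nil) (.node 225 .nil .nil)) (.node 253 (.node 87 .nil .nil) .nil))) (.node 107 (.node 88 (.node 148 (.node 112 .nil .nil) (.node 134 .nil .nil)) (.node 62 (.node 259 .nil .nil) (.node 263 .nil .nil))) (.node 11 (.node 88 (.node 67 .nil .nil) (.node 207 .nil .nil)) (.node 137 (.node 105 .nil .nil) .nil)))) (.node 147 (.node 181 (.node 286 (.node 199 (.node 124 .nil .nil) (.node 91 .nil .nil)) (.node 212 (.node 51 .nil .nil) (.node 202 .nil .nil))) (.node 160 (.node 13 (.node 24 .nil .nil) (.node 184 .nil .nil)) (.node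 286 (.node 190 .nil .nil) .nil))) (.node 11 (.node 163 (.node 105 (.node 30 .nil .nil) (.node 231 .nil .nil)) (.node 263 (.node 222 .nil .nil) .nil)) (.node 155 (.node 103 (.node 12 .nil .nil) (.node 18 .nil .nil)) (.node 86 (.node 118 .nil .nil) .nil))))) (.node 189 (.node 12 (.node 57 (.node 163 (.node 160 (.node 282 .nil .nil) (.node 34 .nil .nil)) (.node 289 (.node 91 .nil .nil) (.node 230 .nil .nil))) (.node 207 (.node 37 (.node 66 .nil .nil) (.node 19 .nil .nil)) (.node 158 (.node 234 .nil .nil) .nil))) (.node 180 (.node 185 (.node 148 (.node 165 .nil .nil) (.node 158 .nil .nil)) (.node 3 (.node 105 .nil .nil) .nil)) (.node 176 (.node 212 (.node 142 .nil .nil) (.node 266 .nil .nil)) (.node 84 (.node 28 .nil .nil) .nil)))) (.node 63 (.node 173 (.node 227 (.node 64 (.node 140 .nil .nil) (.node 216 .nil .nil)) (.node 70 (.node 138 .nil .nil) (.node 160 .nil .nil))) (.node 128 (.node 197 (.node 277 .nil .nil) (.node 107 .nil .nil)) (.node 88 (.node 294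 .nil .nil) .nil))) (.node 137 (.node 122 (.node 286 (.node 293 .nil .nil) (.node 192 .nil .nil)) (.node 98 (.node 203 .nil .nil) .nil)) (.node 186 (.node 283 (.node 36 .nil .nil) (.node 228 .nil .nil)) (.node 44 (.node 247 .nil .nil) .nil))))))))

/-- Part of `repOf`. -/
noncomputable def repOf_r_l_r_r_r : Arr ℕ :=
  (.node 191 (.node 232 (.node 53 (.node 225 (.node 6 (.node 218 (.node 85 (.node 106 (.node 234 .nil .nil) (.node 177 .nil .nil)) (.node 209 (.node 204 .nil .nil) (.node 40 .nil .nil))) (.node 189 (.node 134 (.node 36 .nil .nil) (.node 10 .nil .nil)) (.node 114 (.node 72 .nil .nil) .nil))) (.node 47 (.node 128 (.node 151 (.node 67 .nil .nil) (.node 138 .nil .nil)) (.node 8 (.node 144 .nil .nil) (.node 10 .nil .nil))) (.node 55 (.node 114 (.node 98 .nil .nil) (.node 284 .nil .nil)) (.node 44 (.node 65 .nil .nil) .nil)))) (.node 126 (.node 78 (.node 192 (.node 124 (.node 153 .nil .nil) (.node 30 .nil .nil)) (.node 75 (.node 289 .nil .nil) (.node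 246 .nil .nil))) (.node 58 (.node 123 (.node 81 .nil .nil) (.node 183 .nil .nil)) (.node 226 (.node 260 .nil .nil) .nil))) (.node 111 (.node 216 (.node 12 (.node 27 .nil .nil) (.node 240 .nil .nil)) (.node 176 (.node 57 .nil .nil) .nil)) (.node 101 (.node 140 (.node 138 .nil .nil) (.node 38 .nil .nil)) (.node 116 (.node 286 .nil .nil) .nil))))) (.node 165 (.node 163 (.node 228 (.node 216 (.node 285 (.node 69 .nil .nil) (.node 268 .nil .nil)) (.node 275 (.node 146 .nil .nil) (.node 217 .nil .nil))) (.node 190 (.node 194 (.node 63 .nil .nil) (.node 265 .nil .nil)) (.node 60 (.node 161 .nil .nil) .nil))) (.node 96 (.node 141 (.node 68 (.node 101 .nil .nil) (.node 198 .nil .nil)) (.node 100 (.node 285 .nil .nil) .nil)) (.node 64 (.node 189 (.node 208 .nil .nil) (.node 50 .nil .nil)) (.node 90 (.node 185 .nil .nil) .nil)))) (.node 204 (.node 207 (.node 59 (.node 87 (.node 40 .nil .nil) (.node 267 .nil .nil)) (.node 231 (.node 243 .nil .nil) (.node 88 .nil .nil)))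 (.node 136 (.node 50 (.node 139 .nil .nil) (.node 273 .nil .nil)) (.node 291 (.node 81 .nil .nil) .nil))) (.node 74 (.node 252 (.node 104 (.node 112 .nil .nil) (.node 49 .nil .nil)) (.node 266 (.node 21 .nil .nil) .nil)) (.node 222 (.node 253 (.node 17 .nil .nil) (.node 285 .nil .nil)) (.node 62 (.node 186 .nil .nil) .nil)))))) (.node 58 (.node 69 (.node 115 (.node 221 (.node 58 (.node 123 (.node 159 .nil .nil) (.node 176 .nil .nil)) (.node 102 (.node 114 .nil .nil) (.node 138 .nil .nil))) (.node 161 (.node 285 (.node 245 .nil .nil) (.node 19 .nil .nil)) (.node 253 (.node 53 .nil .nil) .nil))) (.node 53 (.node 77 (.node 28 (.node 225 .nil .nil) (.node 32 .nil .nil)) (.node 11 (.node 117 .nil .nil) (.node 191 .nil .nil))) (.node 77 (.node 181 (.node 254 .nil .nil) (.node 114 .nil .nil)) (.node 255 (.node 167 .nil .nil) .nil)))) (.node 160 (.node 74 (.node 117 (.node 230 (.node 267 .nil .nil) (.node 145 .nil .nil)) (.node 63 (.node 48 .nil .nil) (.node 164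 .nil .nil))) (.node 217 (.node 49 (.node 184 .nil .nil) (.node 82 .nil .nil)) (.node 148 (.node 11 .nil .nil) .nil))) (.node 271 (.node 210 (.node 255 (.node 7 .nil .nil) (.node 181 .nil .nil)) (.node 121 (.node 99 .nil .nil) .nil)) (.node 238 (.node 256 (.node 224 .nil .nil) (.node 34 .nil .nil)) (.node 46 (.node 105 .nil .nil) .nil))))) (.node 226 (.node 190 (.node 257 (.node 1 (.node 239 (.node 282 .nil .nil) (.node 236 .nil .nil)) (.node 44 (.node 248 .nil .nil) (.node 150 .nil .nil))) (.node 100 (.node 18 (.node 57 .nil .nil) (.node 21 .nil .nil)) (.node 29 (.node 243 .nil .nil) .nil))) (.node 198 (.node 191 (.node 229 (.node 291 .nil .nil) (.node 150 .nil .nil)) (.node 80 (.node 158 .nil .nil) .nil)) (.node 76 (.node 289 (.node 161 .nil .nil) (.node 155 .nil .nil)) (.node 118 (.node 15 .nil .nil) .nil)))) (.node 163 (.node 38 (.node 95 (.node 246 (.node 43 .nil .nil) (.node 41 .nil .nil)) (.node 229 (.node 88 .nil .nil) (.node 33 .nil .nil))) (.node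 87 (.node 57 (.node 211 .nil .nil) (.node 250 .nil .nil)) (.node 247 (.node 191 .nil .nil) .nil))) (.node 101 (.node 53 (.node 16 (.node 96 .nil .nil) (.node 209 .nil .nil)) (.node 247 (.node 117 .nil .nil) .nil)) (.node 281 (.node 157 (.node 201 .nil .nil) (.node 201 .nil .nil)) (.node 90 (.node 260 .nil .nil) .nil))))))) (.node 251 (.node 249 (.node 263 (.node 85 (.node 276 (.node 278 (.node 229 (.node 107 .nil .nil) (.node 269 .nil .nil)) (.node 156 (.node 3 .nil .nil) (.node 217 .nil .nil))) (.node 99 (.node 269 (.node 120 .nil .nil) (.node 185 .nil .nil)) (.node 119 (.node 276 .nil .nil) .nil))) (.node 23 (.node 50 (.node 259 (.node 90 .nil .nil) (.node 177 .nil .nil)) (.node 142 (.node 17 .nil .nil) (.node 93 .nil .nil))) (.node 35 (.node 183 (.node 30 .nil .nil) (.node 251 .nil .nil)) (.node 211 (.node 221 .nil .nil) .nil)))) (.node 95 (.node 82 (.node 278 (.node 293 (.node 272 .nil .nil) (.node 69 .nil .nil)) (.node 226 (.node 65 .nil .nil) (.node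 290 .nil .nil))) (.node 32 (.node 193 (.node 218 .nil .nil) (.node 258 .nil .nil)) (.node 273 (.node 16 .nil .nil) .nil))) (.node 102 (.node 79 (.node 239 (.node 276 .nil .nil) (.node 270 .nil .nil)) (.node 220 (.node 1 .nil .nil) .nil)) (.node 8 (.node 92 (.node 130 .nil .nil) (.node 289 .nil .nil)) (.node 88 (.node 45 .nil .nil) .nil))))) (.node 292 (.node 43 (.node 43 (.node 73 (.node 250 (.node 85 .nil .nil) (.node 209 .nil .nil)) (.node 105 (.node 278 .nil .nil) (.node 23 .nil .nil))) (.node 121 (.node 53 (.node 191 .nil .nil) (.node 142 .nil .nil)) (.node 158 (.node 170 .nil .nil) .nil))) (.node 63 (.node 230 (.node 197 (.node 185 .nil .nil) (.node 91 .nil .nil)) (.node 111 (.node 120 .nil .nil) .nil)) (.node 176 (.node 155 (.node 213 .nil .nil) (.node 163 .nil .nil)) (.node 97 (.node 133 .nil .nil) .nil)))) (.node 123 (.node 59 (.node 67 (.node 271 (.node 83 .nil .nil) (.node 284 .nil .nil)) (.node 210 (.node 142 .nil .nil) (.node 71 .nil .nil)))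 (.node 103 (.node 123 (.node 151 .nil .nil) (.node 249 .nil .nil)) (.node 16 (.node 256 .nil .nil) .nil))) (.node 21 (.node 272 (.node 85 (.node 176 .nil .nil) (.node 253 .nil .nil)) (.node 173 (.node 217 .nil .nil) .nil)) (.node 165 (.node 294 (.node 179 .nil .nil) (.node 281 .nil .nil)) (.node 69 (.node 280 .nil .nil) .nil)))))) (.node 100 (.node 211 (.node 160 (.node 249 (.node 92 (.node 139 (.node 261 .nil .nil) (.node 89 .nil .nil)) (.node 284 (.node 78 .nil .nil) (.node 53 .nil .nil))) (.node 155 (.node 219 (.node 117 .nil .nil) (.node 11 .nil .nil)) (.node 145 (.node 111 .nil .nil) .nil))) (.node 183 (.node 196 (.node 223 (.node 218 .nil .nil) (.node 195 .nil .nil)) (.node 204 (.node 26 .nil .nil) (.node 173 .nil .nil))) (.node 144 (.node 123 (.node 170 .nil .nil) (.node 67 .nil .nil)) (.node 174 (.node 49 .nil .nil) .nil)))) (.node 95 (.node 139 (.node 148 (.node 263 (.node 228 .nil .nil) (.node 280 .nil .nil)) (.node 253 (.node 144 .nil .nil)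 (.node 290 .nil .nil))) (.node 153 (.node 215 (.node 101 .nil .nil) (.node 271 .nil .nil)) (.node 12 (.node 54 .nil .nil) .nil))) (.node 77 (.node 186 (.node 244 (.node 266 .nil .nil) (.node 225 .nil .nil)) (.node 24 (.node 149 .nil .nil) .nil)) (.node 18 (.node 48 (.node 130 .nil .nil) (.node 247 .nil .nil)) (.node 175 (.node 33 .nil .nil) .nil))))) (.node 223 (.node 266 (.node 189 (.node 272 (.node 124 (.node 194 .nil .nil) (.node 289 .nil .nil)) (.node 94 (.node 48 .nil .nil) (.node 198 .nil .nil))) (.node 4 (.node 33 (.node 72 .nil .nil) (.node 83 .nil .nil)) (.node 161 (.node 77 .nil .nil) .nil))) (.node 197 (.node 177 (.node 160 (.node 165 .nil .nil) (.node 202 .nil .nil)) (.node 286 (.node 5 .nil .nil) .nil)) (.node 23 (.node 21 (.node 171 .nil .nil) (.node 161 .nil .nil)) (.node 140 (.node 119 .nil .nil) .nil)))) (.node 160 (.node 262 (.node 51 (.node 105 (.node 273 .nil .nil) (.node 187 .nil .nil)) (.node 50 (.node 143 .nil .nil) (.node 234 .nil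 .nil))) (.node 25 (.node 17 (.node 150 .nil .nil) (.node 16 .nil .nil)) (.node 138 (.node 276 .nil .nil) .nil))) (.node 178 (.node 289 (.node 209 (.node 132 .nil .nil) (.node 116 .nil .nil)) (.node 11 (.node 195 .nil .nil) .nil)) (.node 79 (.node 98 (.node 224 .nil .nil) (.node 204 .nil .nil)) (.node 65 (.node 77 .nil .nil) .nil))))))))

/-- Part of `repOf`. -/
noncomputable def repOf_r_l_r_r : Arr ℕ :=
  .node 282 repOf_r_l_r_r_l repOf_r_l_r_r_r

/-- Part of `repOf`. -/
noncomputable def repOf_r_l_r : Arr ℕ :=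
  .node 0 repOf_r_l_r_l repOf_r_l_r_r

/-- Part of `repOf`. -/
noncomputable def repOf_r_l : Arr ℕ :=
  .node 0 repOf_r_l_l repOf_r_l_r

/-- Part of `repOf`. -/
noncomputable def repOf_r_r_l_l_l : Arr ℕ :=
  (.node 146 (.node 195 (.node 49 (.node 187 (.node 149 (.node 256 (.node 291 (.node 135 (.node 155 .nil .nil) (.node 200 .nil .nil)) (.node 78 (.node 196 .nil .nil) (.node 113 .nil .nil))) (.node 224 (.node 293 (.node 176 .nil .nil) (.node 16 .nil .nil)) (.node 201 (.node 292 .nil .nil) .nil))) (.node 33 (.node 1 (.node 49 (.node 48 .nil .nil) (.node 79 .nil .nil)) (.node 185 (.node 41 .nil .nil) (.node 175 .nil .nil))) (.node 233 (.node 75 (.node 267 .nil .nil) (.node 266 .nil .nil)) (.node 156 (.node 201 .nil .nil) .nil)))) (.node 15 (.node 104 (.node 278 (.node 227 (.node 164 .nil .nil) (.node 272 .nil .nil)) (.node 276 (.node 40 .nil .nil) (.node 284 .nil .nil))) (.node 183 (.node 27 (.node 221 .nil .nil) (.node 132 .nil .nil)) (.node 238 (.node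 182 .nil .nil) .nil))) (.node 92 (.node 181 (.node 202 (.node 222 .nil .nil) (.node 10 .nil .nil)) (.node 178 (.node 171 .nil .nil) .nil)) (.node 51 (.node 89 (.node 184 .nil .nil) (.node 237 .nil .nil)) (.node 287 (.node 117 .nil .nil) .nil))))) (.node 78 (.node 149 (.node 159 (.node 88 (.node 57 (.node 74 .nil .nil) (.node 114 .nil .nil)) (.node 93 (.node 86 .nil .nil) (.node 96 .nil .nil))) (.node 166 (.node 248 (.node 274 .nil .nil) (.node 194 .nil .nil)) (.node 162 (.node 153 .nil .nil) .nil))) (.node 195 (.node 282 (.node 79 (.node 65 .nil .nil) (.node 25 .nil .nil)) (.node 183 (.node 260 .nil .nil) .nil)) (.node 39 (.node 34 (.node 58 .nil .nil) (.node 83 .nil .nil)) (.node 59 (.node 257 .nil .nil) .nil)))) (.node 294 (.node 122 (.node 220 (.node 170 (.node 174 .nil .nil) (.node 149 .nil .nil)) (.node 119 (.node 206 .nil .nil) (.node 64 .nil .nil))) (.node 131 (.node 78 (.node 225 .nil .nil) (.node 124 .nil .nil)) (.node 228 (.node 7 .nil .nil)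 .nil))) (.node 42 (.node 13 (.node 136 (.node 229 .nil .nil) (.node 72 .nil .nil)) (.node 295 (.node 89 .nil .nil) .nil)) (.node 25 (.node 175 (.node 88 .nil .nil) (.node 86 .nil .nil)) (.node 26 (.node 255 .nil .nil) .nil)))))) (.node 141 (.node 78 (.node 191 (.node 243 (.node 174 (.node 213 (.node 114 .nil .nil) (.node 70 .nil .nil)) (.node 86 (.node 261 .nil .nil) (.node 130 .nil .nil))) (.node 152 (.node 249 (.node 131 .nil .nil) (.node 218 .nil .nil)) (.node 258 (.node 28 .nil .nil) .nil))) (.node 23 (.node 256 (.node 225 (.node 59 .nil .nil) (.node 135 .nil .nil)) (.node 75 (.node 176 .nil .nil) (.node 8 .nil .nil))) (.node 68 (.node 49 (.node 214 .nil .nil) (.node 33 .nil .nil)) (.node 62 (.node 173 .nil .nil) .nil)))) (.node 260 (.node 155 (.node 163 (.node 25 (.node 43 .nil .nil) (.node 133 .nil .nil)) (.node 183 (.node 126 .nil .nil) (.node 224 .nil .nil))) (.node 142 (.node 116 (.node 164 .nil .nil) (.node 227 .nil .nil)) (.node 35 (.node 262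 .nil .nil) .nil))) (.node 102 (.node 279 (.node 279 (.node 29 .nil .nil) (.node 201 .nil .nil)) (.node 281 (.node 275 .nil .nil) .nil)) (.node 68 (.node 161 (.node 22 .nil .nil) (.node 87 .nil .nil)) (.node 147 (.node 77 .nil .nil) .nil))))) (.node 175 (.node 7 (.node 295 (.node 70 (.node 35 (.node 257 .nil .nil) (.node 101 .nil .nil)) (.node 76 (.node 71 .nil .nil) (.node 131 .nil .nil))) (.node 183 (.node 126 (.node 131 .nil .nil) (.node 70 .nil .nil)) (.node 242 (.node 67 .nil .nil) .nil))) (.node 69 (.node 291 (.node 135 (.node 139 .nil .nil) (.node 201 .nil .nil)) (.node 98 (.node 132 .nil .nil) .nil)) (.node 42 (.node 161 (.node 92 .nil .nil) (.node 271 .nil .nil)) (.node 62 (.node 207 .nil .nil) .nil)))) (.node 155 (.node 45 (.node 66 (.node 89 (.node 89 .nil .nil) (.node 197 .nil .nil)) (.node 256 (.node 150 .nil .nil) (.node 289 .nil .nil))) (.node 173 (.node 17 (.node 260 .nil .nil) (.node 210 .nil .nil)) (.node 58 (.node 95 .nil .nil) .nil)))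 (.node 58 (.node 99 (.node 131 (.node 135 .nil .nil) (.node 61 .nil .nil)) (.node 235 (.node 192 .nil .nil) .nil)) (.node 64 (.node 131 (.node 179 .nil .nil) (.node 249 .nil .nil)) (.node 141 (.node 49 .nil .nil) .nil))))))) (.node 215 (.node 100 (.node 144 (.node 159 (.node 208 (.node 232 (.node 13 (.node 97 .nil .nil) (.node 284 .nil .nil)) (.node 197 (.node 285 .nil .nil) (.node 14 .nil .nil))) (.node 112 (.node 44 (.node 177 .nil .nil) (.node 171 .nil .nil)) (.node 216 (.node 121 .nil .nil) .nil))) (.node 94 (.node 236 (.node 139 (.node 244 .nil .nil) (.node 258 .nil .nil)) (.node 277 (.node 116 .nil .nil) (.node 115 .nil .nil))) (.node 60 (.node 38 (.node 40 .nil .nil) (.node 290 .nil .nil)) (.node 10 (.node 222 .nil .nil) .nil)))) (.node 19 (.node 184 (.node 228 (.node 5 (.node 4 .nil .nil) (.node 64 .nil .nil)) (.node 3 (.node 272 .nil .nil) (.node 224 .nil .nil))) (.node 128 (.node 123 (.node 127 .nil .nil) (.node 180 .nil .nil)) (.node 148 (.node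 204 .nil .nil) .nil))) (.node 262 (.node 18 (.node 33 (.node 118 .nil .nil) (.node 138 .nil .nil)) (.node 121 (.node 175 .nil .nil) .nil)) (.node 265 (.node 11 (.node 166 .nil .nil) (.node 109 .nil .nil)) (.node 51 (.node 285 .nil .nil) .nil))))) (.node 113 (.node 196 (.node 228 (.node 3 (.node 133 (.node 78 .nil .nil) (.node 104 .nil .nil)) (.node 72 (.node 42 .nil .nil) (.node 109 .nil .nil))) (.node 235 (.node 179 (.node 40 .nil .nil) (.node 29 .nil .nil)) (.node 175 (.node 104 .nil .nil) .nil))) (.node 67 (.node 137 (.node 219 (.node 143 .nil .nil) (.node 53 .nil .nil)) (.node 2 (.node 226 .nil .nil) .nil)) (.node 131 (.node 39 (.node 161 .nil .nil) (.node 91 .nil .nil)) (.node 35 (.node 62 .nil .nil) .nil)))) (.node 162 (.node 63 (.node 167 (.node 143 (.node 152 .nil .nil) (.node 34 .nil .nil)) (.node 104 (.node 211 .nil .nil) (.node 139 .nil .nil))) (.node 253 (.node 200 (.node 151 .nil .nil) (.node 35 .nil .nil)) (.node 292 (.node 23 .nil .nil)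 .nil))) (.node 206 (.node 130 (.node 205 (.node 75 .nil .nil) (.node 4 .nil .nil)) (.node 199 (.node 55 .nil .nil) .nil)) (.node 81 (.node 232 (.node 80 .nil .nil) (.node 123 .nil .nil)) (.node 132 (.node 220 .nil .nil) .nil)))))) (.node 284 (.node 233 (.node 66 (.node 258 (.node 255 (.node 95 (.node 190 .nil .nil) (.node 209 .nil .nil)) (.node 246 (.node 226 .nil .nil) (.node 3 .nil .nil))) (.node 108 (.node 224 (.node 231 .nil .nil) (.node 35 .nil .nil)) (.node 79 (.node 27 .nil .nil) .nil))) (.node 93 (.node 40 (.node 31 (.node 224 .nil .nil) (.node 90 .nil .nil)) (.node 127 (.node 177 .nil .nil) (.node 103 .nil .nil))) (.node 194 (.node 280 (.node 199 .nil .nil) (.node 269 .nil .nil)) (.node 265 (.node 55 .nil .nil) .nil)))) (.node 79 (.node 273 (.node 282 (.node 109 (.node 197 .nil .nil) (.node 207 .nil .nil)) (.node 21 (.node 68 .nil .nil) (.node 107 .nil .nil))) (.node 141 (.node 12 (.node 69 .nil .nil) (.node 147 .nil .nil)) (.node 210 (.node 137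 .nil .nil) .nil))) (.node 189 (.node 207 (.node 74 (.node 273 .nil .nil) (.node 125 .nil .nil)) (.node 18 (.node 134 .nil .nil) .nil)) (.node 282 (.node 54 (.node 74 .nil .nil) (.node 253 .nil .nil)) (.node 267 (.node 26 .nil .nil) .nil))))) (.node 226 (.node 248 (.node 26 (.node 262 (.node 116 (.node 129 .nil .nil) (.node 199 .nil .nil)) (.node 7 (.node 182 .nil .nil) (.node 234 .nil .nil))) (.node 98 (.node 226 (.node 68 .nil .nil) (.node 120 .nil .nil)) (.node 226 (.node 4 .nil .nil) .nil))) (.node 223 (.node 139 (.node 229 (.node 145 .nil .nil) (.node 132 .nil .nil)) (.node 72 (.node 131 .nil .nil) .nil)) (.node 38 (.node 1 (.node 214 .nil .nil) (.node 37 .nil .nil)) (.node 4 (.node 68 .nil .nil) .nil)))) (.node 278 (.node 186 (.node 13 (.node 60 (.node 198 .nil .nil) (.node 31 .nil .nil)) (.node 264 (.node 196 .nil .nil) (.node 250 .nil .nil))) (.node 122 (.node 114 (.node 89 .nil .nil) (.node 44 .nil .nil)) (.node 280 (.node 213 .nil .nil) .nil)))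 (.node 81 (.node 22 (.node 1 (.node 154 .nil .nil) (.node 77 .nil .nil)) (.node 183 (.node 11 .nil .nil) .nil)) (.node 143 (.node 220 (.node 157 .nil .nil) (.node 72 .nil .nil)) (.node 263 (.node 59 .nil .nil) .nil))))))))

/-- Part of `repOf`. -/
noncomputable def repOf_r_r_l_l_r : Arr ℕ :=
  (.node 129 (.node 118 (.node 136 (.node 294 (.node 129 (.node 230 (.node 294 (.node 31 (.node 154 .nil .nil) (.node 143 .nil .nil)) (.node 111 (.node 229 .nil .nil) (.node 112 .nil .nil))) (.node 181 (.node 17 (.node 197 .nil .nil) (.node 291 .nil .nil)) (.node 222 (.node 164 .nil .nil) .nil))) (.node 237 (.node 224 (.node 278 (.node 222 .nil .nil) (.node 209 .nil .nil)) (.node 13 (.node 249 .nil .nil) (.node 284 .nil .nil))) (.node 21 (.node 124 (.node 183 .nil .nil) (.node 193 .nil .nil)) (.node 4 (.node 63 .nil .nil) .nil)))) (.node 193 (.node 181 (.node 24 (.node 15 (.node 16 .nil .nil) (.node 175 .nil .nil)) (.node 107 (.node 260 .nil .nil) (.node 80 .nil .nil)))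 (.node 14 (.node 166 (.node 227 .nil .nil) (.node 88 .nil .nil)) (.node 55 (.node 82 .nil .nil) .nil))) (.node 271 (.node 55 (.node 95 (.node 254 .nil .nil) (.node 227 .nil .nil)) (.node 76 (.node 132 .nil .nil) .nil)) (.node 196 (.node 32 (.node 141 .nil .nil) (.node 105 .nil .nil)) (.node 43 (.node 237 .nil .nil) .nil))))) (.node 272 (.node 16 (.node 62 (.node 247 (.node 3 (.node 240 .nil .nil) (.node 18 .nil .nil)) (.node 171 (.node 37 .nil .nil) (.node 87 .nil .nil))) (.node 146 (.node 148 (.node 75 .nil .nil) (.node 75 .nil .nil)) (.node 212 (.node 28 .nil .nil) .nil))) (.node 85 (.node 218 (.node 76 (.node 103 .nil .nil) (.node 119 .nil .nil)) (.node 140 (.node 18 .nil .nil) .nil)) (.node 230 (.node 130 (.node 83 .nil .nil) (.node 1 .nil .nil)) (.node 114 (.node 202 .nil .nil) .nil)))) (.node 168 (.node 12 (.node 14 (.node 96 (.node 75 .nil .nil) (.node 253 .nil .nil)) (.node 29 (.node 287 .nil .nil) (.node 201 .nil .nil))) (.node 183 (.node 69 (.node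 35 .nil .nil) (.node 176 .nil .nil)) (.node 170 (.node 112 .nil .nil) .nil))) (.node 196 (.node 50 (.node 117 (.node 69 .nil .nil) (.node 269 .nil .nil)) (.node 245 (.node 25 .nil .nil) .nil)) (.node 138 (.node 177 (.node 71 .nil .nil) (.node 13 .nil .nil)) (.node 121 (.node 173 .nil .nil) .nil)))))) (.node 72 (.node 245 (.node 39 (.node 112 (.node 86 (.node 85 (.node 249 .nil .nil) (.node 75 .nil .nil)) (.node 27 (.node 274 .nil .nil) (.node 64 .nil .nil))) (.node 16 (.node 133 (.node 119 .nil .nil) (.node 145 .nil .nil)) (.node 121 (.node 100 .nil .nil) .nil))) (.node 153 (.node 169 (.node 177 (.node 113 .nil .nil) (.node 32 .nil .nil)) (.node 157 (.node 262 .nil .nil) (.node 137 .nil .nil))) (.node 27 (.node 29 (.node 11 .nil .nil) (.node 37 .nil .nil)) (.node 26 (.node 254 .nil .nil) .nil)))) (.node 217 (.node 20 (.node 277 (.node 190 (.node 242 .nil .nil) (.node 26 .nil .nil)) (.node 269 (.node 144 .nil .nil) (.node 36 .nil .nil))) (.node 105 (.node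 279 (.node 29 .nil .nil) (.node 116 .nil .nil)) (.node 272 (.node 64 .nil .nil) .nil))) (.node 13 (.node 69 (.node 110 (.node 280 .nil .nil) (.node 208 .nil .nil)) (.node 198 (.node 236 .nil .nil) .nil)) (.node 27 (.node 132 (.node 96 .nil .nil) (.node 287 .nil .nil)) (.node 149 (.node 217 .nil .nil) .nil))))) (.node 58 (.node 99 (.node 43 (.node 233 (.node 172 (.node 141 .nil .nil) (.node 65 .nil .nil)) (.node 102 (.node 31 .nil .nil) (.node 115 .nil .nil))) (.node 139 (.node 19 (.node 175 .nil .nil) (.node 207 .nil .nil)) (.node 225 (.node 218 .nil .nil) .nil))) (.node 98 (.node 171 (.node 187 (.node 158 .nil .nil) (.node 203 .nil .nil)) (.node 167 (.node 48 .nil .nil) .nil)) (.node 142 (.node 75 (.node 237 .nil .nil) (.node 248 .nil .nil)) (.node 93 (.node 128 .nil .nil) .nil)))) (.node 190 (.node 152 (.node 286 (.node 31 (.node 81 .nil .nil) (.node 190 .nil .nil)) (.node 52 (.node 213 .nil .nil) (.node 103 .nil .nil))) (.node 77 (.node 2 (.node 104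 .nil .nil) (.node 6 .nil .nil)) (.node 242 (.node 130 .nil .nil) .nil))) (.node 103 (.node 196 (.node 12 (.node 199 .nil .nil) (.node 15 .nil .nil)) (.node 237 (.node 213 .nil .nil) .nil)) (.node 162 (.node 185 (.node 250 .nil .nil) (.node 190 .nil .nil)) (.node 182 (.node 258 .nil .nil) .nil))))))) (.node 39 (.node 170 (.node 75 (.node 155 (.node 94 (.node 37 (.node 39 (.node 78 .nil .nil) (.node 80 .nil .nil)) (.node 148 (.node 61 .nil .nil) (.node 192 .nil .nil))) (.node 210 (.node 140 (.node 173 .nil .nil) (.node 265 .nil .nil)) (.node 270 (.node 11 .nil .nil) .nil))) (.node 293 (.node 181 (.node 250 (.node 190 .nil .nil) (.node 91 .nil .nil)) (.node 57 (.node 200 .nil .nil) (.node 132 .nil .nil))) (.node 241 (.node 231 (.node 280 .nil .nil) (.node 143 .nil .nil)) (.node 55 (.node 229 .nil .nil) .nil)))) (.node 77 (.node 26 (.node 278 (.node 233 (.node 201 .nil .nil) (.node 240 .nil .nil)) (.node 216 (.node 114 .nil .nil) (.node 129 .nil .nil))) (.node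 36 (.node 130 (.node 59 .nil .nil) (.node 147 .nil .nil)) (.node 80 (.node 145 .nil .nil) .nil))) (.node 151 (.node 79 (.node 52 (.node 242 .nil .nil) (.node 95 .nil .nil)) (.node 16 (.node 4 .nil .nil) .nil)) (.node 54 (.node 158 (.node 40 .nil .nil) (.node 51 .nil .nil)) (.node 65 (.node 20 .nil .nil) .nil))))) (.node 133 (.node 234 (.node 43 (.node 37 (.node 201 (.node 278 .nil .nil) (.node 105 .nil .nil)) (.node 196 (.node 289 .nil .nil) (.node 192 .nil .nil))) (.node 164 (.node 276 (.node 289 .nil .nil) (.node 78 .nil .nil)) (.node 57 (.node 7 .nil .nil) .nil))) (.node 36 (.node 248 (.node 293 (.node 54 .nil .nil) (.node 65 .nil .nil)) (.node 255 (.node 274 .nil .nil) .nil)) (.node 42 (.node 113 (.node 264 .nil .nil) (.node 192 .nil .nil)) (.node 211 (.node 39 .nil .nil) .nil)))) (.node 74 (.node 295 (.node 152 (.node 233 (.node 217 .nil .nil) (.node 31 .nil .nil)) (.node 221 (.node 143 .nil .nil) (.node 128 .nil .nil))) (.node 107 (.node 54 (.node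 186 .nil .nil) (.node 107 .nil .nil)) (.node 78 (.node 166 .nil .nil) .nil))) (.node 266 (.node 255 (.node 182 (.node 133 .nil .nil) (.node 79 .nil .nil)) (.node 228 (.node 131 .nil .nil) .nil)) (.node 130 (.node 184 (.node 161 .nil .nil) (.node 92 .nil .nil)) (.node 194 (.node 105 .nil .nil) .nil)))))) (.node 4 (.node 53 (.node 124 (.node 220 (.node 269 (.node 63 (.node 210 .nil .nil) (.node 77 .nil .nil)) (.node 278 (.node 131 .nil .nil) (.node 202 .nil .nil))) (.node 288 (.node 24 (.node 8 .nil .nil) (.node 254 .nil .nil)) (.node 66 (.node 234 .nil .nil) .nil))) (.node 67 (.node 253 (.node 22 (.node 293 .nil .nil) (.node 108 .nil .nil)) (.node 167 (.node 231 .nil .nil) (.node 73 .nil .nil))) (.node 75 (.node 39 (.node 107 .nil .nil) (.node 155 .nil .nil)) (.node 211 (.node 173 .nil .nil) .nil)))) (.node 135 (.node 253 (.node 285 (.node 141 (.node 84 .nil .nil) (.node 190 .nil .nil)) (.node 91 (.node 201 .nil .nil) (.node 53 .nil .nil))) (.node 26 (.node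 276 (.node 262 .nil .nil) (.node 167 .nil .nil)) (.node 74 (.node 73 .nil .nil) .nil))) (.node 200 (.node 271 (.node 287 (.node 195 .nil .nil) (.node 44 .nil .nil)) (.node 247 (.node 100 .nil .nil) .nil)) (.node 262 (.node 44 (.node 206 .nil .nil) (.node 151 .nil .nil)) (.node 201 (.node 69 .nil .nil) .nil))))) (.node 148 (.node 96 (.node 131 (.node 86 (.node 22 (.node 51 .nil .nil) (.node 249 .nil .nil)) (.node 273 (.node 132 .nil .nil) (.node 241 .nil .nil))) (.node 276 (.node 73 (.node 164 .nil .nil) (.node 246 .nil .nil)) (.node 92 (.node 284 .nil .nil) .nil))) (.node 223 (.node 202 (.node 22 (.node 272 .nil .nil) (.node 157 .nil .nil)) (.node 38 (.node 74 .nil .nil) .nil)) (.node 125 (.node 170 (.node 20 .nil .nil) (.node 138 .nil .nil)) (.node 183 (.node 130 .nil .nil) .nil)))) (.node 93 (.node 120 (.node 123 (.node 202 (.node 55 .nil .nil) (.node 287 .nil .nil)) (.node 166 (.node 216 .nil .nil) (.node 198 .nil .nil))) (.node 235 (.node 36 (.node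 203 .nil .nil) (.node 261 .nil .nil)) (.node 196 (.node 54 .nil .nil) .nil))) (.node 28 (.node 185 (.node 142 (.node 23 .nil .nil) (.node 252 .nil .nil)) (.node 251 (.node 192 .nil .nil) .nil)) (.node 197 (.node 175 (.node 87 .nil .nil) (.node 135 .nil .nil)) (.node 126 (.node 259 .nil .nil) .nil))))))))

/-- Part of `repOf`. -/
noncomputable def repOf_r_r_l_l : Arr ℕ :=
  .node 0 repOf_r_r_l_l_l repOf_r_r_l_l_r

/-- Part of `repOf`. -/
noncomputable def repOf_r_r_l_r_l : Arr ℕ :=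
  (.node 190 (.node 85 (.node 231 (.node 89 (.node 190 (.node 124 (.node 17 (.node 173 (.node 72 .nil .nil) (.node 80 .nil .nil)) (.node 67 (.node 207 .nil .nil) (.node 294 .nil .nil))) (.node 140 (.node 253 (.node 54 .nil .nil) (.node 244 .nil .nil)) (.node 26 (.node 59 .nil .nil) .nil))) (.node 217 (.node 125 (.node 7 (.node 170 .nil .nil) (.node 56 .nil .nil)) (.node 227 (.node 118 .nil .nil) (.node 62 .nil .nil))) (.node 68 (.node 19 (.node 190 .nil .nil) (.node 138 .nil .nil)) (.node 61 (.node 259 .nil .nil) .nil)))) (.node 168 (.node 130 (.node 174 (.node 251 (.node 62 .nil .nil) (.node 181 .nil .nil)) (.node 77 (.node 151 .nil .nil) (.node 112 .nil .nil))) (.node 215 (.node 138 (.node 185 .nil .nil) (.node 161 .nil .nil)) (.node 67 (.node 280 .nil .nil) .nil))) (.node 143 (.node 77 (.node 17 (.node 99 .nil .nil) (.node 21 .nil .nil)) (.node 110 (.node 177 .nil .nil) .nil)) (.node 125 (.node 181 (.node 235 .nil .nil) (.node 38 .nil .nil)) (.node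 154 (.node 51 .nil .nil) .nil))))) (.node 23 (.node 125 (.node 82 (.node 113 (.node 270 (.node 187 .nil .nil) (.node 159 .nil .nil)) (.node 119 (.node 275 .nil .nil) (.node 58 .nil .nil))) (.node 199 (.node 73 (.node 58 .nil .nil) (.node 276 .nil .nil)) (.node 63 (.node 73 .nil .nil) .nil))) (.node 131 (.node 286 (.node 35 (.node 129 .nil .nil) (.node 241 .nil .nil)) (.node 136 (.node 258 .nil .nil) .nil)) (.node 202 (.node 50 (.node 98 .nil .nil) (.node 62 .nil .nil)) (.node 159 (.node 3 .nil .nil) .nil)))) (.node 188 (.node 192 (.node 144 (.node 175 (.node 192 .nil .nil) (.node 283 .nil .nil)) (.node 113 (.node 102 .nil .nil) (.node 68 .nil .nil))) (.node 136 (.node 41 (.node 168 .nil .nil) (.node 13 .nil .nil)) (.node 74 (.node 128 .nil .nil) .nil))) (.node 84 (.node 245 (.node 100 (.node 290 .nil .nil) (.node 215 .nil .nil)) (.node 7 (.node 266 .nil .nil) .nil)) (.node 281 (.node 115 (.node 196 .nil .nil) (.node 246 .nil .nil)) (.node 121 (.node 247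 .nil .nil) .nil)))))) (.node 190 (.node 153 (.node 13 (.node 104 (.node 63 (.node 240 (.node 34 .nil .nil) (.node 258 .nil .nil)) (.node 33 (.node 194 .nil .nil) (.node 62 .nil .nil))) (.node 196 (.node 133 (.node 10 .nil .nil) (.node 63 .nil .nil)) (.node 82 (.node 172 .nil .nil) .nil))) (.node 5 (.node 135 (.node 224 (.node 108 .nil .nil) (.node 227 .nil .nil)) (.node 83 (.node 133 .nil .nil) (.node 119 .nil .nil))) (.node 163 (.node 231 (.node 269 .nil .nil) (.node 84 .nil .nil)) (.node 56 (.node 151 .nil .nil) .nil)))) (.node 237 (.node 142 (.node 27 (.node 161 (.node 265 .nil .nil) (.node 213 .nil .nil)) (.node 105 (.node 262 .nil .nil) (.node 291 .nil .nil))) (.node 101 (.node 175 (.node 9 .nil .nil) (.node 33 .nil .nil)) (.node 19 (.node 101 .nil .nil) .nil))) (.node 41 (.node 92 (.node 11 (.node 238 .nil .nil) (.node 144 .nil .nil)) (.node 122 (.node 271 .nil .nil) .nil)) (.node 32 (.node 153 (.node 251 .nil .nil) (.node 242 .nil .nil)) (.node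 101 (.node 234 .nil .nil) .nil))))) (.node 98 (.node 25 (.node 118 (.node 64 (.node 254 (.node 118 .nil .nil) (.node 232 .nil .nil)) (.node 193 (.node 139 .nil .nil) (.node 5 .nil .nil))) (.node 105 (.node 207 (.node 8 .nil .nil) (.node 29 .nil .nil)) (.node 223 (.node 36 .nil .nil) .nil))) (.node 272 (.node 146 (.node 267 (.node 213 .nil .nil) (.node 209 .nil .nil)) (.node 62 (.node 68 .nil .nil) .nil)) (.node 8 (.node 6 (.node 201 .nil .nil) (.node 275 .nil .nil)) (.node 111 (.node 210 .nil .nil) .nil)))) (.node 288 (.node 110 (.node 135 (.node 158 (.node 189 .nil .nil) (.node 54 .nil .nil)) (.node 239 (.node 210 .nil .nil) (.node 290 .nil .nil))) (.node 212 (.node 140 (.node 161 .nil .nil) (.node 99 .nil .nil)) (.node 214 (.node 281 .nil .nil) .nil))) (.node 154 (.node 63 (.node 35 (.node 284 .nil .nil) (.node 35 .nil .nil)) (.node 88 (.node 168 .nil .nil) .nil)) (.node 162 (.node 169 (.node 155 .nil .nil) (.node 249 .nil .nil)) (.node 155 (.node 113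 .nil .nil) .nil))))))) (.node 34 (.node 102 (.node 103 (.node 118 (.node 254 (.node 47 (.node 185 (.node 44 .nil .nil) (.node 68 .nil .nil)) (.node 160 (.node 138 .nil .nil) (.node 2 .nil .nil))) (.node 243 (.node 284 (.node 107 .nil .nil) (.node 255 .nil .nil)) (.node 257 (.node 85 .nil .nil) .nil))) (.node 35 (.node 221 (.node 82 (.node 199 .nil .nil) (.node 17 .nil .nil)) (.node 246 (.node 15 .nil .nil) (.node 286 .nil .nil))) (.node 136 (.node 41 (.node 232 .nil .nil) (.node 166 .nil .nil)) (.node 170 (.node 188 .nil .nil) .nil)))) (.node 89 (.node 173 (.node 145 (.node 17 (.node 50 .nil .nil) (.node 230 .nil .nil)) (.node 17 (.node 254 .nil .nil) (.node 261 .nil .nil))) (.node 188 (.node 72 (.node 292 .nil .nil) (.node 92 .nil .nil)) (.node 262 (.node 19 .nil .nil) .nil))) (.node 228 (.node 180 (.node 6 (.node 146 .nil .nil) (.node 51 .nil .nil)) (.node 138 (.node 126 .nil .nil) .nil)) (.node 13 (.node 27 (.node 236 .nil .nil) (.node 151 .nil .nil))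 (.node 115 (.node 32 .nil .nil) .nil))))) (.node 231 (.node 225 (.node 151 (.node 140 (.node 74 (.node 210 .nil .nil) (.node 112 .nil .nil)) (.node 215 (.node 263 .nil .nil) (.node 42 .nil .nil))) (.node 121 (.node 209 (.node 55 .nil .nil) (.node 182 .nil .nil)) (.node 125 (.node 83 .nil .nil) .nil))) (.node 212 (.node 219 (.node 56 (.node 154 .nil .nil) (.node 262 .nil .nil)) (.node 200 (.node 153 .nil .nil) .nil)) (.node 255 (.node 28 (.node 92 .nil .nil) (.node 243 .nil .nil)) (.node 224 (.node 203 .nil .nil) .nil)))) (.node 2 (.node 163 (.node 16 (.node 5 (.node 171 .nil .nil) (.node 191 .nil .nil)) (.node 130 (.node 77 .nil .nil) (.node 284 .nil .nil))) (.node 283 (.node 42 (.node 186 .nil .nil) (.node 227 .nil .nil)) (.node 282 (.node 101 .nil .nil) .nil))) (.node 84 (.node 43 (.node 130 (.node 215 .nil .nil) (.node 225 .nil .nil)) (.node 187 (.node 164 .nil .nil) .nil)) (.node 61 (.node 294 (.node 129 .nil .nil) (.node 57 .nil .nil)) (.node 228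 (.node 87 .nil .nil) .nil)))))) (.node 114 (.node 78 (.node 70 (.node 220 (.node 21 (.node 34 (.node 246 .nil .nil) (.node 234 .nil .nil)) (.node 134 (.node 141 .nil .nil) (.node 287 .nil .nil))) (.node 158 (.node 15 (.node 291 .nil .nil) (.node 255 .nil .nil)) (.node 56 (.node 224 .nil .nil) .nil))) (.node 89 (.node 280 (.node 195 (.node 236 .nil .nil) (.node 284 .nil .nil)) (.node 97 (.node 114 .nil .nil) (.node 217 .nil .nil))) (.node 201 (.node 259 (.node 222 .nil .nil) (.node 187 .nil .nil)) (.node 160 (.node 273 .nil .nil) .nil)))) (.node 256 (.node 89 (.node 152 (.node 161 (.node 180 .nil .nil) (.node 236 .nil .nil)) (.node 171 (.node 40 .nil .nil) (.node 99 .nil .nil))) (.node 185 (.node 234 (.node 29 .nil .nil) (.node 279 .nil .nil)) (.node 101 (.node 250 .nil .nil) .nil))) (.node 194 (.node 243 (.node 210 (.node 116 .nil .nil) (.node 145 .nil .nil)) (.node 255 (.node 225 .nil .nil) .nil)) (.node 146 (.node 139 (.node 66 .nil .nil) (.node 260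 .nil .nil)) (.node 5 (.node 65 .nil .nil) .nil))))) (.node 61 (.node 64 (.node 125 (.node 105 (.node 197 (.node 244 .nil .nil) (.node 114 .nil .nil)) (.node 169 (.node 93 .nil .nil) (.node 129 .nil .nil))) (.node 211 (.node 153 (.node 281 .nil .nil) (.node 175 .nil .nil)) (.node 268 (.node 92 .nil .nil) .nil))) (.node 79 (.node 54 (.node 149 (.node 24 .nil .nil) (.node 151 .nil .nil)) (.node 127 (.node 101 .nil .nil) .nil)) (.node 105 (.node 96 (.node 286 .nil .nil) (.node 253 .nil .nil)) (.node 66 (.node 49 .nil .nil) .nil)))) (.node 104 (.node 245 (.node 144 (.node 64 (.node 115 .nil .nil) (.node 227 .nil .nil)) (.node 288 (.node 203 .nil .nil) (.node 126 .nil .nil))) (.node 157 (.node 27 (.node 212 .nil .nil) (.node 118 .nil .nil)) (.node 3 (.node 61 .nil .nil) .nil))) (.node 290 (.node 18 (.node 101 (.node 241 .nil .nil) (.node 247 .nil .nil)) (.node 70 (.node 60 .nil .nil) .nil)) (.node 173 (.node 122 (.node 194 .nil .nil) (.node 252 .nil .nil)) (.node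 78 (.node 272 .nil .nil) .nil))))))))

/-- Part of `repOf`. -/
noncomputable def repOf_r_r_l_r_r : Arr ℕ :=
  (.node 188 (.node 8 (.node 68 (.node 128 (.node 235 (.node 26 (.node 34 (.node 90 (.node 167 .nil .nil) (.node 219 .nil .nil)) (.node 237 (.node 198 .nil .nil) (.node 75 .nil .nil))) (.node 112 (.node 144 (.node 259 .nil .nil) (.node 131 .nil .nil)) (.node 29 (.node 221 .nil .nil) .nil))) (.node 240 (.node 15 (.node 165 (.node 52 .nil .nil) (.node 121 .nil .nil)) (.node 222 (.node 238 .nil .nil) (.node 181 .nil .nil))) (.node 218 (.node 91 (.node 115 .nil .nil) (.node 227 .nil .nil)) (.node 255 (.node 126 .nil .nil) .nil)))) (.node 102 (.node 245 (.node 229 (.node 184 (.node 170 .nil .nil) (.node 292 .nil .nil)) (.node 118 (.node 178 .nil .nil) (.node 12 .nil .nil))) (.node 214 (.node 277 (.node 162 .nil .nil) (.node 59 .nil .nil)) (.node 243 (.node 19 .nil .nil) .nil))) (.node 5 (.node 198 (.node 154 (.node 219 .nil .nil) (.node 70 .nil .nil))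 (.node 101 (.node 175 .nil .nil) .nil)) (.node 16 (.node 10 (.node 133 .nil .nil) (.node 286 .nil .nil)) (.node 2 (.node 169 .nil .nil) .nil))))) (.node 69 (.node 286 (.node 262 (.node 42 (.node 82 (.node 33 .nil .nil) (.node 283 .nil .nil)) (.node 289 (.node 267 .nil .nil) (.node 268 .nil .nil))) (.node 141 (.node 82 (.node 217 .nil .nil) (.node 188 .nil .nil)) (.node 67 (.node 220 .nil .nil) .nil))) (.node 40 (.node 10 (.node 9 (.node 290 .nil .nil) (.node 42 .nil .nil)) (.node 2 (.node 53 .nil .nil) .nil)) (.node 46 (.node 221 (.node 155 .nil .nil) (.node 189 .nil .nil)) (.node 55 (.node 195 .nil .nil) .nil)))) (.node 58 (.node 165 (.node 43 (.node 199 (.node 128 .nil .nil) (.node 56 .nil .nil)) (.node 133 (.node 104 .nil .nil) (.node 284 .nil .nil))) (.node 229 (.node 51 (.node 174 .nil .nil) (.node 49 .nil .nil)) (.node 141 (.node 162 .nil .nil) .nil))) (.node 110 (.node 205 (.node 181 (.node 83 .nil .nil) (.node 234 .nil .nil)) (.node 196 (.node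 53 .nil .nil) .nil)) (.node 107 (.node 137 (.node 229 .nil .nil) (.node 194 .nil .nil)) (.node 119 (.node 143 .nil .nil) .nil)))))) (.node 10 (.node 86 (.node 102 (.node 206 (.node 204 (.node 75 (.node 218 .nil .nil) (.node 60 .nil .nil)) (.node 8 (.node 177 .nil .nil) (.node 227 .nil .nil))) (.node 92 (.node 181 (.node 260 .nil .nil) (.node 133 .nil .nil)) (.node 102 (.node 193 .nil .nil) .nil))) (.node 4 (.node 137 (.node 217 (.node 40 .nil .nil) (.node 72 .nil .nil)) (.node 3 (.node 76 .nil .nil) (.node 42 .nil .nil))) (.node 51 (.node 266 (.node 197 .nil .nil) (.node 40 .nil .nil)) (.node 198 (.node 7 .nil .nil) .nil)))) (.node 180 (.node 16 (.node 38 (.node 65 (.node 43 .nil .nil) (.node 26 .nil .nil)) (.node 141 (.node 36 .nil .nil) (.node 72 .nil .nil))) (.node 105 (.node 125 (.node 290 .nil .nil) (.node 174 .nil .nil)) (.node 1 (.node 3 .nil .nil) .nil))) (.node 173 (.node 71 (.node 58 (.node 156 .nil .nil) (.node 110 .nil .nil)) (.node 138 (.node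 71 .nil .nil) .nil)) (.node 199 (.node 239 (.node 143 .nil .nil) (.node 96 .nil .nil)) (.node 79 (.node 163 .nil .nil) .nil))))) (.node 61 (.node 224 (.node 74 (.node 38 (.node 74 (.node 6 .nil .nil) (.node 278 .nil .nil)) (.node 211 (.node 69 .nil .nil) (.node 183 .nil .nil))) (.node 116 (.node 248 (.node 231 .nil .nil) (.node 21 .nil .nil)) (.node 258 (.node 240 .nil .nil) .nil))) (.node 250 (.node 294 (.node 187 (.node 131 .nil .nil) (.node 54 .nil .nil)) (.node 168 (.node 142 .nil .nil) .nil)) (.node 117 (.node 275 (.node 158 .nil .nil) (.node 30 .nil .nil)) (.node 160 (.node 280 .nil .nil) .nil)))) (.node 230 (.node 182 (.node 294 (.node 230 (.node 240 .nil .nil) (.node 292 .nil .nil)) (.node 124 (.node 165 .nil .nil) (.node 99 .nil .nil))) (.node 87 (.node 2 (.node 104 .nil .nil) (.node 148 .nil .nil)) (.node 82 (.node 162 .nil .nil) .nil))) (.node 165 (.node 80 (.node 273 (.node 45 .nil .nil) (.node 277 .nil .nil)) (.node 134 (.node 221 .nil .nil)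 .nil)) (.node 184 (.node 283 (.node 259 .nil .nil) (.node 24 .nil .nil)) (.node 278 (.node 248 .nil .nil) .nil))))))) (.node 202 (.node 146 (.node 175 (.node 208 (.node 240 (.node 139 (.node 229 (.node 193 .nil .nil) (.node 11 .nil .nil)) (.node 13 (.node 27 .nil .nil) (.node 48 .nil .nil))) (.node 71 (.node 127 (.node 264 .nil .nil) (.node 43 .nil .nil)) (.node 91 (.node 202 .nil .nil) .nil))) (.node 233 (.node 206 (.node 218 (.node 31 .nil .nil) (.node 81 .nil .nil)) (.node 249 (.node 38 .nil .nil) (.node 181 .nil .nil))) (.node 241 (.node 136 (.node 136 .nil .nil) (.node 34 .nil .nil)) (.node 211 (.node 213 .nil .nil) .nil)))) (.node 200 (.node 244 (.node 245 (.node 241 (.node 14 .nil .nil) (.node 31 .nil .nil)) (.node 136 (.node 222 .nil .nil) (.node 266 .nil .nil))) (.node 71 (.node 58 (.node 113 .nil .nil) (.node 174 .nil .nil)) (.node 90 (.node 210 .nil .nil) .nil))) (.node 100 (.node 256 (.node 224 (.node 13 .nil .nil) (.node 270 .nil .nil)) (.node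 122 (.node 262 .nil .nil) .nil)) (.node 270 (.node 214 (.node 32 .nil .nil) (.node 178 .nil .nil)) (.node 280 (.node 45 .nil .nil) .nil))))) (.node 66 (.node 234 (.node 14 (.node 162 (.node 243 (.node 239 .nil .nil) (.node 12 .nil .nil)) (.node 142 (.node 15 .nil .nil) (.node 48 .nil .nil))) (.node 18 (.node 98 (.node 140 .nil .nil) (.node 105 .nil .nil)) (.node 151 (.node 213 .nil .nil) .nil))) (.node 8 (.node 60 (.node 79 (.node 103 .nil .nil) (.node 134 .nil .nil)) (.node 72 (.node 260 .nil .nil) .nil)) (.node 265 (.node 199 (.node 240 .nil .nil) (.node 174 .nil .nil)) (.node 167 (.node 9 .nil .nil) .nil)))) (.node 121 (.node 97 (.node 40 (.node 69 (.node 94 .nil .nil) (.node 165 .nil .nil)) (.node 54 (.node 107 .nil .nil) (.node 113 .nil .nil))) (.node 150 (.node 44 (.node 262 .nil .nil) (.node 22 .nil .nil)) (.node 244 (.node 72 .nil .nil) .nil))) (.node 257 (.node 258 (.node 134 (.node 268 .nil .nil) (.node 267 .nil .nil)) (.node 161 (.node 71 .nil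 .nil) .nil)) (.node 189 (.node 286 (.node 179 .nil .nil) (.node 183 .nil .nil)) (.node 71 (.node 169 .nil .nil) .nil)))))) (.node 211 (.node 98 (.node 22 (.node 161 (.node 197 (.node 12 (.node 186 .nil .nil) (.node 277 .nil .nil)) (.node 243 (.node 260 .nil .nil) (.node 251 .nil .nil))) (.node 138 (.node 240 (.node 120 .nil .nil) (.node 107 .nil .nil)) (.node 162 (.node 254 .nil .nil) .nil))) (.node 183 (.node 74 (.node 22 (.node 184 .nil .nil) (.node 136 .nil .nil)) (.node 41 (.node 145 .nil .nil) (.node 275 .nil .nil))) (.node 134 (.node 270 (.node 244 .nil .nil) (.node 158 .nil .nil)) (.node 81 (.node 242 .nil .nil) .nil)))) (.node 17 (.node 15 (.node 17 (.node 53 (.node 24 .nil .nil) (.node 289 .nil .nil)) (.node 130 (.node 20 .nil .nil) (.node 221 .nil .nil))) (.node 191 (.node 138 (.node 287 .nil .nil) (.node 289 .nil .nil)) (.node 269 (.node 36 .nil .nil) .nil))) (.node 261 (.node 201 (.node 110 (.node 260 .nil .nil) (.node 193 .nil .nil)) (.node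 93 (.node 89 .nil .nil) .nil)) (.node 53 (.node 265 (.node 181 .nil .nil) (.node 247 .nil .nil)) (.node 47 (.node 217 .nil .nil) .nil))))) (.node 22 (.node 40 (.node 205 (.node 139 (.node 267 (.node 212 .nil .nil) (.node 273 .nil .nil)) (.node 95 (.node 176 .nil .nil) (.node 215 .nil .nil))) (.node 38 (.node 154 (.node 32 .nil .nil) (.node 99 .nil .nil)) (.node 108 (.node 199 .nil .nil) .nil))) (.node 267 (.node 273 (.node 79 (.node 104 .nil .nil) (.node 50 .nil .nil)) (.node 139 (.node 281 .nil .nil) .nil)) (.node 51 (.node 28 (.node 69 .nil .nil) (.node 99 .nil .nil)) (.node 104 (.node 20 .nil .nil) .nil)))) (.node 197 (.node 120 (.node 38 (.node 269 (.node 271 .nil .nil) (.node 264 .nil .nil)) (.node 102 (.node 78 .nil .nil) (.node 13 .nil .nil))) (.node 293 (.node 67 (.node 259 .nil .nil) (.node 238 .nil .nil)) (.node 223 (.node 184 .nil .nil) .nil))) (.node 48 (.node 169 (.node 130 (.node 240 .nil .nil) (.node 215 .nil .nil)) (.node 26 (.node 84 .nil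 .nil) .nil)) (.node 223 (.node 58 (.node 167 .nil .nil) (.node 46 .nil .nil)) (.node 161 (.node 83 .nil .nil) .nil))))))))

/-- Part of `repOf`. -/
noncomputable def repOf_r_r_l_r : Arr ℕ :=
  .node 218 repOf_r_r_l_r_l repOf_r_r_l_r_r

/-- Part of `repOf`. -/
noncomputable def repOf_r_r_l : Arr ℕ :=
  .node 0 repOf_r_r_l_l repOf_r_r_l_r

/-- Part of `repOf`. -/
noncomputable def repOf_r_r_r_l_l : Arr ℕ :=
  (.node 244 (.node 103 (.node 28 (.node 32 (.node 223 (.node 197 (.node 39 (.node 148 (.node 168 .nil .nil) (.node 27 .nil .nil)) (.node 93 (.node 93 .nil .nil) (.node 121 .nil .nil))) (.node 12 (.node 123 (.node 289 .nil .nil) (.node 282 .nil .nil)) (.node 203 (.node 79 .nil .nil) .nil))) (.node 78 (.node 287 (.node 246 (.node 101 .nil .nil) (.node 41 .nil .nil)) (.node 191 (.node 33 .nil .nil) (.node 120 .nil .nil))) (.node 5 (.node 128 (.node 59 .nil .nil) (.node 228 .nil .nil)) (.node 187 (.node 274 .nil .nil) .nil)))) (.node 88 (.node 106 (.node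 8 (.node 98 (.node 198 .nil .nil) (.node 260 .nil .nil)) (.node 194 (.node 111 .nil .nil) (.node 259 .nil .nil))) (.node 111 (.node 201 (.node 158 .nil .nil) (.node 76 .nil .nil)) (.node 184 (.node 49 .nil .nil) .nil))) (.node 184 (.node 224 (.node 13 (.node 126 .nil .nil) (.node 137 .nil .nil)) (.node 105 (.node 181 .nil .nil) .nil)) (.node 252 (.node 177 (.node 33 .nil .nil) (.node 20 .nil .nil)) (.node 219 (.node 287 .nil .nil) .nil))))) (.node 12 (.node 135 (.node 230 (.node 237 (.node 107 (.node 229 .nil .nil) (.node 290 .nil .nil)) (.node 131 (.node 237 .nil .nil) (.node 285 .nil .nil))) (.node 70 (.node 33 (.node 14 .nil .nil) (.node 35 .nil .nil)) (.node 278 (.node 33 .nil .nil) .nil))) (.node 191 (.node 101 (.node 35 (.node 141 .nil .nil) (.node 293 .nil .nil)) (.node 229 (.node 243 .nil .nil) .nil)) (.node 270 (.node 294 (.node 153 .nil .nil) (.node 244 .nil .nil)) (.node 210 (.node 140 .nil .nil) .nil)))) (.node 202 (.node 86 (.node 25 (.node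 58 (.node 288 .nil .nil) (.node 150 .nil .nil)) (.node 209 (.node 190 .nil .nil) (.node 283 .nil .nil))) (.node 57 (.node 245 (.node 193 .nil .nil) (.node 274 .nil .nil)) (.node 286 (.node 114 .nil .nil) .nil))) (.node 76 (.node 33 (.node 216 (.node 263 .nil .nil) (.node 142 .nil .nil)) (.node 66 (.node 67 .nil .nil) .nil)) (.node 80 (.node 98 (.node 165 .nil .nil) (.node 222 .nil .nil)) (.node 153 (.node 97 .nil .nil) .nil)))))) (.node 82 (.node 193 (.node 44 (.node 104 (.node 288 (.node 221 (.node 11 .nil .nil) (.node 27 .nil .nil)) (.node 78 (.node 77 .nil .nil) (.node 98 .nil .nil))) (.node 20 (.node 236 (.node 26 .nil .nil) (.node 184 .nil .nil)) (.node 34 (.node 133 .nil .nil) .nil))) (.node 241 (.node 74 (.node 168 (.node 100 .nil .nil) (.node 163 .nil .nil)) (.node 289 (.node 38 .nil .nil) (.node 83 .nil .nil))) (.node 251 (.node 136 (.node 75 .nil .nil) (.node 242 .nil .nil)) (.node 127 (.node 119 .nil .nil) .nil)))) (.node 184 (.node 6 (.node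 107 (.node 233 (.node 220 .nil .nil) (.node 127 .nil .nil)) (.node 169 (.node 31 .nil .nil) (.node 48 .nil .nil))) (.node 16 (.node 93 (.node 9 .nil .nil) (.node 132 .nil .nil)) (.node 156 (.node 286 .nil .nil) .nil))) (.node 253 (.node 2 (.node 161 (.node 78 .nil .nil) (.node 257 .nil .nil)) (.node 283 (.node 204 .nil .nil) .nil)) (.node 88 (.node 214 (.node 162 .nil .nil) (.node 54 .nil .nil)) (.node 36 (.node 187 .nil .nil) .nil))))) (.node 78 (.node 291 (.node 138 (.node 148 (.node 250 (.node 279 .nil .nil) (.node 81 .nil .nil)) (.node 176 (.node 86 .nil .nil) (.node 81 .nil .nil))) (.node 67 (.node 175 (.node 26 .nil .nil) (.node 94 .nil .nil)) (.node 289 (.node 212 .nil .nil) .nil))) (.node 193 (.node 36 (.node 223 (.node 107 .nil .nil) (.node 279 .nil .nil)) (.node 98 (.node 63 .nil .nil) .nil)) (.node 115 (.node 230 (.node 78 .nil .nil) (.node 106 .nil .nil)) (.node 19 (.node 93 .nil .nil) .nil)))) (.node 208 (.node 258 (.node 254 (.node 244 (.node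 259 .nil .nil) (.node 150 .nil .nil)) (.node 22 (.node 40 .nil .nil) (.node 229 .nil .nil))) (.node 13 (.node 13 (.node 228 .nil .nil) (.node 207 .nil .nil)) (.node 80 (.node 68 .nil .nil) .nil))) (.node 110 (.node 165 (.node 280 (.node 134 .nil .nil) (.node 225 .nil .nil)) (.node 224 (.node 84 .nil .nil) .nil)) (.node 165 (.node 54 (.node 179 .nil .nil) (.node 236 .nil .nil)) (.node 282 (.node 133 .nil .nil) .nil))))))) (.node 129 (.node 78 (.node 123 (.node 190 (.node 235 (.node 275 (.node 270 (.node 45 .nil .nil) (.node 41 .nil .nil)) (.node 223 (.node 85 .nil .nil) (.node 17 .nil .nil))) (.node 160 (.node 242 (.node 203 .nil .nil) (.node 77 .nil .nil)) (.node 81 (.node 239 .nil .nil) .nil))) (.node 209 (.node 259 (.node 208 (.node 65 .nil .nil) (.node 156 .nil .nil)) (.node 107 (.node 285 .nil .nil) (.node 96 .nil .nil))) (.node 113 (.node 216 (.node 236 .nil .nil) (.node 32 .nil .nil)) (.node 137 (.node 251 .nil .nil) .nil)))) (.node 51 (.node 171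 (.node 245 (.node 29 (.node 11 .nil .nil) (.node 248 .nil .nil)) (.node 215 (.node 107 .nil .nil) (.node 235 .nil .nil))) (.node 138 (.node 20 (.node 232 .nil .nil) (.node 92 .nil .nil)) (.node 25 (.node 243 .nil .nil) .nil))) (.node 119 (.node 148 (.node 153 (.node 159 .nil .nil) (.node 257 .nil .nil)) (.node 21 (.node 145 .nil .nil) .nil)) (.node 134 (.node 214 (.node 279 .nil .nil) (.node 85 .nil .nil)) (.node 109 (.node 137 .nil .nil) .nil))))) (.node 172 (.node 220 (.node 132 (.node 200 (.node 172 (.node 2 .nil .nil) (.node 106 .nil .nil)) (.node 82 (.node 171 .nil .nil) (.node 233 .nil .nil))) (.node 55 (.node 276 (.node 171 .nil .nil) (.node 241 .nil .nil)) (.node 131 (.node 147 .nil .nil) .nil))) (.node 68 (.node 46 (.node 277 (.node 106 .nil .nil) (.node 17 .nil .nil)) (.node 243 (.node 27 .nil .nil) .nil)) (.node 257 (.node 35 (.node 92 .nil .nil) (.node 111 .nil .nil)) (.node 125 (.node 18 .nil .nil) .nil)))) (.node 200 (.node 31 (.node 265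 (.node 7 (.node 279 .nil .nil) (.node 95 .nil .nil)) (.node 50 (.node 201 .nil .nil) (.node 137 .nil .nil))) (.node 213 (.node 94 (.node 110 .nil .nil) (.node 130 .nil .nil)) (.node 217 (.node 37 .nil .nil) .nil))) (.node 59 (.node 14 (.node 189 (.node 14 .nil .nil) (.node 35 .nil .nil)) (.node 77 (.node 198 .nil .nil) .nil)) (.node 130 (.node 168 (.node 249 .nil .nil) (.node 57 .nil .nil)) (.node 52 (.node 281 .nil .nil) .nil)))))) (.node 21 (.node 33 (.node 187 (.node 167 (.node 3 (.node 144 (.node 280 .nil .nil) (.node 66 .nil .nil)) (.node 138 (.node 171 .nil .nil) (.node 68 .nil .nil))) (.node 174 (.node 177 (.node 10 .nil .nil) (.node 230 .nil .nil)) (.node 267 (.node 142 .nil .nil) .nil))) (.node 67 (.node 132 (.node 83 (.node 273 .nil .nil) (.node 31 .nil .nil)) (.node 6 (.node 36 .nil .nil) (.node 134 .nil .nil))) (.node 83 (.node 89 (.node 45 .nil .nil) (.node 165 .nil .nil)) (.node 24 (.node 7 .nil .nil) .nil)))) (.node 197 (.node 259 (.node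 176 (.node 65 (.node 267 .nil .nil) (.node 278 .nil .nil)) (.node 10 (.node 67 .nil .nil) (.node 28 .nil .nil))) (.node 174 (.node 166 (.node 150 .nil .nil) (.node 264 .nil .nil)) (.node 105 (.node 51 .nil .nil) .nil))) (.node 92 (.node 134 (.node 262 (.node 252 .nil .nil) (.node 125 .nil .nil)) (.node 216 (.node 91 .nil .nil) .nil)) (.node 244 (.node 191 (.node 209 .nil .nil) (.node 197 .nil .nil)) (.node 69 (.node 244 .nil .nil) .nil))))) (.node 104 (.node 105 (.node 10 (.node 125 (.node 46 (.node 238 .nil .nil) (.node 150 .nil .nil)) (.node 125 (.node 278 .nil .nil) (.node 11 .nil .nil))) (.node 19 (.node 144 (.node 68 .nil .nil) (.node 230 .nil .nil)) (.node 91 (.node 29 .nil .nil) .nil))) (.node 115 (.node 188 (.node 221 (.node 175 .nil .nil) (.node 223 .nil .nil)) (.node 140 (.node 282 .nil .nil) .nil)) (.node 287 (.node 232 (.node 51 .nil .nil) (.node 56 .nil .nil)) (.node 32 (.node 29 .nil .nil) .nil)))) (.node 196 (.node 132 (.node 195 (.node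 56 (.node 242 .nil .nil) (.node 69 .nil .nil)) (.node 213 (.node 16 .nil .nil) (.node 227 .nil .nil))) (.node 281 (.node 54 (.node 11 .nil .nil) (.node 108 .nil .nil)) (.node 65 (.node 19 .nil .nil) .nil))) (.node 275 (.node 220 (.node 163 (.node 235 .nil .nil) (.node 119 .nil .nil)) (.node 40 (.node 42 .nil .nil) .nil)) (.node 92 (.node 281 (.node 211 .nil .nil) (.node 166 .nil .nil)) (.node 100 (.node 220 .nil .nil) .nil))))))))

/-- Part of `repOf`. -/
noncomputable def repOf_r_r_r_l_r : Arr ℕ :=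
  (.node 44 (.node 115 (.node 76 (.node 253 (.node 141 (.node 73 (.node 169 (.node 22 (.node 162 .nil .nil) (.node 167 .nil .nil)) (.node 66 (.node 215 .nil .nil) (.node 94 .nil .nil))) (.node 81 (.node 39 (.node 96 .nil .nil) (.node 153 .nil .nil)) (.node 117 (.node 113 .nil .nil) .nil))) (.node 41 (.node 280 (.node 193 (.node 31 .nil .nil) (.node 172 .nil .nil)) (.node 75 (.node 26 .nil .nil) (.node 247 .nil .nil))) (.node 238 (.node 239 (.node 132 .nil .nil) (.node 289 .nil .nil)) (.node 147 (.node 165 .nil .nil) .nil)))) (.node 98 (.node 186 (.node 86 (.node 244 (.node 70 .nil .nil) (.node 211 .nil .nil)) (.node 30 (.node 194 .nil .nil) (.node 110 .nil .nil))) (.node 30 (.node 172 (.node 127 .nil .nil) (.node 234 .nil .nil)) (.node 213 (.node 275 .nil .nil) .nil))) (.node 156 (.node 180 (.node 195 (.node 167 .nil .nil) (.node 15 .nil .nil)) (.node 287 (.node 32 .nil .nil) .nil)) (.node 105 (.node 266 (.node 244 .nil .nil) (.node 245 .nil .nil)) (.node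 285 (.node 256 .nil .nil) .nil))))) (.node 63 (.node 105 (.node 111 (.node 189 (.node 176 (.node 217 .nil .nil) (.node 268 .nil .nil)) (.node 146 (.node 290 .nil .nil) (.node 283 .nil .nil))) (.node 249 (.node 6 (.node 116 .nil .nil) (.node 54 .nil .nil)) (.node 40 (.node 180 .nil .nil) .nil))) (.node 95 (.node 55 (.node 241 (.node 165 .nil .nil) (.node 113 .nil .nil)) (.node 291 (.node 19 .nil .nil) .nil)) (.node 46 (.node 130 (.node 271 .nil .nil) (.node 219 .nil .nil)) (.node 143 (.node 139 .nil .nil) .nil)))) (.node 127 (.node 134 (.node 97 (.node 152 (.node 127 .nil .nil) (.node 253 .nil .nil)) (.node 241 (.node 2 .nil .nil) (.node 257 .nil .nil))) (.node 204 (.node 212 (.node 194 .nil .nil) (.node 35 .nil .nil)) (.node 67 (.node 30 .nil .nil) .nil))) (.node 286 (.node 130 (.node 106 (.node 150 .nil .nil) (.node 78 .nil .nil)) (.node 295 (.node 18 .nil .nil) .nil)) (.node 251 (.node 96 (.node 243 .nil .nil) (.node 51 .nil .nil)) (.node 203 (.node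 281 .nil .nil) .nil)))))) (.node 145 (.node 5 (.node 153 (.node 50 (.node 72 (.node 54 (.node 82 .nil .nil) (.node 19 .nil .nil)) (.node 254 (.node 136 .nil .nil) (.node 70 .nil .nil))) (.node 1 (.node 249 (.node 52 .nil .nil) (.node 213 .nil .nil)) (.node 33 (.node 187 .nil .nil) .nil))) (.node 193 (.node 234 (.node 59 (.node 140 .nil .nil) (.node 164 .nil .nil)) (.node 117 (.node 101 .nil .nil) (.node 177 .nil .nil))) (.node 42 (.node 172 (.node 214 .nil .nil) (.node 232 .nil .nil)) (.node 146 (.node 11 .nil .nil) .nil)))) (.node 201 (.node 196 (.node 138 (.node 82 (.node 46 .nil .nil) (.node 175 .nil .nil)) (.node 254 (.node 18 .nil .nil) (.node 112 .nil .nil))) (.node 51 (.node 140 (.node 239 .nil .nil) (.node 43 .nil .nil)) (.node 80 (.node 23 .nil .nil) .nil))) (.node 217 (.node 281 (.node 27 (.node 248 .nil .nil) (.node 76 .nil .nil)) (.node 18 (.node 294 .nil .nil) .nil)) (.node 250 (.node 114 (.node 197 .nil .nil) (.node 121 .nil .nil)) (.node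 256 (.node 148 .nil .nil) .nil))))) (.node 221 (.node 108 (.node 159 (.node 76 (.node 285 (.node 73 .nil .nil) (.node 104 .nil .nil)) (.node 292 (.node 216 .nil .nil) (.node 89 .nil .nil))) (.node 74 (.node 262 (.node 125 .nil .nil) (.node 137 .nil .nil)) (.node 17 (.node 94 .nil .nil) .nil))) (.node 227 (.node 40 (.node 213 (.node 47 .nil .nil) (.node 11 .nil .nil)) (.node 83 (.node 182 .nil .nil) .nil)) (.node 51 (.node 8 (.node 268 .nil .nil) (.node 43 .nil .nil)) (.node 160 (.node 266 .nil .nil) .nil)))) (.node 129 (.node 210 (.node 74 (.node 222 (.node 112 .nil .nil) (.node 206 .nil .nil)) (.node 287 (.node 126 .nil .nil) (.node 69 .nil .nil))) (.node 157 (.node 287 (.node 124 .nil .nil) (.node 180 .nil .nil)) (.node 111 (.node 287 .nil .nil) .nil))) (.node 81 (.node 94 (.node 271 (.node 224 .nil .nil) (.node 166 .nil .nil)) (.node 269 (.node 264 .nil .nil) .nil)) (.node 86 (.node 39 (.node 208 .nil .nil) (.node 206 .nil .nil)) (.node 163 (.node 25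 .nil .nil) .nil))))))) (.node 44 (.node 218 (.node 294 (.node 244 (.node 276 (.node 103 (.node 139 (.node 98 .nil .nil) (.node 21 .nil .nil)) (.node 149 (.node 21 .nil .nil) (.node 18 .nil .nil))) (.node 236 (.node 200 (.node 111 .nil .nil) (.node 240 .nil .nil)) (.node 20 (.node 157 .nil .nil) .nil))) (.node 233 (.node 106 (.node 26 (.node 106 .nil .nil) (.node 216 .nil .nil)) (.node 232 (.node 216 .nil .nil) (.node 183 .nil .nil))) (.node 76 (.node 204 (.node 58 .nil .nil) (.node 143 .nil .nil)) (.node 292 (.node 221 .nil .nil) .nil)))) (.node 194 (.node 250 (.node 278 (.node 241 (.node 261 .nil .nil) (.node 59 .nil .nil)) (.node 244 (.node 154 .nil .nil) (.node 245 .nil .nil))) (.node 15 (.node 19 (.node 140 .nil .nil) (.node 20 .nil .nil)) (.node 86 (.node 278 .nil .nil) .nil))) (.node 253 (.node 135 (.node 120 (.node 77 .nil .nil) (.node 256 .nil .nil)) (.node 121 (.node 263 .nil .nil) .nil)) (.node 139 (.node 158 (.node 177 .nil .nil) (.node 277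 .nil .nil)) (.node 197 (.node 261 .nil .nil) .nil))))) (.node 28 (.node 59 (.node 272 (.node 255 (.node 179 (.node 236 .nil .nil) (.node 4 .nil .nil)) (.node 125 (.node 40 .nil .nil) (.node 178 .nil .nil))) (.node 268 (.node 275 (.node 49 .nil .nil) (.node 245 .nil .nil)) (.node 191 (.node 141 .nil .nil) .nil))) (.node 228 (.node 293 (.node 246 (.node 227 .nil .nil) (.node 284 .nil .nil)) (.node 140 (.node 151 .nil .nil) .nil)) (.node 192 (.node 49 (.node 229 .nil .nil) (.node 80 .nil .nil)) (.node 127 (.node 29 .nil .nil) .nil)))) (.node 43 (.node 225 (.node 17 (.node 143 (.node 42 .nil .nil) (.node 88 .nil .nil)) (.node 206 (.node 152 .nil .nil) (.node 147 .nil .nil))) (.node 244 (.node 34 (.node 39 .nil .nil) (.node 30 .nil .nil)) (.node 16 (.node 119 .nil .nil) .nil))) (.node 168 (.node 225 (.node 292 (.node 16 .nil .nil) (.node 190 .nil .nil)) (.node 132 (.node 113 .nil .nil) .nil)) (.node 81 (.node 106 (.node 179 .nil .nil) (.node 253 .nil .nil))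 (.node 90 (.node 135 .nil .nil) .nil)))))) (.node 58 (.node 263 (.node 267 (.node 45 (.node 65 (.node 174 (.node 51 .nil .nil) (.node 157 .nil .nil)) (.node 207 (.node 146 .nil .nil) (.node 270 .nil .nil))) (.node 173 (.node 29 (.node 202 .nil .nil) (.node 27 .nil .nil)) (.node 7 (.node 66 .nil .nil) .nil))) (.node 149 (.node 51 (.node 148 (.node 54 .nil .nil) (.node 128 .nil .nil)) (.node 167 (.node 246 .nil .nil) (.node 274 .nil .nil))) (.node 44 (.node 191 (.node 52 .nil .nil) (.node 139 .nil .nil)) (.node 79 (.node 30 .nil .nil) .nil)))) (.node 34 (.node 266 (.node 18 (.node 249 (.node 276 .nil .nil) (.node 279 .nil .nil)) (.node 91 (.node 121 .nil .nil) (.node 169 .nil .nil))) (.node 125 (.node 288 (.node 110 .nil .nil) (.node 204 .nil .nil)) (.node 152 (.node 230 .nil .nil) .nil))) (.node 211 (.node 92 (.node 182 (.node 214 .nil .nil) (.node 35 .nil .nil)) (.node 73 (.node 136 .nil .nil) .nil)) (.node 181 (.node 95 (.node 206 .nil .nil) (.node 11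 .nil .nil)) (.node 10 (.node 143 .nil .nil) .nil))))) (.node 180 (.node 89 (.node 10 (.node 57 (.node 223 (.node 77 .nil .nil) (.node 107 .nil .nil)) (.node 80 (.node 158 .nil .nil) (.node 148 .nil .nil))) (.node 74 (.node 70 (.node 218 .nil .nil) (.node 55 .nil .nil)) (.node 268 (.node 223 .nil .nil) .nil))) (.node 223 (.node 280 (.node 197 (.node 194 .nil .nil) (.node 194 .nil .nil)) (.node 12 (.node 186 .nil .nil) .nil)) (.node 252 (.node 238 (.node 215 .nil .nil) (.node 56 .nil .nil)) (.node 234 (.node 174 .nil .nil) .nil)))) (.node 135 (.node 151 (.node 282 (.node 156 (.node 105 .nil .nil) (.node 213 .nil .nil)) (.node 242 (.node 18 .nil .nil) (.node 98 .nil .nil))) (.node 25 (.node 34 (.node 154 .nil .nil) (.node 134 .nil .nil)) (.node 266 (.node 286 .nil .nil) .nil))) (.node 68 (.node 125 (.node 119 (.node 70 .nil .nil) (.node 58 .nil .nil)) (.node 132 (.node 83 .nil .nil) .nil)) (.node 147 (.node 153 (.node 107 .nil .nil) (.node 275 .nil .nil))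 (.node 146 (.node 211 .nil .nil) .nil))))))))

/-- Part of `repOf`. -/
noncomputable def repOf_r_r_r_l : Arr ℕ :=
  .node 0 repOf_r_r_r_l_l repOf_r_r_r_l_r

/-- Part of `repOf`. -/
noncomputable def repOf_r_r_r_r_l : Arr ℕ :=
  (.node 249 (.node 142 (.node 113 (.node 166 (.node 244 (.node 46 (.node 44 (.node 210 (.node 214 .nil .nil) (.node 284 .nil .nil)) (.node 228 (.node 18 .nil .nil) (.node 30 .nil .nil))) (.node 221 (.node 251 (.node 143 .nil .nil) (.node 78 .nil .nil)) (.node 165 (.node 113 .nil .nil) .nil))) (.node 69 (.node 181 (.node 174 (.node 157 .nil .nil) (.node 267 .nil .nil)) (.node 144 (.node 230 .nil .nil) (.node 120 .nil .nil))) (.node 171 (.node 60 (.node 292 .nil .nil) (.node 207 .nil .nil)) (.node 35 (.node 278 .nil .nil) .nil)))) (.node 114 (.node 206 (.node 90 (.node 250 (.node 18 .nil .nil) (.node 243 .nil .nil)) (.node 202 (.node 62 .nil .nil) (.node 24 .nil .nil))) (.node 214 (.node 74 (.node 70 .nil .nil) (.node 129 .nil .nil))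 (.node 171 (.node 234 .nil .nil) .nil))) (.node 260 (.node 283 (.node 54 (.node 199 .nil .nil) (.node 238 .nil .nil)) (.node 51 (.node 280 .nil .nil) .nil)) (.node 51 (.node 168 (.node 282 .nil .nil) (.node 102 .nil .nil)) (.node 2 (.node 186 .nil .nil) .nil))))) (.node 8 (.node 152 (.node 146 (.node 93 (.node 249 (.node 229 .nil .nil) (.node 91 .nil .nil)) (.node 198 (.node 103 .nil .nil) (.node 219 .nil .nil))) (.node 26 (.node 76 (.node 136 .nil .nil) (.node 13 .nil .nil)) (.node 10 (.node 27 .nil .nil) .nil))) (.node 185 (.node 291 (.node 231 (.node 81 .nil .nil) (.node 25 .nil .nil)) (.node 215 (.node 229 .nil .nil) .nil)) (.node 277 (.node 252 (.node 109 .nil .nil) (.node 34 .nil .nil)) (.node 90 (.node 111 .nil .nil) .nil)))) (.node 21 (.node 63 (.node 45 (.node 30 (.node 69 .nil .nil) (.node 107 .nil .nil)) (.node 49 (.node 100 .nil .nil) (.node 54 .nil .nil))) (.node 179 (.node 189 (.node 44 .nil .nil) (.node 188 .nil .nil)) (.node 67 (.node 116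 .nil .nil) .nil))) (.node 261 (.node 189 (.node 258 (.node 203 .nil .nil) (.node 194 .nil .nil)) (.node 66 (.node 22 .nil .nil) .nil)) (.node 254 (.node 40 (.node 99 .nil .nil) (.node 280 .nil .nil)) (.node 203 (.node 220 .nil .nil) .nil)))))) (.node 230 (.node 115 (.node 251 (.node 252 (.node 194 (.node 240 (.node 129 .nil .nil) (.node 274 .nil .nil)) (.node 184 (.node 212 .nil .nil) (.node 193 .nil .nil))) (.node 101 (.node 99 (.node 10 .nil .nil) (.node 48 .nil .nil)) (.node 76 (.node 28 .nil .nil) .nil))) (.node 98 (.node 4 (.node 40 (.node 243 .nil .nil) (.node 146 .nil .nil)) (.node 276 (.node 188 .nil .nil) (.node 192 .nil .nil))) (.node 254 (.node 76 (.node 162 .nil .nil) (.node 15 .nil .nil)) (.node 19 (.node 111 .nil .nil) .nil)))) (.node 186 (.node 1 (.node 15 (.node 208 (.node 185 .nil .nil) (.node 38 .nil .nil)) (.node 24 (.node 122 .nil .nil) (.node 95 .nil .nil))) (.node 20 (.node 273 (.node 244 .nil .nil) (.node 18 .nil .nil)) (.node 258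 (.node 81 .nil .nil) .nil))) (.node 79 (.node 86 (.node 37 (.node 234 .nil .nil) (.node 109 .nil .nil)) (.node 122 (.node 122 .nil .nil) .nil)) (.node 177 (.node 235 (.node 254 .nil .nil) (.node 1 .nil .nil)) (.node 212 (.node 156 .nil .nil) .nil))))) (.node 115 (.node 48 (.node 285 (.node 33 (.node 118 (.node 82 .nil .nil) (.node 37 .nil .nil)) (.node 170 (.node 150 .nil .nil) (.node 85 .nil .nil))) (.node 256 (.node 70 (.node 145 .nil .nil) (.node 114 .nil .nil)) (.node 265 (.node 178 .nil .nil) .nil))) (.node 85 (.node 21 (.node 46 (.node 213 .nil .nil) (.node 166 .nil .nil)) (.node 83 (.node 137 .nil .nil) .nil)) (.node 273 (.node 208 (.node 189 .nil .nil) (.node 192 .nil .nil)) (.node 126 (.node 163 .nil .nil) .nil)))) (.node 239 (.node 163 (.node 228 (.node 149 (.node 106 .nil .nil) (.node 224 .nil .nil)) (.node 120 (.node 98 .nil .nil) (.node 76 .nil .nil))) (.node 50 (.node 121 (.node 220 .nil .nil) (.node 102 .nil .nil)) (.node 110 (.node 249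 .nil .nil) .nil))) (.node 37 (.node 243 (.node 156 (.node 3 .nil .nil) (.node 255 .nil .nil)) (.node 284 (.node 287 .nil .nil) .nil)) (.node 103 (.node 251 (.node 159 .nil .nil) (.node 95 .nil .nil)) (.node 230 (.node 136 .nil .nil) .nil))))))) (.node 294 (.node 116 (.node 169 (.node 109 (.node 254 (.node 127 (.node 34 (.node 70 .nil .nil) (.node 107 .nil .nil)) (.node 256 (.node 277 .nil .nil) (.node 187 .nil .nil))) (.node 163 (.node 58 (.node 245 .nil .nil) (.node 93 .nil .nil)) (.node 72 (.node 133 .nil .nil) .nil))) (.node 243 (.node 50 (.node 239 (.node 159 .nil .nil) (.node 29 .nil .nil)) (.node 36 (.node 117 .nil .nil) (.node 46 .nil .nil))) (.node 28 (.node 215 (.node 89 .nil .nil) (.node 89 .nil .nil)) (.node 48 (.node 102 .nil .nil) .nil)))) (.node 42 (.node 109 (.node 145 (.node 177 (.node 137 .nil .nil) (.node 246 .nil .nil)) (.node 200 (.node 203 .nil .nil) (.node 29 .nil .nil))) (.node 277 (.node 166 (.node 188 .nil .nil) (.node 273 .nil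 .nil)) (.node 17 (.node 213 .nil .nil) .nil))) (.node 228 (.node 223 (.node 258 (.node 238 .nil .nil) (.node 15 .nil .nil)) (.node 62 (.node 78 .nil .nil) .nil)) (.node 227 (.node 110 (.node 166 .nil .nil) (.node 37 .nil .nil)) (.node 284 (.node 266 .nil .nil) .nil))))) (.node 39 (.node 45 (.node 255 (.node 242 (.node 2 (.node 31 .nil .nil) (.node 221 .nil .nil)) (.node 193 (.node 70 .nil .nil) (.node 287 .nil .nil))) (.node 180 (.node 250 (.node 248 .nil .nil) (.node 118 .nil .nil)) (.node 125 (.node 157 .nil .nil) .nil))) (.node 217 (.node 230 (.node 248 (.node 224 .nil .nil) (.node 80 .nil .nil)) (.node 10 (.node 148 .nil .nil) .nil)) (.node 37 (.node 29 (.node 158 .nil .nil) (.node 135 .nil .nil)) (.node 271 (.node 216 .nil .nil) .nil)))) (.node 201 (.node 65 (.node 213 (.node 260 (.node 13 .nil .nil) (.node 103 .nil .nil)) (.node 205 (.node 261 .nil .nil) (.node 279 .nil .nil))) (.node 183 (.node 188 (.node 39 .nil .nil) (.node 195 .nil .nil)) (.node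 282 (.node 130 .nil .nil) .nil))) (.node 219 (.node 255 (.node 63 (.node 152 .nil .nil) (.node 61 .nil .nil)) (.node 288 (.node 192 .nil .nil) .nil)) (.node 104 (.node 106 (.node 239 .nil .nil) (.node 193 .nil .nil)) (.node 24 (.node 128 .nil .nil) .nil)))))) (.node 53 (.node 153 (.node 116 (.node 59 (.node 49 (.node 151 (.node 35 .nil .nil) (.node 178 .nil .nil)) (.node 88 (.node 263 .nil .nil) (.node 110 .nil .nil))) (.node 92 (.node 89 (.node 47 .nil .nil) (.node 255 .nil .nil)) (.node 41 (.node 152 .nil .nil) .nil))) (.node 213 (.node 259 (.node 197 (.node 184 .nil .nil) (.node 63 .nil .nil)) (.node 19 (.node 224 .nil .nil) (.node 84 .nil .nil))) (.node 274 (.node 232 (.node 150 .nil .nil) (.node 93 .nil .nil)) (.node 50 (.node 156 .nil .nil) .nil)))) (.node 46 (.node 32 (.node 105 (.node 82 (.node 183 .nil .nil) (.node 182 .nil .nil)) (.node 217 (.node 109 .nil .nil) (.node 83 .nil .nil))) (.node 79 (.node 102 (.node 203 .nil .nil) (.node 255 .nil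 .nil)) (.node 176 (.node 199 .nil .nil) .nil))) (.node 50 (.node 284 (.node 117 (.node 30 .nil .nil) (.node 131 .nil .nil)) (.node 261 (.node 290 .nil .nil) .nil)) (.node 22 (.node 17 (.node 183 .nil .nil) (.node 258 .nil .nil)) (.node 189 (.node 250 .nil .nil) .nil))))) (.node 148 (.node 55 (.node 131 (.node 210 (.node 148 (.node 82 .nil .nil) (.node 219 .nil .nil)) (.node 48 (.node 90 .nil .nil) (.node 65 .nil .nil))) (.node 66 (.node 274 (.node 95 .nil .nil) (.node 193 .nil .nil)) (.node 214 (.node 232 .nil .nil) .nil))) (.node 148 (.node 75 (.node 147 (.node 192 .nil .nil) (.node 183 .nil .nil)) (.node 21 (.node 20 .nil .nil) .nil)) (.node 186 (.node 10 (.node 1 .nil .nil) (.node 59 .nil .nil)) (.node 12 (.node 35 .nil .nil) .nil)))) (.node 207 (.node 119 (.node 54 (.node 277 (.node 64 .nil .nil) (.node 290 .nil .nil)) (.node 103 (.node 62 .nil .nil) (.node 35 .nil .nil))) (.node 122 (.node 45 (.node 199 .nil .nil) (.node 115 .nil .nil)) (.node 269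 (.node 295 .nil .nil) .nil))) (.node 40 (.node 272 (.node 282 (.node 241 .nil .nil) (.node 257 .nil .nil)) (.node 240 (.node 99 .nil .nil) .nil)) (.node 124 (.node 157 (.node 96 .nil .nil) (.node 232 .nil .nil)) (.node 292 (.node 225 .nil .nil) .nil))))))))

/-- Part of `repOf`. -/
noncomputable def repOf_r_r_r_r_r : Arr ℕ :=
  (.node 251 (.node 1 (.node 114 (.node 191 (.node 65 (.node 129 (.node 139 (.node 132 (.node 43 .nil .nil) (.node 96 .nil .nil)) (.node 280 (.node 215 .nil .nil) (.node 60 .nil .nil))) (.node 206 (.node 75 (.node 219 .nil .nil) (.node 131 .nil .nil)) (.node 124 (.node 32 .nil .nil) .nil))) (.node 275 (.node 168 (.node 63 (.node 150 .nil .nil) (.node 285 .nil .nil)) (.node 25 (.node 123 .nil .nil) (.node 117 .nil .nil))) (.node 10 (.node 100 (.node 15 .nil .nil) (.node 90 .nil .nil)) (.node 170 (.node 36 .nil .nil) .nil)))) (.node 116 (.node 13 (.node 12 (.node 222 (.node 292 .nil .nil) (.node 44 .nil .nil)) (.node 249 (.node 57 .nil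 .nil) (.node 49 .nil .nil))) (.node 195 (.node 174 (.node 290 .nil .nil) (.node 12 .nil .nil)) (.node 272 (.node 220 .nil .nil) .nil))) (.node 173 (.node 268 (.node 82 (.node 239 .nil .nil) (.node 115 .nil .nil)) (.node 74 (.node 26 .nil .nil) .nil)) (.node 1 (.node 269 (.node 15 .nil .nil) (.node 46 .nil .nil)) (.node 166 (.node 74 .nil .nil) .nil))))) (.node 122 (.node 186 (.node 173 (.node 37 (.node 116 (.node 143 .nil .nil) (.node 164 .nil .nil)) (.node 57 (.node 263 .nil .nil) (.node 24 .nil .nil))) (.node 155 (.node 33 (.node 96 .nil .nil) (.node 60 .nil .nil)) (.node 171 (.node 220 .nil .nil) .nil))) (.node 170 (.node 67 (.node 46 (.node 290 .nil .nil) (.node 247 .nil .nil)) (.node 104 (.node 229 .nil .nil) .nil)) (.node 202 (.node 106 (.node 92 .nil .nil) (.node 124 .nil .nil)) (.node 64 (.node 169 .nil .nil) .nil)))) (.node 72 (.node 196 (.node 234 (.node 224 (.node 67 .nil .nil) (.node 295 .nil .nil)) (.node 172 (.node 108 .nil .nil) (.node 81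 .nil .nil))) (.node 253 (.node 211 (.node 57 .nil .nil) (.node 246 .nil .nil)) (.node 212 (.node 290 .nil .nil) .nil))) (.node 29 (.node 181 (.node 104 (.node 108 .nil .nil) (.node 172 .nil .nil)) (.node 103 (.node 198 .nil .nil) .nil)) (.node 8 (.node 89 (.node 25 .nil .nil) (.node 121 .nil .nil)) (.node 120 (.node 245 .nil .nil) .nil)))))) (.node 200 (.node 271 (.node 193 (.node 97 (.node 110 (.node 191 (.node 208 .nil .nil) (.node 17 .nil .nil)) (.node 107 (.node 239 .nil .nil) (.node 55 .nil .nil))) (.node 161 (.node 166 (.node 151 .nil .nil) (.node 60 .nil .nil)) (.node 140 (.node 30 .nil .nil) .nil))) (.node 211 (.node 96 (.node 266 (.node 294 .nil .nil) (.node 164 .nil .nil)) (.node 50 (.node 176 .nil .nil) (.node 253 .nil .nil))) (.node 60 (.node 77 (.node 34 .nil .nil) (.node 207 .nil .nil)) (.node 37 (.node 27 .nil .nil) .nil)))) (.node 22 (.node 163 (.node 182 (.node 26 (.node 22 .nil .nil) (.node 246 .nil .nil)) (.node 291 (.node 170 .nil .nil)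 (.node 113 .nil .nil))) (.node 223 (.node 271 (.node 31 .nil .nil) (.node 282 .nil .nil)) (.node 260 (.node 42 .nil .nil) .nil))) (.node 279 (.node 93 (.node 200 (.node 80 .nil .nil) (.node 13 .nil .nil)) (.node 203 (.node 207 .nil .nil) .nil)) (.node 73 (.node 53 (.node 107 .nil .nil) (.node 295 .nil .nil)) (.node 160 (.node 123 .nil .nil) .nil))))) (.node 181 (.node 140 (.node 277 (.node 117 (.node 201 (.node 190 .nil .nil) (.node 207 .nil .nil)) (.node 66 (.node 29 .nil .nil) (.node 254 .nil .nil))) (.node 4 (.node 229 (.node 57 .nil .nil) (.node 212 .nil .nil)) (.node 156 (.node 276 .nil .nil) .nil))) (.node 240 (.node 13 (.node 52 (.node 145 .nil .nil) (.node 259 .nil .nil)) (.node 11 (.node 241 .nil .nil) .nil)) (.node 163 (.node 129 (.node 174 .nil .nil) (.node 98 .nil .nil)) (.node 268 (.node 236 .nil .nil) .nil)))) (.node 31 (.node 101 (.node 85 (.node 120 (.node 265 .nil .nil) (.node 253 .nil .nil)) (.node 52 (.node 278 .nil .nil) (.node 8 .nil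 .nil))) (.node 281 (.node 291 (.node 274 .nil .nil) (.node 109 .nil .nil)) (.node 29 (.node 176 .nil .nil) .nil))) (.node 162 (.node 258 (.node 20 (.node 143 .nil .nil) (.node 285 .nil .nil)) (.node 135 (.node 77 .nil .nil) .nil)) (.node 33 (.node 87 (.node 261 .nil .nil) (.node 274 .nil .nil)) (.node 91 (.node 53 .nil .nil) .nil))))))) (.node 144 (.node 282 (.node 44 (.node 185 (.node 209 (.node 178 (.node 287 (.node 152 .nil .nil) (.node 110 .nil .nil)) (.node 5 (.node 269 .nil .nil) (.node 36 .nil .nil))) (.node 84 (.node 21 (.node 125 .nil .nil) (.node 227 .nil .nil)) (.node 119 (.node 50 .nil .nil) .nil))) (.node 235 (.node 130 (.node 15 (.node 94 .nil .nil) (.node 117 .nil .nil)) (.node 3 (.node 145 .nil .nil) (.node 12 .nil .nil))) (.node 88 (.node 229 (.node 14 .nil .nil) (.node 41 .nil .nil)) (.node 155 (.node 240 .nil .nil) .nil)))) (.node 201 (.node 288 (.node 88 (.node 23 (.node 59 .nil .nil) (.node 99 .nil .nil)) (.node 159 (.node 99 .nil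 .nil) (.node 25 .nil .nil))) (.node 163 (.node 30 (.node 72 .nil .nil) (.node 43 .nil .nil)) (.node 248 (.node 117 .nil .nil) .nil))) (.node 59 (.node 197 (.node 256 (.node 199 .nil .nil) (.node 256 .nil .nil)) (.node 220 (.node 18 .nil .nil) .nil)) (.node 285 (.node 158 (.node 251 .nil .nil) (.node 34 .nil .nil)) (.node 82 (.node 20 .nil .nil) .nil))))) (.node 207 (.node 212 (.node 247 (.node 34 (.node 274 (.node 209 .nil .nil) (.node 254 .nil .nil)) (.node 261 (.node 174 .nil .nil) (.node 293 .nil .nil))) (.node 269 (.node 263 (.node 153 .nil .nil) (.node 211 .nil .nil)) (.node 204 (.node 36 .nil .nil) .nil))) (.node 288 (.node 248 (.node 256 (.node 195 .nil .nil) (.node 93 .nil .nil)) (.node 257 (.node 120 .nil .nil) .nil)) (.node 186 (.node 218 (.node 247 .nil .nil) (.node 111 .nil .nil)) (.node 208 (.node 172 .nil .nil) .nil)))) (.node 279 (.node 43 (.node 38 (.node 184 (.node 212 .nil .nil) (.node 71 .nil .nil)) (.node 159 (.node 167 .nil .nil) (.node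 99 .nil .nil))) (.node 49 (.node 195 (.node 119 .nil .nil) (.node 97 .nil .nil)) (.node 69 (.node 256 .nil .nil) .nil))) (.node 242 (.node 45 (.node 109 (.node 75 .nil .nil) (.node 59 .nil .nil)) (.node 22 (.node 33 .nil .nil) .nil)) (.node 290 (.node 178 (.node 179 .nil .nil) (.node 128 .nil .nil)) (.node 288 (.node 269 .nil .nil) .nil)))))) (.node 70 (.node 175 (.node 135 (.node 26 (.node 135 (.node 178 (.node 152 .nil .nil) (.node 261 .nil .nil)) (.node 65 (.node 143 .nil .nil) (.node 175 .nil .nil))) (.node 102 (.node 150 (.node 3 .nil .nil) (.node 142 .nil .nil)) (.node 278 (.node 178 .nil .nil) .nil))) (.node 42 (.node 287 (.node 135 (.node 118 .nil .nil) (.node 195 .nil .nil)) (.node 183 (.node 8 .nil .nil) (.node 87 .nil .nil))) (.node 34 (.node 95 (.node 44 .nil .nil) (.node 213 .nil .nil)) (.node 105 (.node 80 .nil .nil) .nil)))) (.node 103 (.node 193 (.node 272 (.node 66 (.node 209 .nil .nil) (.node 248 .nil .nil)) (.node 20 (.node 140 .nil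 .nil) (.node 227 .nil .nil))) (.node 145 (.node 237 (.node 152 .nil .nil) (.node 223 .nil .nil)) (.node 38 (.node 224 .nil .nil) .nil))) (.node 120 (.node 2 (.node 200 (.node 262 .nil .nil) (.node 168 .nil .nil)) (.node 71 (.node 183 .nil .nil) .nil)) (.node 122 (.node 132 (.node 61 .nil .nil) (.node 272 .nil .nil)) (.node 153 (.node 5 .nil .nil) .nil))))) (.node 124 (.node 280 (.node 189 (.node 122 (.node 223 (.node 276 .nil .nil) (.node 176 .nil .nil)) (.node 120 (.node 151 .nil .nil) (.node 204 .nil .nil))) (.node 12 (.node 126 (.node 164 .nil .nil) (.node 36 .nil .nil)) (.node 174 (.node 50 .nil .nil) .nil))) (.node 147 (.node 236 (.node 46 (.node 90 .nil .nil) (.node 200 .nil .nil)) (.node 256 (.node 233 .nil .nil) .nil)) (.node 125 (.node 63 (.node 143 .nil .nil) (.node 250 .nil .nil)) (.node 243 (.node 91 .nil .nil) .nil)))) (.node 256 (.node 189 (.node 84 (.node 185 (.node 36 .nil .nil) (.node 229 .nil .nil)) (.node 173 (.node 279 .nil .nil) (.node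 165 .nil .nil))) (.node 23 (.node 61 (.node 219 .nil .nil) (.node 62 .nil .nil)) (.node 155 (.node 60 .nil .nil) .nil))) (.node 21 (.node 64 (.node 174 (.node 85 .nil .nil) (.node 273 .nil .nil)) (.node 11 (.node 59 .nil .nil) .nil)) (.node 22 (.node 115 (.node 134 .nil .nil) (.node 221 .nil .nil)) (.node 208 (.node 94 .nil .nil) .nil))))))))

/-- Part of `repOf`. -/
noncomputable def repOf_r_r_r_r : Arr ℕ :=
  .node 239 repOf_r_r_r_r_l repOf_r_r_r_r_r

/-- Part of `repOf`. -/
noncomputable def repOf_r_r_r : Arr ℕ :=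
  .node 0 repOf_r_r_r_l repOf_r_r_r_r

/-- Part of `repOf`. -/
noncomputable def repOf_r_r : Arr ℕ :=
  .node 0 repOf_r_r_l repOf_r_r_r

/-- Part of `repOf`. -/
noncomputable def repOf_r : Arr ℕ :=
  .node 0 repOf_r_l repOf_r_r

/-- The orbit of a set. -/
noncomputable def repOf : Arr ℕ :=
  .node 0 repOf_l repOf_r

/-- Part of `moveWord`. -/
noncomputable def moveWord_l_l_l_l_l : Arr (List ℕ) :=
  (.node [8,10,8,8,8] (.node [8,10,10,10] (.node [8,10,8,8,8] (.node [10,8,10] (.node [8,10,8,8,8] (.node [10,10,8,8] (.node [10,10,10,8,8] (.node [10,10,10] (.node [8,8] .nil .nil) (.node [10,10,10,8] .nil .nil)) (.node [10,8,10,10] (.node [8,10,10] .nil .nil) (.node [10,8] .nil .nil))) (.node [10,10,8,8,8] (.node [8,8,8] (.node [10,8,10,8,8] .nil .nil) (.node [] .nil .nil)) (.node [10,8,10,8,8,8] (.node [10,10,8,10] .nil .nil) .nil))) (.node [10,8,10,8,10,10] (.node [10,8,10,10,10] (.node [10,8,10,10] (.node [8,8,8,8,8,8] .nil .nil) (.node [8,8,8,8] .nil .nil))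 (.node [10,8,8,8,8] (.node [10,8,10,8,10,10] .nil .nil) (.node [10,10,8,8] .nil .nil))) (.node [8,8,8,8,8,8] (.node [10,10] (.node [10,10,8] .nil .nil) (.node [10,10] .nil .nil)) (.node [10,8,8,8,8] (.node [10,8,10,10,10] .nil .nil) .nil)))) (.node [8,10,10] (.node [10,8,10,10,10] (.node [10,8,10,10,10,8] (.node [10,10,8,10] (.node [8,8,8] .nil .nil) (.node [10,8,10,8,10] .nil .nil)) (.node [8,10,8,10] (.node [10,8,8] .nil .nil) (.node [8,10] .nil .nil))) (.node [10,8,10,10,10,8] (.node [10,8,8,10,10] (.node [10,8,8,8,8] .nil .nil) (.node [10,10,8,10,8] .nil .nil)) (.node [8,10,8,8] (.node [8,10,8,8,10] .nil .nil) .nil))) (.node [10,8,8,8,8] (.node [8,10] (.node [8,8,10,10] (.node [10,10,10,8,8,10] .nil .nil) (.node [8,8,8,8,8] .nil .nil)) (.node [10,8,8,8] (.node [10,8,10,8,10] .nil .nil) .nil)) (.node [10,10,8,8,10] (.node [10,8,8,10,10] (.node [8,8,8,8,8] .nil .nil) (.node [10,8,10,8,10] .nil .nil)) (.node [8,10,10,10] (.node [8,10] .nil .nil) .nil)))))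 (.node [8,10,8,10,10] (.node [10,10,10,8,8] (.node [10] (.node [] (.node [10,10,8,10,8] (.node [8,10,10] .nil .nil) (.node [10,10,8,8,10] .nil .nil)) (.node [8,8,10] (.node [8,10,8,8,8,8] .nil .nil) (.node [10,10,10,8,8,10] .nil .nil))) (.node [10,10,8,10,10] (.node [10,10,8,8,10,10] (.node [10,10,8,10] .nil .nil) (.node [8,8,10] .nil .nil)) (.node [8,10,8,8,10] (.node [10,8] .nil .nil) .nil))) (.node [8,10,8,10] (.node [10,8,10] (.node [8,10,10,10,8] (.node [8,8,10,8] .nil .nil) (.node [10,8,10,8] .nil .nil)) (.node [8,8,10] (.node [10,8,10] .nil .nil) (.node [8,10,8,8,8,8] .nil .nil))) (.node [10,8,10,8] (.node [10] (.node [8,10,8,10,10] .nil .nil) (.node [8,10,8,8,8,8] .nil .nil)) (.node [8,8,10,8] (.node [8] .nil .nil) .nil)))) (.node [10,10,8,10,10] (.node [10,10,10,8] (.node [8,8,10] (.node [8,8,10] (.node [8,8,8,8] .nil .nil) (.node [10,8,10,10,10] .nil .nil)) (.node [8,8,8,8] (.node [10,10,10,8,8] .nil .nil) (.node [8,10,8,8,8,8] .nil .nil))) (.node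 [8,10,8,10,10] (.node [8,10,8,8] (.node [10,10,8,8,8] .nil .nil) (.node [10,10,8,8,10] .nil .nil)) (.node [10,8,10,8] (.node [10,8,8] .nil .nil) .nil))) (.node [8,10,8,8,10] (.node [10,8,10,10,10] (.node [8,10,8,10,10] (.node [8,10,10,10] .nil .nil) (.node [10,8,10,10,10,8] .nil .nil)) (.node [8,8,8,8,8,8] (.node [10,8,10,8,10,10] .nil .nil) .nil)) (.node [8,8,10,8,8] (.node [10,8,10,10,10,8] (.node [8,8,10] .nil .nil) (.node [8,10,8] .nil .nil)) (.node [8,8,8,8,8] (.node [10,10,8,10,10] .nil .nil) .nil)))))) (.node [10,10,8] (.node [8] (.node [8,10,8,8,8] (.node [10,8,10,8,8,8] (.node [10,8] (.node [10,8] (.node [8,10,10,10,8] .nil .nil) (.node [10,10,10,8,8,10] .nil .nil)) (.node [10,8,10,10,10] (.node [8,10,8,8,8] .nil .nil) (.node [10,10,8,8,8] .nil .nil))) (.node [8,8,10] (.node [8,8,8] (.node [10,8,8,8,8] .nil .nil) (.node [8,10,8] .nil .nil)) (.node [10,8,10,8,10,10] (.node [8,10,8,8] .nil .nil) .nil))) (.node [8] (.node [8,10,8,10] (.node [10,8,8,10]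 (.node [8,8,10,8] .nil .nil) (.node [8,10,8,10,10] .nil .nil)) (.node [10,10,8,10,10] (.node [8,10,8,8,8] .nil .nil) (.node [8,10,8,8,8] .nil .nil))) (.node [8,10,8,8] (.node [10] (.node [10,10,8] .nil .nil) (.node [10,8,8,8,8] .nil .nil)) (.node [8,8,8] (.node [10,8,8,8,8] .nil .nil) .nil)))) (.node [10,10,10] (.node [8,8,10,8,8] (.node [10,10] (.node [10,10,8,8,10,10] (.node [10,10,8,10,8] .nil .nil) (.node [10,10,10,8] .nil .nil)) (.node [10,10,8,10] (.node [8,10,8,8] .nil .nil) (.node [10,8] .nil .nil))) (.node [8,8,10,8,8] (.node [10,8,10,8,10,10] (.node [8,10,10,10] .nil .nil) (.node [8,8,8,8] .nil .nil)) (.node [8,10] (.node [10,8,8,10,10] .nil .nil) .nil))) (.node [10,8,10,8,8,8] (.node [8,10,8,8,10] (.node [10,8,10,8,10] (.node [8,10,10,10] .nil .nil) (.node [10,8,10,8,10] .nil .nil)) (.node [10,10,10,8,8] (.node [8,8,10,10,10] .nil .nil) .nil)) (.node [8,8,10,10] (.node [10,8,8,8] (.node [10,8] .nil .nil) (.node [10,10] .nil .nil)) (.node [10,10,10,8,8]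 (.node [8,10,8,10,10] .nil .nil) .nil))))) (.node [10,8,8,8,8] (.node [8,8,10] (.node [10,10,10,8,8,10] (.node [10,8,10,10,10,8] (.node [10,8] (.node [10,10,8,10] .nil .nil) (.node [8,10,8] .nil .nil)) (.node [10,8,8,8] (.node [10,10,8,8,10] .nil .nil) (.node [] .nil .nil))) (.node [10,8] (.node [10,8,8,8,8] (.node [10,8,10] .nil .nil) (.node [10,10,8] .nil .nil)) (.node [10,8,8] (.node [10,8,10,8,10,10] .nil .nil) .nil))) (.node [8,8,8,8,8,8] (.node [10,10,10,8] (.node [10,10,8,10,8] (.node [10,10,10,8] .nil .nil) (.node [10,8,10,8,10,10] .nil .nil)) (.node [8,8,10,8,8] (.node [10,10,8,10] .nil .nil) .nil)) (.node [8,8,10,8,8] (.node [8,8,8,8] (.node [8,8,8,8] .nil .nil) (.node [8,10] .nil .nil)) (.node [8,10,8,8,8] (.node [10,10,8,10] .nil .nil) .nil)))) (.node [8,10,10] (.node [8,8,8] (.node [8,10,8,10] (.node [8,8,10,10] (.node [10,8,10,8] .nil .nil) (.node [8,8] .nil .nil)) (.node [10,10,8,8,8] (.node [10,10] .nil .nil) (.node [8,10,10,10] .nil .nil)))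 (.node [8,8,8,8,8,8] (.node [10,8,10,8,10] (.node [10,10,10,8] .nil .nil) (.node [10,8,10] .nil .nil)) (.node [8,10,8,8,8,8] (.node [10,10,8] .nil .nil) .nil))) (.node [10,10,10,8,8] (.node [10,8,10] (.node [10,8,10,8,8,8] (.node [10,10,10,8,8] .nil .nil) (.node [10,10,10,8,8] .nil .nil)) (.node [10,8,10,10,10,8] (.node [10,10,8,10] .nil .nil) .nil)) (.node [8,10,8] (.node [8,10,8] (.node [8,8,8] .nil .nil) (.node [10,10,10] .nil .nil)) (.node [8,8,8,8] (.node [8,10,8,8,8,8] .nil .nil) .nil))))))) (.node [10,8,8,10,10] (.node [10,10,8,8,10,10] (.node [10,8,10,8,10,10] (.node [10,10,10,8,8,10] (.node [10,8] (.node [10,10,8,8,10] (.node [10,10,8,10,8] (.node [10,8,8] .nil .nil) (.node [10,8,10,8,8] .nil .nil)) (.node [8,10,8,8,8] (.node [10,10,8,8,10] .nil .nil) (.node [10,8,8,8,8] .nil .nil))) (.node [10,8,10,8,8] (.node [10,8,8,10,10] (.node [8,8,10,8,8] .nil .nil) (.node [8,10,10] .nil .nil)) (.node [8] (.node [8,8,10,10,10] .nil .nil) .nil))) (.node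 [10,8,10,8,8] (.node [8,8,8,8] (.node [] (.node [8,10,8,8,10] .nil .nil) (.node [10,8,8,8,8] .nil .nil)) (.node [8,8,10,10] (.node [10,10,10,8,8] .nil .nil) (.node [8,10,8,8,8,8] .nil .nil))) (.node [8,8,10] (.node [8,10,8,10] (.node [10,10,10] .nil .nil) (.node [10,8,10,8] .nil .nil)) (.node [10,10,8,8] (.node [10,10,8,8,10] .nil .nil) .nil)))) (.node [8,10,10,10] (.node [8,8,8] (.node [8,8,10,8,8] (.node [10,10,10,8] (.node [10,8,8,8] .nil .nil) (.node [8,8,10,10,10] .nil .nil)) (.node [10,10,10,8,8,10] (.node [8,10,8,10] .nil .nil) (.node [10,10,8,8,8] .nil .nil))) (.node [10,10,8,8,10,10] (.node [10,8,10,10,10] (.node [10,8,8,8] .nil .nil) (.node [10,10,8,8] .nil .nil)) (.node [8,10,8,8,10] (.node [8,10] .nil .nil) .nil))) (.node [8,8,10] (.node [10,10,8,8,10] (.node [8,8,8,8] (.node [8,8,10,8,8] .nil .nil) (.node [10,8,10,10] .nil .nil)) (.node [10,8,10,8,10] (.node [10,10,8,8] .nil .nil) .nil)) (.node [8,8,8,8,8,8] (.node [10,10,8,10,10] (.node [8,10,8,10]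 .nil .nil) (.node [10,8] .nil .nil)) (.node [10,8,8,10,10] (.node [8,10,8,10] .nil .nil) .nil))))) (.node [8,10,10] (.node [10,8,10,8,10,10] (.node [8,8,10] (.node [8,8,10,8,8] (.node [10,8,10,10,10] (.node [8,8,8,8] .nil .nil) (.node [8,8,8,8,8] .nil .nil)) (.node [10,8,10,8,10,10] (.node [10,10,8,8,10] .nil .nil) (.node [8,8,8,8] .nil .nil))) (.node [8,10,8,8] (.node [8,10,8,8,10] (.node [10,8,10,8,8] .nil .nil) (.node [8,10] .nil .nil)) (.node [8,10,8,10] (.node [8,10,8,10] .nil .nil) .nil))) (.node [8] (.node [10,10,8,10,8] (.node [8,10,10,10,8] (.node [8,8,10,8,8] .nil .nil) (.node [8,10,8,10] .nil .nil)) (.node [10,8,10,8,10] (.node [8,8,10,10,10] .nil .nil) .nil)) (.node [10,8,10,8] (.node [8,10,10,10] (.node [8,8,8,8] .nil .nil) (.node [8,10,8,10,10] .nil .nil)) (.node [10,8,8,10,10] (.node [10,10,8,8,10,10] .nil .nil) .nil)))) (.node [10,8,10,8,10,10] (.node [8,10,8,8,8] (.node [8,8,10] (.node [8,8] (.node [10,8,8,10,10] .nil .nil) (.node [] .nil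 .nil)) (.node [8,8,10,10] (.node [10,10] .nil .nil) (.node [10,8] .nil .nil))) (.node [10,8] (.node [8,10] (.node [8,10,8] .nil .nil) (.node [10,8,10,10,10] .nil .nil)) (.node [8,8,10,10] (.node [10,10,8,10,8] .nil .nil) .nil))) (.node [8,8] (.node [10,10,8,8,10] (.node [10,10,10,8] (.node [8,10,8] .nil .nil) (.node [10,10,8] .nil .nil)) (.node [8,8] (.node [8,10,8,8,8] .nil .nil) .nil)) (.node [8,8,10,8,8] (.node [10,8,8,10,10] (.node [8,8] .nil .nil) (.node [8,10,8,8,10] .nil .nil)) (.node [10,8,10,10,10] (.node [10,8,10,8,10] .nil .nil) .nil)))))) (.node [10,8,10,10,10,8] (.node [8,10] (.node [10,8,10] (.node [8,8,10,8,8] (.node [8,10,8,8,10] (.node [10,8,10,8,10] (.node [8,10,8,8,8,8] .nil .nil) (.node [10,8,10,10] .nil .nil)) (.node [10,8,8,8] (.node [8,10,10,10] .nil .nil) (.node [10,10,8,10,8] .nil .nil))) (.node [8,8,10,10,10] (.node [10,8,10,10,10,8] (.node [10,8,10,8,8,8] .nil .nil) (.node [10,8,10,8,8] .nil .nil)) (.node [10,8,10,10,10,8] (.node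 [10,8] .nil .nil) .nil))) (.node [10,10,8,8,8] (.node [8,10] (.node [10,10,10,8,8] (.node [10,8,10] .nil .nil) (.node [10,8,10,8] .nil .nil)) (.node [8,8,10,8,8] (.node [10,10,10] .nil .nil) (.node [10,10] .nil .nil))) (.node [10,10,8,8,8] (.node [10,8,8,10,10] (.node [10,10,8] .nil .nil) (.node [8,10,8,10,10] .nil .nil)) (.node [10,8,8,8] (.node [8,10,10,10] .nil .nil) .nil)))) (.node [10,8,8,10] (.node [10,10,8,10] (.node [8,10,8,8] (.node [10,8,8] (.node [8,10,8,10] .nil .nil) (.node [10,8,10,8,8,8] .nil .nil)) (.node [10,8,8,8,8] (.node [10,10,8,8,10,10] .nil .nil) (.node [10,10,8,8,10] .nil .nil))) (.node [10,8,8,10] (.node [10,8,10,8,8,8] (.node [10,8,8] .nil .nil) (.node [10,8,10] .nil .nil)) (.node [10,8,10] (.node [10,8,10,8,8,8] .nil .nil) .nil))) (.node [8,8,10,10,10] (.node [10,10] (.node [10,10,10,8] (.node [8,8,10,10,10] .nil .nil) (.node [10,8,10,8,8] .nil .nil)) (.node [10,8,10,8] (.node [10,8,10,8,8] .nil .nil) .nil)) (.node [10,8,8] (.node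 [10,10,8,8,8] (.node [10,10,10,8,8] .nil .nil) (.node [8,10,10] .nil .nil)) (.node [8,8,8,8] (.node [10,8,10] .nil .nil) .nil))))) (.node [10,10,10] (.node [8,8,10] (.node [8,8,10,10,10] (.node [10,10,10,8,8] (.node [10,10,8,8,8] (.node [8,10] .nil .nil) (.node [10,8,10,8] .nil .nil)) (.node [10,10,8,10,10] (.node [8,8,10,10,10] .nil .nil) (.node [8,8,10,10,10] .nil .nil))) (.node [10,8,10,8,8] (.node [10,8,10,8,10,10] (.node [8,10,10] .nil .nil) (.node [8,8,8,8,8] .nil .nil)) (.node [10,10] (.node [10,8,10,10] .nil .nil) .nil))) (.node [10,8,10,8,8,8] (.node [10,10,8,10] (.node [10,10,10,8] (.node [8,10,8,10,10] .nil .nil) (.node [10,8,10] .nil .nil)) (.node [10,10,10,8,8] (.node [8,10,8,8,8] .nil .nil) .nil)) (.node [8,10,8] (.node [8,10,8,10,10] (.node [8,8,10,10,10] .nil .nil) (.node [8,8,8,8,8] .nil .nil)) (.node [8,10,8,8,8] (.node [8,10,8,8,8,8] .nil .nil) .nil)))) (.node [10,8,8,8,8] (.node [8,8] (.node [10,10,8,8,10] (.node [8,10,10,10,8] (.node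 [8,8,10,10] .nil .nil) (.node [8,10,8,10,10] .nil .nil)) (.node [8,8,10,10] (.node [10,10,10] .nil .nil) (.node [8,10,10,10,8] .nil .nil))) (.node [10,8] (.node [10,8,8,8] (.node [8,8,8,8,8] .nil .nil) (.node [10,8,10,10,10,8] .nil .nil)) (.node [8,10,8,8] (.node [8,8] .nil .nil) .nil))) (.node [10,8,8] (.node [10,10] (.node [8,8,8,8] (.node [10,10,10,8,8] .nil .nil) (.node [10,8,10] .nil .nil)) (.node [8,10,10,10,8] (.node [10,8,10,8,10] .nil .nil) .nil)) (.node [8,8,8,8] (.node [8,8,8,8] (.node [8,8,10,8] .nil .nil) (.node [8,10,8,10,10] .nil .nil)) (.node [8,8,10,8,8] (.node [8,10,10,10,8] .nil .nil) .nil))))))))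

/-- Part of `moveWord`. -/
noncomputable def moveWord_l_l_l_l_r : Arr (List ℕ) :=
  (.node [8,10,10] (.node [10,8,10,8,10,10] (.node [10,8,10,8,10] (.node [8,10,8,8,8,8] (.node [8,10,10,10,8] (.node [10,10,8,10] (.node [10,8,10] (.node [8,8,10,8] (.node [10,10,10,8,8,10] .nil .nil) (.node [8,10,8] .nil .nil)) (.node [10,8,10,10] (.node [] .nil .nil) (.node [10,10,8,8,10,10] .nil .nil))) (.node [10,8,10] (.node [10,8,8,10] (.node [8,8,8,8] .nil .nil) (.node [8,8,10,8] .nil .nil)) (.node [10,10,8,8] (.node [8,10,8,10,10] .nil .nil) .nil))) (.node [8,8,10,10] (.node [8,8,8] (.node [8,8,8,8,8,8] (.node [8] .nil .nil) (.node [10,8,10] .nil .nil)) (.node [10] (.node [10,10,10,8] .nil .nil) (.node [8,8] .nil .nil))) (.node [10,8,10,8] (.node [10,8,10,10,10,8] (.node [10,8,8,10,10] .nil .nil) (.node [8,8,10,10] .nil .nil)) (.node [10,10,8,8,8] (.node [10,8,8,10,10] .nil .nil) .nil)))) (.node [10,8,10,8] (.node [8,10,8,10,10] (.node [10,10,10,8,8] (.node [10,10]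 (.node [10,10,8,8,10,10] .nil .nil) (.node [10,8,8] .nil .nil)) (.node [10,8,8,10] (.node [8,8,8,8,8,8] .nil .nil) (.node [10,10,10,8,8] .nil .nil))) (.node [8,10,10] (.node [8,10,8,8,8] (.node [10,8,10,10,10,8] .nil .nil) (.node [8] .nil .nil)) (.node [8,8,10,8] (.node [8,8,8,8] .nil .nil) .nil))) (.node [10,8,8,10,10] (.node [8,10,8,8,8] (.node [10,8,10,8,8,8] (.node [10,10,8,10,10] .nil .nil) (.node [10,10,8,10,10] .nil .nil)) (.node [10,10,10] (.node [8,8,10] .nil .nil) .nil)) (.node [10,10,10,8,8] (.node [8] (.node [8,8,8,8,8,8] .nil .nil) (.node [8,8,8,8] .nil .nil)) (.node [8,10,10,10,8] (.node [10,8,10,8,8] .nil .nil) .nil))))) (.node [10,8,8,8,8] (.node [8,8] (.node [10,8,8,8,8] (.node [10,10,8,8] (.node [10,8,10,8,10,10] (.node [10,10,8,8,10,10] .nil .nil) (.node [10,10,8,8,8] .nil .nil)) (.node [8,8,8,8,8] (.node [10,10,10,8,8,10] .nil .nil) (.node [8,10,8,8,10] .nil .nil))) (.node [8] (.node [10,10,8,10,8] (.node [10,10,10,8,8,10] .nil .nil)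 (.node [10,10,10] .nil .nil)) (.node [10,10,8,8,8] (.node [10,8,10,10,10] .nil .nil) .nil))) (.node [10,8,10,8,8,8] (.node [10,8,10,10,10,8] (.node [10,8,8,10] (.node [10,10,10] .nil .nil) (.node [10,8,10,10] .nil .nil)) (.node [8,10,10,10,8] (.node [10,10,10,8,8] .nil .nil) .nil)) (.node [8,8,8] (.node [8,10,8,8] (.node [8,8,8] .nil .nil) (.node [10] .nil .nil)) (.node [8,8] (.node [10,8,10,8,8,8] .nil .nil) .nil)))) (.node [8,8,10] (.node [10,10,10,8,8] (.node [10,10,10,8,8] (.node [10,10,10,8,8] (.node [10,10,8,8,10,10] .nil .nil) (.node [8,10,8,8,8,8] .nil .nil)) (.node [10,10,8,10,10] (.node [8,8,8] .nil .nil) (.node [10,8,8] .nil .nil))) (.node [10,10,8,10,8] (.node [8,10,8] (.node [8,8,8,8,8] .nil .nil) (.node [10,8,10,8,8,8] .nil .nil)) (.node [10,8,10] (.node [10,10,8,10,10] .nil .nil) .nil))) (.node [10,10,8,10] (.node [8,10] (.node [10,8,8,10,10] (.node [10,10,8,8,10] .nil .nil) (.node [10,8,8,8,8] .nil .nil)) (.node [10,8,10,10,10] (.node [8,8,10,8]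 .nil .nil) .nil)) (.node [8,8] (.node [] (.node [10,8,10,10,10] .nil .nil) (.node [8,10,8,10] .nil .nil)) (.node [10,8] (.node [10,8,8,10,10] .nil .nil) .nil)))))) (.node [8,10,8,10,10] (.node [10,10,8,8,10,10] (.node [10,8,8,10,10] (.node [10,10,8,10] (.node [8,10,8,10] (.node [10,8] (.node [10,8,10,10,10] .nil .nil) (.node [8,10,10,10,8] .nil .nil)) (.node [10,10,8,10,8] (.node [8,8,10,8,8] .nil .nil) (.node [10,8,10] .nil .nil))) (.node [10,10,8,10] (.node [8,8,10,10,10] (.node [10,8] .nil .nil) (.node [10,10,10] .nil .nil)) (.node [8,8,10,8] (.node [8,8,10,10,10] .nil .nil) .nil))) (.node [10,10] (.node [10,10,8] (.node [8,8,8,8,8,8] (.node [10,8,10,10] .nil .nil) (.node [10,10,8,8,10,10] .nil .nil)) (.node [8] (.node [10,8,10,10,10] .nil .nil) (.node [10,10,8,8,10] .nil .nil))) (.node [8,10,8,8] (.node [10,8,10,10,10,8] (.node [10,8,10,8,10,10] .nil .nil) (.node [10,10,8,8,10] .nil .nil)) (.node [10,8,8,8,8] (.node [8,8,10] .nil .nil) .nil)))) (.node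 [] (.node [10,10,8,8] (.node [8,8,10,10] (.node [10] (.node [10,8,8,10,10] .nil .nil) (.node [8,8,8,8,8] .nil .nil)) (.node [8,10,8,8,8,8] (.node [8,8,8] .nil .nil) (.node [10,10,8] .nil .nil))) (.node [10,8,10,8] (.node [8,8,10,10] (.node [8,10,8,8] .nil .nil) (.node [10,8,10,8] .nil .nil)) (.node [8,8,10,8] (.node [10,10] .nil .nil) .nil))) (.node [10,8,10,10,10,8] (.node [8,10,8,8,8] (.node [8,10,8,10,10] (.node [8,8,8,8,8,8] .nil .nil) (.node [8,10,8,10] .nil .nil)) (.node [10,10,10,8,8] (.node [10,8,10,8] .nil .nil) .nil)) (.node [10,8,10] (.node [10,10,8,10] (.node [10,8,10,8,10,10] .nil .nil) (.node [10,10,8] .nil .nil)) (.node [10,10,8] (.node [10,8,10,8,10,10] .nil .nil) .nil))))) (.node [10,8,8,8] (.node [10,8] (.node [10,8,10,10,10,8] (.node [10,8,10] (.node [10,8,10,10,10,8] (.node [10,8,10] .nil .nil) (.node [8,8] .nil .nil)) (.node [8,10,8] (.node [8,10,8,8,8,8] .nil .nil) (.node [8,8,10,8,8] .nil .nil))) (.node [10,8,8,10] (.node [8,8,10,10]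 (.node [10,10,8,10] .nil .nil) (.node [10,10] .nil .nil)) (.node [8,8,10,8] (.node [8] .nil .nil) .nil))) (.node [10,8,8,8] (.node [] (.node [10,10,8,10] (.node [8,10,10] .nil .nil) (.node [10,8,8,8,8] .nil .nil)) (.node [10,8,8,8,8] (.node [8,8,8,8,8,8] .nil .nil) .nil)) (.node [10,10,8] (.node [8,10,8,10,10] (.node [10,10,8] .nil .nil) (.node [10,8,10,8,10] .nil .nil)) (.node [10,10,8,8,10] (.node [10,8,8] .nil .nil) .nil)))) (.node [10] (.node [10,8] (.node [10,8,10,8,10,10] (.node [8,8,10,10] (.node [8,10,10,10,8] .nil .nil) (.node [10,8,10,10,10] .nil .nil)) (.node [8,10,8,8] (.node [10,10] .nil .nil) (.node [10,8,10] .nil .nil))) (.node [8,10,8] (.node [8,10,8] (.node [10,8,10,8,10,10] .nil .nil) (.node [10,8,10,10] .nil .nil)) (.node [8,8,8] (.node [8,8] .nil .nil) .nil))) (.node [8,10] (.node [8,8,10,8] (.node [10,10,8,8,8] (.node [8,8,10,8,8] .nil .nil) (.node [8,8] .nil .nil)) (.node [8,8,8] (.node [8,10,8] .nil .nil) .nil)) (.node [8,10] (.node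 [10,8,10,8,8] (.node [10,8,10,10,10] .nil .nil) (.node [10,10,10,8] .nil .nil)) (.node [10,10,8,10] (.node [8,10,8,8,8] .nil .nil) .nil))))))) (.node [8,10,8,10] (.node [8,10,10] (.node [10,8,8,10] (.node [10,10,8,8,8] (.node [10,10,10,8] (.node [8,10,8,10,10] (.node [8,10,8,10] (.node [10,8,8,10] .nil .nil) (.node [8,8,10,10,10] .nil .nil)) (.node [10,8,8,10,10] (.node [8,10,8,8,8,8] .nil .nil) (.node [8,8,10] .nil .nil))) (.node [8,10,8,8,10] (.node [8,8,10,8,8] (.node [10,8,10,8,10] .nil .nil) (.node [10,8,8,8,8] .nil .nil)) (.node [8,10] (.node [10,8,8,8,8] .nil .nil) .nil))) (.node [10,8,8,8,8] (.node [10,8,10,8] (.node [8,10,10] (.node [10,10,10] .nil .nil) (.node [10,8,10,10,10,8] .nil .nil)) (.node [] (.node [8,10,8,8,8] .nil .nil) (.node [8] .nil .nil))) (.node [10,8,10,10,10,8] (.node [8,10] (.node [8,10,10] .nil .nil) (.node [10,10,8,8] .nil .nil)) (.node [10,10,8,10,10] (.node [10,10,10,8,8,10] .nil .nil) .nil)))) (.node [10,10,8,8,10] (.node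 [10,10,8,8,8] (.node [10,8,8] (.node [10,8,10,8,8,8] (.node [8,8] .nil .nil) (.node [8,8,8,8,8] .nil .nil)) (.node [10,10,10,8,8] (.node [10,8,10,8,10] .nil .nil) (.node [10,8,8,8] .nil .nil))) (.node [10,10,10] (.node [8,10,8,10] (.node [10,8,10,10] .nil .nil) (.node [10,10,8,10,8] .nil .nil)) (.node [8,10,8] (.node [10,8,8] .nil .nil) .nil))) (.node [10,10,8,10] (.node [10,10,10,8] (.node [10,10,8,8,8] (.node [8,8] .nil .nil) (.node [10,10,10,8,8] .nil .nil)) (.node [10,8,10,10,10,8] (.node [8,10,8,8,8,8] .nil .nil) .nil)) (.node [8,10,10] (.node [8,8,10] (.node [10,10,8,10,8] .nil .nil) (.node [10,8,10,8,10,10] .nil .nil)) (.node [8,8,8,8,8] (.node [10,10,10] .nil .nil) .nil))))) (.node [8,8,10,10,10] (.node [10,10,8,8,8] (.node [8,8] (.node [10,10,10,8,8] (.node [8,8,8] (.node [8] .nil .nil) (.node [10,10] .nil .nil)) (.node [8,10,8,8,8,8] (.node [8,10] .nil .nil) (.node [8,8,8,8,8,8] .nil .nil))) (.node [10,10,8,8,10,10] (.node [8,10,8,8] (.node [8,8,8,8,8]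 .nil .nil) (.node [8,10,8,8,8] .nil .nil)) (.node [8,10,8,10,10] (.node [10,8,8,8] .nil .nil) .nil))) (.node [10,10,8,8,8] (.node [10,8,10,8,10] (.node [10,10] (.node [10,8,8,10,10] .nil .nil) (.node [8,8,10] .nil .nil)) (.node [10,10,8,10,8] (.node [8] .nil .nil) .nil)) (.node [10,8,8,10,10] (.node [10,10,10] (.node [10,8,10,10] .nil .nil) (.node [10,8,10,8,8] .nil .nil)) (.node [8,8,10] (.node [] .nil .nil) .nil)))) (.node [10,8,10,8,8] (.node [10,8,8,10,10] (.node [10,8,8,8,8] (.node [8,8,10,8] (.node [10] .nil .nil) (.node [10,8,10,8] .nil .nil)) (.node [] (.node [10,8,8,8,8] .nil .nil) (.node [8,8,8,8,8,8] .nil .nil))) (.node [10,10,8,8,10,10] (.node [8,8,10,8] (.node [10,8,8,8] .nil .nil) (.node [8,10,10,10,8] .nil .nil)) (.node [8,8,10,10,10] (.node [8,10,8,8] .nil .nil) .nil))) (.node [10] (.node [10,8] (.node [8,8,8] (.node [10,10,8,8,8] .nil .nil) (.node [8] .nil .nil)) (.node [10,8,10,8,8,8] (.node [10,8,8,8,8] .nil .nil) .nil)) (.node [10,10,8,8,8]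 (.node [8,8,10,10,10] (.node [10,10,8,10,8] .nil .nil) (.node [8,10,10,10] .nil .nil)) (.node [8,8,10,8,8] (.node [10,10,8,10,8] .nil .nil) .nil)))))) (.node [8,8,8,8,8,8] (.node [8,10,8] (.node [10,10,10] (.node [10,8,8,10,10] (.node [10,8,8,8,8] (.node [10,8,10,8,10] (.node [8,8,8] .nil .nil) (.node [10,10,8,10] .nil .nil)) (.node [10,8,10,8,8,8] (.node [10,8,8,10] .nil .nil) (.node [8,10,8,8,8] .nil .nil))) (.node [10,10,8,10,8] (.node [] (.node [10,8,8,8,8] .nil .nil) (.node [10,8,8,10,10] .nil .nil)) (.node [10,8,10,8,8] (.node [10,10,10,8,8,10] .nil .nil) .nil))) (.node [10] (.node [10,8,8] (.node [8,10,8,8,8] (.node [10,8,10,10,10,8] .nil .nil) (.node [8,8,8,8,8] .nil .nil)) (.node [10,8,10] (.node [10,8,10,10,10,8] .nil .nil) (.node [10,8,10,10] .nil .nil))) (.node [8,8,8,8] (.node [10,8] (.node [8] .nil .nil) (.node [10,10,10] .nil .nil)) (.node [10,8] (.node [10,8] .nil .nil) .nil)))) (.node [10,8,8,10,10] (.node [10,10,8,10] (.node [10,8,8,8]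 (.node [8,10,8] (.node [8,10,8,8,8,8] .nil .nil) (.node [8,8,10,10] .nil .nil)) (.node [10,10,10,8] (.node [8,8,8,8] .nil .nil) (.node [10,10,8,8,10,10] .nil .nil))) (.node [8,8,8] (.node [10,8,8,10] (.node [10,8,10,8] .nil .nil) (.node [8,8,8,8,8] .nil .nil)) (.node [10,8,10,8,8,8] (.node [8,8,10,8,8] .nil .nil) .nil))) (.node [8,10,8] (.node [8,10,8,8,10] (.node [8,10,8,8,8,8] (.node [8,8,10,10] .nil .nil) (.node [10,10,10] .nil .nil)) (.node [10,8,10,8,8,8] (.node [10,8,8,10] .nil .nil) .nil)) (.node [10,8,10,8,8] (.node [10,10,8,10,10] (.node [8,10,10,10] .nil .nil) (.node [10,8,8,8] .nil .nil)) (.node [8,8,8,8,8,8] (.node [10,10,8,8,10,10] .nil .nil) .nil))))) (.node [10,8,10] (.node [8,8,8] (.node [8,8,8] (.node [10,10,8,10] (.node [8,8,8] (.node [10,8,10,8,8] .nil .nil) (.node [8,10,8,10] .nil .nil)) (.node [8,10,8,8] (.node [10,8,10,10] .nil .nil) (.node [8,8,8] .nil .nil))) (.node [10,10,8,8,10,10] (.node [10,8,8,10] (.node [8,8,8,8,8,8] .nil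 .nil) (.node [8,8,10,8,8] .nil .nil)) (.node [8,10,8,8] (.node [10,8,8] .nil .nil) .nil))) (.node [10,8,10,8,8] (.node [10,8,8] (.node [10,10,8,10,8] (.node [8,10,8,10,10] .nil .nil) (.node [8,8,10,10] .nil .nil)) (.node [10,10,10,8,8] (.node [10,8,10,10,10] .nil .nil) .nil)) (.node [10,8,8,8,8] (.node [] (.node [10,10,8,10,10] .nil .nil) (.node [8,10,10,10] .nil .nil)) (.node [8,8,10,8,8] (.node [8,8,10,10,10] .nil .nil) .nil)))) (.node [8,10,8,10] (.node [8,8,10,10] (.node [8,10,8,8,10] (.node [8,8,8,8,8] (.node [8] .nil .nil) (.node [10,8,10,8] .nil .nil)) (.node [10,8,8,10,10] (.node [10,8,10,8,8,8] .nil .nil) (.node [10,8,8,8] .nil .nil))) (.node [10,8,10] (.node [8,10,8,8,8] (.node [10,8,8,8,8] .nil .nil) (.node [8,8] .nil .nil)) (.node [8,10,10] (.node [8,8,8,8,8,8] .nil .nil) .nil))) (.node [10,8,8,10] (.node [] (.node [10,10,8,8,10] (.node [8,8,10,10,10] .nil .nil) (.node [8,8,10,10,10] .nil .nil)) (.node [8,8,8,8,8,8] (.node [10,10] .nil .nil)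 .nil)) (.node [10,8,8,8] (.node [10,10,8,8,10] (.node [8,10,8] .nil .nil) (.node [8,8,10] .nil .nil)) (.node [10,10,10,8] (.node [10,8,10,8,10,10] .nil .nil) .nil))))))))

/-- Part of `moveWord`. -/
noncomputable def moveWord_l_l_l_l : Arr (List ℕ) :=
  .node [8,8,10,8] moveWord_l_l_l_l_l moveWord_l_l_l_l_r

/-- Part of `moveWord`. -/
noncomputable def moveWord_l_l_l_r_l : Arr (List ℕ) :=
  (.node [8,8,10] (.node [10,8] (.node [10,10,8,8,10] (.node [8,10,8,8,10] (.node [8,10,10,10,8] (.node [8,8,8,8,8,8] (.node [10,8,10,8,8,8] (.node [10,8,8,8] (.node [8,10,8,10,10] .nil .nil) (.node [8,10,8,8,10] .nil .nil)) (.node [8,10,10,10] (.node [8,8,8,8] .nil .nil) (.node [8,8,8] .nil .nil))) (.node [10,8,10,10,10] (.node [10] (.node [8,8,10,10] .nil .nil) (.node [] .nil .nil)) (.node [10,10,10,8,8,10] (.node [8,10,8,8,8] .nil .nil) .nil))) (.node [10,8,10,8,10,10] (.node [10,8,8,10,10] (.node [8,10,8,8,8,8] (.node [10,10,8,8] .nil .nil) (.node [10] .nil .nil))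 (.node [8,10,8,10,10] (.node [10,8,8,8] .nil .nil) (.node [10,10,8,10] .nil .nil))) (.node [10,8,8,8,8] (.node [10,8,10,10,10] (.node [10,8,10,8,10,10] .nil .nil) (.node [10,10,8,8] .nil .nil)) (.node [8] (.node [10,8,10,8,10] .nil .nil) .nil)))) (.node [10,10,8,8,8] (.node [10,10,8,10] (.node [10,10,8,10,8] (.node [8,8,8,8,8] (.node [8,10] .nil .nil) (.node [10,10,8,8,10,10] .nil .nil)) (.node [10,8,10,8] (.node [8,8,10,8] .nil .nil) (.node [8,8,8] .nil .nil))) (.node [8,10,10] (.node [8,10,10,10] (.node [8,10,8,8,10] .nil .nil) (.node [8,10,10,10] .nil .nil)) (.node [] (.node [10,8,10] .nil .nil) .nil))) (.node [10,10,8,8,10,10] (.node [8,8,10,8,8] (.node [10,8,8] (.node [10,8,10,8,8,8] .nil .nil) (.node [8,8,8,8] .nil .nil)) (.node [8,8] (.node [8,8,10,8,8] .nil .nil) .nil)) (.node [10,10,8,10,10] (.node [10,8] (.node [8,8] .nil .nil) (.node [8,8,8,8,8,8] .nil .nil)) (.node [8,10,8,10] (.node [10,10,8,8] .nil .nil) .nil))))) (.node [10,10,10,8] (.node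 [10,10,8,10] (.node [8,10] (.node [10,10,8,10] (.node [8,10,8,8,10] (.node [8,10] .nil .nil) (.node [10,8,10] .nil .nil)) (.node [10,8,10,8] (.node [10,10,8,8,10] .nil .nil) (.node [10,10,8,8,8] .nil .nil))) (.node [8,8,8,8,8,8] (.node [8,10,10] (.node [10,8,8,8,8] .nil .nil) (.node [10,10,8,8,10] .nil .nil)) (.node [10] (.node [10] .nil .nil) .nil))) (.node [10,8,8,8] (.node [10,10,8,10,8] (.node [8,10,8,10,10] (.node [10,8,10,8] .nil .nil) (.node [10,10,8,8] .nil .nil)) (.node [] (.node [10,8,10,8] .nil .nil) .nil)) (.node [8,10,8,10,10] (.node [10,10,8,10,10] (.node [10,8,10,8,8] .nil .nil) (.node [8,8,10,10,10] .nil .nil)) (.node [10,8,10,8] (.node [8,8,8] .nil .nil) .nil)))) (.node [10,10] (.node [10,8,10,8,8] (.node [10,8,8,8,8] (.node [8] (.node [10,8,8,10] .nil .nil) (.node [8,8,10,10] .nil .nil)) (.node [8,10,8,8] (.node [8,10,8,10,10] .nil .nil) (.node [8,8,8,8] .nil .nil))) (.node [8,10,8,10] (.node [8,10,8,10] (.node [10,10,10] .nil .nil) (.node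 [8,10,8,8,10] .nil .nil)) (.node [8,8,8] (.node [10,10,8,8,8] .nil .nil) .nil))) (.node [10,10] (.node [10,8,8,10,10] (.node [8,10,10] (.node [8,10,10,10,8] .nil .nil) (.node [8,8,8] .nil .nil)) (.node [8,10,10,10] (.node [10,10,8,10] .nil .nil) .nil)) (.node [10,8,8,8] (.node [10] (.node [10,8,10,8,8] .nil .nil) (.node [10,10,8,10] .nil .nil)) (.node [8,8,10,8,8] (.node [8,8,10,10] .nil .nil) .nil)))))) (.node [8,10,8,8] (.node [10,8,10,8,10] (.node [8,10,10,10] (.node [10,10] (.node [10,10,8,8,10,10] (.node [8,10,8,10,10] (.node [10,10,8,8,10] .nil .nil) (.node [10,10,8] .nil .nil)) (.node [8,10,10] (.node [8,10,8,8] .nil .nil) (.node [8] .nil .nil))) (.node [8,8,10,8,8] (.node [8,8,10] (.node [10,10,8] .nil .nil) (.node [8,8,8,8,8] .nil .nil)) (.node [10,8,10,8,8] (.node [10,8,8,8,8] .nil .nil) .nil))) (.node [10,8,10,8,10,10] (.node [8,10,10,10,8] (.node [10,10,8,8,8] (.node [8,8,10,8] .nil .nil) (.node [8,8,8] .nil .nil)) (.node [10,8,10,8,8] (.node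 [8,8,10] .nil .nil) (.node [10,10,10] .nil .nil))) (.node [10,8,8,8,8] (.node [10,8,10,8,8,8] (.node [8,8,10,8,8] .nil .nil) (.node [10,10,8] .nil .nil)) (.node [10,8,10,8,10,10] (.node [10,8,8,10] .nil .nil) .nil)))) (.node [8,8,10] (.node [10,10,10] (.node [8,8,10,10,10] (.node [10,8,10,8] (.node [8,8,10,10] .nil .nil) (.node [8,10,8,10] .nil .nil)) (.node [10,10,8,8,10] (.node [10,10,8,10] .nil .nil) (.node [10,10,8,8] .nil .nil))) (.node [10,8,10,8] (.node [8,10,8,8] (.node [10,10,8,8,8] .nil .nil) (.node [] .nil .nil)) (.node [10,8,10,8,8] (.node [10,8,8,8] .nil .nil) .nil))) (.node [8,8,10,8,8] (.node [10,10,8,10,10] (.node [10,10] (.node [10,8,8,10] .nil .nil) (.node [10,8,10,10,10,8] .nil .nil)) (.node [10,10,10,8,8] (.node [8,10,8,10,10] .nil .nil) .nil)) (.node [8,10,10] (.node [8,10,8,8,8,8] (.node [10,10,8,10,8] .nil .nil) (.node [10,8,10,8,10] .nil .nil)) (.node [10,8,10,8,10,10] (.node [10,8,8,8,8] .nil .nil) .nil))))) (.node [10,8,10] (.node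 [8,8,8,8,8,8] (.node [10,8,10,8,8,8] (.node [10,10,8,8,10,10] (.node [10,8,10,8,10] (.node [8,10,8,8,8] .nil .nil) (.node [8,8,8,8,8,8] .nil .nil)) (.node [10,8,8,10,10] (.node [10,8,10,10,10] .nil .nil) (.node [8,8] .nil .nil))) (.node [10,10,8,10,8] (.node [10,10,8,10,10] (.node [8,8,8,8,8,8] .nil .nil) (.node [10,8,10,8,8,8] .nil .nil)) (.node [8] (.node [8,8,10] .nil .nil) .nil))) (.node [10,8,10,10] (.node [10,8,10,8,8] (.node [10,8,10,8,8] (.node [10,8,10,8,8] .nil .nil) (.node [10,10,10,8,8,10] .nil .nil)) (.node [10,8,10,8,10] (.node [10,8,10,10] .nil .nil) .nil)) (.node [10,8,10] (.node [10,10,8,8,10,10] (.node [10,8,8,8,8] .nil .nil) (.node [8,10,10] .nil .nil)) (.node [10,8,10,8,10] (.node [10,10,8,8,10] .nil .nil) .nil)))) (.node [10,10,10,8] (.node [10,8,10,8] (.node [10] (.node [10,10,8,8,8] (.node [8,8,10,8] .nil .nil) (.node [8,8,10,10,10] .nil .nil)) (.node [10,10] (.node [8,10,8,8,8] .nil .nil) (.node [10,10,8,10] .nil .nil))) (.node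 [10,10,10,8,8] (.node [10,8,10,8] (.node [8,10,10,10,8] .nil .nil) (.node [10,8,10,10,10,8] .nil .nil)) (.node [8,10,8,8,8,8] (.node [10,8,8,8] .nil .nil) .nil))) (.node [8,8,8,8,8] (.node [8,8,8] (.node [10,8,10,10] (.node [10,8,8,10,10] .nil .nil) (.node [10,8] .nil .nil)) (.node [10,10,8,8,10] (.node [8,10,8,8,10] .nil .nil) .nil)) (.node [8,8,10,8] (.node [8,10,10] (.node [10,8,10,8] .nil .nil) (.node [10,8,8] .nil .nil)) (.node [10,8,10,8] (.node [10,10,8,8] .nil .nil) .nil))))))) (.node [8,10,8,10] (.node [10,8,8,8] (.node [10,10,8,8,8] (.node [8,8,8,8,8,8] (.node [10,8,10,10,10] (.node [8,10,8,8,8,8] (.node [8,10,10] (.node [8,8,10] .nil .nil) (.node [10,8,10,8,10] .nil .nil)) (.node [8,8,10,10,10] (.node [8,10,8] .nil .nil) (.node [10,8,10,8] .nil .nil))) (.node [8,8,8,8] (.node [10,8,8,10] (.node [10,8,10,10] .nil .nil) (.node [10,8,10,10,10] .nil .nil)) (.node [8] (.node [10,8,10,10,10,8] .nil .nil) .nil))) (.node [10,10,10,8] (.node [8,10,10,10]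 (.node [8,10,8,8,10] (.node [10,8,8] .nil .nil) (.node [10,8,10,10,10,8] .nil .nil)) (.node [10] (.node [8,8,10,10] .nil .nil) (.node [8,10,8,10,10] .nil .nil))) (.node [10,8,8,8] (.node [10,8,10] (.node [8,10,8,8] .nil .nil) (.node [10,8,8,8,8] .nil .nil)) (.node [10,8,8,8] (.node [10,8,10,8,10,10] .nil .nil) .nil)))) (.node [10,10] (.node [8,8,10,8,8] (.node [8,10,8,10,10] (.node [8] (.node [8,10,8,8,8] .nil .nil) (.node [8,10,8,8,8] .nil .nil)) (.node [10,10,10] (.node [10,8,8,10] .nil .nil) (.node [10,8,10,8] .nil .nil))) (.node [8,10,10,10] (.node [10,10,8] (.node [10,8,8,8,8] .nil .nil) (.node [8,10,8,8,10] .nil .nil)) (.node [10,10,8,8] (.node [8,10,10,10,8] .nil .nil) .nil))) (.node [8,8,10,8] (.node [] (.node [10,8,8,10,10] (.node [10,8,8,8,8] .nil .nil) (.node [10,8,8,10] .nil .nil)) (.node [10,8,8] (.node [8,10,10] .nil .nil) .nil)) (.node [8,8,10,8] (.node [8,10,8,10,10] (.node [10,10,10,8] .nil .nil) (.node [10,10,8,10,8] .nil .nil)) (.node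 [8,8,10,10,10] (.node [8,10,8,8] .nil .nil) .nil))))) (.node [8,10,8,8,8] (.node [10,10,10,8] (.node [10,10,8,8,8] (.node [10,8,10,8] (.node [8,8,10,10,10] (.node [10,8,10] .nil .nil) (.node [8,8,10] .nil .nil)) (.node [8,10] (.node [8,10,10,10] .nil .nil) (.node [10,10,10] .nil .nil))) (.node [8,8,8] (.node [8] (.node [10,10,10,8,8] .nil .nil) (.node [8,8,10,10] .nil .nil)) (.node [8,10,10] (.node [8,10,8] .nil .nil) .nil))) (.node [10,8,10,8,8] (.node [8,10,8,8,8] (.node [10,8,10,10,10,8] (.node [10,10,8,8,8] .nil .nil) (.node [10,10,8,8,8] .nil .nil)) (.node [8,8,10,8] (.node [8,10,8,8,8,8] .nil .nil) .nil)) (.node [10,10,10,8,8] (.node [8,8,8] (.node [10,10] .nil .nil) (.node [10,8,10,8,8] .nil .nil)) (.node [8,10,8,8,8,8] (.node [8,10,8,8] .nil .nil) .nil)))) (.node [10,10,10,8,8,10] (.node [10,8] (.node [10,10,10,8,8,10] (.node [8,10] (.node [8,8,10] .nil .nil) (.node [8,8,8,8,8,8] .nil .nil)) (.node [8,10,8,8] (.node [10,8,8,8,8] .nil .nil) (.node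 [8,8,10,10,10] .nil .nil))) (.node [8,8,10,8,8] (.node [8,8,10,8] (.node [10,8,10,8,8,8] .nil .nil) (.node [8,10,8,8,10] .nil .nil)) (.node [10,10,10] (.node [8,8] .nil .nil) .nil))) (.node [10,8,10,8,8] (.node [10,8,8] (.node [8,10,8,8] (.node [10,8,8,10,10] .nil .nil) (.node [10,10,8,10,10] .nil .nil)) (.node [10,10,8] (.node [10,10,8,10,8] .nil .nil) .nil)) (.node [10,10,10,8,8,10] (.node [10,10,8] (.node [8,8,10,10,10] .nil .nil) (.node [10,10,8,8,8] .nil .nil)) (.node [10,8,10,10,10] (.node [8] .nil .nil) .nil)))))) (.node [10,10,8,8,8] (.node [8,8,10] (.node [10,8,8,8] (.node [10,8,10,8,8,8] (.node [10,8,10,10] (.node [8,10,8,8] (.node [10,8,10] .nil .nil) (.node [10,10,8,10,10] .nil .nil)) (.node [10,10,10,8] (.node [8,10,8,8,10] .nil .nil) (.node [10,8,8,8,8] .nil .nil))) (.node [10,10,8,8] (.node [10,10,8,10,8] (.node [8,10,8,8,8] .nil .nil) (.node [8,10,10,10,8] .nil .nil)) (.node [8,8,8] (.node [8,10,10,10,8] .nil .nil) .nil))) (.node [10,10,10,8]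 (.node [8,10] (.node [8] (.node [10,8,10,8,8,8] .nil .nil) (.node [10,8,10,10,10,8] .nil .nil)) (.node [10,10,10] (.node [8,8] .nil .nil) (.node [10,10] .nil .nil))) (.node [10,8,10,8,10] (.node [8,10,10] (.node [8,10,10,10] .nil .nil) (.node [8,8,8,8,8,8] .nil .nil)) (.node [10,10,8,8,10,10] (.node [8,10,8,10,10] .nil .nil) .nil)))) (.node [10,8,10] (.node [10,8,10,10] (.node [10,10,8,8,8] (.node [8,8,10] (.node [10,8,10,10] .nil .nil) (.node [8,8,10,8] .nil .nil)) (.node [8,10,8] (.node [10,8,10,8,8] .nil .nil) (.node [8,10,8,8,8] .nil .nil))) (.node [8,10,8] (.node [10,8,8,10] (.node [10,10,10,8] .nil .nil) (.node [8,10,8,8,8] .nil .nil)) (.node [10,10,8] (.node [10,8,10,10] .nil .nil) .nil))) (.node [8,10,8,8] (.node [10] (.node [10] (.node [10,10,8,10] .nil .nil) (.node [10,10,8,10,10] .nil .nil)) (.node [8,8,10] (.node [8,10,8,8,8] .nil .nil) .nil)) (.node [10,8,10,10] (.node [10,10,10,8,8] (.node [8,8] .nil .nil) (.node [10,10,10,8,8] .nil .nil))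 (.node [8,10,10,10] (.node [10,10] .nil .nil) .nil))))) (.node [10,10,8,8] (.node [8,8,10] (.node [8,8] (.node [10,8,8,10] (.node [10,8,10,8,10] (.node [8,10,10,10] .nil .nil) (.node [10,8,10] .nil .nil)) (.node [10,8,8,8] (.node [8,8,10,10] .nil .nil) (.node [8,10,8,10,10] .nil .nil))) (.node [8,8,8,8,8,8] (.node [10,10,10,8,8] (.node [10,8,8,10,10] .nil .nil) (.node [10,10,8,8] .nil .nil)) (.node [10] (.node [10,10,8,8,10] .nil .nil) .nil))) (.node [10,10,8,10,10] (.node [10,10] (.node [10,10,8,8,8] (.node [10,8,8,8,8] .nil .nil) (.node [10,10,8,8,8] .nil .nil)) (.node [10,10,10,8] (.node [8,10,10] .nil .nil) .nil)) (.node [8,8,8,8,8,8] (.node [10,10,8,8,10,10] (.node [8] .nil .nil) (.node [8,10,8,10] .nil .nil)) (.node [10,8,10,8,8,8] (.node [8,10,8,8,8,8] .nil .nil) .nil)))) (.node [8,8,8] (.node [8,8,10,8,8] (.node [10,8,8] (.node [10,8,8,10,10] (.node [10,8,10] .nil .nil) (.node [10,10,8,10] .nil .nil)) (.node [10,10,8] (.node [10,10,10] .nil .nil)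 (.node [8,8,8] .nil .nil))) (.node [8,10,8,8,8] (.node [8,10,8,10] (.node [8] .nil .nil) (.node [10,8,10,8,10,10] .nil .nil)) (.node [8,8,10,8] (.node [8,10,10,10] .nil .nil) .nil))) (.node [8,10,10] (.node [10,8,10,8,8,8] (.node [10,8,10,8] (.node [10] .nil .nil) (.node [10,8,10,8,10,10] .nil .nil)) (.node [10,10,8,10] (.node [] .nil .nil) .nil)) (.node [10,8,10,8,10] (.node [10] (.node [8,10,8,8,10] .nil .nil) (.node [8,8,10,10,10] .nil .nil)) (.node [10,10,8,10] (.node [10,10,8,10] .nil .nil) .nil))))))))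

/-- Part of `moveWord`. -/
noncomputable def moveWord_l_l_l_r_r : Arr (List ℕ) :=
  (.node [8,10,10] (.node [10,10,8,10] (.node [8,8,10,8] (.node [10,10,8,8,8] (.node [10,10,8,8,10,10] (.node [10,10,8,8,8] (.node [10,10,8] (.node [10,8,8,8] (.node [8,10,8] .nil .nil) (.node [8,8,10,8] .nil .nil)) (.node [10,10,10,8] (.node [10,10,8,8] .nil .nil) (.node [8,8,10,10] .nil .nil))) (.node [8,8,8] (.node [10,10,10] (.node [10,8,10,8] .nil .nil) (.node [8,10,8,8,8] .nil .nil)) (.node [8,10,10,10] (.node [10,10,8,10] .nil .nil) .nil))) (.node [10,8,8,10,10] (.node [8,8,8] (.node [10,8,10,10,10] (.node [10,8,8,8,8] .nil .nil) (.node [8,10,10] .nil .nil)) (.node [10,10,8,8] (.node [8,8,10,10] .nil .nil) (.node [10,10,8,8,10] .nil .nil))) (.node [8,10,10,10] (.node [8,10] (.node [10,8,10,8] .nil .nil) (.node [10,10,8,10] .nil .nil)) (.node [] (.node [8,8,10,10,10] .nil .nil) .nil)))) (.node [8,8,10,8,8] (.node [8,10,8,8,10] (.node [8,10] (.node [10,8,10,10,10] (.node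 [8,8,10,10] .nil .nil) (.node [10,8,8,10] .nil .nil)) (.node [8,8,8] (.node [8,10,10,10] .nil .nil) (.node [8,8,8,8] .nil .nil))) (.node [] (.node [8,10,10,10,8] (.node [8,10,8,8,8,8] .nil .nil) (.node [8,8,10,10] .nil .nil)) (.node [8,10,10,10,8] (.node [10,10,8,8,10] .nil .nil) .nil))) (.node [8,8,8,8] (.node [10,10,8,8,10] (.node [8,10,8] (.node [10,10,8,10,10] .nil .nil) (.node [10,8,10,8,8] .nil .nil)) (.node [10,8,8,10,10] (.node [10,8,10,8,10] .nil .nil) .nil)) (.node [8,8,8,8] (.node [] (.node [10,8,10,10,10] .nil .nil) (.node [8,10,10,10] .nil .nil)) (.node [10,8,10,10] (.node [8,10,8,8,8,8] .nil .nil) .nil))))) (.node [8,8,8,8,8,8] (.node [8,10] (.node [] (.node [8,10,8,8,8,8] (.node [10,8] (.node [8,10,8,10] .nil .nil) (.node [10,10,8,10,8] .nil .nil)) (.node [10,8,8,10] (.node [10,8,10,8,10] .nil .nil) (.node [10] .nil .nil))) (.node [10,8] (.node [10,10,8,8] (.node [10,8,10,8,8] .nil .nil) (.node [10,10,10,8] .nil .nil)) (.node [8,8] (.node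 [8,10,8,8] .nil .nil) .nil))) (.node [10,10,10,8] (.node [8,10,8,8,8] (.node [10,10,8,8,10,10] (.node [10,10,8,8,8] .nil .nil) (.node [10,8,8,8] .nil .nil)) (.node [10,8,10] (.node [10,10,8,8] .nil .nil) .nil)) (.node [8,8,8,8,8,8] (.node [10,10,8,8,10] (.node [10,8,10] .nil .nil) (.node [8,8,10,10] .nil .nil)) (.node [10,10,10,8,8] (.node [8,10,8,10] .nil .nil) .nil)))) (.node [10,10,8,10,8] (.node [8,10,10,10,8] (.node [10,10,8,8,10,10] (.node [] (.node [10,8,10,8,10,10] .nil .nil) (.node [8,10,10,10] .nil .nil)) (.node [8,10,8,10,10] (.node [8,8,10,8] .nil .nil) (.node [8] .nil .nil))) (.node [8,10,10,10] (.node [10] (.node [10,10,8] .nil .nil) (.node [10,8,8,10,10] .nil .nil)) (.node [10,8] (.node [8,10,8,8,8,8] .nil .nil) .nil))) (.node [10,8,10,8,10] (.node [10,8,10,10,10] (.node [10,8,10,10,10] (.node [10,8,8] .nil .nil) (.node [8,10,8,8,8] .nil .nil)) (.node [8,10,8,8,10] (.node [10,8,8,10] .nil .nil) .nil)) (.node [8,10,8,8,8,8] (.node [10,8,8]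 (.node [10,8,10,10] .nil .nil) (.node [10,10,10,8] .nil .nil)) (.node [10,8,10,8] (.node [10,8,8] .nil .nil) .nil)))))) (.node [10,8,10,10] (.node [8,10,10] (.node [10,10,8,8] (.node [10,10,8,8,10,10] (.node [10,10,8] (.node [10,10,8,10,10] (.node [10,8,10,8] .nil .nil) (.node [8,10,10] .nil .nil)) (.node [8,10,8,8,10] (.node [8,8,8] .nil .nil) (.node [10,10,8,8] .nil .nil))) (.node [10,10,10,8,8] (.node [10,8,10,10,10] (.node [8,8,10,8] .nil .nil) (.node [8,8,10,10] .nil .nil)) (.node [10,8] (.node [8,8,10,10,10] .nil .nil) .nil))) (.node [10,8,10,8] (.node [10,10,10,8,8] (.node [8,10,8,8,8,8] (.node [10,10,8,10,8] .nil .nil) (.node [10,8,8] .nil .nil)) (.node [10,10,8] (.node [8,10,8,8,10] .nil .nil) (.node [10,10,8,10,8] .nil .nil))) (.node [10,10,8,10] (.node [8,10,10] (.node [8,8,8] .nil .nil) (.node [8,8,10,8] .nil .nil)) (.node [10,8,10,10,10,8] (.node [10,10,8,10,8] .nil .nil) .nil)))) (.node [] (.node [10,8,10,8,8,8] (.node [8,8,10,8] (.node [10,10]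 (.node [8,10,10,10] .nil .nil) (.node [10,8,10,8] .nil .nil)) (.node [8,8,10,8,8] (.node [10,8,10,10,10] .nil .nil) (.node [10,10,8,10,10] .nil .nil))) (.node [10,8,10,8,10,10] (.node [8,8,10,10,10] (.node [10,8,8,8] .nil .nil) (.node [10,10,10,8] .nil .nil)) (.node [8] (.node [10,10,8,8,10,10] .nil .nil) .nil))) (.node [10,10] (.node [8,8,10,8] (.node [8,8,10,8] (.node [8,10,8,8,8] .nil .nil) (.node [8,10,8] .nil .nil)) (.node [8,10,8,10] (.node [10,8,10,8,10,10] .nil .nil) .nil)) (.node [] (.node [10,8] (.node [10,8,8,10,10] .nil .nil) (.node [8,10,8,8,8,8] .nil .nil)) (.node [] (.node [8,10,10] .nil .nil) .nil))))) (.node [8,8,8,8,8,8] (.node [8,8,10,8,8] (.node [10,8,10,10,10] (.node [8,10,8,10,10] (.node [8,10,10] (.node [8,8,8,8] .nil .nil) (.node [8,10,8,10] .nil .nil)) (.node [10,10,8,10] (.node [8,8,8,8,8] .nil .nil) (.node [10,8,10,8,10,10] .nil .nil))) (.node [8,10,8,8,10] (.node [10,8,10] (.node [8,8,10,8,8] .nil .nil) (.node [10,10,8,8] .nil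 .nil)) (.node [8,10,8,8] (.node [10,10,8,10,8] .nil .nil) .nil))) (.node [8,10,8,10,10] (.node [10,8,10] (.node [10,8,8,10] (.node [8,10,8,8] .nil .nil) (.node [10,10] .nil .nil)) (.node [8,10,8,8,8] (.node [10,8] .nil .nil) .nil)) (.node [8,8,8,8,8] (.node [10,8,8,10] (.node [8,10,8,10,10] .nil .nil) (.node [10,10,8,8,10] .nil .nil)) (.node [10,10,8,8] (.node [10,10,8,10] .nil .nil) .nil)))) (.node [10,10,10,8,8] (.node [10,8] (.node [8,8,10,10,10] (.node [10,8,8,8,8] (.node [10,8] .nil .nil) (.node [10,8,8,10,10] .nil .nil)) (.node [10] (.node [8,10,8,8,8,8] .nil .nil) (.node [8,10] .nil .nil))) (.node [8,10,8] (.node [10,8,8,8,8] (.node [8,8,10,8,8] .nil .nil) (.node [10,10,8] .nil .nil)) (.node [8,10,8,10] (.node [8,10,10,10] .nil .nil) .nil))) (.node [10,8,8] (.node [8,8,10,8,8] (.node [] (.node [10,8,10,8,10] .nil .nil) (.node [10,10,8,8] .nil .nil)) (.node [10] (.node [10,10,8,8] .nil .nil) .nil)) (.node [8,10,8,10] (.node [10,10,8] (.node [8,8,8,8]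 .nil .nil) (.node [10,8,8,8,8] .nil .nil)) (.node [10,10,8,10,10] (.node [10,8,10] .nil .nil) .nil))))))) (.node [] (.node [10,10] (.node [10,8,10,10] (.node [10,8,10,10,10] (.node [10] (.node [8,10,8,10] (.node [10,8,10,8,10] (.node [8,8] .nil .nil) (.node [10,8,10,8] .nil .nil)) (.node [10,10] (.node [10,8,10] .nil .nil) (.node [10,10,8,8,8] .nil .nil))) (.node [10,10,10,8,8,10] (.node [10,10,8,8,8] (.node [10,8,10] .nil .nil) (.node [8,10,8,10] .nil .nil)) (.node [10,8,8,10,10] (.node [8,10,8,8,8,8] .nil .nil) .nil))) (.node [10,8,10] (.node [8,10,8] (.node [10,8,10] (.node [8,10,10] .nil .nil) (.node [] .nil .nil)) (.node [10,8,8,8] (.node [10,8,8,10] .nil .nil) (.node [10,10,8,8,10] .nil .nil))) (.node [8,8] (.node [8,10,10] (.node [10] .nil .nil) (.node [10,8,8,8] .nil .nil)) (.node [10,10,8,8] (.node [8,8,8] .nil .nil) .nil)))) (.node [10,8,8] (.node [10,8,10,8,8] (.node [8,8,10] (.node [8,8,8,8,8,8] (.node [10,8,10,8,8] .nil .nil) (.node [8,10]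 .nil .nil)) (.node [8,8,8,8,8] (.node [8,10,8,10,10] .nil .nil) (.node [8,8,8] .nil .nil))) (.node [8,8] (.node [10,10,8,10,8] (.node [10,8,10,10,10] .nil .nil) (.node [10] .nil .nil)) (.node [10,8,10,8,10] (.node [8,10,8,10,10] .nil .nil) .nil))) (.node [8,8,10,8,8] (.node [10,10] (.node [10,10,8,8,10] (.node [10,10,8,10,8] .nil .nil) (.node [10,10,10,8,8,10] .nil .nil)) (.node [10,10,8,8] (.node [10,8,10,8,8,8] .nil .nil) .nil)) (.node [10,10,10] (.node [8,8,10,8] (.node [10,10,8,8] .nil .nil) (.node [10,8,10,10,10] .nil .nil)) (.node [10,10,10,8,8,10] (.node [8,10] .nil .nil) .nil))))) (.node [10,10,8] (.node [8,10,8,8,8,8] (.node [10,8] (.node [10,8] (.node [10,8,10,10,10] (.node [10,10,8,8] .nil .nil) (.node [8,10,8,10] .nil .nil)) (.node [8,10,8,8,8] (.node [10,10,10,8,8] .nil .nil) (.node [10,10,8,10] .nil .nil))) (.node [8,10,10] (.node [8,10,10,10,8] (.node [8,8,8,8] .nil .nil) (.node [10,8,8,8,8] .nil .nil)) (.node [10,10,8,10] (.node [10,8,8,8]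 .nil .nil) .nil))) (.node [10,8] (.node [8,10,8,8,8,8] (.node [10,8,10,8,10,10] (.node [10,8,10,8,8,8] .nil .nil) (.node [10,8,10,10,10] .nil .nil)) (.node [10,10,10] (.node [8,8,10] .nil .nil) .nil)) (.node [10,10,8,10,10] (.node [8,10,8,8,10] (.node [10,8,8,8,8] .nil .nil) (.node [8,8,8,8,8] .nil .nil)) (.node [10,10,8,10] (.node [10,8,8,8] .nil .nil) .nil)))) (.node [10,10,8,8] (.node [10,8,8,8] (.node [10,8,8,8,8] (.node [10,10,8,8,10,10] (.node [8,8,8,8] .nil .nil) (.node [8] .nil .nil)) (.node [10,8,10,10] (.node [10,10,10,8] .nil .nil) (.node [8,8] .nil .nil))) (.node [10,8,10,8] (.node [10,8,8,8] (.node [10,10,8,8,10,10] .nil .nil) (.node [10,8,10] .nil .nil)) (.node [10,10,8,10] (.node [10,8,8] .nil .nil) .nil))) (.node [10,8,10,8,10] (.node [10,10,8,8,8] (.node [] (.node [10,10,8,8,10] .nil .nil) (.node [10,8,8,10] .nil .nil)) (.node [8] (.node [10,8,8,8] .nil .nil) .nil)) (.node [8,10,8,8] (.node [8,8,8,8] (.node [8,10] .nil .nil) (.node [10,8,10,10]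 .nil .nil)) (.node [10,10,8,8,10,10] (.node [8,10,8,8,10] .nil .nil) .nil)))))) (.node [10,8,8,10] (.node [8,10,8] (.node [10,8] (.node [8,8,10,10,10] (.node [10,10,8,8,10,10] (.node [10,10,10,8,8] (.node [10,8,10,10,10,8] .nil .nil) (.node [10,8,10,10] .nil .nil)) (.node [8,8,8,8] (.node [8,10,10,10] .nil .nil) (.node [10,8] .nil .nil))) (.node [10,8,8,8,8] (.node [8,8,8,8,8] (.node [8,10,10] .nil .nil) (.node [10,8,10,10] .nil .nil)) (.node [10,10,8,8,10] (.node [8,8,10,8] .nil .nil) .nil))) (.node [8,8,8,8,8,8] (.node [10,8,8] (.node [10,8,10,8,8,8] (.node [10,8,8,10,10] .nil .nil) (.node [10,10,10,8,8] .nil .nil)) (.node [10,8,10,10,10] (.node [10,8,8,10] .nil .nil) (.node [8,10,8] .nil .nil))) (.node [8,8,10,10,10] (.node [8,10,10] (.node [8,8,8,8] .nil .nil) (.node [8,10,8,8] .nil .nil)) (.node [8,8,10,8,8] (.node [8,10,8,8,8,8] .nil .nil) .nil)))) (.node [10,8,8,10] (.node [10,8,10,8,8] (.node [8,8,10,8,8] (.node [10,8] (.node [10,8,10,10] .nil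 .nil) (.node [8,8,8,8,8,8] .nil .nil)) (.node [8,10,8,8,10] (.node [10,10,8,10] .nil .nil) (.node [8,10,8,10] .nil .nil))) (.node [10,8,10,10,10,8] (.node [10,10] (.node [8,10,8,8] .nil .nil) (.node [10,10,10] .nil .nil)) (.node [10,10,8,8,8] (.node [10,10,10] .nil .nil) .nil))) (.node [10,8,10,10] (.node [8,10,10,10,8] (.node [8,8,8] (.node [8,10,8,8,10] .nil .nil) (.node [10,10,8,10,8] .nil .nil)) (.node [10,8,10,8,10,10] (.node [8,8,10] .nil .nil) .nil)) (.node [8,8,8] (.node [10,8,10,8,10,10] (.node [8,8] .nil .nil) (.node [10] .nil .nil)) (.node [10,10,8,10] (.node [8,8,8] .nil .nil) .nil))))) (.node [8,10,8,8,10] (.node [10,8,8,8,8] (.node [10,10] (.node [8,10,8,10,10] (.node [10,10,8,10] (.node [10,10,10,8,8] .nil .nil) (.node [8,8,10] .nil .nil)) (.node [8,10,8,8,8] (.node [8,10,8] .nil .nil) (.node [8,8,10,10] .nil .nil))) (.node [8,10,8,10,10] (.node [8,10,8,10] (.node [8,8,10,10,10] .nil .nil) (.node [8,10,10] .nil .nil)) (.node [10,10,8,8,10]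 (.node [10,10] .nil .nil) .nil))) (.node [10,10,10,8,8,10] (.node [10,8,10,8,10,10] (.node [10,10,10] (.node [10,10,8,8,10] .nil .nil) (.node [10,8,10,10] .nil .nil)) (.node [8,8,10,8,8] (.node [10,10,8,10,10] .nil .nil) .nil)) (.node [10,10,10,8,8] (.node [10,10,8,8,10,10] (.node [8,8,10] .nil .nil) (.node [10] .nil .nil)) (.node [10,10,8,8,10,10] (.node [8,8,8,8,8] .nil .nil) .nil)))) (.node [10,10,10,8] (.node [8,8,8,8,8,8] (.node [10,8,10,8,10] (.node [10,10,8,8] (.node [8,10,8,10,10] .nil .nil) (.node [10,8,10,8,8,8] .nil .nil)) (.node [10,8,10,8,10,10] (.node [10,8,10,10,10] .nil .nil) (.node [8,8,10,10] .nil .nil))) (.node [8,8,10] (.node [8,10,8,8,8] (.node [10,8] .nil .nil) (.node [8,10,8,8] .nil .nil)) (.node [10,8,8,8] (.node [8,10,8] .nil .nil) .nil))) (.node [10,8,10,8,10] (.node [8,8,10,10] (.node [10,8,8,8] (.node [10,8,10,8,8,8] .nil .nil) (.node [8,10,8,8,10] .nil .nil)) (.node [8,8,10,10] (.node [10,10,10,8,8] .nil .nil) .nil)) (.node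 [10,8,8,8,8] (.node [8,10,8,10,10] (.node [10,10,10,8,8,10] .nil .nil) (.node [8,8,10,8] .nil .nil)) (.node [10,8,8,10] (.node [8,10,8,10,10] .nil .nil) .nil))))))))

/-- Part of `moveWord`. -/
noncomputable def moveWord_l_l_l_r : Arr (List ℕ) :=
  .node [8,10,8,8,8] moveWord_l_l_l_r_l moveWord_l_l_l_r_r

/-- Part of `moveWord`. -/
noncomputable def moveWord_l_l_l : Arr (List ℕ) :=
  .node [10,8,8] moveWord_l_l_l_l moveWord_l_l_l_r

/-- Part of `moveWord`. -/
noncomputable def moveWord_l_l_r_l_l : Arr (List ℕ) :=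
  (.node [10,8,8,10] (.node [8,10,8,8,8] (.node [8,8,8,8,8,8] (.node [10,8,10,8,8,8] (.node [10,10,8,8,10,10] (.node [8,8,8,8,8] (.node [10,8,10,10] (.node [10] (.node [10,8,10] .nil .nil) (.node [10,10,8,8,10,10] .nil .nil)) (.node [8,10,10,10,8] (.node [8] .nil .nil) (.node [8,8,8,8,8] .nil .nil))) (.node [8,10] (.node [8,8,10,10] (.node [10,8,10,10,10] .nil .nil) (.node [10,8,8,10] .nil .nil)) (.node [8,10,8] (.node [8,8,10,8,8] .nil .nil) .nil))) (.node [10,8,8,8,8] (.node [8] (.node [10,10,10,8] (.node [8,8] .nil .nil) (.node [] .nil .nil)) (.node [10,8,8,10,10] (.node [8,8,8,8,8] .nil .nil) (.node [8,10,8,10,10] .nil .nil))) (.node [10,8,8,8] (.node [10,8,10,8] (.node [10,10,8,8,10] .nil .nil) (.node [10,10,8,10] .nil .nil)) (.node [10,10,8,8,10,10] (.node [8,8,8,8] .nil .nil) .nil)))) (.node [8,8,8,8,8,8] (.node [10,8,8,10] (.node [8,10,8,10] (.node [10] (.node [10,8,10,8,10] .nil .nil) (.node [8,10,10] .nil .nil)) (.node [10,8,8,8,8] (.node [10,10,10,8,8,10]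 .nil .nil) (.node [10,10,8,8] .nil .nil))) (.node [8,10,10,10] (.node [8,8,10,8] (.node [10,10,8,10,10] .nil .nil) (.node [8,10,10] .nil .nil)) (.node [8,10,8,10] (.node [10,10] .nil .nil) .nil))) (.node [10,8,8,8,8] (.node [8] (.node [10,10,10,8,8,10] (.node [10,8,8,8,8] .nil .nil) (.node [8,10,8,8,10] .nil .nil)) (.node [10,8,10,10] (.node [10,8,10,10] .nil .nil) .nil)) (.node [10,8,8,8,8] (.node [8,10] (.node [8] .nil .nil) (.node [10,8,8,10] .nil .nil)) (.node [8,8] (.node [10,8,10,8,8,8] .nil .nil) .nil))))) (.node [10,10,10,8,8,10] (.node [8,8,10] (.node [8,10,8,8] (.node [] (.node [10,8,8,10] (.node [8,10] .nil .nil) (.node [10,8,8,10,10] .nil .nil)) (.node [8,8,10,10] (.node [8,8,10,8,8] .nil .nil) (.node [8,10,10,10,8] .nil .nil))) (.node [10,8,10,8,8] (.node [8,8,8] (.node [8,10,8,8] .nil .nil) (.node [10,8,8,10,10] .nil .nil)) (.node [8,8,8,8] (.node [8,8] .nil .nil) .nil))) (.node [10,10,10,8,8,10] (.node [10,8,8] (.node [8,10,10,10] (.node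 [8,10,8] .nil .nil) (.node [10,8,10,10,10] .nil .nil)) (.node [8,10] (.node [8,8] .nil .nil) .nil)) (.node [10,8,10,8,8,8] (.node [8,10,8,8] (.node [10,10,8,10] .nil .nil) (.node [8,10,8,10,10] .nil .nil)) (.node [] (.node [8,10,8,8,10] .nil .nil) .nil)))) (.node [10,10,8,8,10] (.node [8,8,10,8] (.node [8] (.node [10,10,8,8,10,10] (.node [10,8,8,10,10] .nil .nil) (.node [10,10,8,10,8] .nil .nil)) (.node [8,10,8,8] (.node [10,8] .nil .nil) (.node [10,8,8,10,10] .nil .nil))) (.node [10,8,10,8,8] (.node [10] (.node [] .nil .nil) (.node [8,10,8,10,10] .nil .nil)) (.node [8,10] (.node [10,10,8,8,10,10] .nil .nil) .nil))) (.node [8,8,10,8] (.node [8,10,8,10,10] (.node [8,8,10] (.node [8,8,8] .nil .nil) (.node [10,8,8,8] .nil .nil)) (.node [8,8,8] (.node [10,10,8] .nil .nil) .nil)) (.node [8,8] (.node [8,10,8,10,10] (.node [10,8,10,10] .nil .nil) (.node [10,8,10,10] .nil .nil)) (.node [10,8,8] (.node [10,8,8,8] .nil .nil) .nil)))))) (.node [8,10,8,8,8] (.node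 [10,10,8] (.node [10,8,10,8,10] (.node [10,8,10,8] (.node [10,8,8] (.node [8,10] (.node [8,10,8,8,8,8] .nil .nil) (.node [8] .nil .nil)) (.node [8,10,8,8] (.node [10,8,10,10,10,8] .nil .nil) (.node [10,8,8] .nil .nil))) (.node [8,8] (.node [8,10,8,8] (.node [8,10,10,10,8] .nil .nil) (.node [10,8,10,8,10,10] .nil .nil)) (.node [8,8,8,8] (.node [8,8,8,8,8] .nil .nil) .nil))) (.node [10,8,10,10] (.node [8,10,10,10] (.node [8,10,10,10] (.node [8,10,8,8,8] .nil .nil) (.node [8,10,8,8,10] .nil .nil)) (.node [8,8,8,8,8,8] (.node [10,8,10,10,10,8] .nil .nil) (.node [10,10,8] .nil .nil))) (.node [8,8,8,8] (.node [8,8,10,8] (.node [10,8,10,8] .nil .nil) (.node [8,8,10] .nil .nil)) (.node [10,10,8,8,8] (.node [10,8,10,8,8,8] .nil .nil) .nil)))) (.node [10,8,8,10,10] (.node [10,8,10,10,10,8] (.node [8,8] (.node [8,10,8,8,10] (.node [10,10,8,8,8] .nil .nil) (.node [10,10,10,8,8] .nil .nil)) (.node [10,8,10,10] (.node [10,10,8,10,8] .nil .nil) (.node [8,10,10,10] .nil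 .nil))) (.node [] (.node [10,8,8,10] (.node [8,10,10] .nil .nil) (.node [8,8,8,8] .nil .nil)) (.node [8,10,8,8] (.node [10,10] .nil .nil) .nil))) (.node [10,8,10,8,8] (.node [8,10,8,10] (.node [10] (.node [8,8,8,8,8,8] .nil .nil) (.node [10,10,8,10] .nil .nil)) (.node [8,10,8,8,8] (.node [8,10,8,8,8,8] .nil .nil) .nil)) (.node [8,10,8,8,8,8] (.node [10,8,10] (.node [10,8,8] .nil .nil) (.node [8,8,10,8,8] .nil .nil)) (.node [8,10,10,10] (.node [10,8,10,8,10] .nil .nil) .nil))))) (.node [8,10,8] (.node [10,8,10,8,8] (.node [8,10,10] (.node [10,10,8,8,10,10] (.node [10,8,8,10,10] (.node [10,8,8,8] .nil .nil) (.node [8,8,10] .nil .nil)) (.node [10,10,8,8] (.node [10,8,10,8,8] .nil .nil) (.node [10,10,8,10,10] .nil .nil))) (.node [10,10,8,8] (.node [8] (.node [8,8,10,10] .nil .nil) (.node [8,10,10,10,8] .nil .nil)) (.node [8,8,8,8] (.node [10,8,10,8,10] .nil .nil) .nil))) (.node [10,10,10,8,8,10] (.node [8,10,8,10,10] (.node [8,8,8,8] (.node [10,10,10,8,8,10]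 .nil .nil) (.node [10,8,10,10] .nil .nil)) (.node [10,8,10,8] (.node [10,10,10] .nil .nil) .nil)) (.node [8,8] (.node [] (.node [8,8,10,10,10] .nil .nil) (.node [8,10,8] .nil .nil)) (.node [8,10,8,10] (.node [10,10,8,10] .nil .nil) .nil)))) (.node [10,8,8,10,10] (.node [10,10,8,10] (.node [10,10,8,8,8] (.node [10,8,8,10,10] (.node [10,10,8,10,8] .nil .nil) (.node [8,10,8,8] .nil .nil)) (.node [8,8,10] (.node [8,10,8,8] .nil .nil) (.node [8,10,8,10] .nil .nil))) (.node [10,10,10,8] (.node [10,8] (.node [10,8,8,8,8] .nil .nil) (.node [10,10,10,8] .nil .nil)) (.node [10,10,8] (.node [10,8,8,10] .nil .nil) .nil))) (.node [10,8,8,8] (.node [10,10] (.node [10,10,8,8] (.node [8,10,10,10,8] .nil .nil) (.node [8,10,8] .nil .nil)) (.node [8] (.node [10,8,10,8,8] .nil .nil) .nil)) (.node [10,10,8,10] (.node [8,8,10] (.node [8,10,8,10] .nil .nil) (.node [8,10,8,10] .nil .nil)) (.node [8,10] (.node [10,10,8,8,8] .nil .nil) .nil))))))) (.node [10,10,8,8] (.node [8,8,8]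 (.node [10,10,10,8] (.node [10,10,8,10,8] (.node [10,8,10,8,8] (.node [10,10,8,8,10,10] (.node [10,8,10,8,8] (.node [] .nil .nil) (.node [10,10,8,10] .nil .nil)) (.node [8,10,10] (.node [10,10,10,8,8] .nil .nil) (.node [8,8,10,8] .nil .nil))) (.node [10,8,8,10] (.node [8,8] (.node [] .nil .nil) (.node [8,8,10,8] .nil .nil)) (.node [10,8,8,10] (.node [10,10,8,10,8] .nil .nil) .nil))) (.node [8,10,8,8,8] (.node [8,10,8,10] (.node [10,10,8,8] (.node [8,10,8] .nil .nil) (.node [10,8,10,8,8,8] .nil .nil)) (.node [] (.node [10,10,8] .nil .nil) (.node [10,8,8,10] .nil .nil))) (.node [8,8,10,8] (.node [8,8] (.node [8,10,10,10] .nil .nil) (.node [10,8,10,8,10,10] .nil .nil)) (.node [10,8,10] (.node [10,8,8] .nil .nil) .nil)))) (.node [8,8,8,8,8] (.node [8,8,8,8] (.node [10,10,8,8,10,10] (.node [8,8] (.node [10,8,8,10] .nil .nil) (.node [10,8,8,10,10] .nil .nil)) (.node [10,10,8,8,10,10] (.node [10,8,8,10,10] .nil .nil) (.node [10,8,10,10,10] .nil .nil))) (.node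 [10,10,8,10] (.node [8,8,10,10,10] (.node [10,8,10,10] .nil .nil) (.node [8,10,8,10,10] .nil .nil)) (.node [10,10,10,8] (.node [8,10] .nil .nil) .nil))) (.node [10,8,8,8,8] (.node [8,8,10,10] (.node [8,8,8,8] (.node [8,10,8,10] .nil .nil) (.node [10] .nil .nil)) (.node [10] (.node [10,8,8,10,10] .nil .nil) .nil)) (.node [8,10,8,8,8,8] (.node [8,8,10,10] (.node [8,8,10] .nil .nil) (.node [8,10,8] .nil .nil)) (.node [10,10,10,8,8,10] (.node [8,10,8,8] .nil .nil) .nil))))) (.node [8,10,8] (.node [10,10,10,8,8,10] (.node [10,8,8,10,10] (.node [8,8,8,8,8,8] (.node [8,8,10] (.node [8,10,10,10,8] .nil .nil) (.node [8,8,10,10,10] .nil .nil)) (.node [10,10,8,8,10] (.node [10,10,10] .nil .nil) (.node [10,8,10,8,8,8] .nil .nil))) (.node [10,10,10] (.node [10,8,10,8] (.node [10,8,8,8,8] .nil .nil) (.node [8,8,10] .nil .nil)) (.node [8,8,10,8,8] (.node [10,10,10,8] .nil .nil) .nil))) (.node [10] (.node [10,8,10,10,10] (.node [8,10] (.node [10,10,10] .nil .nil) (.node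 [10,8,10,8,10,10] .nil .nil)) (.node [8,10,8,8,8] (.node [10,10,8,8] .nil .nil) .nil)) (.node [10,10,8,10] (.node [8,8] (.node [8,8,10,10] .nil .nil) (.node [8,8,10,8,8] .nil .nil)) (.node [10,8,10,10] (.node [8,8,10,10] .nil .nil) .nil)))) (.node [8,10,10,10] (.node [8,10,8,8] (.node [8,8,10,8,8] (.node [10,8] (.node [8,10,8,8,8,8] .nil .nil) (.node [8,10,10] .nil .nil)) (.node [8,8,8,8,8,8] (.node [10,8,10,10,10] .nil .nil) (.node [8,10,8,8,8,8] .nil .nil))) (.node [10,10,10] (.node [10] (.node [8,10,8,8,8,8] .nil .nil) (.node [8,10,10,10] .nil .nil)) (.node [10,8,10,10,10] (.node [10,8,10] .nil .nil) .nil))) (.node [10] (.node [8,8,10,10] (.node [8,8,8,8,8] (.node [10,8,8,8] .nil .nil) (.node [10] .nil .nil)) (.node [10,10,8] (.node [10,10] .nil .nil) .nil)) (.node [10,8,10,8] (.node [10,10,10,8] (.node [10,8,10,8,8] .nil .nil) (.node [8,8,8,8,8] .nil .nil)) (.node [10,10] (.node [8,10,8,8,10] .nil .nil) .nil)))))) (.node [8,10,8,8,8] (.node [8,8,8,8]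 (.node [8,10,8,10] (.node [10,8,8,8] (.node [8,8] (.node [10,10,10,8,8,10] (.node [10,8,8] .nil .nil) (.node [8,8,10,8,8] .nil .nil)) (.node [10,10,8,8,10,10] (.node [8,10,10,10] .nil .nil) (.node [8,10,10,10] .nil .nil))) (.node [10,10,10,8,8,10] (.node [10,10,8,10,10] (.node [8,8,10,8] .nil .nil) (.node [8,10,10,10,8] .nil .nil)) (.node [] (.node [8,8] .nil .nil) .nil))) (.node [8,10,10,10] (.node [10,8,10,8,8,8] (.node [] (.node [8,8,10,10] .nil .nil) (.node [10,8,10,10] .nil .nil)) (.node [10,10,8,8,8] (.node [8,8,10,8] .nil .nil) (.node [8,8,8] .nil .nil))) (.node [10,8,10,8,10,10] (.node [10,8,8,10,10] (.node [8] .nil .nil) (.node [10,8,8] .nil .nil)) (.node [8,10] (.node [10,8,8] .nil .nil) .nil)))) (.node [8,10,8,8,10] (.node [8,8,8] (.node [8,8,10,10] (.node [10,10,10,8] (.node [10,8,10,8] .nil .nil) (.node [10,10,8,8,8] .nil .nil)) (.node [] (.node [10,10,10,8,8,10] .nil .nil) (.node [10,10,8] .nil .nil))) (.node [10,8,10] (.node [8,10,8,10,10]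 (.node [8,8,10,8,8] .nil .nil) (.node [8,10,8,8,8] .nil .nil)) (.node [8,8,10,8] (.node [10,10,8,8] .nil .nil) .nil))) (.node [10,10,8,10,10] (.node [10,8,10,10,10] (.node [10,10,8,10,10] (.node [10,10,8,8,10] .nil .nil) (.node [8,10,10,10] .nil .nil)) (.node [10,8,8] (.node [10,8,10,10] .nil .nil) .nil)) (.node [8,10,8,8,10] (.node [10,10,8,8,8] (.node [] .nil .nil) (.node [10,8,10,8,10,10] .nil .nil)) (.node [8,10,8,8] (.node [8,10,8,8] .nil .nil) .nil))))) (.node [10,10,8,8] (.node [10,8,8,8] (.node [10,8,10,8,10,10] (.node [8,8,10,8,8] (.node [10,8,8,8] (.node [10,8,10,8,10,10] .nil .nil) (.node [10,10,10] .nil .nil)) (.node [8,8,10,10,10] (.node [8,10,8,8,10] .nil .nil) (.node [10,8,10,8] .nil .nil))) (.node [10,10,8,8,10] (.node [10,10,8,10] (.node [10,10] .nil .nil) (.node [10,8,10,10,10,8] .nil .nil)) (.node [8,8,10,10] (.node [8] .nil .nil) .nil))) (.node [10,10,8,8,8] (.node [10,10,8,8,10] (.node [10,8,10,10,10,8] (.node [8,8,8,8] .nil .nil)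 (.node [8,10,10,10,8] .nil .nil)) (.node [10,10,8] (.node [8,10,8,10] .nil .nil) .nil)) (.node [10,10,10,8,8,10] (.node [8,10,8,10] (.node [8,8] .nil .nil) (.node [8,10,8,10,10] .nil .nil)) (.node [8,10,8,8] (.node [10,8,10,10,10] .nil .nil) .nil)))) (.node [10,8,10,10,10,8] (.node [8,10,8,8,10] (.node [10,8,8] (.node [10,8,10,8,8,8] (.node [8,8,8,8,8] .nil .nil) (.node [8,10,8,10,10] .nil .nil)) (.node [8,10,8,10,10] (.node [10,8,10,10,10,8] .nil .nil) (.node [8,10,10] .nil .nil))) (.node [10,10,8,10,10] (.node [10,8,10,10,10] (.node [8,10,8,10,10] .nil .nil) (.node [10,10,8,10,10] .nil .nil)) (.node [8,10,8,10,10] (.node [10,8,10,8,8,8] .nil .nil) .nil))) (.node [8,10,10,10] (.node [8,10,10,10] (.node [8,10,8,8,8] (.node [10,8,10,8,10,10] .nil .nil) (.node [] .nil .nil)) (.node [10,8,8,10] (.node [8,8,10,10,10] .nil .nil) .nil)) (.node [10,10,8,8,10] (.node [8,8,8,8] (.node [10,10,8,8,8] .nil .nil) (.node [10,10,8,10,8] .nil .nil)) (.node [10,8,8,10,10]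 (.node [10,10,10] .nil .nil) .nil))))))))

/-- Part of `moveWord`. -/
noncomputable def moveWord_l_l_r_l_r : Arr (List ℕ) :=
  (.node [8,8] (.node [8,8,10,10] (.node [10,10,10] (.node [10] (.node [8,8,10] (.node [8,8,8,8,8] (.node [10,10,8,8] (.node [10,10,8,8,10] (.node [10,10,8,8,10,10] .nil .nil) (.node [10,10,8,10] .nil .nil)) (.node [10,10,8,10] (.node [10,10,8,8,10,10] .nil .nil) (.node [8,10,10,10,8] .nil .nil))) (.node [10,10,8,10,8] (.node [10,8,8,10,10] (.node [10,8,8] .nil .nil) (.node [10,10] .nil .nil)) (.node [8,10,8,10,10] (.node [10,8,8,8] .nil .nil) .nil))) (.node [10,8,10,8,10] (.node [8,10,8,8,10] (.node [8,8] (.node [10,10,8,10] .nil .nil) (.node [8,8,8,8] .nil .nil)) (.node [10] (.node [8,8,8] .nil .nil) (.node [10,10,8,8] .nil .nil))) (.node [8,10,8,10,10] (.node [8,8,8,8,8,8] (.node [8,8,10] .nil .nil) (.node [8] .nil .nil)) (.node [8,10,8,10,10] (.node [8,8,8] .nil .nil) .nil)))) (.node [10,8,10,10,10] (.node [8,8,8] (.node [10,8,8,10]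 (.node [8,10,8,10] (.node [10,8,10,8,10,10] .nil .nil) (.node [8,8,10,8] .nil .nil)) (.node [10,10,8,8] (.node [8,8,8,8,8,8] .nil .nil) (.node [10,10,8,8,10] .nil .nil))) (.node [8,10,8,8,8,8] (.node [10,8,8,8,8] (.node [10,10,10] .nil .nil) (.node [10,8,10,8,10,10] .nil .nil)) (.node [8,10,8] (.node [10,8,8,10,10] .nil .nil) .nil))) (.node [8,10,10,10] (.node [10,8,8,10] (.node [8,10,10,10,8] (.node [10,8,10,8,8] .nil .nil) (.node [10,10,8,8] .nil .nil)) (.node [10,10,8,8,10] (.node [8,10,10,10,8] .nil .nil) .nil)) (.node [10,8,10,10] (.node [10,8,8,8,8] (.node [10,10] .nil .nil) (.node [10,8] .nil .nil)) (.node [10,8,10,10,10,8] (.node [8,8] .nil .nil) .nil))))) (.node [8,8] (.node [10,8,10,10,10] (.node [10,8,8,8,8] (.node [10] (.node [8] (.node [8,10,8,8,8,8] .nil .nil) (.node [10,10,10,8,8] .nil .nil)) (.node [8,10,8,8,10] (.node [10,8,10,8] .nil .nil) (.node [8,8,8,8,8] .nil .nil))) (.node [10,10,10,8] (.node [10,8,10,10,10] (.node [10,8,8,8] .nil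 .nil) (.node [8,8,10] .nil .nil)) (.node [8,8,8,8,8] (.node [10,10,8,8,8] .nil .nil) .nil))) (.node [8,8,10,10,10] (.node [10,8,8,10,10] (.node [10,8,10,10] (.node [8,8] .nil .nil) (.node [10,8,8] .nil .nil)) (.node [10,8,10,8,10,10] (.node [10,8,10,10] .nil .nil) .nil)) (.node [8,8,8,8] (.node [8,8,10,10] (.node [10,8,8,8,8] .nil .nil) (.node [10,8,8,10,10] .nil .nil)) (.node [10,10,8,10,8] (.node [10,8,10,10,10] .nil .nil) .nil)))) (.node [10,10,8] (.node [10,8,10,8,8,8] (.node [] (.node [10,8,8,8] (.node [10,10,10] .nil .nil) (.node [8,10,10,10,8] .nil .nil)) (.node [10,10,10] (.node [8,8,10,10] .nil .nil) (.node [10,10,8,10] .nil .nil))) (.node [8,8,10] (.node [8,10,8,10] (.node [10,8,8] .nil .nil) (.node [10,8,8,10,10] .nil .nil)) (.node [10,8,8,10] (.node [10,10,8,8,10] .nil .nil) .nil))) (.node [8,10] (.node [10] (.node [8,8,8] (.node [8,10,8,8,8] .nil .nil) (.node [10,8,8,10] .nil .nil)) (.node [10,8,10,10,10,8] (.node [8,10,8,8] .nil .nil) .nil))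 (.node [10,8,10,10,10,8] (.node [10,8] (.node [10,8,10,8,10,10] .nil .nil) (.node [10,8,10,8,8,8] .nil .nil)) (.node [10,8,8,10,10] (.node [8,10] .nil .nil) .nil)))))) (.node [8,10] (.node [8,10] (.node [8,10,8] (.node [10,10,8,10,10] (.node [8,10,8,10] (.node [10,8,10,8,8,8] (.node [10,10,8,10,8] .nil .nil) (.node [8,10,8,10,10] .nil .nil)) (.node [8,10] (.node [8,10,8,8,10] .nil .nil) (.node [8,10,8,10,10] .nil .nil))) (.node [8] (.node [10,10,10,8,8,10] (.node [10,10,8] .nil .nil) (.node [10,8,8] .nil .nil)) (.node [8,10,8,8,10] (.node [8,8,10,8] .nil .nil) .nil))) (.node [10,10,8,8,10,10] (.node [10,10,8,10] (.node [8,10,8,8] (.node [10] .nil .nil) (.node [10,10] .nil .nil)) (.node [8,10,8,8,8,8] (.node [8,8,10] .nil .nil) (.node [8] .nil .nil))) (.node [10,10,10,8] (.node [10,10,8,8,10,10] (.node [10,8,10,8,10,10] .nil .nil) (.node [10,10,8,10,8] .nil .nil)) (.node [8,10,8,8,8,8] (.node [10,10,10,8,8,10] .nil .nil) .nil)))) (.node [10,10,8,10] (.node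 [] (.node [8,8] (.node [10,8,10,8,10,10] (.node [8,8] .nil .nil) (.node [10] .nil .nil)) (.node [8,10,8] (.node [8,8,8,8] .nil .nil) (.node [10,10,8,8,10,10] .nil .nil))) (.node [10,8,8,10,10] (.node [8,10,8] (.node [10,10,8,8,10,10] .nil .nil) (.node [8,8,10] .nil .nil)) (.node [10,8,8,8,8] (.node [8,8,10,8,8] .nil .nil) .nil))) (.node [10,8,10,8,10] (.node [10,10,10,8,8] (.node [10,10,8,10,8] (.node [8,8,10] .nil .nil) (.node [] .nil .nil)) (.node [10,8,10,8,10,10] (.node [8,8,10,8,8] .nil .nil) .nil)) (.node [10,10,8,8,10,10] (.node [8,10] (.node [10,8,10] .nil .nil) (.node [8,8] .nil .nil)) (.node [10,8,8,10,10] (.node [10,10,8,8,8] .nil .nil) .nil))))) (.node [10,8,10,10,10,8] (.node [8,8,10] (.node [10] (.node [8,8] (.node [10,10,8,8,10] (.node [8,8,10,10,10] .nil .nil) (.node [10,8,10,8,8,8] .nil .nil)) (.node [10,8,10,10,10,8] (.node [10,8,10,10,10,8] .nil .nil) (.node [8,8,8] .nil .nil))) (.node [8,8,8,8,8] (.node [10,8,8,10,10] (.node [10,8,10,10,10,8]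 .nil .nil) (.node [10,8,10,8,8,8] .nil .nil)) (.node [10,8,10,10,10] (.node [10,10,8,8,10] .nil .nil) .nil))) (.node [8,8] (.node [10,10,10,8,8] (.node [8,8] (.node [10,10,10,8,8,10] .nil .nil) (.node [10,10,8,10,10] .nil .nil)) (.node [10,10,8,10,8] (.node [10,8,8,8] .nil .nil) .nil)) (.node [10,8,8] (.node [10,8,10,10,10] (.node [10,8,10] .nil .nil) (.node [8,10,8,8,8] .nil .nil)) (.node [8,10,8,8,10] (.node [10,8,10,8,10,10] .nil .nil) .nil)))) (.node [10,10,10] (.node [10,10,8] (.node [10,10,8,10] (.node [10,10,8,8] (.node [10,8,10,8,8] .nil .nil) (.node [10,10,10,8] .nil .nil)) (.node [10] (.node [10,8,8] .nil .nil) (.node [10,10,8,8] .nil .nil))) (.node [10,8,10,8,8,8] (.node [8,10,8,8] (.node [10,10,10,8,8,10] .nil .nil) (.node [8,10,8,8] .nil .nil)) (.node [10,10,10,8,8,10] (.node [8,10,10,10] .nil .nil) .nil))) (.node [10,10,8,8,8] (.node [10,8,10,8,8] (.node [10,8,10,10,10] (.node [8,10,8,8,10] .nil .nil) (.node [8,8,8] .nil .nil)) (.node [10,10,8,10,8]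 (.node [10,10,8,10,10] .nil .nil) .nil)) (.node [10,8,10,8,8] (.node [8,10,8,10] (.node [8,8,8,8] .nil .nil) (.node [10,10,8,8,10] .nil .nil)) (.node [10,8,10,8,10] (.node [10,10,8,8] .nil .nil) .nil))))))) (.node [10,10,10,8] (.node [10,10,8,8,10] (.node [8,8,10,8] (.node [10,8,10] (.node [8,10,8] (.node [8,10] (.node [8,10,8,10,10] (.node [8,8,10,8] .nil .nil) (.node [8,10,8] .nil .nil)) (.node [8,10,8,8,8] (.node [8,8,10,8,8] .nil .nil) (.node [10,10,8,8,10,10] .nil .nil))) (.node [10,8,8] (.node [10] (.node [10,10,8,10,10] .nil .nil) (.node [10,10,10,8] .nil .nil)) (.node [10,8,10] (.node [8,8,10,8,8] .nil .nil) .nil))) (.node [10,10,10,8,8,10] (.node [8,10,8,10,10] (.node [10] (.node [10,8,8,8] .nil .nil) (.node [8,8,10,10] .nil .nil)) (.node [10,8,8,10,10] (.node [8,10,8,8,8,8] .nil .nil) (.node [10,8,8,10,10] .nil .nil))) (.node [8,8,10,10,10] (.node [10,10,8,10,8] (.node [8] .nil .nil) (.node [10,8,8,8] .nil .nil)) (.node [10,8] (.node [10,10,8,10]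 .nil .nil) .nil)))) (.node [10,8,10,8,8,8] (.node [10,10,8,8,8] (.node [10,8,10,8,8,8] (.node [8,8] (.node [8,10,8,8,10] .nil .nil) (.node [8,10,10] .nil .nil)) (.node [8,10,8,8,8,8] (.node [8,8,8,8,8] .nil .nil) (.node [10,10,8,8,10,10] .nil .nil))) (.node [10,8,10,10,10] (.node [8,10,10,10] (.node [8,10,8,8,8] .nil .nil) (.node [8,10,8,8,8,8] .nil .nil)) (.node [10,10,8,10,8] (.node [8,8] .nil .nil) .nil))) (.node [8,8,8,8] (.node [10,10,10] (.node [8,8,10,10] (.node [8,8,8,8,8] .nil .nil) (.node [10,8,10,8,10,10] .nil .nil)) (.node [10,8,10,8,10] (.node [10,8,10,8] .nil .nil) .nil)) (.node [8,8] (.node [10,10,8,8,10,10] (.node [10,10,8] .nil .nil) (.node [10,10,8,10,10] .nil .nil)) (.node [10,8,8,8,8] (.node [10,10,8,8,10,10] .nil .nil) .nil))))) (.node [10,8,8,8,8] (.node [10,10,8,10,10] (.node [8,10,10] (.node [10,10,8,10,8] (.node [8,8,10,8,8] (.node [10,10,8,10,10] .nil .nil) (.node [8,8,10,10] .nil .nil)) (.node [10,8,8] (.node [8,10,10] .nil .nil)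 (.node [10,8,10] .nil .nil))) (.node [10,10,10,8,8] (.node [10,10,8,10,10] (.node [10,8,10,8] .nil .nil) (.node [10,10,10,8,8,10] .nil .nil)) (.node [8,10,10,10,8] (.node [10,8,10,10,10] .nil .nil) .nil))) (.node [8,10,8,10] (.node [8,8,10] (.node [10,8,10,8] (.node [8,10,10,10,8] .nil .nil) (.node [8,10,10] .nil .nil)) (.node [8,10,10] (.node [10,8,10,8] .nil .nil) .nil)) (.node [10,8,10] (.node [8,10,8,8] (.node [8,8,10,10,10] .nil .nil) (.node [10,8,10,8,8,8] .nil .nil)) (.node [10,8,10,10,10,8] (.node [10,10,10,8] .nil .nil) .nil)))) (.node [10,10,8,10,10] (.node [10,8,10,10,10] (.node [10,8,10,10] (.node [10,8] (.node [8,8,10,8] .nil .nil) (.node [8,8,8] .nil .nil)) (.node [8,8] (.node [8,8,8,8] .nil .nil) (.node [10,8,10,10] .nil .nil))) (.node [8,8] (.node [10,10,8] (.node [8,10,8,10,10] .nil .nil) (.node [10,8,8,8,8] .nil .nil)) (.node [] (.node [10,8,10,8,10,10] .nil .nil) .nil))) (.node [8,8,8] (.node [10,8,10,10] (.node [10,8,8,8] (.node [8,10,8,8,10]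 .nil .nil) (.node [10,8,8,10] .nil .nil)) (.node [10,10,10] (.node [8,10,8,8,8] .nil .nil) .nil)) (.node [8,8,10,10] (.node [10,10] (.node [8,10] .nil .nil) (.node [10,8,8,8,8] .nil .nil)) (.node [10,10,8,10] (.node [10,8,10,8,8] .nil .nil) .nil)))))) (.node [10,8,10,8,8] (.node [10,8,8,8,8] (.node [10,8,10,8,8,8] (.node [10,10,10,8,8] (.node [10,8] (.node [8,8,10,8,8] (.node [8,8,10,10,10] .nil .nil) (.node [10,10,10,8,8] .nil .nil)) (.node [10,8,10,10,10] (.node [8,8,10,10] .nil .nil) (.node [10,10,8,8,10] .nil .nil))) (.node [8,8,10] (.node [10,10,8,8,8] (.node [8] .nil .nil) (.node [10,10,8] .nil .nil)) (.node [10,8,10,8,8] (.node [10] .nil .nil) .nil))) (.node [8,10,10,10,8] (.node [8,8,10,10] (.node [10,8,10,8,8] (.node [10,10] .nil .nil) (.node [10,10,10,8,8,10] .nil .nil)) (.node [8,10,8,8,8] (.node [8,10,10] .nil .nil) (.node [10,10,10] .nil .nil))) (.node [8,10,8,8] (.node [10,8,8,10,10] (.node [8,10,8,8,8] .nil .nil) (.node [10,8,10,8,10] .nil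 .nil)) (.node [10,8,8] (.node [8,10,10] .nil .nil) .nil)))) (.node [8,10,8,8,8] (.node [10,10,10,8,8,10] (.node [8,8,10,10,10] (.node [10,10,10,8] (.node [10,10,8,10,8] .nil .nil) (.node [8,8,8,8,8,8] .nil .nil)) (.node [8,10,10] (.node [8,10,10] .nil .nil) (.node [8,10,10,10,8] .nil .nil))) (.node [10,8,10,10,10] (.node [8,8,8,8,8] (.node [8,10] .nil .nil) (.node [] .nil .nil)) (.node [] (.node [10,8,10,10,10,8] .nil .nil) .nil))) (.node [10,8,10,10,10] (.node [10,8] (.node [10,8,10,8,8] (.node [8,10] .nil .nil) (.node [10,8,10,8] .nil .nil)) (.node [10,10] (.node [10,8,8] .nil .nil) .nil)) (.node [10,10,8,8] (.node [10,8,10,8,10] (.node [10,8,10,8,8,8] .nil .nil) (.node [10,8,8,10] .nil .nil)) (.node [8,8,10] (.node [8,8] .nil .nil) .nil))))) (.node [8,10,8,8,8,8] (.node [10,8,10,8] (.node [10,8,8,10] (.node [10,8,10,8,8,8] (.node [8,10,10] (.node [] .nil .nil) (.node [10,8,10,8,10] .nil .nil)) (.node [8,10,10] (.node [10,8,8,10,10] .nil .nil) (.node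 [10,8,10,10] .nil .nil))) (.node [8,8,8] (.node [10,8,10,10,10] (.node [8,8,8,8,8] .nil .nil) (.node [10,10,10,8] .nil .nil)) (.node [8,8,10,10,10] (.node [10,10,10] .nil .nil) .nil))) (.node [10,10,10,8] (.node [10,8,8] (.node [10,10,10,8] (.node [10,8,8,8,8] .nil .nil) (.node [10,8,10,8,10] .nil .nil)) (.node [8] (.node [10,10,8,10,8] .nil .nil) .nil)) (.node [10,8,8,10] (.node [10,10,8,8,10] (.node [8,8,8,8,8] .nil .nil) (.node [8,10,8,10,10] .nil .nil)) (.node [10,10,8,10,10] (.node [10,8,10,8,8] .nil .nil) .nil)))) (.node [10,8,10,8,8] (.node [8,8] (.node [8,8,10,8] (.node [10,8] (.node [10,10,8,8] .nil .nil) (.node [8,10] .nil .nil)) (.node [8,8,10] (.node [10,10,8] .nil .nil) (.node [10,8,10,8,10,10] .nil .nil))) (.node [10,10,8] (.node [8,8,8,8,8] (.node [10,8,8,8] .nil .nil) (.node [8,10,10,10,8] .nil .nil)) (.node [10,10,10] (.node [10,8,10,8,8] .nil .nil) .nil))) (.node [8,10,8,10,10] (.node [10,10,8,8] (.node [10,8,8] (.node [8,10,8,10,10]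 .nil .nil) (.node [10,10,10,8,8,10] .nil .nil)) (.node [8,8,8] (.node [8,10,8,8,8] .nil .nil) .nil)) (.node [10,10,8] (.node [10,10] (.node [8,8,8,8] .nil .nil) (.node [10,8,10,8,8,8] .nil .nil)) (.node [8,8,10,10,10] (.node [10,10] .nil .nil) .nil))))))))

/-- Part of `moveWord`. -/
noncomputable def moveWord_l_l_r_l : Arr (List ℕ) :=
  .node [10,10,8,8,8] moveWord_l_l_r_l_l moveWord_l_l_r_l_r

/-- Part of `moveWord`. -/
noncomputable def moveWord_l_l_r_r_l : Arr (List ℕ) :=
  (.node [8,10,8,10,10] (.node [8,10,8] (.node [10,10] (.node [10,8,8,10] (.node [8,10,8,8,8,8] (.node [8,10,10,10] (.node [8,10,10] (.node [8,10,8,8,10] (.node [10,8,10,8,8] .nil .nil) (.node [10,10,10] .nil .nil)) (.node [] (.node [] .nil .nil) (.node [8,10,8,8,8,8] .nil .nil))) (.node [8,8,10] (.node [8,8] (.node [10,10,8,10,8] .nil .nil) (.node [8,10,10,10,8] .nil .nil)) (.node [8,10,8,10] (.node [10,10,8,10] .nil .nil) .nil))) (.node [8,10,8,8,8,8] (.node [8,10,8,8,8] (.node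 [8,10,8,10] (.node [10,10,10,8,8,10] .nil .nil) (.node [8,10,8,8] .nil .nil)) (.node [10,10,8,10,10] (.node [8,10,8,8,10] .nil .nil) (.node [10,8,8,10] .nil .nil))) (.node [8,8,10,8,8] (.node [8,8,8,8,8] (.node [10,8,10,8,10] .nil .nil) (.node [10,10,8,8,10] .nil .nil)) (.node [10,8,8,8] (.node [8,8] .nil .nil) .nil)))) (.node [10,10] (.node [8,10,8,8,8,8] (.node [8,8,10] (.node [8,10,8,10,10] (.node [8,10,8,10] .nil .nil) (.node [8,8,10,8] .nil .nil)) (.node [10,8,10] (.node [8,10,8,10,10] .nil .nil) (.node [8,10] .nil .nil))) (.node [8,10,10] (.node [10,8,10,8,8,8] (.node [8,10,10,10,8] .nil .nil) (.node [8,10,8,10] .nil .nil)) (.node [8,8,10] (.node [10,8,10,8,10,10] .nil .nil) .nil))) (.node [8] (.node [10,10,8,8,10] (.node [10,8,10,10,10] (.node [10,8,10,10,10] .nil .nil) (.node [8,8,10,8] .nil .nil)) (.node [10,10,10,8,8] (.node [8,8,10,10] .nil .nil) .nil)) (.node [8,8,10,10,10] (.node [10,10,8,8,10] (.node [8,8,8,8,8] .nil .nil) (.node [10,10,8,8,10]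 .nil .nil)) (.node [8,8,10,10,10] (.node [10,8,10,8,10] .nil .nil) .nil))))) (.node [8,8,8] (.node [8,10,8,8] (.node [8,10,8,10] (.node [8,10,8,8,8] (.node [10,8,8] (.node [8,8] .nil .nil) (.node [8,10,8,8,10] .nil .nil)) (.node [8,8,10,8] (.node [8,8,10,10,10] .nil .nil) (.node [10,8,8,8] .nil .nil))) (.node [8,8,8] (.node [8,10,8,8,8] (.node [10,10] .nil .nil) (.node [8,10,8,8,8] .nil .nil)) (.node [8,8,8,8,8,8] (.node [10,10,8,8,10] .nil .nil) .nil))) (.node [10,8,10] (.node [8,8,8] (.node [10,10,8,8,10] (.node [10,8,8,8,8] .nil .nil) (.node [8,8] .nil .nil)) (.node [8,8,10,10] (.node [8,8,10] .nil .nil) .nil)) (.node [8,8,8,8,8,8] (.node [10,8,8] (.node [8,8,10] .nil .nil) (.node [10,8,10,8,10] .nil .nil)) (.node [10,8,10,8,8] (.node [10,8,10,8,10,10] .nil .nil) .nil)))) (.node [10,10,8,10,8] (.node [10,10,8,10,10] (.node [10,8,10,8,10,10] (.node [10,8,10,8,10] (.node [10,8,8] .nil .nil) (.node [8,8,8] .nil .nil)) (.node [10,10] (.node [10,10,10,8]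 .nil .nil) (.node [10,10,8,10] .nil .nil))) (.node [8,8,10] (.node [10,8,10,8] (.node [10,8,10] .nil .nil) (.node [10,10,8,10] .nil .nil)) (.node [10,8,8,10,10] (.node [8,10,10,10] .nil .nil) .nil))) (.node [10,8,10,8,10,10] (.node [8,8,8,8,8] (.node [10,10] (.node [8,8,10,10] .nil .nil) (.node [8,10,10,10] .nil .nil)) (.node [8,8,8] (.node [10,10,8,8,10] .nil .nil) .nil)) (.node [10,8,10,8,10] (.node [8,10,8,8,10] (.node [8,8,10,10] .nil .nil) (.node [10,10,8,10,10] .nil .nil)) (.node [10,10,8,10,8] (.node [10,10,8,8,10] .nil .nil) .nil)))))) (.node [10,8] (.node [10,8,8,8,8] (.node [8,8,8,8] (.node [8,10] (.node [10,10] (.node [10,10,8,10] (.node [10,10,10,8,8] .nil .nil) (.node [10,8,8,8,8] .nil .nil)) (.node [10,10,8,10] (.node [8,8,10,10] .nil .nil) (.node [] .nil .nil))) (.node [10,8,10] (.node [10,10,8,8,10,10] (.node [10,10,10,8,8,10] .nil .nil) (.node [10,10] .nil .nil)) (.node [10,10,8,8,8] (.node [10,10,8,8,10] .nil .nil) .nil))) (.node [8,8]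 (.node [10,10,8,8,8] (.node [10,8,8,10] (.node [10,8,10,8,8] .nil .nil) (.node [8,10,10,10] .nil .nil)) (.node [8,8,10,10,10] (.node [8,8] .nil .nil) (.node [10,10,8] .nil .nil))) (.node [8,10,10,10,8] (.node [10,8,8,8] (.node [8,10,8,10] .nil .nil) (.node [10,10] .nil .nil)) (.node [10,10,8] (.node [8,10,8,10] .nil .nil) .nil)))) (.node [10,8] (.node [10,10,8,8,10] (.node [8,8,10] (.node [10,10,8,10,10] (.node [10,8,8,10,10] .nil .nil) (.node [8,10,10,10] .nil .nil)) (.node [10,8,10,8,10,10] (.node [8,10,8] .nil .nil) (.node [8,10,8,8,8] .nil .nil))) (.node [8,8,10,10] (.node [10,10,8,8,8] (.node [10,8,10,8,10,10] .nil .nil) (.node [8,8,10,10] .nil .nil)) (.node [8,8,10] (.node [10,8,8,10] .nil .nil) .nil))) (.node [8,8,8,8,8] (.node [10,10,10,8] (.node [10,10,10,8,8,10] (.node [10,10,8,10] .nil .nil) (.node [8,10,8,10,10] .nil .nil)) (.node [8,8,8] (.node [10,10,10,8,8] .nil .nil) .nil)) (.node [10,8,8,10] (.node [10,8,8,10,10] (.node [10,8,10] .nil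 .nil) (.node [10,8,8] .nil .nil)) (.node [10,10,10,8,8,10] (.node [8,8,10,8] .nil .nil) .nil))))) (.node [10] (.node [8,8,8,8,8,8] (.node [10,10,8,10,8] (.node [10,8,8,8,8] (.node [8,8,10,8,8] (.node [10,10] .nil .nil) (.node [8,8,8,8,8] .nil .nil)) (.node [10,8,10,8,10,10] (.node [10,8,8,10] .nil .nil) (.node [10,10,8,8,8] .nil .nil))) (.node [10,10,8,8,10] (.node [8,10,10,10] (.node [8,8,8,8,8,8] .nil .nil) (.node [8] .nil .nil)) (.node [10,8] (.node [8,10,8,8] .nil .nil) .nil))) (.node [8,8] (.node [10,10,8,10,10] (.node [10,10,8,8,10,10] (.node [8,8,8,8,8] .nil .nil) (.node [8,10,8,10,10] .nil .nil)) (.node [10,10,8,10,10] (.node [10,10,8,8,10,10] .nil .nil) .nil)) (.node [8,10,8,8,8,8] (.node [8] (.node [8,10,8,8] .nil .nil) (.node [8,8,10,10,10] .nil .nil)) (.node [8,8,10,10] (.node [10,8,10,10,10] .nil .nil) .nil)))) (.node [10,10,8,8,10] (.node [10,8,10] (.node [10,10,10,8,8,10] (.node [8,10,8] (.node [8,10,10] .nil .nil) (.node [8,10,10,10,8]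 .nil .nil)) (.node [] (.node [] .nil .nil) (.node [10,10,8,10,8] .nil .nil))) (.node [8,10,10,10] (.node [10,8,8,8] (.node [10,8,10,10,10] .nil .nil) (.node [10,8,10,10,10] .nil .nil)) (.node [10,10,10,8] (.node [8,8] .nil .nil) .nil))) (.node [] (.node [8,10,10] (.node [10,8] (.node [8,8,10] .nil .nil) (.node [8,10,10] .nil .nil)) (.node [10,8,8] (.node [10,8,10,8,8] .nil .nil) .nil)) (.node [10,10,10,8,8] (.node [10,8,10,10,10] (.node [8,10,10] .nil .nil) (.node [8,10,10] .nil .nil)) (.node [] (.node [10,10] .nil .nil) .nil))))))) (.node [10,8,10,8,10] (.node [10,8,10,8,10] (.node [10,8,10,8,10] (.node [8,8,8,8,8,8] (.node [10,8,8] (.node [8,8] (.node [10,8,8,8,8] (.node [8,8,10,10] .nil .nil) (.node [8,8,10,10,10] .nil .nil)) (.node [8,8,10,8] (.node [8,10,8,10] .nil .nil) (.node [10,8,10,8,8,8] .nil .nil))) (.node [8,10,10,10,8] (.node [10,10,8,8,10,10] (.node [10,10,8,10,8] .nil .nil) (.node [10,8,8] .nil .nil)) (.node [10,10,8,10] (.node [10,8,10,8,8,8]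 .nil .nil) .nil))) (.node [8,8,8] (.node [10,8,10,8,8] (.node [8,10,8,8,8,8] (.node [8,8,10,8] .nil .nil) (.node [] .nil .nil)) (.node [8,10,8,8] (.node [10,8,10,10,10,8] .nil .nil) (.node [8,10,8] .nil .nil))) (.node [8,10,8,10] (.node [10,10,8,8] (.node [10] .nil .nil) (.node [8,10,10,10,8] .nil .nil)) (.node [10,8,8,8] (.node [10,8,8,10] .nil .nil) .nil)))) (.node [8,10,8,10] (.node [10,10,8,10] (.node [8,8,8] (.node [10,8,10] (.node [8,10,8,8,8] .nil .nil) (.node [10,8,10] .nil .nil)) (.node [8,10,8,10,10] (.node [10,10,8,10,10] .nil .nil) (.node [10] .nil .nil))) (.node [8,10,8] (.node [8,8,10] (.node [8] .nil .nil) (.node [10,8] .nil .nil)) (.node [8,10,8,8] (.node [10,8,10,10] .nil .nil) .nil))) (.node [10,8,10,10] (.node [10,8,10,10] (.node [8,8,8,8,8] (.node [10,10] .nil .nil) (.node [8,8,10,8,8] .nil .nil)) (.node [8,8,10,8] (.node [8,10,8,10] .nil .nil) .nil)) (.node [8,8,8,8] (.node [10,8] (.node [10,10,8] .nil .nil) (.node [8,8,8,8,8] .nil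 .nil)) (.node [10,8] (.node [8,10,10] .nil .nil) .nil))))) (.node [10,10,10,8] (.node [10] (.node [8] (.node [10,8,10,10,10,8] (.node [8,10,10,10] (.node [10,8,8,8,8] .nil .nil) (.node [10,8,10,8,8] .nil .nil)) (.node [10,8,8,8,8] (.node [8,8,8,8,8,8] .nil .nil) (.node [8,8,8,8,8] .nil .nil))) (.node [8,8,10,8] (.node [10,10,8,10,10] (.node [10,10,8,8] .nil .nil) (.node [10,10,8,8,8] .nil .nil)) (.node [8,10,8,8,10] (.node [8,8,10,8] .nil .nil) .nil))) (.node [8,10,8,8,8] (.node [8,10,10,10,8] (.node [8,10,8,8,8,8] (.node [10,10,10] .nil .nil) (.node [8,10,8,8,8] .nil .nil)) (.node [8,10,8,8] (.node [10,8,10,10,10] .nil .nil) .nil)) (.node [8,8,10,10,10] (.node [10,8,10,8] (.node [10,8,8,8] .nil .nil) (.node [10,10] .nil .nil)) (.node [10,10,10,8] (.node [8,10,8] .nil .nil) .nil)))) (.node [10,10,8,10] (.node [8,8,10,8] (.node [10,10,8,10] (.node [10,8,10,10] (.node [10,10,10] .nil .nil) (.node [10,8,10,8,8,8] .nil .nil)) (.node [8,10,10,10,8] (.node [8,8,10,8,8]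 .nil .nil) (.node [8] .nil .nil))) (.node [8,8] (.node [10,10,8,10,8] (.node [10,10,10,8,8,10] .nil .nil) (.node [10,8,8,10] .nil .nil)) (.node [10,8,8] (.node [8,8,8,8,8,8] .nil .nil) .nil))) (.node [8,8,10,8] (.node [10,8,8,10] (.node [10,10,8,10,10] (.node [8,10,10,10,8] .nil .nil) (.node [8,10,8,8,8] .nil .nil)) (.node [8,10,8,10,10] (.node [8,10,10] .nil .nil) .nil)) (.node [10,8,10] (.node [10,10,10,8,8,10] (.node [] .nil .nil) (.node [8,8,8] .nil .nil)) (.node [10,8,8,8] (.node [8,8,10,8] .nil .nil) .nil)))))) (.node [8,10,8,8,10] (.node [8,8,10,10,10] (.node [8,8,10,8] (.node [8,8,8,8,8,8] (.node [10,8,8,10] (.node [10,10,8,10,8] (.node [10,8,10,8] .nil .nil) (.node [10,10,8,8,10,10] .nil .nil)) (.node [10] (.node [10,8,10,8,8,8] .nil .nil) (.node [8,10,10,10,8] .nil .nil))) (.node [8,8,10,8] (.node [8,10,10,10,8] (.node [8,8,10,10,10] .nil .nil) (.node [8,8,10,10,10] .nil .nil)) (.node [8,8,8,8,8] (.node [8,10,8,10,10] .nil .nil) .nil))) (.node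 [10,10,8,8] (.node [10,10,8,8] (.node [8] (.node [10,8,8] .nil .nil) (.node [10,8,10,8,8] .nil .nil)) (.node [8,10,10,10,8] (.node [8] .nil .nil) (.node [10,10,10] .nil .nil))) (.node [10,8,10,10] (.node [10,8,8,8] (.node [8,8,10] .nil .nil) (.node [10,10,10,8,8,10] .nil .nil)) (.node [8,8,8] (.node [10,8,8,10] .nil .nil) .nil)))) (.node [10,10,8,8,10] (.node [10,8,8] (.node [10,8,10,8,8] (.node [8,8,10,10,10] (.node [10] .nil .nil) (.node [10,8,10,8,10] .nil .nil)) (.node [10,10,8] (.node [8,10,8,8,8,8] .nil .nil) (.node [] .nil .nil))) (.node [10,10,8,10,10] (.node [10,8,8,8] (.node [8,8,10,10] .nil .nil) (.node [10,8,10] .nil .nil)) (.node [8,10,10] (.node [8,10,10] .nil .nil) .nil))) (.node [10,8,10,8,8,8] (.node [10,8,10,8] (.node [10,10] (.node [8,8,10] .nil .nil) (.node [10,8,10,10,10] .nil .nil)) (.node [8,10,8,8,10] (.node [10,8,10,8,10,10] .nil .nil) .nil)) (.node [10,10,10,8,8,10] (.node [10,8,10,10,10,8] (.node [8,10,8,8,10] .nil .nil) (.node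 [8,10,10] .nil .nil)) (.node [10,10,8,8,10] (.node [8,10,8,8,10] .nil .nil) .nil))))) (.node [10,10,10,8] (.node [8,10,8] (.node [10,8,10,8,8] (.node [10,8,8,10,10] (.node [10,10,8] (.node [8,10] .nil .nil) (.node [10,10,8,8,10,10] .nil .nil)) (.node [8,8,8,8,8,8] (.node [] .nil .nil) (.node [10,10,8,8,8] .nil .nil))) (.node [8,8,10,8,8] (.node [10] (.node [8,10,10,10,8] .nil .nil) (.node [8,10,8,10,10] .nil .nil)) (.node [10,8,10] (.node [8] .nil .nil) .nil))) (.node [10,8,10,10,10,8] (.node [8,8] (.node [10,10,8,8,10] (.node [8,10] .nil .nil) (.node [8,10,8,10,10] .nil .nil)) (.node [10,10,8,10,8] (.node [8,8,10,8,8] .nil .nil) .nil)) (.node [8,8,10,8,8] (.node [10,8] (.node [10,10,8,8,8] .nil .nil) (.node [10,8,8,8,8] .nil .nil)) (.node [10,10,10,8,8,10] (.node [8,8,10,10] .nil .nil) .nil)))) (.node [10,8,10,8,10] (.node [10,10,8,8,8] (.node [10,8,10,8] (.node [10] (.node [10,10] .nil .nil) (.node [10,10,10,8,8,10] .nil .nil)) (.node [8,10,8,10] (.node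 [8,10] .nil .nil) (.node [10,8,8,10] .nil .nil))) (.node [10,8] (.node [8,10,8,10,10] (.node [10,8,8] .nil .nil) (.node [8,8,10,10,10] .nil .nil)) (.node [8,8,8,8] (.node [10,8] .nil .nil) .nil))) (.node [10] (.node [10,8,10,10,10,8] (.node [10,10,8,10] (.node [10,10,8,8,8] .nil .nil) (.node [10,10,8,10,10] .nil .nil)) (.node [8,8,10,10,10] (.node [10,8,8,10,10] .nil .nil) .nil)) (.node [10,8,10,10] (.node [8,8,8,8] (.node [10,10] .nil .nil) (.node [10,10] .nil .nil)) (.node [10,10,10] (.node [10,8,10,8,8] .nil .nil) .nil))))))))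

/-- Part of `moveWord`. -/
noncomputable def moveWord_l_l_r_r_r : Arr (List ℕ) :=
  (.node [8,8,8,8,8,8] (.node [8,10,8] (.node [8,10,8,8,8] (.node [10,8,10,10] (.node [8,8,8,8] (.node [8,8] (.node [10,10,10,8] (.node [8,10,8,10,10] (.node [10,10,8,8,8] .nil .nil) (.node [8,10] .nil .nil)) (.node [10,8,10,8,10,10] (.node [10,8,10,10,10,8] .nil .nil) (.node [10,10,10,8] .nil .nil))) (.node [10,8,10,10,10] (.node [8,10,8,8,8,8] (.node [8,8,10,8,8] .nil .nil) (.node [10,10,8,10,10] .nil .nil)) (.node [8,8,10,8,8] (.node [10,8,8,10,10] .nil .nil) .nil))) (.node [8,8,8,8] (.node [8,10,8,8,8] (.node [10,8,8,8,8] (.node [10,10,8,8,10] .nil .nil) (.node [8,8,8] .nil .nil)) (.node [8,8,8,8] (.node [10,10,8,10] .nil .nil) (.node [8,10,8] .nil .nil))) (.node [10,10,8,8,10] (.node [10,10,8,8] (.node [8,8] .nil .nil) (.node [8,10,8,8,8] .nil .nil)) (.node [8,10,8,8,10] (.node [10,10,8,8,8] .nil .nil) .nil)))) (.node [8,8,10,10,10] (.node [8,10,10,10] (.node [8,10,10]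 (.node [8,10,8,8,10] (.node [10,10,10] .nil .nil) (.node [10,8] .nil .nil)) (.node [10,8,10] (.node [10,10] .nil .nil) (.node [8,10,10] .nil .nil))) (.node [10,8,10,10,10] (.node [] (.node [10,8] .nil .nil) (.node [10] .nil .nil)) (.node [8,8,8,8] (.node [8,10,8,10] .nil .nil) .nil))) (.node [10,10,10,8,8] (.node [8,10,10] (.node [8,10,8,8] (.node [10,8,8] .nil .nil) (.node [8,8,10,8] .nil .nil)) (.node [8,10,8,8,8,8] (.node [10,8,8] .nil .nil) .nil)) (.node [8,8,8,8,8,8] (.node [10,8,8,8] (.node [] .nil .nil) (.node [8,10,10,10,8] .nil .nil)) (.node [10,10,8,10,8] (.node [8,8,8] .nil .nil) .nil))))) (.node [10,8,8,8] (.node [10,8,8,10] (.node [10,8,8,10] (.node [10,8,10,8] (.node [10,10,8,10] (.node [8,8,8,8,8,8] .nil .nil) (.node [8,10,10,10] .nil .nil)) (.node [10,10,10,8,8,10] (.node [8,8,10] .nil .nil) (.node [10,8,10,8,10] .nil .nil))) (.node [8,8,8,8] (.node [8,8,8,8,8] (.node [8,8,10,8,8] .nil .nil) (.node [8,10,10,10] .nil .nil)) (.node [8,8,8]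 (.node [10,8,10,8,8,8] .nil .nil) .nil))) (.node [8] (.node [8,8,8] (.node [10,10] (.node [8,10,10,10] .nil .nil) (.node [8,10,8] .nil .nil)) (.node [8,10,8,8,8] (.node [10,10,8,10] .nil .nil) .nil)) (.node [10] (.node [10,8,10,8] (.node [10,8,10,10] .nil .nil) (.node [8,10,10,10,8] .nil .nil)) (.node [10,10,8,10,8] (.node [8,10,8,8,8] .nil .nil) .nil)))) (.node [8,8,8,8,8,8] (.node [8,10,8,10] (.node [8,10,8,8] (.node [10,10,10,8,8,10] (.node [10,10,10] .nil .nil) (.node [10,10,10,8,8,10] .nil .nil)) (.node [8,10,8,8,8] (.node [10,10,8,10] .nil .nil) (.node [8,8,8] .nil .nil))) (.node [10,10,8,10,8] (.node [10,10,8,10,10] (.node [10,8,8,10] .nil .nil) (.node [8,8,10,8] .nil .nil)) (.node [8,10,10,10,8] (.node [10,8,10] .nil .nil) .nil))) (.node [8,8,10] (.node [8,10,8,8,8] (.node [8,8,10,8] (.node [10,8,10,8,8,8] .nil .nil) (.node [8] .nil .nil)) (.node [10,10,8,8] (.node [8,8,10,8,8] .nil .nil) .nil)) (.node [10,10,8,8] (.node [8,10,10,10] (.node [8,10]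 .nil .nil) (.node [10,10,8,10,10] .nil .nil)) (.node [10,10,10,8] (.node [10,8,10,8,8,8] .nil .nil) .nil)))))) (.node [10,10,8,10,10] (.node [10,8,8] (.node [10] (.node [10,8,8] (.node [10,10,10,8,8,10] (.node [10,8,10,8,8,8] (.node [10,10,10,8,8] .nil .nil) (.node [10,10,10,8,8] .nil .nil)) (.node [10,10,8,10,8] (.node [8,10] .nil .nil) (.node [8,8,10,10,10] .nil .nil))) (.node [10] (.node [8,10,8,8,8,8] (.node [10,8,8,8,8] .nil .nil) (.node [8,10,10,10,8] .nil .nil)) (.node [8,10,8,10] (.node [10,10,10,8] .nil .nil) .nil))) (.node [10,10,8] (.node [10,8,10,10,10,8] (.node [8,8,10,10,10] (.node [8,10,8,8] .nil .nil) (.node [8,8,8] .nil .nil)) (.node [10,10,8,10] (.node [8,8,10,8,8] .nil .nil) (.node [10,10,8,8,10,10] .nil .nil))) (.node [8,8,8,8] (.node [10,8,10,10,10,8] (.node [10,10,8,8,10] .nil .nil) (.node [10,8,8,10,10] .nil .nil)) (.node [10,10,10,8,8,10] (.node [10,8,10] .nil .nil) .nil)))) (.node [10,10] (.node [10,8,10,10] (.node [10,8,10,10,10,8]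 (.node [10,10,8,10,8] (.node [10,8,8,8,8] .nil .nil) (.node [8] .nil .nil)) (.node [8,10,10] (.node [10,10,8,10] .nil .nil) (.node [8,8,10,8,8] .nil .nil))) (.node [8,10,10] (.node [10,10,8,10,10] (.node [10,8,10,8,10,10] .nil .nil) (.node [10] .nil .nil)) (.node [8,8,8,8] (.node [8,10,10] .nil .nil) .nil))) (.node [10,10,10] (.node [8] (.node [10,10,8,10] (.node [8,10] .nil .nil) (.node [8,10,8] .nil .nil)) (.node [8,8,10,10,10] (.node [10,8,10,8,8,8] .nil .nil) .nil)) (.node [10,8,10,10,10,8] (.node [8,8,8,8] (.node [8,10,8,8,8] .nil .nil) (.node [8,10,10,10,8] .nil .nil)) (.node [8,8,8] (.node [10,8,10,10,10,8] .nil .nil) .nil))))) (.node [8,8,8] (.node [8,10,8,10] (.node [10,8,8,8,8] (.node [10,10,8,8,8] (.node [8,10,10,10,8] (.node [10,10,10,8,8,10] .nil .nil) (.node [8,10,10,10,8] .nil .nil)) (.node [10,8,10,8] (.node [10,8,8,10] .nil .nil) (.node [8] .nil .nil))) (.node [8,8,8,8,8] (.node [10,8,10,8,8] (.node [10,8,10,10] .nil .nil) (.node [10,10]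 .nil .nil)) (.node [10,10,10] (.node [10,10,8,8] .nil .nil) .nil))) (.node [8,10,8,8,8] (.node [8,10,8,10,10] (.node [8,10,8,8,8] (.node [8,8,10,8] .nil .nil) (.node [8,8,8,8,8] .nil .nil)) (.node [10,10,8,10,8] (.node [8,10,8,8,8] .nil .nil) .nil)) (.node [10,10,8,8] (.node [10,8,8,10,10] (.node [10,10,8,10] .nil .nil) (.node [10,10,8,8,10] .nil .nil)) (.node [8,8,8,8,8] (.node [10,8,10] .nil .nil) .nil)))) (.node [10,8,8,8,8] (.node [10,8,8] (.node [8,8,10,10] (.node [8,10,10] (.node [10,10,8,8] .nil .nil) (.node [8,10] .nil .nil)) (.node [10,10,8,10] (.node [10,8,8,10] .nil .nil) (.node [8,8,10,10,10] .nil .nil))) (.node [10,8] (.node [10,10,10,8,8,10] (.node [8,10,8] .nil .nil) (.node [8,10,10,10] .nil .nil)) (.node [10] (.node [] .nil .nil) .nil))) (.node [10,8,10,8,8,8] (.node [10,10,8,8,10] (.node [10,8] (.node [10,10,8,8,10,10] .nil .nil) (.node [10,8,10,10,10,8] .nil .nil)) (.node [10,8,10,8,10,10] (.node [10,10,10,8,8,10] .nil .nil) .nil)) (.node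 [10,8,8,8] (.node [10,10,8,8,10] (.node [10,10,8,10,10] .nil .nil) (.node [10] .nil .nil)) (.node [10,10,10,8,8,10] (.node [8,8,10,10,10] .nil .nil) .nil))))))) (.node [10,10,10,8] (.node [10,8,10,8,8] (.node [10,8,10,10,10,8] (.node [10,10,8] (.node [10,10,8] (.node [8,10,10,10,8] (.node [10,8,10,8,8] (.node [8,8,10,8,8] .nil .nil) (.node [8] .nil .nil)) (.node [] (.node [10,10,10,8] .nil .nil) (.node [10,8,8,8] .nil .nil))) (.node [10,10,8,10,8] (.node [10,8,10,8,10,10] (.node [10,8,8,10] .nil .nil) (.node [10,8] .nil .nil)) (.node [10,8,10,8] (.node [8,8,10,10] .nil .nil) .nil))) (.node [10,10,8,8,10,10] (.node [10,10] (.node [10,10,8,8,10,10] (.node [10,8,10,10] .nil .nil) (.node [10,10,8,8] .nil .nil)) (.node [10] (.node [10] .nil .nil) (.node [8,10] .nil .nil))) (.node [10,10,8] (.node [8,10,8,8,10] (.node [8,8,10,10] .nil .nil) (.node [10,8,10,8,10] .nil .nil)) (.node [10,8,8] (.node [10,8,10,10] .nil .nil) .nil)))) (.node [10,8,8,8,8] (.node [10,8,10,10,10]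 (.node [10,8,8,8] (.node [10,10,10,8] (.node [10,10,8,8,10,10] .nil .nil) (.node [10,8,10,10] .nil .nil)) (.node [10,10,10] (.node [10,10,10] .nil .nil) (.node [10,10,8,8,8] .nil .nil))) (.node [8,10,8,8] (.node [8,10,8] (.node [8,8,8] .nil .nil) (.node [8,8,8,8,8,8] .nil .nil)) (.node [10,8,8,8,8] (.node [] .nil .nil) .nil))) (.node [8] (.node [10,10,10] (.node [10,10,8] (.node [10,10,8,10,8] .nil .nil) (.node [10,10,8,8] .nil .nil)) (.node [10,10,8] (.node [8,8] .nil .nil) .nil)) (.node [10,10,8,10] (.node [8] (.node [10,10,8,10] .nil .nil) (.node [] .nil .nil)) (.node [] (.node [8,10] .nil .nil) .nil))))) (.node [10,8,10,8,8] (.node [8,8,8,8,8] (.node [8,10,10,10,8] (.node [10,8,8,10,10] (.node [10,8,10,10,10,8] (.node [10,10,8,10,10] .nil .nil) (.node [10,8,10] .nil .nil)) (.node [10,8,8] (.node [10,10,8,8,8] .nil .nil) (.node [10,8,8,8] .nil .nil))) (.node [8,10,8,8,10] (.node [8,8,10,10] (.node [8,8,8,8,8,8] .nil .nil) (.node [10,10,8,10] .nil .nil))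 (.node [10,10,8] (.node [10,8,8,8,8] .nil .nil) .nil))) (.node [10,8,10,10] (.node [10,8,10,10,10,8] (.node [10,8] (.node [8,10,8,8,8,8] .nil .nil) (.node [8] .nil .nil)) (.node [10,8,10,8,10] (.node [8,10,10,10,8] .nil .nil) .nil)) (.node [10,8,10,10] (.node [10,8,10,8,8] (.node [10,10,10,8] .nil .nil) (.node [8,8,10,10,10] .nil .nil)) (.node [8,10,10,10] (.node [8,10,8,8,10] .nil .nil) .nil)))) (.node [10,10,10,8] (.node [8,10,8,10,10] (.node [10,10,8,10] (.node [8,8,10,8] (.node [10,10,8] .nil .nil) (.node [8,8,8,8,8] .nil .nil)) (.node [10,8,10,8,8,8] (.node [8,8,10,8,8] .nil .nil) (.node [8,8] .nil .nil))) (.node [8,8,10,8,8] (.node [10,8,10,8,10] (.node [8,10,8,10,10] .nil .nil) (.node [10,8,10] .nil .nil)) (.node [8,8,10,8] (.node [8,8,10,8] .nil .nil) .nil))) (.node [10,8,10,8,8] (.node [10,8,10,8,8,8] (.node [10,8,8,10] (.node [10,8] .nil .nil) (.node [8,8,8,8,8,8] .nil .nil)) (.node [10,8,8,8,8] (.node [10,10,8,8] .nil .nil) .nil)) (.node [8,8,8,8]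 (.node [10,8] (.node [10,10] .nil .nil) (.node [8,10,10,10,8] .nil .nil)) (.node [10,8,10,10,10,8] (.node [10,8,10,8,8,8] .nil .nil) .nil)))))) (.node [10,8,10,8] (.node [8,10,8,8,8] (.node [10,8,8,8] (.node [10,8,10,8,10] (.node [8,8,10] (.node [10,10,10] (.node [10,8,10] .nil .nil) (.node [] .nil .nil)) (.node [8,8,8,8,8] (.node [8,10,10,10,8] .nil .nil) (.node [10] .nil .nil))) (.node [8,10,8,8] (.node [10,10,8,10] (.node [10,10] .nil .nil) (.node [8,8,8] .nil .nil)) (.node [10,10,8,8,8] (.node [10,8,10,8,8] .nil .nil) .nil))) (.node [8,10,8,10] (.node [8,10,10,10] (.node [8,10,8,8] (.node [8,10,8,10] .nil .nil) (.node [8,8,10,10,10] .nil .nil)) (.node [10,8,10,8,8,8] (.node [8,10,8,8,8,8] .nil .nil) (.node [10,8,8,8,8] .nil .nil))) (.node [10,8,8,10] (.node [10,10] (.node [10,10,8,8,8] .nil .nil) (.node [8,8,10,8] .nil .nil)) (.node [10,10,10] (.node [10,10,10,8] .nil .nil) .nil)))) (.node [10,10,10] (.node [8,8,8,8] (.node [10,10] (.node [10] (.node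 [10,8,10] .nil .nil) (.node [10,10,8] .nil .nil)) (.node [10,10,8,8,10] (.node [10,10,10,8,8] .nil .nil) (.node [10,10,10,8,8] .nil .nil))) (.node [10,10,8,8,10,10] (.node [8,8,8,8] (.node [10,10] .nil .nil) (.node [8,8,10,10] .nil .nil)) (.node [8,10,8,8,10] (.node [8,10,10,10,8] .nil .nil) .nil))) (.node [10,10,8] (.node [10,8,10,8,8] (.node [8,10,8,10,10] (.node [10,8,10,10,10,8] .nil .nil) (.node [10,10,8,8] .nil .nil)) (.node [10,10,10,8] (.node [8,10,8,8,8] .nil .nil) .nil)) (.node [8,10,10,10,8] (.node [10,10,10,8,8] (.node [8,8,8,8,8] .nil .nil) (.node [10,8,10,10,10] .nil .nil)) (.node [10,10,8,10,8] (.node [10,8,10,10,10,8] .nil .nil) .nil))))) (.node [] (.node [8,10,10,10] (.node [10,8,8,10,10] (.node [8,8,8,8,8] (.node [10,8,8,8] (.node [8,8,10,10,10] .nil .nil) (.node [8,10,8,8,8] .nil .nil)) (.node [10,8,10,10] (.node [8,8,10,8,8] .nil .nil) (.node [10,10,10] .nil .nil))) (.node [8,10,8,10,10] (.node [8,10,10,10,8] (.node [10] .nil .nil)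 (.node [10,8] .nil .nil)) (.node [8,8,10,8] (.node [10,10,8] .nil .nil) .nil))) (.node [10,10,8,10,10] (.node [] (.node [10,8,8] (.node [10,8,10] .nil .nil) (.node [8,10,10,10] .nil .nil)) (.node [10,8,10,8,10,10] (.node [8,10,8] .nil .nil) .nil)) (.node [8,10,8,8,8,8] (.node [8,8,10,8] (.node [10,8,8,8] .nil .nil) (.node [10,10,8,8,10,10] .nil .nil)) (.node [8,10,8,8,10] (.node [10,10] .nil .nil) .nil)))) (.node [8,8,8,8,8] (.node [8,10,10] (.node [8,10,10,10,8] (.node [10,8,10,10] (.node [10,8,10,8] .nil .nil) (.node [8,10,8,10] .nil .nil)) (.node [8,10,8,8] (.node [10,8,10,8] .nil .nil) (.node [8,10] .nil .nil))) (.node [10,8,8,10] (.node [8,10,8,8,8] (.node [8,8,8,8,8,8] .nil .nil) (.node [8,8,10,8,8] .nil .nil)) (.node [8,10,8,10] (.node [10,8,10,8,10] .nil .nil) .nil))) (.node [10,10,10,8] (.node [10] (.node [10,10,8,8,10,10] (.node [8,10,8,10] .nil .nil) (.node [8,8,10] .nil .nil)) (.node [8,8] (.node [10,8,10,8] .nil .nil) .nil)) (.node [8,10,8,8]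 (.node [10,10,8,8,10] (.node [8,10,8,8,8] .nil .nil) (.node [10,10,10,8,8] .nil .nil)) (.node [8,8,8,8,8,8] (.node [8,8,10,10,10] .nil .nil) .nil))))))))

/-- Part of `moveWord`. -/
noncomputable def moveWord_l_l_r_r : Arr (List ℕ) :=
  .node [10,8,8,10,10] moveWord_l_l_r_r_l moveWord_l_l_r_r_r

/-- Part of `moveWord`. -/
noncomputable def moveWord_l_l_r : Arr (List ℕ) :=
  .node [8,10,8,10] moveWord_l_l_r_l moveWord_l_l_r_r

/-- Part of `moveWord`. -/
noncomputable def moveWord_l_l : Arr (List ℕ) :=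
  .node [8,10] moveWord_l_l_l moveWord_l_l_r

/-- Part of `moveWord`. -/
noncomputable def moveWord_l_r_l_l_l : Arr (List ℕ) :=
  (.node [8,10] (.node [10,10,8,8,10,10] (.node [8,8,10,8] (.node [8,8,8,8,8] (.node [10,8,8,10,10] (.node [8,10,8,10,10] (.node [8,8,8,8,8] (.node [8,8,8,8,8,8] (.node [10,8,10,8,8] .nil .nil) (.node [8,8,10,8] .nil .nil)) (.node [8,8,10,10] (.node [8,8,10] .nil .nil) (.node [8,10,10] .nil .nil))) (.node [8,10,8,8] (.node [10,8,10,10,10] (.node [8,8,10,8,8] .nil .nil) (.node [8,8,8,8,8,8] .nil .nil)) (.node [10,10,10,8] (.node [8,8,10,8] .nil .nil) .nil))) (.node [10,10,8,8,10,10] (.node [10,10] (.node [8,10,8,8,8,8] (.node [8,8,8,8] .nil .nil) (.node [10,10] .nil .nil)) (.node [8,10,8,10] (.node [10,8,8,10] .nil .nil) (.node [10,10,8,10,10] .nil .nil))) (.node [8,8,8,8,8] (.node [8,10,8,10,10] (.node [8,10,8,8,8] .nil .nil) (.node [10,8] .nil .nil)) (.node [10,10,8,8,10,10] (.node [8,8,10,10,10] .nil .nil) .nil)))) (.node [10,10,8]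 (.node [10,10] (.node [10,10,10,8] (.node [10,10] (.node [10,10,8,8,10] .nil .nil) (.node [8,10,8,10,10] .nil .nil)) (.node [8,10] (.node [10,8,10,8] .nil .nil) (.node [8,10,10] .nil .nil))) (.node [8,10,8,10] (.node [] (.node [8,8,10,8,8] .nil .nil) (.node [10,10,8,8,10,10] .nil .nil)) (.node [8,8,8,8,8,8] (.node [8,8,10,10] .nil .nil) .nil))) (.node [10,10,8,8] (.node [10,8] (.node [10,10,8,8] (.node [10,10,10,8,8,10] .nil .nil) (.node [10,10,8,8,8] .nil .nil)) (.node [8,8,10] (.node [8,8,8,8,8] .nil .nil) .nil)) (.node [8] (.node [10,10,10,8,8,10] (.node [10,10,8,8] .nil .nil) (.node [10,10,8] .nil .nil)) (.node [8,10,8] (.node [10,10,10,8,8] .nil .nil) .nil))))) (.node [10,8,10,8,8] (.node [10,10,8,10,8] (.node [10,10,10,8] (.node [10,10,8,8,8] (.node [10,8,8,10,10] (.node [10,10,10,8,8] .nil .nil) (.node [10,10,8,8] .nil .nil)) (.node [8,10,10,10,8] (.node [8] .nil .nil) (.node [8,8,10,8] .nil .nil))) (.node [10,8,10,8,10,10] (.node [10,8,10] (.node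 [8,8,8,8,8] .nil .nil) (.node [8,8,8,8,8,8] .nil .nil)) (.node [8,10,10,10] (.node [10,8,8,8,8] .nil .nil) .nil))) (.node [10,8,8] (.node [10,8,10] (.node [10,8,8,10,10] (.node [10,8,10,8,8,8] .nil .nil) (.node [8,8,10,10] .nil .nil)) (.node [10,8,10,8,8,8] (.node [8,8,8,8] .nil .nil) .nil)) (.node [8,10,8,8] (.node [8,8,8,8,8] (.node [10,10,8,8] .nil .nil) (.node [10,8,10,8,8] .nil .nil)) (.node [10,10,8,10] (.node [10,10,8,10,10] .nil .nil) .nil)))) (.node [10,8,8,10] (.node [10,8,10,10,10,8] (.node [8,10,10,10,8] (.node [] (.node [10,10,10] .nil .nil) (.node [10,8,8] .nil .nil)) (.node [10,10,8,8,10] (.node [10,10,8,8,8] .nil .nil) (.node [10,8,10,10,10,8] .nil .nil))) (.node [8,8,10,8,8] (.node [10,10,10,8,8] (.node [10,10,8] .nil .nil) (.node [10,10,8,10,10] .nil .nil)) (.node [8,8,8,8] (.node [10,10,10] .nil .nil) .nil))) (.node [10,10,8] (.node [10,8,8,8,8] (.node [8,10,8] (.node [8,10] .nil .nil) (.node [10,10,8,10,10] .nil .nil)) (.node [10,8,10,10]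 (.node [10,8,10,10,10,8] .nil .nil) .nil)) (.node [8,8,8,8,8,8] (.node [8,10] (.node [10,10] .nil .nil) (.node [8,8,8,8,8] .nil .nil)) (.node [10,10,10,8,8] (.node [8] .nil .nil) .nil)))))) (.node [10,8,8,10,10] (.node [10,10,8,8,10,10] (.node [8,8,10,10,10] (.node [10] (.node [8,10,10] (.node [10,10,8] (.node [8,8] .nil .nil) (.node [8,8,10,8] .nil .nil)) (.node [10,10,8,8,10] (.node [10,10,10,8,8,10] .nil .nil) (.node [8,8,10] .nil .nil))) (.node [10,8,8,10,10] (.node [] (.node [10,10,10] .nil .nil) (.node [8,10,8,8] .nil .nil)) (.node [8,10,8,8,8,8] (.node [10,10,10,8,8] .nil .nil) .nil))) (.node [10,10] (.node [10,10,10,8,8] (.node [10,10,8,8,10,10] (.node [10,10] .nil .nil) (.node [10,8,10,8] .nil .nil)) (.node [10,8,8,10,10] (.node [10,8,10,10,10] .nil .nil) (.node [8,10,8,10] .nil .nil))) (.node [10,10,8,8,8] (.node [10,8,8,8,8] (.node [10,10,10,8,8,10] .nil .nil) (.node [10] .nil .nil)) (.node [10,8,8,8,8] (.node [8,8,8,8,8] .nil .nil) .nil))))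 (.node [8,10,8,8] (.node [10,8,10,8,8,8] (.node [10,8,10,10] (.node [10,10,8] (.node [8,10,8] .nil .nil) (.node [10,8,10,8,10,10] .nil .nil)) (.node [8] (.node [8,10,8,8,8,8] .nil .nil) (.node [10,8,10,8] .nil .nil))) (.node [8,10,10,10,8] (.node [10,10,8,10,10] (.node [10,8,8,8] .nil .nil) (.node [10,10,8,10] .nil .nil)) (.node [8,10,8,8] (.node [10,8,10,8] .nil .nil) .nil))) (.node [8,8,10,8,8] (.node [8,10,8,8,8,8] (.node [10] (.node [10,8] .nil .nil) (.node [10,10,10,8,8,10] .nil .nil)) (.node [8,10,8,8,8] (.node [8,8] .nil .nil) .nil)) (.node [10,10,8,10,8] (.node [10,10,10,8] (.node [10,10,8,10,8] .nil .nil) (.node [10,8,10,8] .nil .nil)) (.node [8,10,8] (.node [8,8,8,8,8] .nil .nil) .nil))))) (.node [10,10,8,10,10] (.node [10,8,8] (.node [10,10,8,10,8] (.node [8,8,10,10,10] (.node [8,10,8,8] (.node [10,10,10,8] .nil .nil) (.node [10,10,8,10,8] .nil .nil)) (.node [8,8,8,8,8] (.node [10,8,10,8,8,8] .nil .nil) (.node [10,8,10,10,10,8] .nil .nil)))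 (.node [10,10,10,8,8,10] (.node [10,10] (.node [10,8,10,8,8] .nil .nil) (.node [8,8,10,10] .nil .nil)) (.node [8,10] (.node [10,8,10,8,8,8] .nil .nil) .nil))) (.node [10,8,8,10] (.node [10,10] (.node [10,10,8,10,8] (.node [10,8,10,10,10] .nil .nil) (.node [] .nil .nil)) (.node [10,10,8,10,8] (.node [8,10,8,8,10] .nil .nil) .nil)) (.node [8,8,8] (.node [10,10,8,8] (.node [8,8,10,8] .nil .nil) (.node [8,8,8,8] .nil .nil)) (.node [10,10] (.node [8,8,10,8] .nil .nil) .nil)))) (.node [8,10,8,10] (.node [8,10,10] (.node [10,8,10,8,10,10] (.node [10,8,10,8,10] (.node [10,8,8,10,10] .nil .nil) (.node [8,8,10] .nil .nil)) (.node [8,10,8,10,10] (.node [8,10,8] .nil .nil) (.node [8,8,8,8,8,8] .nil .nil))) (.node [10,10,10,8] (.node [10,10,8,8,10,10] (.node [10,10,8,8] .nil .nil) (.node [8,8,10,10] .nil .nil)) (.node [10,8,10,8,8,8] (.node [10,10] .nil .nil) .nil))) (.node [8] (.node [10,10,8] (.node [8,8,8] (.node [8,8,10,10,10] .nil .nil) (.node [8,10,8,8] .nil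 .nil)) (.node [8,8,10,8,8] (.node [10,10,10,8,8,10] .nil .nil) .nil)) (.node [10] (.node [8,8,8,8,8,8] (.node [10,8,8,8] .nil .nil) (.node [10,10,8,10,8] .nil .nil)) (.node [10,10,8,8] (.node [10,8,10,8,10] .nil .nil) .nil))))))) (.node [10,10,10,8,8] (.node [8,8,10,8] (.node [10,8,10,10,10,8] (.node [8,10,8] (.node [10,8,8] (.node [10,8,10,8,10,10] (.node [10,10,8,10,8] (.node [10,10,8,8,10,10] .nil .nil) (.node [8,10,8,10] .nil .nil)) (.node [10,8,10,10,10] (.node [10,8,10] .nil .nil) (.node [10,8,10,8] .nil .nil))) (.node [8,10,10] (.node [10,10,10,8,8] (.node [8,8,8,8] .nil .nil) (.node [10,10] .nil .nil)) (.node [10,8,10,8] (.node [8,8,8,8] .nil .nil) .nil))) (.node [10,10,10,8,8] (.node [8,8,10,10] (.node [10,8,8,10] (.node [10,8,10,8,10] .nil .nil) (.node [8,8,8] .nil .nil)) (.node [8,10,10,10] (.node [8,8,10,8] .nil .nil) (.node [10,8,10,8,8,8] .nil .nil))) (.node [8,10] (.node [10,10,10,8] (.node [8,10,8,8] .nil .nil) (.node [10,10,8,8,10] .nil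 .nil)) (.node [8] (.node [8,8,8] .nil .nil) .nil)))) (.node [8,10,8,8,8] (.node [10,8,8,8,8] (.node [10,10,10] (.node [8,8,8,8,8] (.node [10,10,8,10,8] .nil .nil) (.node [8,8,10,8,8] .nil .nil)) (.node [8,8,10,10] (.node [8,10,8,10] .nil .nil) (.node [10,10,8,8,8] .nil .nil))) (.node [8,8,10,10,10] (.node [8,10,8,8,10] (.node [8,8] .nil .nil) (.node [8,8,10,10] .nil .nil)) (.node [10,8,10,10,10,8] (.node [10,10,8,8,8] .nil .nil) .nil))) (.node [8,8,8,8,8] (.node [8,8,8,8,8] (.node [8] (.node [10] .nil .nil) (.node [8,10,8,10,10] .nil .nil)) (.node [10,10,10,8,8] (.node [8,10,8] .nil .nil) .nil)) (.node [8] (.node [10,10,8] (.node [8,8,10,10] .nil .nil) (.node [10,10,8,8] .nil .nil)) (.node [10,10,10,8,8,10] (.node [8,8,8,8] .nil .nil) .nil))))) (.node [10,8,10,8,8,8] (.node [10,8,10,8,10] (.node [8,8,10,8,8] (.node [10,10,10] (.node [10] (.node [10,10,8,10] .nil .nil) (.node [10,10,10,8,8,10] .nil .nil)) (.node [10,8,10,10,10,8] (.node [8,8,8] .nil .nil)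 (.node [8,8,8,8] .nil .nil))) (.node [10,10,8,8,10,10] (.node [8,8,10] (.node [10,8] .nil .nil) (.node [10,8,10,10] .nil .nil)) (.node [8,10,8,8,8,8] (.node [8,8,10,10] .nil .nil) .nil))) (.node [8,8,10,10] (.node [10,8,8,8,8] (.node [8,8,10,10,10] (.node [8,8,10,8,8] .nil .nil) (.node [8,10,10] .nil .nil)) (.node [8,10,8,10] (.node [10,8,8] .nil .nil) .nil)) (.node [10,10,8,10] (.node [10,8,8,8] (.node [8,10,8,8] .nil .nil) (.node [10,8,8,8] .nil .nil)) (.node [8,10,8,10,10] (.node [8,10,10] .nil .nil) .nil)))) (.node [8,10,8,10] (.node [10,8,8,10,10] (.node [10,8,8,10] (.node [10,10,8,8] (.node [10,10,8,8] .nil .nil) (.node [8,8,8] .nil .nil)) (.node [8,10,8,8,8,8] (.node [10,10] .nil .nil) (.node [8,10,10,10,8] .nil .nil))) (.node [10,8,8,10,10] (.node [10,8,10,8] (.node [8,10,10] .nil .nil) (.node [10,10,8,8,10] .nil .nil)) (.node [8,10,8,8,10] (.node [10,8,10,8] .nil .nil) .nil))) (.node [10,8,10,8,8] (.node [10,10,8,10] (.node [10,10,8,8,10] (.node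 [8,10,8,10] .nil .nil) (.node [10,10,10,8] .nil .nil)) (.node [10,10,8,8,10] (.node [10,10,8,10] .nil .nil) .nil)) (.node [10,8,10,8] (.node [8,10,8] (.node [10,8] .nil .nil) (.node [10,8,10,8] .nil .nil)) (.node [10,8,8] (.node [10,10,8,8,8] .nil .nil) .nil)))))) (.node [10,8,8,10,10] (.node [8] (.node [10,10] (.node [10,8,10,10] (.node [10,10,10,8,8] (.node [8,8,8,8] (.node [10,10,10,8] .nil .nil) (.node [10,8,8,8,8] .nil .nil)) (.node [10,10,10,8,8] (.node [8,10] .nil .nil) (.node [10,10] .nil .nil))) (.node [8,8,8,8] (.node [10,10,8,8] (.node [10,10,8,10,8] .nil .nil) (.node [10,8] .nil .nil)) (.node [8,10,8] (.node [10,8,10,8,8] .nil .nil) .nil))) (.node [10,10,8,10] (.node [10,10,8] (.node [10,10,8,10] (.node [8,10] .nil .nil) (.node [10,10,10,8] .nil .nil)) (.node [8,10,8,8,8] (.node [8,8,10,10] .nil .nil) (.node [10,10,8] .nil .nil))) (.node [8,8,10,10,10] (.node [8,8,10] (.node [8,8,8] .nil .nil) (.node [8,8,8] .nil .nil)) (.node [10,8,10,8] (.node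 [8,8,10,8,8] .nil .nil) .nil)))) (.node [10,8,10,10] (.node [8,8,8,8,8,8] (.node [8,8,8,8,8] (.node [8,10] (.node [8,8] .nil .nil) (.node [8,10,8,8,10] .nil .nil)) (.node [10,8,8,10] (.node [10,8,8,10,10] .nil .nil) (.node [10] .nil .nil))) (.node [10,8,10,8,8,8] (.node [10,8,10,8] (.node [10,8,10,10,10,8] .nil .nil) (.node [8,8,8,8,8,8] .nil .nil)) (.node [8,8,10,8,8] (.node [10] .nil .nil) .nil))) (.node [8,8,10] (.node [10,8,10] (.node [10,8,10,8,10,10] (.node [10,10,10,8,8] .nil .nil) (.node [10,10,10,8,8] .nil .nil)) (.node [8,8,10,8] (.node [10,10,8,8,10,10] .nil .nil) .nil)) (.node [10,10,8,8,10] (.node [10,10,8,8,10,10] (.node [8,10,8] .nil .nil) (.node [10,10,10] .nil .nil)) (.node [8,10,8,10] (.node [10,10,8,10] .nil .nil) .nil))))) (.node [10,10,8,10,10] (.node [10,8,8,8] (.node [10,10,8] (.node [8,8,8] (.node [] (.node [8,8,10,8] .nil .nil) (.node [8,8,10,8,8] .nil .nil)) (.node [10,10,10,8,8,10] (.node [8,10,10] .nil .nil) (.node [10,10,10,8]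 .nil .nil))) (.node [8,10,8,8,8,8] (.node [8,10,8,10] (.node [10,8,8] .nil .nil) (.node [8,10,10,10] .nil .nil)) (.node [8,8] (.node [10,10,10,8,8,10] .nil .nil) .nil))) (.node [10,8,10,8,10] (.node [10,10,10,8,8,10] (.node [8,8,10,8] (.node [8,10,8,10] .nil .nil) (.node [8,8,10,8] .nil .nil)) (.node [8,8,10,10,10] (.node [8,10] .nil .nil) .nil)) (.node [8,8,8] (.node [10,8,10] (.node [10,8,8,10,10] .nil .nil) (.node [8,8,10,8] .nil .nil)) (.node [8,10,8,8,8] (.node [10,8,8,10,10] .nil .nil) .nil)))) (.node [10,10,10] (.node [8,8,10,8] (.node [] (.node [8,8,8,8] (.node [10,8,8,10,10] .nil .nil) (.node [8,8,8] .nil .nil)) (.node [8,10] (.node [8,8,10] .nil .nil) (.node [8,10,8,8] .nil .nil))) (.node [8,8,8,8] (.node [8,10,10] (.node [8,10] .nil .nil) (.node [8,8,10] .nil .nil)) (.node [10,10,10,8,8,10] (.node [8,10] .nil .nil) .nil))) (.node [] (.node [10,8,10,8,10] (.node [8,8,10,10] (.node [10,8,8] .nil .nil) (.node [10,8,10,8,10,10] .nil .nil)) (.node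 [8,10,8,8,10] (.node [10,8,10,10,10] .nil .nil) .nil)) (.node [10,8,10,8,10] (.node [10,8,10,8] (.node [10,8,10] .nil .nil) (.node [8,10] .nil .nil)) (.node [10,10,8,10,8] (.node [10,10,8,8,10,10] .nil .nil) .nil))))))))

/-- Part of `moveWord`. -/
noncomputable def moveWord_l_r_l_l_r : Arr (List ℕ) :=
  (.node [10,10,8,8,10,10] (.node [10,10,8] (.node [8,10,10] (.node [10,10,8,8,10,10] (.node [10,10,8,8,10] (.node [10,8,10,10,10,8] (.node [10,10,10,8,8,10] (.node [8,8,8] (.node [8,8,10,10] .nil .nil) (.node [10,10,10,8,8,10] .nil .nil)) (.node [10,10,8,10,10] (.node [8,8,8,8] .nil .nil) (.node [8,10,8,8,8,8] .nil .nil))) (.node [10,8,10,8,10] (.node [8,8,10,10,10] (.node [8,10,8,8,10] .nil .nil) (.node [10,8,10,8,8] .nil .nil)) (.node [10,8,8,8] (.node [8,8,10,8] .nil .nil) .nil))) (.node [10,8,10,8,10] (.node [10,8,8,8] (.node [10,8,10,8,10] (.node [8] .nil .nil) (.node [8,8,8] .nil .nil)) (.node [10,8,8,8] (.node [10,8,8,8,8] .nil .nil) (.node [10,8,10,8,10]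 .nil .nil))) (.node [10,10,8,8,8] (.node [10,10] (.node [8,10,8,8,10] .nil .nil) (.node [8,8,10,10,10] .nil .nil)) (.node [8,8,8,8,8] (.node [10,8,10,10] .nil .nil) .nil)))) (.node [8,8,10] (.node [8,10,8,8,8,8] (.node [10,10,8,8,10] (.node [10,10,8,8,10] (.node [10,10,10,8,8,10] .nil .nil) (.node [10,8,8,10,10] .nil .nil)) (.node [8,8] (.node [8,10,8,8,8,8] .nil .nil) (.node [10,8,8,10] .nil .nil))) (.node [10,10,10,8] (.node [8,8,10,8,8] (.node [10,8,10,10] .nil .nil) (.node [8,8,8] .nil .nil)) (.node [8,10,8,8,10] (.node [8,8,10,8] .nil .nil) .nil))) (.node [8,8,8,8,8] (.node [8,8,8] (.node [8,10,8,8,10] (.node [8,8,10,8,8] .nil .nil) (.node [10,10,8,10] .nil .nil)) (.node [8,10,8,8,10] (.node [10,8,8,10] .nil .nil) .nil)) (.node [10,10,10,8,8] (.node [10,10,8,10,8] (.node [8,10] .nil .nil) (.node [8,10,8] .nil .nil)) (.node [8,8,10,10,10] (.node [8,8,8,8] .nil .nil) .nil))))) (.node [] (.node [8,10,10,10,8] (.node [10,8,8,10,10] (.node [10,8,10,8,8,8]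 (.node [10,10,10,8,8,10] (.node [10,8,8,10] .nil .nil) (.node [10,10,8,10] .nil .nil)) (.node [10,8,10,8,8,8] (.node [8,10,8,8,8,8] .nil .nil) (.node [8,10,8,8,10] .nil .nil))) (.node [10,10,8,8,10,10] (.node [10,10,8,8] (.node [8,8,8,8,8] .nil .nil) (.node [10,8,8,10] .nil .nil)) (.node [10,10,10,8,8,10] (.node [10,8] .nil .nil) .nil))) (.node [8,8] (.node [10,8,8,10] (.node [10,10,10,8] (.node [] .nil .nil) (.node [8,10,8,8] .nil .nil)) (.node [10,10,8,8,10,10] (.node [10,10,8,8,10] .nil .nil) .nil)) (.node [10,10,10] (.node [10,8,10,8,8,8] (.node [8,8,10,8,8] .nil .nil) (.node [8,10,8,8] .nil .nil)) (.node [8,10,8,8,8] (.node [10,8,10,8,10,10] .nil .nil) .nil)))) (.node [10,10,10,8,8,10] (.node [10,8,10,8,10,10] (.node [10,8,10,8,8] (.node [10,8,8,8,8] (.node [8,8,8] .nil .nil) (.node [10,8,8,8,8] .nil .nil)) (.node [10,8,10,10,10,8] (.node [] .nil .nil) (.node [8,10,10,10] .nil .nil))) (.node [10,10,10,8] (.node [8,10,8,8,8,8] (.node [10,10,10,8] .nil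 .nil) (.node [10,8] .nil .nil)) (.node [10,10,8,10,10] (.node [10,10,8,8,8] .nil .nil) .nil))) (.node [10,8,8,10] (.node [8,8,10,8] (.node [8,10,10,10,8] (.node [10,10,8] .nil .nil) (.node [8,8,10,8] .nil .nil)) (.node [10,10] (.node [10,10,8,8] .nil .nil) .nil)) (.node [8,8,10,10] (.node [10,8,10,8,10] (.node [10,8,10,8] .nil .nil) (.node [10,10,8,8,8] .nil .nil)) (.node [10,8,8,8] (.node [8,10,8,8,8,8] .nil .nil) .nil)))))) (.node [10,10,8,8,10,10] (.node [10,10,10,8] (.node [8,10,8,8] (.node [8,8,10,10] (.node [10,10,8] (.node [10,10,10] (.node [8,10,8,10,10] .nil .nil) (.node [10,10,8] .nil .nil)) (.node [10,8,10,8,10] (.node [10,8,10,10,10] .nil .nil) (.node [10,10,8,8] .nil .nil))) (.node [10,10,8,8,10] (.node [10,8,8,10,10] (.node [8,10,8,10,10] .nil .nil) (.node [10,8,10,8] .nil .nil)) (.node [10,10,8,10,8] (.node [10,10,10] .nil .nil) .nil))) (.node [10,10,8,8] (.node [8,8,8,8] (.node [10,10,8,10,8] (.node [] .nil .nil) (.node [10,10,8,8] .nil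 .nil)) (.node [10,10,8,10,8] (.node [8,10,8,8,10] .nil .nil) (.node [8,10,8,8,8,8] .nil .nil))) (.node [8,8,10,10,10] (.node [10,8,10,8,10,10] (.node [8,8] .nil .nil) (.node [8,8,10,8] .nil .nil)) (.node [10,10,8,8] (.node [10,10] .nil .nil) .nil)))) (.node [10,8,10,8,8] (.node [10,10,10] (.node [10,8,8,8,8] (.node [8,8,8] (.node [8,8,8,8,8] .nil .nil) (.node [8,10] .nil .nil)) (.node [8,8,8] (.node [8,10,8,8] .nil .nil) (.node [10,8,8,8,8] .nil .nil))) (.node [8,10,8,10] (.node [10,8,8,8] (.node [10,10,8,8,10] .nil .nil) (.node [10,8,8,10] .nil .nil)) (.node [8,8,10,10] (.node [8,8] .nil .nil) .nil))) (.node [8,8,8,8,8] (.node [10] (.node [10,8,8,8,8] (.node [10,10,10,8,8] .nil .nil) (.node [10,8,10,10] .nil .nil)) (.node [10,10,8,10,10] (.node [10,8,10,10] .nil .nil) .nil)) (.node [8,8,10,10,10] (.node [10,10,10,8,8,10] (.node [8,8,8,8,8] .nil .nil) (.node [10,10,8,8,10] .nil .nil)) (.node [8,8] (.node [10,10,10,8] .nil .nil) .nil))))) (.node [10,8]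 (.node [8,10,8,8,8] (.node [8] (.node [8,8,8,8,8] (.node [10,10,10] (.node [8,10,8,10] .nil .nil) (.node [10,10,8] .nil .nil)) (.node [10,10,10,8,8,10] (.node [8,10,8,8,8,8] .nil .nil) (.node [10,10,10,8] .nil .nil))) (.node [8,8,10,8,8] (.node [8,8] (.node [8,8,8] .nil .nil) (.node [8,10,8,8] .nil .nil)) (.node [10,10,8,8,10,10] (.node [8,8,8] .nil .nil) .nil))) (.node [8,10,8,8,8,8] (.node [] (.node [10,8,8] (.node [10,10,10] .nil .nil) (.node [10,8,10,8,8,8] .nil .nil)) (.node [8,10,10,10] (.node [10,8,10,10,10] .nil .nil) .nil)) (.node [8,10,10,10] (.node [10,10,8,8] (.node [8,10,10,10] .nil .nil) (.node [10,8] .nil .nil)) (.node [10,8,10,8] (.node [8,8,10,10] .nil .nil) .nil)))) (.node [8,10] (.node [10,8,8,10] (.node [8,10,8,10] (.node [8,8,10,8] (.node [10,8,8] .nil .nil) (.node [8,10,8,8,8,8] .nil .nil)) (.node [10,8,10] (.node [8,10,8] .nil .nil) (.node [10,8,8,10] .nil .nil))) (.node [8,10,10,10] (.node [8,8,10,8] (.node [8,8,8,8,8,8] .nil .nil)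 (.node [10,10,8,10,10] .nil .nil)) (.node [10,8,10,8,10,10] (.node [8,10,10,10] .nil .nil) .nil))) (.node [10,8,10,10] (.node [8,10,8,10] (.node [8,8,10,8] (.node [8,8,10,10] .nil .nil) (.node [10,10,10,8,8,10] .nil .nil)) (.node [8,10,10,10,8] (.node [8,8,8,8,8,8] .nil .nil) .nil)) (.node [10,8,10,8] (.node [10] (.node [10,8,10,8,10] .nil .nil) (.node [8,8,8,8,8] .nil .nil)) (.node [8,10,8,10,10] (.node [8,8,10,10,10] .nil .nil) .nil))))))) (.node [10,10,8,8,8] (.node [10,10,10,8,8] (.node [10,8,10,10,10,8] (.node [8,10,8,8,10] (.node [8,8,8,8] (.node [10,8,10,10,10,8] (.node [10,10,10] (.node [8,10,8,10,10] .nil .nil) (.node [8,8,10] .nil .nil)) (.node [8,10] (.node [8,10,8,8,8] .nil .nil) (.node [10,8,8,8,8] .nil .nil))) (.node [10,10,10,8] (.node [10,10] (.node [8,10,8,10,10] .nil .nil) (.node [8,10,8,8,8,8] .nil .nil)) (.node [] (.node [10,8,8] .nil .nil) .nil))) (.node [10,8,8,10,10] (.node [10,10] (.node [10,10,8,10] (.node [10,8,10] .nil .nil)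 (.node [8,8] .nil .nil)) (.node [10,10,8,10,10] (.node [8,10] .nil .nil) (.node [8,8,8] .nil .nil))) (.node [10,10,8,8] (.node [10,10,8,8,10,10] (.node [10,10,8,8,8] .nil .nil) (.node [10,10,10,8,8,10] .nil .nil)) (.node [10,8] (.node [8,10,10,10] .nil .nil) .nil)))) (.node [10,10,8] (.node [8,10,8] (.node [8,8,10] (.node [10,8,10,10] (.node [8] .nil .nil) (.node [8,8,8,8] .nil .nil)) (.node [10,10,8,8,10] (.node [10,8,8,10,10] .nil .nil) (.node [8,8,10,8] .nil .nil))) (.node [10,10,8,8,10,10] (.node [10,8,10,10,10,8] (.node [8,10,10,10] .nil .nil) (.node [10] .nil .nil)) (.node [10,8,10] (.node [10,8,8,8] .nil .nil) .nil))) (.node [10,8,8,8] (.node [8,8,8,8] (.node [8,8,8,8,8] (.node [10,10,8,10] .nil .nil) (.node [10,8,10,8,8,8] .nil .nil)) (.node [10,8,10,10,10,8] (.node [8] .nil .nil) .nil)) (.node [10,8,8] (.node [10,8,10,8,8] (.node [8,8,8,8,8] .nil .nil) (.node [10,8,10] .nil .nil)) (.node [8,10,10,10] (.node [8,8,8,8,8,8] .nil .nil) .nil))))) (.node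 [10,8,8,8] (.node [8,8,8,8] (.node [10,10,10] (.node [10,8] (.node [8,10,8,8,10] (.node [8,8,10,10] .nil .nil) (.node [8,10,10,10,8] .nil .nil)) (.node [] (.node [8,10,8,8,8] .nil .nil) (.node [10,10,8] .nil .nil))) (.node [8,8] (.node [10,8,10,8,10] (.node [10] .nil .nil) (.node [10,8,10,8,8,8] .nil .nil)) (.node [10,8,8,8,8] (.node [10,8,10,8] .nil .nil) .nil))) (.node [10,8,10,10,10,8] (.node [8,8,8,8,8] (.node [10,10,8,10,10] (.node [10,8,8] .nil .nil) (.node [10,8,8,8,8] .nil .nil)) (.node [8,8,8,8] (.node [8,10,8,8,8,8] .nil .nil) .nil)) (.node [10,8,8,10,10] (.node [10,10,10,8,8] (.node [10,10,8,8,10] .nil .nil) (.node [8,8,8,8,8,8] .nil .nil)) (.node [10,8,8,8,8] (.node [10,10,8,10,10] .nil .nil) .nil)))) (.node [10,8,8] (.node [10] (.node [10,10,8,8] (.node [10,10,10,8,8,10] (.node [10,10,8,8,10,10] .nil .nil) (.node [8,8,8,8] .nil .nil)) (.node [10,8,8,8] (.node [8,10,8,8,8] .nil .nil) (.node [10,8,8,8] .nil .nil))) (.node [10,8,8,8,8] (.node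 [8,10,8,8,8] (.node [10,8,10,8,10,10] .nil .nil) (.node [10,8,10,8] .nil .nil)) (.node [10] (.node [8,8,10,10] .nil .nil) .nil))) (.node [8,8,8,8] (.node [8,10] (.node [8,10,8,10] (.node [10,8,8,10,10] .nil .nil) (.node [10,8,8,8] .nil .nil)) (.node [10,8,8,8] (.node [10] .nil .nil) .nil)) (.node [8,10,8,8,10] (.node [8,8,10,10,10] (.node [10,8,8,8] .nil .nil) (.node [8,10,8] .nil .nil)) (.node [10,8,8,8,8] (.node [10,10,10] .nil .nil) .nil)))))) (.node [8,8,8,8,8,8] (.node [8,10] (.node [8,10,8,8] (.node [8] (.node [10,8,10,8,8] (.node [8,8,10,10,10] (.node [8,8] .nil .nil) (.node [10,10,8,10,10] .nil .nil)) (.node [10,10,10,8,8,10] (.node [8,8,8,8] .nil .nil) (.node [10,8,10,10,10,8] .nil .nil))) (.node [] (.node [8,10,8,10] (.node [10,10,10,8,8,10] .nil .nil) (.node [10,10,8,10,8] .nil .nil)) (.node [10,8,10,10,10,8] (.node [8,8,10,8,8] .nil .nil) .nil))) (.node [10,10,8,10] (.node [8,8,10] (.node [10,10,8,8,10,10] (.node [8,10] .nil .nil) (.node [10,8,8,10,10]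 .nil .nil)) (.node [8,10,10,10,8] (.node [10,10,8,10,8] .nil .nil) (.node [10,8,10,8,10,10] .nil .nil))) (.node [8,10,10,10,8] (.node [8,8,10,10] (.node [8,10,8,8,8] .nil .nil) (.node [8,10,10] .nil .nil)) (.node [10,8,10,8,10,10] (.node [10,10,8,10,10] .nil .nil) .nil)))) (.node [8,8,8,8,8,8] (.node [10,10,10,8,8] (.node [8,8,10,8] (.node [8,10,8,8,8] (.node [8,10,8,8] .nil .nil) (.node [10,8,10,8] .nil .nil)) (.node [10,10,8,10,8] (.node [10,8] .nil .nil) (.node [8,10,8,8,8] .nil .nil))) (.node [10,10,8] (.node [10] (.node [10,8,10,8,8] .nil .nil) (.node [10,10,8,10,8] .nil .nil)) (.node [10,8,8,8] (.node [10,8] .nil .nil) .nil))) (.node [8,8,10,10,10] (.node [10,10,8,10,8] (.node [8,8,8,8,8,8] (.node [10,10,8,8,8] .nil .nil) (.node [8,10,8,8,8,8] .nil .nil)) (.node [8,8,10,10] (.node [10,8,8,10] .nil .nil) .nil)) (.node [8,10,8,8,10] (.node [8,8,10,8,8] (.node [10,10,10,8,8,10] .nil .nil) (.node [10,8,10,8,10,10] .nil .nil)) (.node [8,8,10,8,8] (.node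 [8,8,10,10] .nil .nil) .nil))))) (.node [10,10,8] (.node [8,8,8,8,8,8] (.node [10] (.node [8,10,8,10] (.node [8,8,8,8,8,8] (.node [8,8,8,8,8] .nil .nil) (.node [10,10,8,10,8] .nil .nil)) (.node [10,10,8,8,10,10] (.node [8,8,10,8] .nil .nil) (.node [8,8,8,8,8,8] .nil .nil))) (.node [8,8,10,10] (.node [8,10,8,8,8,8] (.node [8] .nil .nil) (.node [10,8,8] .nil .nil)) (.node [10,8,8,8,8] (.node [8,8,10,8,8] .nil .nil) .nil))) (.node [10,8,10,8] (.node [10,10,10] (.node [8,10,8,10,10] (.node [10,8,8] .nil .nil) (.node [10,10,10,8,8,10] .nil .nil)) (.node [8,8,8] (.node [8,8,10] .nil .nil) .nil)) (.node [8,10,10] (.node [8,10,10,10,8] (.node [10,8,10,8,10] .nil .nil) (.node [10,8,8,8] .nil .nil)) (.node [8,10,8] (.node [10,10,8,8,8] .nil .nil) .nil)))) (.node [10,10,8,10,10] (.node [10,10,10,8,8,10] (.node [10] (.node [8] (.node [10,10,8,8,8] .nil .nil) (.node [8,8,10,10,10] .nil .nil)) (.node [8,10,8,8,8,8] (.node [10,8,10,8,8] .nil .nil) (.node [10,10,10,8]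 .nil .nil))) (.node [8,10,8,10] (.node [10,8,10,8,8] (.node [8,10,10,10,8] .nil .nil) (.node [] .nil .nil)) (.node [8,10,10,10] (.node [10,8,10] .nil .nil) .nil))) (.node [10,8,8,8,8] (.node [] (.node [8,10,8,10] (.node [10,10,8,10,8] .nil .nil) (.node [10,10] .nil .nil)) (.node [8,10,8,10] (.node [8,8,10,10] .nil .nil) .nil)) (.node [8,10,10,10] (.node [10,10,8] (.node [8,8,8] .nil .nil) (.node [8,10,10] .nil .nil)) (.node [10,10,10,8,8,10] (.node [8,10,8,8,10] .nil .nil) .nil))))))))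

/-- Part of `moveWord`. -/
noncomputable def moveWord_l_r_l_l : Arr (List ℕ) :=
  .node [8,8,8] moveWord_l_r_l_l_l moveWord_l_r_l_l_r

/-- Part of `moveWord`. -/
noncomputable def moveWord_l_r_l_r_l : Arr (List ℕ) :=
  (.node [10,10,8,10,8] (.node [10,8,8] (.node [8,10,10,10] (.node [10,10,8,8,10] (.node [10,10,8,10,8] (.node [10,10,10,8] (.node [10,8,8] (.node [10,8,10,8] (.node [8,10,10,10,8] .nil .nil) (.node [10,10,10,8,8] .nil .nil)) (.node [10,10,10] (.node [8,10,8,8] .nil .nil) (.node [8,8] .nil .nil))) (.node [8,10,10,10,8] (.node [10,10,8,8] (.node [10,8,10,8,8,8] .nil .nil) (.node [10,10,10,8,8,10] .nil .nil)) (.node [10,8,8] (.node [10,10,10,8] .nil .nil) .nil))) (.node [10,8,10,10,10,8] (.node [10,8,10,10,10] (.node [8,10] (.node [10] .nil .nil) (.node [10,8,10,10,10,8] .nil .nil)) (.node [8] (.node [8,8,10,8] .nil .nil) (.node [8,8,8,8,8,8] .nil .nil))) (.node [8,8] (.node [8,10,8,8,8,8] (.node [10,8,8] .nil .nil) (.node [8,10,8,8,8,8] .nil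 .nil)) (.node [8,10,8,8,10] (.node [10,10,10,8] .nil .nil) .nil)))) (.node [10,8,10,8,10,10] (.node [10,8,10,8,8] (.node [8,8,8,8] (.node [8,8,8,8,8,8] (.node [10,8,10,10,10,8] .nil .nil) (.node [8,8,8,8,8] .nil .nil)) (.node [10,10,8,10] (.node [8,8,10,10] .nil .nil) (.node [8,8,8,8] .nil .nil))) (.node [10,10,8,8,10] (.node [8,10,10,10] (.node [8,8,10] .nil .nil) (.node [8,8] .nil .nil)) (.node [8,8,10] (.node [10,10,10,8,8,10] .nil .nil) .nil))) (.node [10,8,10,8] (.node [8,10,8,10] (.node [10] (.node [10,10,8,8] .nil .nil) (.node [10,10,8,8,10] .nil .nil)) (.node [10,8,8,10,10] (.node [10,10,8,10,8] .nil .nil) .nil)) (.node [10,8,10] (.node [8,8,8,8,8] (.node [10,8,10,8] .nil .nil) (.node [8,10,8] .nil .nil)) (.node [8] (.node [10,10,10,8,8] .nil .nil) .nil))))) (.node [8,10,8,8] (.node [10,8,10,10,10,8] (.node [10,10,10,8,8] (.node [10,8,8,8,8] (.node [10,8,10,8,10] (.node [10,8,8,10] .nil .nil) (.node [8,8,10,10,10] .nil .nil)) (.node [10,10] (.node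 [10,10,8,8] .nil .nil) (.node [] .nil .nil))) (.node [10,8,8,10] (.node [10,8] (.node [10,10,8,8,10] .nil .nil) (.node [8,10,8] .nil .nil)) (.node [10,10,8,10,10] (.node [10,10] .nil .nil) .nil))) (.node [8,8,10,10] (.node [8,10,8,8,8] (.node [10,10,8,8,10] (.node [8,10,8,8,10] .nil .nil) (.node [8,10,8,8] .nil .nil)) (.node [8,10,8,10,10] (.node [10,10,10,8] .nil .nil) .nil)) (.node [8,10,8] (.node [10,8] (.node [8,10,8,8,8] .nil .nil) (.node [8,10,10] .nil .nil)) (.node [10,8,10,8,10,10] (.node [10,10,8,8,10,10] .nil .nil) .nil)))) (.node [10,8,10,8,10] (.node [8,8,10,10] (.node [10,8,10,8,8] (.node [10,10,10] (.node [10,8,10] .nil .nil) (.node [10,8,8,8,8] .nil .nil)) (.node [8] (.node [10,10,8,8,8] .nil .nil) (.node [8] .nil .nil))) (.node [10,8,8,8] (.node [8] (.node [10,10,10,8,8,10] .nil .nil) (.node [10,8,10,8,8,8] .nil .nil)) (.node [10,8,8,8] (.node [10,8,10,8,10,10] .nil .nil) .nil))) (.node [] (.node [8,8,10,8,8] (.node [8,8,10] (.node [10,8,10,8,8,8]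 .nil .nil) (.node [10,10,8,8,8] .nil .nil)) (.node [8,10,10,10] (.node [10,10,10] .nil .nil) .nil)) (.node [10,10] (.node [10,10,8,8,10,10] (.node [8,8] .nil .nil) (.node [10,10,8,8] .nil .nil)) (.node [10,10,8] (.node [10,10,10,8,8] .nil .nil) .nil)))))) (.node [10,8,8,10] (.node [10,10,10,8,8,10] (.node [8,8,8,8,8,8] (.node [10,8,10,10] (.node [10,8,10] (.node [8,8,8,8,8] (.node [8,8,8,8,8,8] .nil .nil) (.node [10,8,8] .nil .nil)) (.node [10,8,10,8,8] (.node [8,8,8] .nil .nil) (.node [8,10,10,10,8] .nil .nil))) (.node [8,10,10] (.node [8,10,8,10] (.node [8,10,8] .nil .nil) (.node [10,10,8,8,8] .nil .nil)) (.node [10,10,10] (.node [10,8] .nil .nil) .nil))) (.node [10,10,8,10,10] (.node [8,10,8,10] (.node [10,8,8,10,10] (.node [10,10,8,8] .nil .nil) (.node [10,10,8,8,10] .nil .nil)) (.node [8,10] (.node [8,8,10,8] .nil .nil) (.node [10,8] .nil .nil))) (.node [8,8,8,8] (.node [8,10,10,10] (.node [8,10] .nil .nil) (.node [10,10,10] .nil .nil)) (.node [10,8,10,10,10,8]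 (.node [8,8,8,8,8] .nil .nil) .nil)))) (.node [8,10,8,8,8,8] (.node [8,10,10] (.node [8,10,8,10,10] (.node [8,10,8,10] (.node [10,10,10,8] .nil .nil) (.node [8,10,8,8] .nil .nil)) (.node [10,8,10,8] (.node [8,10,8,8,10] .nil .nil) (.node [10,10,10,8] .nil .nil))) (.node [10,8,10,8] (.node [10,8,10,10,10] (.node [8,8,10,8] .nil .nil) (.node [8,8,10,8,8] .nil .nil)) (.node [10,8,8,10,10] (.node [10,10,8,10] .nil .nil) .nil))) (.node [10,8,10,10,10,8] (.node [10,8,10,10,10,8] (.node [10,8] (.node [8,10,10] .nil .nil) (.node [8,10,8,8,10] .nil .nil)) (.node [10,8,10,8,8] (.node [8] .nil .nil) .nil)) (.node [10,8,10,8] (.node [8,8,8] (.node [10,10,8,10,8] .nil .nil) (.node [8,10,10,10,8] .nil .nil)) (.node [10,10,8] (.node [8,10,10,10,8] .nil .nil) .nil))))) (.node [8,10,8,8,10] (.node [10,10,10,8,8] (.node [8,10,8,10] (.node [8,10,10] (.node [8,8,8,8,8] (.node [10,10,8,10,10] .nil .nil) (.node [10,8,8] .nil .nil)) (.node [10,8,10,8,8,8] (.node [10] .nil .nil)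 (.node [8,10,10,10] .nil .nil))) (.node [10,10,8,8,8] (.node [8,8,10,10,10] (.node [8,10,8,8] .nil .nil) (.node [10,8,10,8] .nil .nil)) (.node [10,8,10,10,10,8] (.node [8,8,8,8,8,8] .nil .nil) .nil))) (.node [8,8,8] (.node [8,10,8,10,10] (.node [10,8,10,8,8,8] (.node [10,8,8,10,10] .nil .nil) (.node [8,8,8,8,8] .nil .nil)) (.node [10,8,8] (.node [10,8,10,8,8,8] .nil .nil) .nil)) (.node [10,10] (.node [8,8,10,10] (.node [8,10] .nil .nil) (.node [8,8,8,8,8,8] .nil .nil)) (.node [10,10,8] (.node [8,8,10,10,10] .nil .nil) .nil)))) (.node [10,8] (.node [8,8,10,10] (.node [10,8,8,8] (.node [10,10,8,8,10,10] (.node [8,10,8,8,10] .nil .nil) (.node [10,10,8,10] .nil .nil)) (.node [10,8,10,8,8] (.node [8,8] .nil .nil) (.node [8,8,8] .nil .nil))) (.node [8,8,8,8] (.node [8,8,10,8,8] (.node [8,10,10,10,8] .nil .nil) (.node [10,8,10,8,8,8] .nil .nil)) (.node [10,8,10,10,10] (.node [8,8,10,8,8] .nil .nil) .nil))) (.node [] (.node [8,10,8,8] (.node [8,8,10,10] (.node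 [10,10,10,8] .nil .nil) (.node [10,8,10] .nil .nil)) (.node [8,8,10,8] (.node [10,10,8,10,8] .nil .nil) .nil)) (.node [8,8,10,10] (.node [10,8,8] (.node [8,10] .nil .nil) (.node [10,8,10,10,10] .nil .nil)) (.node [10,8,8,10] (.node [8,8,8,8] .nil .nil) .nil))))))) (.node [10,10,8,8,10,10] (.node [10,8,10,8] (.node [8,10,8] (.node [8,8,8,8,8,8] (.node [8,10] (.node [10] (.node [8] (.node [10,8,10,10] .nil .nil) (.node [8,8,10] .nil .nil)) (.node [10,8,10,10,10] (.node [8,8,10,10] .nil .nil) (.node [8,8,10,10] .nil .nil))) (.node [10] (.node [10,8,10,8,10,10] (.node [10,10,8,10] .nil .nil) (.node [8,8,10] .nil .nil)) (.node [8,8,10,10] (.node [8,8,8,8] .nil .nil) .nil))) (.node [10,8] (.node [8,10,8] (.node [10,8,10,8,10,10] (.node [8,8,8,8] .nil .nil) (.node [8,10,8] .nil .nil)) (.node [10,10,8,8,10,10] (.node [10,8,10,8] .nil .nil) (.node [10] .nil .nil))) (.node [8,8,8,8,8] (.node [10,10,8,10,10] (.node [10,8] .nil .nil) (.node [8,10,8,8,8,8] .nil .nil))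 (.node [8] (.node [10,8,10,8,10] .nil .nil) .nil)))) (.node [8,8,8,8,8,8] (.node [8,10,8,8] (.node [10,8] (.node [10,10,8,10,10] (.node [10,10,10,8,8,10] .nil .nil) (.node [10,8,10,10,10] .nil .nil)) (.node [8,8,10,8] (.node [10,8,10,8,8,8] .nil .nil) (.node [8,8,8] .nil .nil))) (.node [10,8,8,10,10] (.node [10,8,10,8,8,8] (.node [8] .nil .nil) (.node [10,8,8,8,8] .nil .nil)) (.node [8,8,10,8] (.node [10] .nil .nil) .nil))) (.node [8,10,8] (.node [8,8,8] (.node [8,10] (.node [8,10,8,8,8,8] .nil .nil) (.node [10] .nil .nil)) (.node [8,8,10,8,8] (.node [10] .nil .nil) .nil)) (.node [10,8,10,8,8] (.node [10,8,8] (.node [10,8,10,10,10] .nil .nil) (.node [8,8,8,8,8] .nil .nil)) (.node [8,10,8,10] (.node [8] .nil .nil) .nil))))) (.node [8,8] (.node [10,10,8,8] (.node [8,10,8,10] (.node [8,10,10,10,8] (.node [10,8,8,10,10] (.node [8,8,8,8,8] .nil .nil) (.node [10,10,10] .nil .nil)) (.node [10,8,8,10] (.node [8,8,10,10] .nil .nil) (.node [10,8,10,8] .nil .nil)))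 (.node [10,10,8] (.node [10,8,8,8] (.node [10,8,10,8,10,10] .nil .nil) (.node [8,10,10,10] .nil .nil)) (.node [8] (.node [10,10,8,10,8] .nil .nil) .nil))) (.node [8,8,10,8,8] (.node [8,8,8,8] (.node [8,8,8,8] (.node [10,8,8,8,8] .nil .nil) (.node [8,8] .nil .nil)) (.node [10,10,8,8,10] (.node [8,10,8,8,8,8] .nil .nil) .nil)) (.node [10,10,8,8,10] (.node [8,10,8,8] (.node [8,10,8,10] .nil .nil) (.node [8,10,8] .nil .nil)) (.node [10,10,8,8,10,10] (.node [8,8,10] .nil .nil) .nil)))) (.node [10,8,10,10,10] (.node [8,8,8] (.node [8,10,8,10,10] (.node [10,8,10,8,8,8] (.node [8,10,8,8,8,8] .nil .nil) (.node [10,8,10,10,10,8] .nil .nil)) (.node [10,10,8] (.node [8,8,8,8,8] .nil .nil) (.node [8] .nil .nil))) (.node [8,8,8,8] (.node [10,8,8,8,8] (.node [10,8,10,10,10,8] .nil .nil) (.node [10,10,10,8] .nil .nil)) (.node [10,10,10,8,8,10] (.node [10,10,10] .nil .nil) .nil))) (.node [10,10] (.node [10,8,8,8,8] (.node [10,8,10] (.node [10,8,10,10,10,8] .nil .nil) (.node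 [10,8] .nil .nil)) (.node [10,10,8,10,10] (.node [10,10,10,8,8] .nil .nil) .nil)) (.node [8,10] (.node [8,10,8,10,10] (.node [10,8,10,10,10] .nil .nil) (.node [8,10,8] .nil .nil)) (.node [8] (.node [8,8,8,8,8,8] .nil .nil) .nil)))))) (.node [10] (.node [10,10,8,10] (.node [8,8,10,8,8] (.node [8,10,8,10] (.node [10,10,10,8] (.node [10,10,8,10] (.node [10,8,10,10] .nil .nil) (.node [8] .nil .nil)) (.node [10,8,10,8,10] (.node [8,10,8,8] .nil .nil) (.node [10,8,10,10,10,8] .nil .nil))) (.node [] (.node [10,8,10,8,8] (.node [10,8,10,10] .nil .nil) (.node [8,10,8,10] .nil .nil)) (.node [10] (.node [10,8,10,8,10] .nil .nil) .nil))) (.node [10,8,8,10,10] (.node [8,10,8,8,8,8] (.node [10,10,8,8,8] (.node [10,10,8,10,10] .nil .nil) (.node [10,10,10] .nil .nil)) (.node [10,8,8,10,10] (.node [8,10,10,10] .nil .nil) (.node [8,8,10,8,8] .nil .nil))) (.node [8,10,8,8,10] (.node [10,10,8] (.node [8,8,10,10,10] .nil .nil) (.node [10,10,8,10,10] .nil .nil)) (.node [10,10,10]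 (.node [10,8,10,8,10] .nil .nil) .nil)))) (.node [10,10,8,10,10] (.node [8,8,8] (.node [10,10,8,8] (.node [10,8,10,8,10] (.node [8,10,10,10] .nil .nil) (.node [10] .nil .nil)) (.node [8,10] (.node [8,8,10,10,10] .nil .nil) (.node [10,8] .nil .nil))) (.node [8,8,10,10,10] (.node [10,10,8,8,10,10] (.node [10,10,8,10,10] .nil .nil) (.node [8,10,8] .nil .nil)) (.node [10,8,10,8,8,8] (.node [10,10,10,8] .nil .nil) .nil))) (.node [10,8,10,10,10] (.node [10,10,8,10] (.node [8,10,8,8,8] (.node [10,10,10,8,8] .nil .nil) (.node [10,8,8,8] .nil .nil)) (.node [10,10,10,8,8,10] (.node [8,10,8,8,8,8] .nil .nil) .nil)) (.node [8,10,8,8,8,8] (.node [8,8] (.node [10,10,8,8,8] .nil .nil) (.node [10,10,10,8,8] .nil .nil)) (.node [10,10,10] (.node [10,10,8,8,10,10] .nil .nil) .nil))))) (.node [10,8,10] (.node [10,8,8,10,10] (.node [8,8,8,8] (.node [10,8,10,8,8] (.node [10,10] (.node [10,8,10,8] .nil .nil) (.node [10,10,10,8] .nil .nil)) (.node [10,8,10,10,10] (.node [8,8,10]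 .nil .nil) (.node [8,10,10,10] .nil .nil))) (.node [10,8] (.node [8,10,8,8] (.node [10,10] .nil .nil) (.node [10,8,10,10] .nil .nil)) (.node [10,10] (.node [10,8,8,10] .nil .nil) .nil))) (.node [10,8,8,8,8] (.node [10,10,8] (.node [8,10] (.node [10,8,10,10] .nil .nil) (.node [8,8] .nil .nil)) (.node [8,10,8,10] (.node [10,8,8] .nil .nil) .nil)) (.node [10,10,8,8,10,10] (.node [8,10,8,8,8,8] (.node [10,8,10,8,10,10] .nil .nil) (.node [8,8,8,8,8] .nil .nil)) (.node [8,8,10,10] (.node [10] .nil .nil) .nil)))) (.node [10,8,8,8] (.node [8,8,10,10] (.node [8,10,8,10,10] (.node [8,10,8,8] (.node [] .nil .nil) (.node [10,8,10,10,10,8] .nil .nil)) (.node [10,8,10,8,8] (.node [10,8,10,8] .nil .nil) (.node [10,10,8,10,10] .nil .nil))) (.node [10] (.node [8,10,10,10] (.node [8,8,10] .nil .nil) (.node [10,10,8,8,10] .nil .nil)) (.node [8,10,10,10] (.node [8,10,8,8,10] .nil .nil) .nil))) (.node [8,8,8,8] (.node [8,10,8,10] (.node [10,8,10,8,8,8] (.node [8,10,10] .nil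 .nil) (.node [8,8,8,8,8] .nil .nil)) (.node [10,8,10,10,10,8] (.node [8,10,8,8] .nil .nil) .nil)) (.node [10,8,10,8,8] (.node [10,10,10,8,8] (.node [8,10,8,8,8,8] .nil .nil) (.node [10,10,10,8,8,10] .nil .nil)) (.node [10,10,10] (.node [10,10,10,8,8] .nil .nil) .nil))))))))

/-- Part of `moveWord`. -/
noncomputable def moveWord_l_r_l_r_r : Arr (List ℕ) :=
  (.node [8,10,10,10] (.node [8,10,8,8,8,8] (.node [10,8,10,10,10,8] (.node [10,8,8,10,10] (.node [8,10,8] (.node [8,10,8] (.node [10] (.node [8] (.node [8,8,10,10,10] .nil .nil) (.node [10,8,10,10,10] .nil .nil)) (.node [8,8] (.node [8,8,10,8] .nil .nil) (.node [10,8] .nil .nil))) (.node [10,8] (.node [10,8,10,8,8,8] (.node [8,10,8] .nil .nil) (.node [8,10,8,10] .nil .nil)) (.node [10,10,8,10] (.node [10,8,8,8,8] .nil .nil) .nil))) (.node [10,8,8,8] (.node [10,10,8] (.node [8,8,8,8,8] (.node [10,10,10] .nil .nil) (.node [10,8,10,8] .nil .nil)) (.node [8] (.node [10,8] .nil .nil) (.node [10,8,8] .nil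 .nil))) (.node [8,10] (.node [8,8,10,10,10] (.node [8,10,10] .nil .nil) (.node [10,8,10,10,10] .nil .nil)) (.node [10,8,10,10,10] (.node [10,10,10,8] .nil .nil) .nil)))) (.node [10,10] (.node [8,10,8] (.node [10,8,8] (.node [8,8,10] (.node [10,10] .nil .nil) (.node [10,10] .nil .nil)) (.node [8,8,10,8,8] (.node [10,8,10,10] .nil .nil) (.node [10,8,8,10] .nil .nil))) (.node [8,10,8,10,10] (.node [8,10,8,8,8,8] (.node [8,8,10,8] .nil .nil) (.node [8,10,8,8,8] .nil .nil)) (.node [8,10,10,10] (.node [8,8] .nil .nil) .nil))) (.node [8,10,8,8,10] (.node [8,10,8] (.node [8,10,8,8,8,8] (.node [8,10,8,8] .nil .nil) (.node [] .nil .nil)) (.node [10,10,8,10,8] (.node [10,10,8,8,10] .nil .nil) .nil)) (.node [10,10,10,8,8] (.node [8,10,10,10] (.node [8,10,8,10] .nil .nil) (.node [8,10,10,10] .nil .nil)) (.node [8,8,8,8,8] (.node [10,8] .nil .nil) .nil))))) (.node [10,10,8,8,10,10] (.node [10,10,8,10] (.node [10,8,10,10] (.node [8,10,8,8] (.node [8,8,8,8,8] (.node [8,8,8]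 .nil .nil) (.node [10,10] .nil .nil)) (.node [8,10,10,10,8] (.node [10,10,8] .nil .nil) (.node [8,8,10,8] .nil .nil))) (.node [10,10,8,8,10] (.node [10,8,10,8,8,8] (.node [10,8,10,10,10] .nil .nil) (.node [8] .nil .nil)) (.node [8,8,8] (.node [10,8,10,10,10,8] .nil .nil) .nil))) (.node [10] (.node [10,10] (.node [8,10,8,10] (.node [8,10,8,8,8] .nil .nil) (.node [8,10,10,10] .nil .nil)) (.node [8,10,8,10,10] (.node [10,8,10,8,8,8] .nil .nil) .nil)) (.node [8,10,8,10] (.node [10,10,8,10,10] (.node [8,10,8,8,8] .nil .nil) (.node [10,8,10,8] .nil .nil)) (.node [8,10,10] (.node [8,10,10,10,8] .nil .nil) .nil)))) (.node [10,10,8,8,8] (.node [10,10,8,8,10] (.node [8,8,10,10,10] (.node [8,8] (.node [10,8,10,10,10] .nil .nil) (.node [10,10,10,8,8] .nil .nil)) (.node [10,10,8,8,10,10] (.node [8,8,8,8] .nil .nil) (.node [8,10,8,8,10] .nil .nil))) (.node [10,8,8,10] (.node [8,8,8,8] (.node [10] .nil .nil) (.node [10,8,10] .nil .nil)) (.node [8,8,8] (.node [10,8,10,10]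 .nil .nil) .nil))) (.node [10,8,10,8] (.node [10,10,8,10,10] (.node [10,10] (.node [8,10,8,8,10] .nil .nil) (.node [8,8,10,10] .nil .nil)) (.node [10,8,8,10,10] (.node [8,10,8,8,8,8] .nil .nil) .nil)) (.node [8,10,10] (.node [10,8,8] (.node [8,10,8,8] .nil .nil) (.node [10,8,10,10,10] .nil .nil)) (.node [10,8,10,8] (.node [10,8,10] .nil .nil) .nil)))))) (.node [10,8,8,8,8] (.node [8,8,10,10] (.node [10,8,8,10] (.node [8,8,10,10,10] (.node [10,10,8,10,10] (.node [8,8,10,10,10] (.node [8,8,8,8,8] .nil .nil) (.node [8] .nil .nil)) (.node [10,10,8,8,10] (.node [8,10,8,8,8,8] .nil .nil) (.node [8,10,8,8] .nil .nil))) (.node [8,10,10,10] (.node [8,10,8,8,8] (.node [10,10,8,8] .nil .nil) (.node [8,10] .nil .nil)) (.node [] (.node [8,10,10] .nil .nil) .nil))) (.node [8,10,8,8,8,8] (.node [10,10,10,8] (.node [10] (.node [8,10,10,10,8] .nil .nil) (.node [8,8,10,8] .nil .nil)) (.node [10,8] (.node [8,10,8,8,8] .nil .nil) (.node [8,8,8] .nil .nil))) (.node [10,8,10]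 (.node [8,8,10,10] (.node [10,8,10,10,10] .nil .nil) (.node [10,10,8,8] .nil .nil)) (.node [10,8,10,10,10,8] (.node [10] .nil .nil) .nil)))) (.node [10,10,8,8,8] (.node [10,8,10,8,8] (.node [8,8,10] (.node [8,10,8] (.node [8,10,8,8] .nil .nil) (.node [8,10,10,10] .nil .nil)) (.node [10,10,8,8,8] (.node [10,10,10,8] .nil .nil) (.node [10,10,8,8,8] .nil .nil))) (.node [10,10,8,8] (.node [] (.node [10,8,10,8,10] .nil .nil) (.node [8,8,8,8,8] .nil .nil)) (.node [8,10,8] (.node [10,8,8] .nil .nil) .nil))) (.node [10,8,10,8,10,10] (.node [10,8,10,8,10,10] (.node [10,8] (.node [8,10,8,10] .nil .nil) (.node [8] .nil .nil)) (.node [10,8,10,8,8] (.node [] .nil .nil) .nil)) (.node [10,8,8,10] (.node [10,10,8,8,10,10] (.node [10,10,8,10,8] .nil .nil) (.node [10,10,8,8,8] .nil .nil)) (.node [8,10,8] (.node [10,8,10,10,10,8] .nil .nil) .nil))))) (.node [8,10,8,8] (.node [10,10,8,10,8] (.node [8,8] (.node [10,8,8,10] (.node [8,10,8] (.node [10,10,8] .nil .nil) (.node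 [10,10,10,8,8] .nil .nil)) (.node [10,8,8,10,10] (.node [10,10,8,8,10] .nil .nil) (.node [10,10,8] .nil .nil))) (.node [10,10,10] (.node [8,10,8,10,10] (.node [8,10,8] .nil .nil) (.node [10,8,8] .nil .nil)) (.node [] (.node [8,10,8,8,10] .nil .nil) .nil))) (.node [8,8,10] (.node [8,8,8,8,8] (.node [8,10,8,8,8,8] (.node [10,10,8,8,10] .nil .nil) (.node [8,10,8] .nil .nil)) (.node [8,10,8] (.node [10,10,10,8,8] .nil .nil) .nil)) (.node [8,10,8,8,8] (.node [10,10,8,8,10] (.node [8,8,8,8] .nil .nil) (.node [10,8,10,10] .nil .nil)) (.node [10,8,8] (.node [8,10,10] .nil .nil) .nil)))) (.node [10,8,10] (.node [8,10,8] (.node [8,8,8,8,8] (.node [10,10,8,10,8] (.node [8,8,8,8] .nil .nil) (.node [10,8,10,10,10,8] .nil .nil)) (.node [8,10,10] (.node [8,8,10,8,8] .nil .nil) (.node [8,8,10,10,10] .nil .nil))) (.node [8,8,10,10] (.node [8,8,8,8,8,8] (.node [10,10,10,8] .nil .nil) (.node [8,10,10] .nil .nil)) (.node [8,10,10,10,8] (.node [] .nil .nil) .nil))) (.node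 [10,8,8] (.node [10,10,8,10] (.node [8,8,10] (.node [10] .nil .nil) (.node [10,10,10,8] .nil .nil)) (.node [8,10,8,10,10] (.node [8,10,8,8] .nil .nil) .nil)) (.node [10,8,8,8] (.node [10,10,8,8,10] (.node [8,8,8,8] .nil .nil) (.node [10,10,10] .nil .nil)) (.node [] (.node [8,8,8,8] .nil .nil) .nil))))))) (.node [8,8,8,8] (.node [10,8,8,8] (.node [10,8,8,10,10] (.node [10,8,8,10,10] (.node [10,10,10,8,8,10] (.node [10,8,10,8,8,8] (.node [10,8,8,10,10] (.node [10,8,10,8,10] .nil .nil) (.node [8,8] .nil .nil)) (.node [10,8,8,10] (.node [8,10,10,10,8] .nil .nil) (.node [10,8,10,8,10] .nil .nil))) (.node [8,10,8] (.node [10,10,8] (.node [10,8,10,10,10] .nil .nil) (.node [8,8,8,8,8] .nil .nil)) (.node [10,8,8] (.node [8,8,8,8,8,8] .nil .nil) .nil))) (.node [10,8,10,8,10] (.node [10,8,10,8,10] (.node [10,10,10,8,8] (.node [10,8,8,10,10] .nil .nil) (.node [10,8,10] .nil .nil)) (.node [10,10] (.node [10,8,10,8,8,8] .nil .nil) (.node [8,10,8,8,10] .nil .nil))) (.node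 [10,8,10,8,8] (.node [10,10,8,10,10] (.node [10,8,8,10] .nil .nil) (.node [10,8,10,8] .nil .nil)) (.node [8,10,8,8,10] (.node [10,8] .nil .nil) .nil)))) (.node [8,10,8,8,10] (.node [10,10,8,8] (.node [10,8,10,8] (.node [8,8,10,8,8] (.node [8,8,8,8] .nil .nil) (.node [10,10,8,8] .nil .nil)) (.node [] (.node [] .nil .nil) (.node [8,8,8] .nil .nil))) (.node [10,8] (.node [10,8,8,10,10] (.node [10,8,10,8,10] .nil .nil) (.node [10,10,8,10] .nil .nil)) (.node [10,8,8,8] (.node [10,8,10,8,10,10] .nil .nil) .nil))) (.node [10,10,10,8] (.node [8,10,8] (.node [10,8,10,10,10] (.node [8,10,8,10] .nil .nil) (.node [10,8,8] .nil .nil)) (.node [10,8,10,10,10] (.node [8,8,10,8] .nil .nil) .nil)) (.node [10,8,10] (.node [10,8] (.node [10,8,8,8] .nil .nil) (.node [10,10,8] .nil .nil)) (.node [10,8,10,10,10] (.node [10,8,8,10,10] .nil .nil) .nil))))) (.node [8,10,10,10] (.node [8,10,8,8,8] (.node [8] (.node [10,8,10,8,8,8] (.node [8,10] (.node [10,10,8] .nil .nil) (.node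 [8,8,10,8,8] .nil .nil)) (.node [10,8,8] (.node [8,8,8,8,8,8] .nil .nil) (.node [10,10,10,8,8] .nil .nil))) (.node [10,8,10,8,8,8] (.node [8,10,8,10,10] (.node [10,8,10,8,10,10] .nil .nil) (.node [10] .nil .nil)) (.node [10,8,10,8,10] (.node [8] .nil .nil) .nil))) (.node [8,8,8] (.node [8,10,8,8,8,8] (.node [10,10,8,10,10] (.node [8,10,8] .nil .nil) (.node [10,8,10,8,10,10] .nil .nil)) (.node [8,8,8] (.node [10,10,10] .nil .nil) .nil)) (.node [8,10,8,10,10] (.node [8,10] (.node [10,8,8] .nil .nil) (.node [10,10,8,8,10,10] .nil .nil)) (.node [10,8,10,8,10] (.node [10,8,10,8,8] .nil .nil) .nil)))) (.node [8,10,10,10] (.node [8,10,8,8] (.node [10,10,8,10] (.node [10,10,10,8,8,10] (.node [10] .nil .nil) (.node [8,8,10,10] .nil .nil)) (.node [10,8,8,10] (.node [10,10,8,10,8] .nil .nil) (.node [10,8,10] .nil .nil))) (.node [10,10,8,8] (.node [8,8,10,10] (.node [8,10,8,8,8] .nil .nil) (.node [10,8,8,8] .nil .nil)) (.node [8,8,10] (.node [10,10,8,10,10] .nil .nil)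 .nil))) (.node [10] (.node [10,10,10] (.node [10,8,10,10,10] (.node [8,10,10,10,8] .nil .nil) (.node [10,8,8,10] .nil .nil)) (.node [8,8,10] (.node [8,10,8,8,8,8] .nil .nil) .nil)) (.node [10,8,10,8,10,10] (.node [8,8,8] (.node [8,10,8] .nil .nil) (.node [8,10,10,10,8] .nil .nil)) (.node [10,10,8,8] (.node [10,10] .nil .nil) .nil)))))) (.node [8,10,8,8,8] (.node [8,10,8,10] (.node [10,10,8,8,10,10] (.node [10,8,10] (.node [10,8,10] (.node [10,8,10,10] (.node [8,8,8] .nil .nil) (.node [8] .nil .nil)) (.node [10,8,8] (.node [10,8,8,8] .nil .nil) (.node [8,8,8,8,8] .nil .nil))) (.node [8,10,8] (.node [8,10,8,8,8] (.node [10,8,10,8,8] .nil .nil) (.node [10,8,8] .nil .nil)) (.node [8,10,8,8,8] (.node [10,10] .nil .nil) .nil))) (.node [8,10] (.node [10,8] (.node [10] (.node [8,10,8,8,8] .nil .nil) (.node [10,8] .nil .nil)) (.node [10,10,8] (.node [8,8,8] .nil .nil) (.node [10,10,8,8,8] .nil .nil))) (.node [8,10,8,8,8,8] (.node [10,10,10] (.node [10,10,10] .nil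 .nil) (.node [8,8,10] .nil .nil)) (.node [8,10,10,10,8] (.node [8,10,8] .nil .nil) .nil)))) (.node [8,8,10] (.node [10,8,10,8,10,10] (.node [8,10,10] (.node [10,8,8,10] (.node [8,8,8,8,8] .nil .nil) (.node [10,8,8,8,8] .nil .nil)) (.node [10] (.node [8,8,8,8,8] .nil .nil) (.node [10,8,10,10] .nil .nil))) (.node [10,10,8,8,8] (.node [8,10,8,8,10] (.node [10,10,8] .nil .nil) (.node [10,10,8,10,10] .nil .nil)) (.node [10,8,10,8,10] (.node [10,8,10,8] .nil .nil) .nil))) (.node [10,8,10] (.node [10,10,10,8,8,10] (.node [10] (.node [10,8,10,10] .nil .nil) (.node [8,10,8,8] .nil .nil)) (.node [8,8,8,8,8] (.node [10] .nil .nil) .nil)) (.node [8,8,10,8,8] (.node [10,10,8,8,10] (.node [8,8,10,10] .nil .nil) (.node [10,10,8,8,10,10] .nil .nil)) (.node [8,8,10,8,8] (.node [10,10,8,10] .nil .nil) .nil))))) (.node [10,8,10,8] (.node [10,8,10,8,10,10] (.node [10,10,8] (.node [8,8,8,8,8,8] (.node [10,8,8,8] (.node [10,8,8,10,10] .nil .nil) (.node [10,10,10,8] .nil .nil))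 (.node [10] (.node [10,8,10,10,10,8] .nil .nil) (.node [10,10,8,8,10] .nil .nil))) (.node [10,10,10,8] (.node [8,10,8,10,10] (.node [10,8,8,10,10] .nil .nil) (.node [10,10,8,8] .nil .nil)) (.node [8] (.node [10,8,8,10] .nil .nil) .nil))) (.node [10,10,10,8,8] (.node [10,10,8] (.node [8,10,8,10,10] (.node [10,8,8,8,8] .nil .nil) (.node [10,8,10,10,10] .nil .nil)) (.node [10,10] (.node [8,10,10] .nil .nil) .nil)) (.node [10,8,8] (.node [8] (.node [8,10,8] .nil .nil) (.node [8,8,8,8] .nil .nil)) (.node [8,8,8] (.node [10,10,10,8,8] .nil .nil) .nil)))) (.node [8,10,8,8,8] (.node [10,10,8,10] (.node [10,10,10,8,8,10] (.node [10,8,10,8,10,10] (.node [10,8,10,8] .nil .nil) (.node [10,8,10,10,10] .nil .nil)) (.node [8,8,10,8,8] (.node [8,8] .nil .nil) (.node [10,8,10,10] .nil .nil))) (.node [10,10,8,10] (.node [8,10] (.node [8,8,8,8] .nil .nil) (.node [8,10,10,10,8] .nil .nil)) (.node [10,10,8,8,8] (.node [10,10,8,10,10] .nil .nil) .nil))) (.node [8,10,8,8,10]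 (.node [10,10,8] (.node [8,10,8,8] (.node [8,8,8,8,8] .nil .nil) (.node [10,10,10,8,8] .nil .nil)) (.node [] (.node [10,8,8,8,8] .nil .nil) .nil)) (.node [10,10] (.node [] (.node [10] .nil .nil) (.node [8,10,8] .nil .nil)) (.node [10,10] (.node [10,10,8,8,8] .nil .nil) .nil))))))))

/-- Part of `moveWord`. -/
noncomputable def moveWord_l_r_l_r : Arr (List ℕ) :=
  .node [8,10,8,8,10] moveWord_l_r_l_r_l moveWord_l_r_l_r_r

/-- Part of `moveWord`. -/
noncomputable def moveWord_l_r_l : Arr (List ℕ) :=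
  .node [10,8,10,8,8,8] moveWord_l_r_l_l moveWord_l_r_l_r

/-- Part of `moveWord`. -/
noncomputable def moveWord_l_r_r_l_l : Arr (List ℕ) :=
  (.node [8,10] (.node [8,8,10,8,8] (.node [8,8,10,10] (.node [8,10,8,8,8,8] (.node [10,8,8,10,10] (.node [10,10,8] (.node [10,10,10,8,8,10] (.node [8,8,10,10,10] (.node [10,10,8] .nil .nil) (.node [8,8,8,8,8,8] .nil .nil)) (.node [8,10,8,8,8,8] (.node [8,10,8] .nil .nil) (.node [8,10] .nil .nil))) (.node [8,8,10,10,10] (.node [10,10,10,8,8,10] (.node [10,8,8,8,8] .nil .nil) (.node [10,8,10] .nil .nil)) (.node [8,10,8,8] (.node [8,8,10,8] .nil .nil) .nil))) (.node [8,10,10] (.node [10,10,8,10,10] (.node [10,8,10,10,10] (.node [10,10,8] .nil .nil) (.node [8,10,10] .nil .nil)) (.node [10,8,10,8,10,10] (.node [10,10,10,8,8] .nil .nil) (.node [10,8] .nil .nil))) (.node [8,10,8,8] (.node [10] (.node [8,10,8,8,10] .nil .nil) (.node [8,8,8] .nil .nil)) (.node [10] (.node [8,10,10,10] .nil .nil) .nil)))) (.node [8,10,8,8,10]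 (.node [10,8,10] (.node [10,10,10,8,8] (.node [10,10,8,8] (.node [8] .nil .nil) (.node [8,8,10,10,10] .nil .nil)) (.node [10,8,8,10] (.node [8,8,8,8,8] .nil .nil) (.node [8,10,8,10] .nil .nil))) (.node [10,8,10,10] (.node [10,10,8,8,8] (.node [8,8,10,10,10] .nil .nil) (.node [8,10,8,8] .nil .nil)) (.node [8,8,8,8,8,8] (.node [10,8,10,8,8,8] .nil .nil) .nil))) (.node [8] (.node [10,8,8,8] (.node [10,8,10,8] (.node [8,10,8] .nil .nil) (.node [10,8,10,8,10] .nil .nil)) (.node [10,8,8,8,8] (.node [10,8,10,10] .nil .nil) .nil)) (.node [10,8,10,10,10,8] (.node [10,10,10,8,8] (.node [10] .nil .nil) (.node [10,8,10,8,8] .nil .nil)) (.node [10,10,8,8] (.node [10,10,8,8,10] .nil .nil) .nil))))) (.node [10,8,10,8,10] (.node [10,8,8,10] (.node [10,10,10,8,8,10] (.node [10,10,8,8,10,10] (.node [8,8,10] (.node [10,10,10] .nil .nil) (.node [10,8,10,8] .nil .nil)) (.node [10,10,10,8,8,10] (.node [10,10,10,8,8,10] .nil .nil) (.node [10,10,10,8,8,10] .nil .nil))) (.node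 [] (.node [10,8,10,8,8] (.node [10,10,8,8,10] .nil .nil) (.node [8] .nil .nil)) (.node [10,10,8,8,8] (.node [8,10,10,10] .nil .nil) .nil))) (.node [10,8,10,8,10,10] (.node [8,10,8] (.node [8,10,10,10,8] (.node [8,10,8,8] .nil .nil) (.node [8,10,8,8,10] .nil .nil)) (.node [10,8,10,10] (.node [10,10,8,10] .nil .nil) .nil)) (.node [10,10,8,10,10] (.node [8,10,10,10] (.node [8,10,8] .nil .nil) (.node [8,8,10,10,10] .nil .nil)) (.node [10,8] (.node [8,10,8,10] .nil .nil) .nil)))) (.node [8,8,10,8] (.node [8,8,10,10,10] (.node [8,10,8] (.node [10,10,10,8,8] (.node [8,10,8,10,10] .nil .nil) (.node [8,10,8,8,10] .nil .nil)) (.node [10,8,10,8] (.node [10,10,10,8,8] .nil .nil) (.node [10,10,8,8,10] .nil .nil))) (.node [8,10,8] (.node [8,8,8,8] (.node [10,10] .nil .nil) (.node [10,10,10] .nil .nil)) (.node [10,10] (.node [8,10,8,8,10] .nil .nil) .nil))) (.node [10,8,10,8,10,10] (.node [8,8,8,8,8] (.node [8,8,8,8,8] (.node [8,10,8,8,10] .nil .nil) (.node [10,10,8,8,10]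 .nil .nil)) (.node [10,8,10,8,10,10] (.node [8,10,8,8,8] .nil .nil) .nil)) (.node [8,10,8,8,8] (.node [10,8,8,10] (.node [10,8,10,10,10,8] .nil .nil) (.node [8,10,10,10,8] .nil .nil)) (.node [8,10,10,10] (.node [8,8,10,8,8] .nil .nil) .nil)))))) (.node [10,10,8] (.node [8,10,10] (.node [8,10,8] (.node [10,8,10,10] (.node [10,8,10,8,8] (.node [8,8] (.node [10,10,8,8] .nil .nil) (.node [10,8,10,8,8] .nil .nil)) (.node [10,10,8,8] (.node [8,10,8,8,8] .nil .nil) (.node [10,10,8,10,8] .nil .nil))) (.node [10,8] (.node [10,8,8,10] (.node [10,8,10,10,10] .nil .nil) (.node [8,10,8,8,10] .nil .nil)) (.node [10,10,8] (.node [8,10,8] .nil .nil) .nil))) (.node [8,10,10] (.node [8,10,8,10] (.node [10,10,10,8] (.node [10,8] .nil .nil) (.node [8,10,10,10,8] .nil .nil)) (.node [8,10,8] (.node [8,10,8,8,8,8] .nil .nil) (.node [10,8,8] .nil .nil))) (.node [8,10,8,8,10] (.node [10,10,8] (.node [8,10,10,10,8] .nil .nil) (.node [10,8,10,10] .nil .nil)) (.node [8,8,8,8,8] (.node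 [8,10,8,8,10] .nil .nil) .nil)))) (.node [10,10,8,8] (.node [8,8,8] (.node [8,10,8,8,8,8] (.node [8,10,10] (.node [8,8,10,10,10] .nil .nil) (.node [8,8,8,8] .nil .nil)) (.node [10,10,8,8] (.node [8,10,8,10] .nil .nil) (.node [10,10,8] .nil .nil))) (.node [10,10,10,8,8] (.node [8,8,8,8] (.node [10,8,10,10,10] .nil .nil) (.node [10,8,10,8] .nil .nil)) (.node [10,10,8,8] (.node [10,10,8,10,8] .nil .nil) .nil))) (.node [10,8,10,8,8] (.node [10,10,8,8,8] (.node [10,8,8,8] (.node [10,10,8] .nil .nil) (.node [8,8,8,8] .nil .nil)) (.node [8,10,8,8,8] (.node [10,8,10,8,10,10] .nil .nil) .nil)) (.node [10,8,10,10,10,8] (.node [8,10,8,8,10] (.node [8,10,8,10] .nil .nil) (.node [8,10,10,10,8] .nil .nil)) (.node [8,8] (.node [10,8,10,10] .nil .nil) .nil))))) (.node [8,8,10,8,8] (.node [10,8,10,8,10] (.node [10,10,8,8,10,10] (.node [8,10,8,8,10] (.node [10,10,8] (.node [10,8,8] .nil .nil) (.node [10,10,8,8,10] .nil .nil)) (.node [8,10,8,10] (.node [8,10,8,10] .nil .nil)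 (.node [8,10,8,8,10] .nil .nil))) (.node [8,8,8,8] (.node [8,8,8,8] (.node [8,8,10,10,10] .nil .nil) (.node [10,8,10] .nil .nil)) (.node [10,8] (.node [8,8,8,8,8] .nil .nil) .nil))) (.node [8,10,8,8,8,8] (.node [10,10,8,10,8] (.node [10,8,10,8,10] (.node [10,8,8,8] .nil .nil) (.node [10,8,8,10,10] .nil .nil)) (.node [10,10,10,8,8] (.node [10,10,8,8,10] .nil .nil) .nil)) (.node [10] (.node [8,8,10,8,8] (.node [8,10,8,8] .nil .nil) (.node [10,10,10] .nil .nil)) (.node [10,8,8] (.node [10,8,8,8] .nil .nil) .nil)))) (.node [10,8,10,8,8,8] (.node [10,10,10,8,8] (.node [10,10,10,8,8] (.node [10,8,10,10,10] (.node [10,10,8,10] .nil .nil) (.node [10,10,8,8] .nil .nil)) (.node [] (.node [10,10,8,10,10] .nil .nil) (.node [10,10,8] .nil .nil))) (.node [8,10,10,10,8] (.node [10,10,8,8,10,10] (.node [8,8] .nil .nil) (.node [10,10,8,10] .nil .nil)) (.node [10,10,8,10,10] (.node [10,8,10,8,8] .nil .nil) .nil))) (.node [10,10,8,8,10] (.node [10,8,8,8,8] (.node [8,10,8,8]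 (.node [10,8,8] .nil .nil) (.node [10,10,10,8,8,10] .nil .nil)) (.node [8,10,10] (.node [10,10,10] .nil .nil) .nil)) (.node [8,8,8,8,8] (.node [8,10,10,10] (.node [8,8,10,8] .nil .nil) (.node [10,8,10,8,8] .nil .nil)) (.node [8,8,10,10,10] (.node [8,10] .nil .nil) .nil))))))) (.node [10,10,8,10,10] (.node [10,8,10,10,10] (.node [8,10,8,10,10] (.node [10,8,10,10,10,8] (.node [8,8,10,10] (.node [10,8,8,10,10] (.node [10,10,8] (.node [10,8,10,8,10] .nil .nil) (.node [8,10,8,8,8,8] .nil .nil)) (.node [10,8,10,8,10,10] (.node [8] .nil .nil) (.node [10,10,10] .nil .nil))) (.node [10,10,8,10,10] (.node [10,8,10,10,10] (.node [10,8,10,10,10] .nil .nil) (.node [8,10,10,10,8] .nil .nil)) (.node [10,8,8,8] (.node [8,10,10] .nil .nil) .nil))) (.node [10,10,8,8] (.node [10,8] (.node [10,8,10,8,10,10] (.node [8,10,8,10] .nil .nil) (.node [10,10,10,8,8] .nil .nil)) (.node [10,10,10,8,8,10] (.node [8,10,8,8] .nil .nil) (.node [8,8,10,10] .nil .nil))) (.node [8,10,8,8,8,8]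 (.node [8,10,8,8,8] (.node [10,10,10,8,8,10] .nil .nil) (.node [10,10,8,10,10] .nil .nil)) (.node [10,8,10,8,10] (.node [8,8,8,8,8] .nil .nil) .nil)))) (.node [8,10] (.node [10,8,8,10] (.node [10,10] (.node [10,10,10,8] (.node [10,8,10,10] .nil .nil) (.node [8,8,8,8,8,8] .nil .nil)) (.node [8,8,10,8] (.node [8,10,8,8,8] .nil .nil) (.node [10,8,10,10,10] .nil .nil))) (.node [10,10,10,8,8,10] (.node [8,10,10] (.node [8,10,8,8,10] .nil .nil) (.node [] .nil .nil)) (.node [10,10,10,8] (.node [10,10,10,8,8,10] .nil .nil) .nil))) (.node [8,10,10] (.node [8,10,8,8,10] (.node [8,10,10,10,8] (.node [10,8,8,8] .nil .nil) (.node [10,8,10,10,10,8] .nil .nil)) (.node [10,8] (.node [10,8,8,10,10] .nil .nil) .nil)) (.node [8,8,8] (.node [8,8,8,8] (.node [10,8,10] .nil .nil) (.node [10,8,10,8,8] .nil .nil)) (.node [10] (.node [10,8,10,10,10] .nil .nil) .nil))))) (.node [10,10,8,10,8] (.node [10,8,8,8] (.node [8,10,8,8,8] (.node [10,8,8] (.node [10,10] (.node [8,10,10]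 .nil .nil) (.node [10,10,8,8,10] .nil .nil)) (.node [10,8,10,8,8] (.node [8] .nil .nil) (.node [8,10,8] .nil .nil))) (.node [8,10,8,8,8,8] (.node [8,10] (.node [8,8,8] .nil .nil) (.node [10,8,10,8,8,8] .nil .nil)) (.node [8,8,8,8,8] (.node [8,8,10] .nil .nil) .nil))) (.node [10,10,10,8,8] (.node [8,10,8] (.node [10,10,10,8,8] (.node [10,10] .nil .nil) (.node [8,10,8] .nil .nil)) (.node [8,10,10,10,8] (.node [10,10,10,8] .nil .nil) .nil)) (.node [8,8,10] (.node [10,10,8,10] (.node [10,8,10,10,10] .nil .nil) (.node [8,10,8,10] .nil .nil)) (.node [8,8,10,10] (.node [10,8,10] .nil .nil) .nil)))) (.node [8,8,8,8,8,8] (.node [10,8,10,10,10,8] (.node [8,10,8,10,10] (.node [8,10,8,8,10] (.node [10,8,10,8,10] .nil .nil) (.node [8] .nil .nil)) (.node [10,10,8,10,8] (.node [8,10,8,8,8,8] .nil .nil) (.node [10,8,10,8,8,8] .nil .nil))) (.node [8,8,10,10] (.node [8,8] (.node [10,8,10,8,8] .nil .nil) (.node [8,10,8] .nil .nil)) (.node [10,8,10,10,10,8] (.node [8,10,8,8,8]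 .nil .nil) .nil))) (.node [8,10,10] (.node [10,10,10,8,8] (.node [10] (.node [10,8,10,8,10] .nil .nil) (.node [10,10,8,8,10] .nil .nil)) (.node [] (.node [10,8,10,8,10] .nil .nil) .nil)) (.node [8,8,10] (.node [8,10,8,8,8] (.node [10,10,8,10,10] .nil .nil) (.node [8,8,8,8,8,8] .nil .nil)) (.node [8,8,8,8] (.node [8,8,10,8] .nil .nil) .nil)))))) (.node [10,8,10,8] (.node [10,8,10,8] (.node [10,8,10,8,8,8] (.node [10,8] (.node [10,8,8,10] (.node [8] (.node [10,10,8,10,10] .nil .nil) (.node [10,8,8,8] .nil .nil)) (.node [10,10,8,10,8] (.node [8] .nil .nil) (.node [10,10,8,10,8] .nil .nil))) (.node [8,8] (.node [10,8,10,8] (.node [8,8,10,10,10] .nil .nil) (.node [10,8,8,8,8] .nil .nil)) (.node [8,10,8,10] (.node [8,10,8] .nil .nil) .nil))) (.node [8,10,10] (.node [10,8,8,10,10] (.node [10,8,10,10,10,8] (.node [] .nil .nil) (.node [8,10] .nil .nil)) (.node [10,10,8,8,8] (.node [8,8,10] .nil .nil) (.node [8,10,10,10] .nil .nil))) (.node [8,8,10,10] (.node [10,8,10,8,8]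 (.node [10,10,8,10,8] .nil .nil) (.node [8] .nil .nil)) (.node [] (.node [10,8,8,10,10] .nil .nil) .nil)))) (.node [8,10,8,10] (.node [8,8,8,8,8] (.node [10,10,8,10,10] (.node [8,10,8,8,10] (.node [10,8,10,8] .nil .nil) (.node [10,8,8] .nil .nil)) (.node [10,10,10] (.node [10,8,10] .nil .nil) (.node [10,8,10,10,10] .nil .nil))) (.node [10] (.node [10,8,10,8,8] (.node [10,10,8] .nil .nil) (.node [10,8,10,10,10,8] .nil .nil)) (.node [8,10,10] (.node [8,10,8,8,8] .nil .nil) .nil))) (.node [] (.node [10,8,10,8,8,8] (.node [8,8,8,8,8,8] (.node [8,10,8] .nil .nil) (.node [8,10,10,10,8] .nil .nil)) (.node [10] (.node [10,8,10,10,10] .nil .nil) .nil)) (.node [10,8,10,8,10] (.node [8,8,10,10,10] (.node [8,10,8,8,8] .nil .nil) (.node [10,10,8,8,10,10] .nil .nil)) (.node [10,8,10,10,10,8] (.node [8,10,8,10,10] .nil .nil) .nil))))) (.node [8,8] (.node [8,8,8,8,8] (.node [8,10,8,8,8] (.node [10,8,10,10,10,8] (.node [10,8,10,10,10,8] (.node [10,10,8] .nil .nil) (.node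 [8,10,8,8,8] .nil .nil)) (.node [10,10,8,10,8] (.node [8,10,8,10,10] .nil .nil) (.node [8,10,10,10] .nil .nil))) (.node [8,8,8,8] (.node [8] (.node [10,8,8,10] .nil .nil) (.node [10,8,10,8,8] .nil .nil)) (.node [10,8,8] (.node [10,8,10,8] .nil .nil) .nil))) (.node [8,8] (.node [8,10,8,8,8] (.node [10,10,10] (.node [10,10,10,8,8,10] .nil .nil) (.node [8,10,8,10] .nil .nil)) (.node [10,8,8] (.node [10,8,10,8,10] .nil .nil) .nil)) (.node [10,8,8,8,8] (.node [8,10,10,10] (.node [10,10,8,8,10] .nil .nil) (.node [10,10,10,8,8] .nil .nil)) (.node [8,10,8,8,8] (.node [10,8,10,10] .nil .nil) .nil)))) (.node [10,8,10,8] (.node [10,8,8,10,10] (.node [10,10,10] (.node [8,8,10,8,8] (.node [10,8,10,8,8,8] .nil .nil) (.node [8,10,8,8,8,8] .nil .nil)) (.node [10,8,10,8,10,10] (.node [10,8,10,10,10] .nil .nil) (.node [10,8,8] .nil .nil))) (.node [8,10,10,10,8] (.node [8,8,10] (.node [10,8] .nil .nil) (.node [10,8,10,8,8,8] .nil .nil)) (.node [] (.node [8,10,8,8] .nil .nil)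 .nil))) (.node [8,8,10,10,10] (.node [8,8,10,8,8] (.node [10,8,10,10,10] (.node [8,8,8,8] .nil .nil) (.node [8,8,10,10] .nil .nil)) (.node [10,10] (.node [] .nil .nil) .nil)) (.node [8,10,8,10,10] (.node [8,8,10,10] (.node [10,10] .nil .nil) (.node [8,10,10,10,8] .nil .nil)) (.node [8,8] (.node [10,10,8,10,10] .nil .nil) .nil))))))))

/-- Part of `moveWord`. -/
noncomputable def moveWord_l_r_r_l_r : Arr (List ℕ) :=
  (.node [8,10,8,8,10] (.node [8,10] (.node [8,10,8] (.node [10,10,8,8,10] (.node [8,10,8,8,8] (.node [8,10,10,10,8] (.node [10,8,8] (.node [8,8,10,10,10] (.node [10,10,8,8,10,10] .nil .nil) (.node [10,8,10,10,10] .nil .nil)) (.node [8,8,8] (.node [10,8,10,10,10,8] .nil .nil) (.node [10,8,10,8,8] .nil .nil))) (.node [10,8,8,8] (.node [8,10,8,8] (.node [10,8,10,8,8,8] .nil .nil) (.node [10,8,8,8,8] .nil .nil)) (.node [8,8,8] (.node [8,8,10,10,10] .nil .nil) .nil))) (.node [10,10,10,8,8,10] (.node [10,8,8,10,10] (.node [10,10,10] (.node [8,10,10,10]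 .nil .nil) (.node [8,8] .nil .nil)) (.node [8,10,8,10,10] (.node [8,8,10,8] .nil .nil) (.node [8] .nil .nil))) (.node [10,10,8,10] (.node [10,8,8,8,8] (.node [8,8,10,8,8] .nil .nil) (.node [10,10,8,10] .nil .nil)) (.node [8,10,8,10] (.node [10,8,10,8,10] .nil .nil) .nil)))) (.node [8,10,8,8,10] (.node [10,8,10,10,10] (.node [8,8] (.node [10,8,10,10] (.node [8,10,10,10] .nil .nil) (.node [8,8,8,8,8,8] .nil .nil)) (.node [10,8,10,10,10] (.node [10,8,8,8] .nil .nil) (.node [8,10,8,8,10] .nil .nil))) (.node [10,8,8,10,10] (.node [8,10,8,8,8] (.node [10,10,8,10,10] .nil .nil) (.node [8,10,8,8,8] .nil .nil)) (.node [10,8,10,8,8] (.node [10,10,8,8] .nil .nil) .nil))) (.node [8,8,8] (.node [10,8,10,8] (.node [10,8,8,8] (.node [8,10,10,10] .nil .nil) (.node [10,8,10,10,10] .nil .nil)) (.node [10,8,8,10] (.node [10,10,10,8,8,10] .nil .nil) .nil)) (.node [10,10,10] (.node [8,10,8,8,8] (.node [10,10,8] .nil .nil) (.node [8,8,8,8,8,8] .nil .nil)) (.node [10,8,10,8]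 (.node [10,8,10] .nil .nil) .nil))))) (.node [10,8,8] (.node [10,10,10,8,8,10] (.node [10,10,8,10,8] (.node [10,10,10,8,8,10] (.node [10,10,8,10,8] (.node [10,8,10,10,10,8] .nil .nil) (.node [10,10,8,8,8] .nil .nil)) (.node [8,10,8,8,10] (.node [10,10,10] .nil .nil) (.node [8,8,8,8,8] .nil .nil))) (.node [] (.node [8,8,8,8,8] (.node [8,8] .nil .nil) (.node [10,8,10,8,10,10] .nil .nil)) (.node [10,8,8] (.node [8,8,10,8] .nil .nil) .nil))) (.node [10,8,10] (.node [8,10,8,8,8] (.node [8,8] (.node [8,8] .nil .nil) (.node [10,8,8] .nil .nil)) (.node [8,10,10,10] (.node [10,8,10,10] .nil .nil) .nil)) (.node [10,8,10,8,8,8] (.node [8,10,8,10] (.node [8,8,10] .nil .nil) (.node [10,10,8,10] .nil .nil)) (.node [10,8,10,10] (.node [10,8,8,10,10] .nil .nil) .nil)))) (.node [8,8,8,8,8,8] (.node [8,10,8,8,8] (.node [8,10,8,8,8] (.node [10,8,10,8,10] (.node [10] .nil .nil) (.node [8,8] .nil .nil)) (.node [10,8,10,8,10] (.node [10,8,10,8,10,10] .nil .nil) (.node [8] .nil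 .nil))) (.node [10,8,10] (.node [8,8,10,8,8] (.node [8,8,10,10] .nil .nil) (.node [8,10,8,8] .nil .nil)) (.node [10,10,10,8] (.node [10,10,10,8] .nil .nil) .nil))) (.node [8,8,10,10] (.node [10,8,8,10] (.node [10,10,10,8,8,10] (.node [10,10,10,8] .nil .nil) (.node [8,10] .nil .nil)) (.node [10,8,8,8,8] (.node [8,8,10,8] .nil .nil) .nil)) (.node [8,8,8] (.node [10,8,10,10,10] (.node [8,10,8,8,8,8] .nil .nil) (.node [10,10] .nil .nil)) (.node [8,10] (.node [10,8,10,8,10,10] .nil .nil) .nil)))))) (.node [10,8,10,10] (.node [8,10,8,8,8,8] (.node [10,10,8] (.node [8,8,10,10] (.node [8,8,10,8] (.node [8,8,8] (.node [8,10] .nil .nil) (.node [10,10,10,8,8,10] .nil .nil)) (.node [10,10,8,8] (.node [10,8,10,10,10] .nil .nil) (.node [10,8,10,8,8,8] .nil .nil))) (.node [10,10,8,8,10,10] (.node [10,10,8,10,8] (.node [10,10,8,10,10] .nil .nil) (.node [8,8,10] .nil .nil)) (.node [10,8] (.node [10,8,10,10,10] .nil .nil) .nil))) (.node [8,10,10] (.node [8,10,8,8,8] (.node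 [8,8,8] (.node [8,10,10,10] .nil .nil) (.node [8,10,8] .nil .nil)) (.node [10,10,10] (.node [10,8,8,8] .nil .nil) (.node [10] .nil .nil))) (.node [8,8,10,8] (.node [8,8,10,10] (.node [10,10,8,8,10] .nil .nil) (.node [10,8,8] .nil .nil)) (.node [10,8,10,10,10] (.node [10,8,8,8,8] .nil .nil) .nil)))) (.node [10,8,10,10,10] (.node [8,10,8,8] (.node [8,10,10,10] (.node [8,8,8] (.node [10,10,8,8,10,10] .nil .nil) (.node [10,8,10,8,10,10] .nil .nil)) (.node [8,8,8,8,8,8] (.node [10,8,8] .nil .nil) (.node [10,10,8] .nil .nil))) (.node [8,8,10,8] (.node [10,8,10,8,10] (.node [8,10,8,10,10] .nil .nil) (.node [] .nil .nil)) (.node [10,10,10,8,8,10] (.node [10,8,10,10,10] .nil .nil) .nil))) (.node [10,10,8,10] (.node [10,10,10] (.node [8,8,10] (.node [10,10,10,8] .nil .nil) (.node [10,10,10,8] .nil .nil)) (.node [10,10,8,10,10] (.node [10,10,8,10] .nil .nil) .nil)) (.node [8,8,10,8] (.node [8,8,8,8] (.node [10,8,10,8,10] .nil .nil) (.node [8,8,8,8,8] .nil .nil))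 (.node [8,10,10] (.node [8,8,10] .nil .nil) .nil))))) (.node [10,8,8,10,10] (.node [10,8,10,8,8,8] (.node [10,8,8,10,10] (.node [10,8,8,10,10] (.node [8,8,8] (.node [8,8,10,8,8] .nil .nil) (.node [10,8] .nil .nil)) (.node [10,8,10,8,10,10] (.node [10,10,8,8,10,10] .nil .nil) (.node [10,8,8,8,8] .nil .nil))) (.node [8,10] (.node [8,10] (.node [10,8] .nil .nil) (.node [10,8,10,8,8,8] .nil .nil)) (.node [8,8,8,8] (.node [8,8,8,8,8] .nil .nil) .nil))) (.node [8,8,10,10] (.node [10,10] (.node [10,8,10,10,10,8] (.node [8,8,8,8,8] .nil .nil) (.node [10,10,8,8] .nil .nil)) (.node [8,8,10,10,10] (.node [10,10,8,10,10] .nil .nil) .nil)) (.node [8,10] (.node [10,10,8,8,10,10] (.node [8,8,10,8,8] .nil .nil) (.node [8,10,8] .nil .nil)) (.node [8,8] (.node [8,8,8,8] .nil .nil) .nil)))) (.node [10,8,8,10,10] (.node [10,10,8,10,8] (.node [8,10,10,10,8] (.node [10,8,10,8,8,8] (.node [10,10,10,8,8] .nil .nil) (.node [10,10,8,8,8] .nil .nil)) (.node [10,10,10,8,8,10] (.node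 [10] .nil .nil) (.node [8] .nil .nil))) (.node [8,10,8,8,8] (.node [10,8,10,10,10,8] (.node [10,8,8] .nil .nil) (.node [10] .nil .nil)) (.node [8,10,8,10] (.node [10] .nil .nil) .nil))) (.node [10,10,10,8] (.node [8,10,10,10,8] (.node [8,8,10,8,8] (.node [] .nil .nil) (.node [10,10,8,8,10,10] .nil .nil)) (.node [8,10,10] (.node [10,8,10] .nil .nil) .nil)) (.node [8,8,10,10] (.node [10,8,10,10,10] (.node [10,8,10,8,8] .nil .nil) (.node [10,8,8] .nil .nil)) (.node [8,8,10,8] (.node [8,8,10] .nil .nil) .nil))))))) (.node [8] (.node [10,8,8,10,10] (.node [10,8,10,10,10] (.node [10,8,8,10] (.node [8,10,8,8,8] (.node [8,8,8,8] (.node [8,10] (.node [8] .nil .nil) (.node [10,8,10] .nil .nil)) (.node [8,10,10,10] (.node [10,10,8,8] .nil .nil) (.node [8,10,8,8,8,8] .nil .nil))) (.node [10,8,10,10] (.node [10,8,10,8,10,10] (.node [10,8,10] .nil .nil) (.node [10,8,10,8,10] .nil .nil)) (.node [8,10,8,8,8] (.node [10,10,10] .nil .nil) .nil))) (.node [8,10,10,10] (.node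 [8,10,10,10,8] (.node [10,10,8,8] (.node [10,8,8,8] .nil .nil) (.node [10,10,8,8,10] .nil .nil)) (.node [10,10,10,8] (.node [10,8,10,8] .nil .nil) (.node [10,8,10,8,10] .nil .nil))) (.node [10,8,10,10] (.node [10,8,10,8] (.node [10,8,10,10] .nil .nil) (.node [10,10] .nil .nil)) (.node [10,8,10,10] (.node [10,10,10,8,8,10] .nil .nil) .nil)))) (.node [10,8,10] (.node [8,8,8,8] (.node [8,8,8,8] (.node [10] (.node [8,8] .nil .nil) (.node [8,10] .nil .nil)) (.node [8,8,8] (.node [8,8,8] .nil .nil) (.node [8,10,10,10,8] .nil .nil))) (.node [8,8,10] (.node [10,8,8,8,8] (.node [8,8,10,10] .nil .nil) (.node [10,10,10] .nil .nil)) (.node [10,10,10,8] (.node [10,8,8,10] .nil .nil) .nil))) (.node [8,10,8,10,10] (.node [8,10,8,8] (.node [8,8,10] (.node [8,10,8,8,8] .nil .nil) (.node [10,8,10,10,10] .nil .nil)) (.node [10,8,10,8,8] (.node [10,8,10,8,8] .nil .nil) .nil)) (.node [10,10,8] (.node [10,10,8,10] (.node [8,8,8,8,8] .nil .nil) (.node [8,8,8,8,8,8] .nil .nil))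 (.node [8] (.node [10] .nil .nil) .nil))))) (.node [10,10,8,8,10,10] (.node [8,8,10,10,10] (.node [10,10,8,8,8] (.node [8,8,10,10] (.node [8,10,8,8,10] (.node [10,10,10,8,8] .nil .nil) (.node [10] .nil .nil)) (.node [10] (.node [10,10,8,10] .nil .nil) (.node [8,8,8,8,8] .nil .nil))) (.node [8,10,8,10,10] (.node [8,8,10,10] (.node [8,8] .nil .nil) (.node [10] .nil .nil)) (.node [10,8,10,8,10] (.node [10,8,10,8] .nil .nil) .nil))) (.node [8,8,8,8] (.node [8,8,10,10,10] (.node [8,8,10] (.node [8,8,10,10,10] .nil .nil) (.node [8,8,10,10] .nil .nil)) (.node [8,8,8,8,8,8] (.node [10,8,10,10,10,8] .nil .nil) .nil)) (.node [8,8,8,8,8,8] (.node [8,10,8,10] (.node [8,8,10,8] .nil .nil) (.node [10,8,10,8,10] .nil .nil)) (.node [10,10,8,8,10] (.node [8,10,8,10,10] .nil .nil) .nil)))) (.node [10,8,8] (.node [10,8,8,10] (.node [10,8,10,8,10,10] (.node [8,10] (.node [10,10,10,8,8] .nil .nil) (.node [8,10,10] .nil .nil)) (.node [] (.node [8,10,10,10] .nil .nil) (.node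 [8,8,8,8] .nil .nil))) (.node [8,8,10] (.node [10,8,10,8,10] (.node [8,10,10,10] .nil .nil) (.node [8,8] .nil .nil)) (.node [10,8,10,10] (.node [8,10,10] .nil .nil) .nil))) (.node [8,8,8,8,8,8] (.node [8,10,10,10] (.node [8,8,10] (.node [10,10,8] .nil .nil) (.node [8,10,10,10,8] .nil .nil)) (.node [10,8,8,10,10] (.node [8,8,10,8,8] .nil .nil) .nil)) (.node [8,8,8,8,8,8] (.node [10,8,8,10] (.node [10,10] .nil .nil) (.node [8,8,10,8] .nil .nil)) (.node [10,10,8,8,8] (.node [10,8,10,10] .nil .nil) .nil)))))) (.node [10,8,10,8,10] (.node [8,8,8] (.node [10,10,10,8] (.node [10,8,10,10,10] (.node [8,8,8,8] (.node [10,8,8,8,8] (.node [8,10,8,8,8,8] .nil .nil) (.node [8,8,10] .nil .nil)) (.node [10,10,8,10,10] (.node [8,8,8,8,8] .nil .nil) (.node [10,10,8,10] .nil .nil))) (.node [8,10,8,8,8,8] (.node [10,10,8,10] (.node [10,8,8,8,8] .nil .nil) (.node [8,8,10,8] .nil .nil)) (.node [10,8,10,10,10,8] (.node [8,8,10,10] .nil .nil) .nil))) (.node [10,8,10,10,10] (.node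 [10,10,8,10,10] (.node [10,8,8,8,8] (.node [8,8,10,8,8] .nil .nil) (.node [10,10] .nil .nil)) (.node [10,8] (.node [8,8,8,8,8,8] .nil .nil) (.node [10,8,8,8,8] .nil .nil))) (.node [8,10,8,8,8,8] (.node [10,8,10,10,10,8] (.node [] .nil .nil) (.node [10,10,10,8] .nil .nil)) (.node [10,8,10,8,8,8] (.node [8,8,10,8] .nil .nil) .nil)))) (.node [8,8] (.node [10,8,8] (.node [10,10,8,8] (.node [10,8,10] (.node [10,10,10,8,8] .nil .nil) (.node [10,10,10,8,8,10] .nil .nil)) (.node [10,8,8] (.node [10,10,8,8,10] .nil .nil) (.node [10,8,10,10,10,8] .nil .nil))) (.node [10,10,10] (.node [10,10,8,10,8] (.node [8,8,10,8,8] .nil .nil) (.node [8,10,10,10,8] .nil .nil)) (.node [10,8,10,8,8,8] (.node [10,10,8,8,8] .nil .nil) .nil))) (.node [8,10,10,10] (.node [8,10,8,8,8,8] (.node [8,10,8,8,8,8] (.node [10,10,8,8,10] .nil .nil) (.node [8,10,8,8] .nil .nil)) (.node [8,8,8,8,8,8] (.node [10,8,8,10] .nil .nil) .nil)) (.node [8,8,10] (.node [10,10] (.node [8,10,8,8,8] .nil .nil)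 (.node [8,10,8,10,10] .nil .nil)) (.node [10,8,8,10,10] (.node [8] .nil .nil) .nil))))) (.node [8,8,10] (.node [8,10,8,8,8,8] (.node [8,8,10] (.node [8,8,10,10,10] (.node [10,8,10] (.node [8,8,10,10,10] .nil .nil) (.node [8,8,10,10,10] .nil .nil)) (.node [10,10] (.node [8,8,10,10,10] .nil .nil) (.node [8,8,10,10] .nil .nil))) (.node [10,8,10,10,10] (.node [10,10,8,8] (.node [8,8,8,8] .nil .nil) (.node [10,8,10,8,8] .nil .nil)) (.node [8,8,8,8,8] (.node [8,8,10,10,10] .nil .nil) .nil))) (.node [8,10] (.node [10,10,10,8] (.node [8,10,8,8,8,8] (.node [8,10] .nil .nil) (.node [8,10,8,8,10] .nil .nil)) (.node [8,10,8,8,8,8] (.node [10,10] .nil .nil) .nil)) (.node [10,8,10,8,8,8] (.node [] (.node [10,10,8,10,10] .nil .nil) (.node [8,8] .nil .nil)) (.node [8,10,8,8,10] (.node [8,8,10,8,8] .nil .nil) .nil)))) (.node [8,10,10,10,8] (.node [8,10,8,8,8,8] (.node [10,10,8,8] (.node [8,10] (.node [10,8,8,8] .nil .nil) (.node [10,8,10,8,10,10] .nil .nil)) (.node [10,8,8,10,10]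 (.node [10,8,8,10,10] .nil .nil) (.node [10,10,8] .nil .nil))) (.node [10,8,8] (.node [10,8,10] (.node [10,8,10,10] .nil .nil) (.node [10,8,10,8,10,10] .nil .nil)) (.node [10,8,10,8,10,10] (.node [8,10,8,10,10] .nil .nil) .nil))) (.node [8,8,10,8] (.node [8,8,10,10,10] (.node [8,8,10,8] (.node [10,8] .nil .nil) (.node [10,8,10,10] .nil .nil)) (.node [8,8,10] (.node [10,10,8] .nil .nil) .nil)) (.node [8,10,8] (.node [10,8,8,10] (.node [10,8,8,8,8] .nil .nil) (.node [10,8,10] .nil .nil)) (.node [10,8,8,10,10] (.node [8,10,8,10] .nil .nil) .nil))))))))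

/-- Part of `moveWord`. -/
noncomputable def moveWord_l_r_r_l : Arr (List ℕ) :=
  .node [10,8,10,8] moveWord_l_r_r_l_l moveWord_l_r_r_l_r

/-- Part of `moveWord`. -/
noncomputable def moveWord_l_r_r_r_l : Arr (List ℕ) :=
  (.node [10,10,8,10,10] (.node [] (.node [10,10,10,8,8,10] (.node [8,10,8,8,8] (.node [10,10,8,8,10,10] (.node [8,10,8,8,8] (.node [8,10,10] (.node [10,8,10,10,10,8] (.node [10,10,8,10,8] .nil .nil) (.node [10,10,10,8] .nil .nil)) (.node [10,10,10,8] (.node [10,8,10,10] .nil .nil) (.node [10,8,10,8,8,8] .nil .nil))) (.node [10,10,8,8,10] (.node [8,8,10,8,8] (.node [10,10,8,8] .nil .nil) (.node [8,10,8,8,10] .nil .nil)) (.node [8,8,10,10,10] (.node [10,8,8] .nil .nil) .nil))) (.node [10,10,8] (.node [10,8,8,10,10] (.node [8,8,8,8] (.node [10,8,8,10] .nil .nil) (.node [8,8,8,8] .nil .nil)) (.node [8,10,8] (.node [10,10,8,8,8] .nil .nil) (.node [8,8,10,8] .nil .nil))) (.node [10,10,8] (.node [10,8,10,8,10,10] (.node [8,8,8,8,8,8] .nil .nil)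 (.node [8,10,10,10] .nil .nil)) (.node [8,8,10,10,10] (.node [10,10,8,8] .nil .nil) .nil)))) (.node [8,10] (.node [] (.node [10,10,8,10,10] (.node [10,10,8] (.node [10,10] .nil .nil) (.node [8,10,8,8,8,8] .nil .nil)) (.node [10,8,10,10] (.node [10,10,8,10,10] .nil .nil) (.node [8,8,10,10] .nil .nil))) (.node [8] (.node [8,10,8,10] (.node [8,10,8] .nil .nil) (.node [8,8,10,8,8] .nil .nil)) (.node [8,8,10,8] (.node [10,10,10] .nil .nil) .nil))) (.node [10,10,10] (.node [10,8,10,8,8,8] (.node [10] (.node [10,10,8,8,8] .nil .nil) (.node [10,8,10,10,10,8] .nil .nil)) (.node [10,10,10,8,8,10] (.node [10,10,10,8,8,10] .nil .nil) .nil)) (.node [10,8,8,8,8] (.node [10,8,8,8,8] (.node [8] .nil .nil) (.node [8,10,8,8,10] .nil .nil)) (.node [10,8,10,8,10,10] (.node [8,8,8,8,8] .nil .nil) .nil))))) (.node [8,8,8,8,8,8] (.node [8,10,8,8,8,8] (.node [8] (.node [8,10,8,10] (.node [10,10,8,10] (.node [8,8,10,8,8] .nil .nil) (.node [8,10,8,8,8] .nil .nil)) (.node [8,8,10,10,10]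 (.node [10,10,10,8,8,10] .nil .nil) (.node [10,10,8,8,10,10] .nil .nil))) (.node [10,8,8,8,8] (.node [10,8,8,8,8] (.node [8,10,10,10] .nil .nil) (.node [8] .nil .nil)) (.node [8,8,10] (.node [8,8] .nil .nil) .nil))) (.node [10,8,10,8,8,8] (.node [8,10,10,10] (.node [10] (.node [10,10,10,8,8,10] .nil .nil) (.node [] .nil .nil)) (.node [10,10,8,10,10] (.node [10,10,8,8,10,10] .nil .nil) .nil)) (.node [8,10,10] (.node [10,8,8,10] (.node [8,8,8] .nil .nil) (.node [10,8,8,8] .nil .nil)) (.node [8,8,8,8] (.node [10,8,8,8] .nil .nil) .nil)))) (.node [8,10,8,10,10] (.node [10,8,10] (.node [8,10,8,8] (.node [8,8,10,8] (.node [8,10] .nil .nil) (.node [10,8,8,10] .nil .nil)) (.node [10,8,10,10,10] (.node [10,8,8] .nil .nil) (.node [10,10,10,8,8] .nil .nil))) (.node [10,8,10,10,10,8] (.node [8,8,8,8,8,8] (.node [8,10,8,8] .nil .nil) (.node [8,8] .nil .nil)) (.node [8,10,8,8,8,8] (.node [10] .nil .nil) .nil))) (.node [10,8,8,10,10] (.node [] (.node [10,8,10,8] (.node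 [10,8,10,10,10] .nil .nil) (.node [10,10,8,8] .nil .nil)) (.node [8,10,8,8,10] (.node [10,10,8,10] .nil .nil) .nil)) (.node [8] (.node [10,10,8,8,10] (.node [10,10,8,10] .nil .nil) (.node [10] .nil .nil)) (.node [10,10,10,8,8,10] (.node [10,10,10,8,8] .nil .nil) .nil)))))) (.node [10,8,8,8,8] (.node [8,10,8,8,8] (.node [10,8,10,8] (.node [8,10,8,10] (.node [8,10,8,8,8,8] (.node [10,10,8,8,10,10] (.node [8,10,10] .nil .nil) (.node [10,8,10,10,10] .nil .nil)) (.node [] (.node [8,8,10,8,8] .nil .nil) (.node [10,8,10,8] .nil .nil))) (.node [10,10,10] (.node [10] (.node [10,8,10,8,8,8] .nil .nil) (.node [8,10,10,10] .nil .nil)) (.node [] (.node [10,10,8,10] .nil .nil) .nil))) (.node [8,8,10,8,8] (.node [10,10,10] (.node [] (.node [10,8,8,8,8] .nil .nil) (.node [10,8,8,8] .nil .nil)) (.node [10,8,8,10,10] (.node [8,10,8,10] .nil .nil) (.node [10,8,10,10,10,8] .nil .nil))) (.node [8,8,8] (.node [10] (.node [10,8,8,8] .nil .nil) (.node [10,8,8,10,10] .nil .nil))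 (.node [10,10,8,10] (.node [10,8,10,8,10] .nil .nil) .nil)))) (.node [10,8,10,8,8] (.node [10,8,8,10] (.node [10,8,10] (.node [10,8,10,10] (.node [10,10,10,8,8,10] .nil .nil) (.node [10,10,10,8,8] .nil .nil)) (.node [8,8,10,10,10] (.node [8,8,10,8] .nil .nil) (.node [8,10,8,8] .nil .nil))) (.node [10,10,10] (.node [10,8,10,10,10] (.node [8,8,8,8,8] .nil .nil) (.node [10,8,10,10] .nil .nil)) (.node [10,8,8] (.node [10,8,8,10] .nil .nil) .nil))) (.node [10,8,10,10,10,8] (.node [10,8,8,8] (.node [10,8,10,10,10] (.node [10,10,8,8,10,10] .nil .nil) (.node [8,10] .nil .nil)) (.node [10,8,10,8,8] (.node [8,10,10,10,8] .nil .nil) .nil)) (.node [8,10,10,10,8] (.node [8,8,8,8,8,8] (.node [8,8,8,8,8] .nil .nil) (.node [8,8,8,8,8,8] .nil .nil)) (.node [8,10,8] (.node [10] .nil .nil) .nil))))) (.node [10,8] (.node [8,10] (.node [10,10,8,10,10] (.node [8,8,10,10,10] (.node [10,10,8,8,10,10] (.node [10,10,8,8,10,10] .nil .nil) (.node [8,8,10,10] .nil .nil)) (.node [8,8,8,8,8]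 (.node [8,10,10,10,8] .nil .nil) (.node [10] .nil .nil))) (.node [10,8,8] (.node [10,8] (.node [8,8,8,8] .nil .nil) (.node [8,8,10,10] .nil .nil)) (.node [10,10,10,8] (.node [10] .nil .nil) .nil))) (.node [10,8,10,8,10,10] (.node [8,10,8,8,8] (.node [10,10,8,10] (.node [8,8,10,8] .nil .nil) (.node [8,8,10,8,8] .nil .nil)) (.node [8] (.node [10,8,10,10] .nil .nil) .nil)) (.node [8,8,10,8,8] (.node [10,10,10,8] (.node [10,10,8,10] .nil .nil) (.node [10,8,8] .nil .nil)) (.node [10,8,10,8,10,10] (.node [10,10] .nil .nil) .nil)))) (.node [8,8,8] (.node [8,8,8,8,8] (.node [8,8,10,10] (.node [8,8,8] (.node [8,10,8,8,10] .nil .nil) (.node [10,8,10] .nil .nil)) (.node [8,8] (.node [8,8,8,8,8] .nil .nil) (.node [10,10,10,8,8] .nil .nil))) (.node [10,8,10,8,10] (.node [10,10,8,10,10] (.node [8,10,8,8,10] .nil .nil) (.node [10,10,10,8,8,10] .nil .nil)) (.node [8,8,8,8] (.node [] .nil .nil) .nil))) (.node [8,8,10,10] (.node [8,10] (.node [10,10,8] (.node [10] .nil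 .nil) (.node [10,8,10,10,10] .nil .nil)) (.node [10,8,10,8,10] (.node [8,8,8,8] .nil .nil) .nil)) (.node [10,10,8,8] (.node [8] (.node [] .nil .nil) (.node [8,8,10,8,8] .nil .nil)) (.node [8,8,8,8,8,8] (.node [8,8,8,8,8] .nil .nil) .nil))))))) (.node [10,8,10,10] (.node [10,10,8,10,10] (.node [10,8,8,8,8] (.node [10,10,10,8,8,10] (.node [8,8,8,8,8] (.node [8,8,8,8] (.node [10,8,8,10,10] (.node [10,10] .nil .nil) (.node [8,10,8,10,10] .nil .nil)) (.node [10,8,10,8,10] (.node [10,8,10,10,10,8] .nil .nil) (.node [8,8,10,8,8] .nil .nil))) (.node [10,10,10] (.node [8,10,8,8,10] (.node [8,10,8] .nil .nil) (.node [8,8,10,10] .nil .nil)) (.node [10,8] (.node [8,8,10] .nil .nil) .nil))) (.node [10,10] (.node [8] (.node [10,10,8,10,8] (.node [8,10,8,8,10] .nil .nil) (.node [10,8,8] .nil .nil)) (.node [10,8,10,10,10] (.node [10,10,8,8,10,10] .nil .nil) (.node [10,8] .nil .nil))) (.node [8,8,8,8] (.node [10,8,10,8,10] (.node [10,8,10,8] .nil .nil) (.node [8,8] .nil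 .nil)) (.node [10,10,8,10] (.node [10,8,8,8] .nil .nil) .nil)))) (.node [10,8,8,8] (.node [10,8,8] (.node [10,8,10] (.node [10,8] (.node [10,8,10,10,10,8] .nil .nil) (.node [8,10,8] .nil .nil)) (.node [10,10,8,10,8] (.node [10,8,10,8,10,10] .nil .nil) (.node [8,8,8,8,8,8] .nil .nil))) (.node [8,10,8] (.node [10,10,8,10,10] (.node [10,8,8,8,8] .nil .nil) (.node [8,10,8,8,8,8] .nil .nil)) (.node [10,8,10,8,8,8] (.node [10,10] .nil .nil) .nil))) (.node [8,10,8,8,10] (.node [10,8,10,8] (.node [10,10,8,10,8] (.node [10] .nil .nil) (.node [8,8,8,8,8] .nil .nil)) (.node [10,10,10,8] (.node [10,10,8,8,10,10] .nil .nil) .nil)) (.node [10,10,8,10,8] (.node [10,10,8,10,8] (.node [10,10,8,8,8] .nil .nil) (.node [8,10,10] .nil .nil)) (.node [10,10,10,8] (.node [10,10,8,10] .nil .nil) .nil))))) (.node [8,10,10] (.node [10,10,8,8] (.node [8,10,8,8,8,8] (.node [8,10] (.node [8,10,8,8,8,8] (.node [10,8] .nil .nil) (.node [10,8,10,8,10,10] .nil .nil)) (.node [10,8,8] (.node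 [10,10,10,8,8,10] .nil .nil) (.node [10,10,8,8,8] .nil .nil))) (.node [8,8,8,8,8] (.node [10,10,10,8,8] (.node [10,8,10,8] .nil .nil) (.node [8,10,8,10] .nil .nil)) (.node [10,10,8] (.node [10,10,8,8,10] .nil .nil) .nil))) (.node [8,8,8] (.node [10,8] (.node [10,10,10,8,8,10] (.node [10,10,10,8] .nil .nil) (.node [10,10,10,8,8,10] .nil .nil)) (.node [8,8,10,8] (.node [10,8,8,8] .nil .nil) .nil)) (.node [10,10,8,10,8] (.node [10,10,10,8] (.node [10,10,10,8] .nil .nil) (.node [8,8,10,10] .nil .nil)) (.node [8,10,8,8,10] (.node [10,10,8,8] .nil .nil) .nil)))) (.node [10,10,10,8] (.node [10,8,10] (.node [8,10,10,10] (.node [10,8,8] (.node [8,10,8,8,8] .nil .nil) (.node [8,8,8] .nil .nil)) (.node [8,8,8] (.node [10] .nil .nil) (.node [10,10,8,8,10,10] .nil .nil))) (.node [10,10,10] (.node [8,8] (.node [8,8,10,10] .nil .nil) (.node [10,8,8] .nil .nil)) (.node [8,8,8] (.node [8] .nil .nil) .nil))) (.node [8,10,10,10,8] (.node [8,8] (.node [10,8,10] (.node [8,10,8,8,8,8]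 .nil .nil) (.node [10,10,8] .nil .nil)) (.node [] (.node [8,8,10] .nil .nil) .nil)) (.node [10,10,8,10] (.node [8,8,10] (.node [8,8,8,8,8,8] .nil .nil) (.node [8,10,8,10,10] .nil .nil)) (.node [8] (.node [10,8,10,10] .nil .nil) .nil)))))) (.node [10,8,10,10] (.node [10,8,10] (.node [8,8,8,8] (.node [8,8,8,8] (.node [10,8,10,8,10] (.node [10,10,8] (.node [8,8,8,8,8,8] .nil .nil) (.node [10,10,8,10,10] .nil .nil)) (.node [10] (.node [10,10,8,8,10] .nil .nil) (.node [10,10,10,8,8,10] .nil .nil))) (.node [10,10,8,8,10] (.node [10,10] (.node [10,10,8,10,8] .nil .nil) (.node [8,8,10,8] .nil .nil)) (.node [10,10] (.node [8,10,10,10,8] .nil .nil) .nil))) (.node [10,8,8,8] (.node [10,10,8] (.node [10,8,10,8,8,8] (.node [8,8,8,8,8,8] .nil .nil) (.node [10,10,10] .nil .nil)) (.node [10,10,8,8,10] (.node [8,10,10,10] .nil .nil) (.node [8,8,8] .nil .nil))) (.node [10,8,10,10,10,8] (.node [8,10,8,10] (.node [8,8,10] .nil .nil) (.node [10,10,8] .nil .nil)) (.node [10,8,8,10,10]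 (.node [10,8,8,10,10] .nil .nil) .nil)))) (.node [10,8,8,10] (.node [10,10,8,8,10] (.node [10,10,8,8,8] (.node [10,8,8,10] (.node [10,10,10,8] .nil .nil) (.node [10,10,8] .nil .nil)) (.node [10,10,8,8] (.node [8,10,10] .nil .nil) (.node [] .nil .nil))) (.node [10,8,8,10,10] (.node [8,8,8,8,8] (.node [10,8,8,10] .nil .nil) (.node [8] .nil .nil)) (.node [10,8,10,8,10,10] (.node [8,8] .nil .nil) .nil))) (.node [8,8,10,8] (.node [8,8,10,10] (.node [10,8,8,8,8] (.node [8,8,8] .nil .nil) (.node [10,8] .nil .nil)) (.node [10,8,10,10,10,8] (.node [10,8,8,8,8] .nil .nil) .nil)) (.node [10,10,8,8] (.node [8,8,8,8,8] (.node [10,8,10,10,10,8] .nil .nil) (.node [8,10,8,10] .nil .nil)) (.node [8,10,10,10] (.node [8,8] .nil .nil) .nil))))) (.node [8] (.node [10,8,8] (.node [10,10,10,8,8,10] (.node [10,8,8,10] (.node [10,8,10,8,10,10] (.node [10,10,8,8] .nil .nil) (.node [10,10,8,10,8] .nil .nil)) (.node [8,10,10,10] (.node [10,10,8,8,10,10] .nil .nil) (.node [8,10,10,10]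 .nil .nil))) (.node [10,8,8,8] (.node [10,8,8,8] (.node [10,10,8,10,8] .nil .nil) (.node [10,10,8,8,8] .nil .nil)) (.node [10,10,8,10] (.node [8,8,10,10] .nil .nil) .nil))) (.node [8,10,8,8,10] (.node [8,8,8,8,8] (.node [10,8] (.node [8,10,8] .nil .nil) (.node [10,8] .nil .nil)) (.node [8,10,8,8] (.node [10,10,10] .nil .nil) .nil)) (.node [10,8,8,8] (.node [10,8,8,8] (.node [10,8,10,8,10] .nil .nil) (.node [8,10,8,10] .nil .nil)) (.node [10,8,8] (.node [10,8,10,10] .nil .nil) .nil)))) (.node [10,10,10,8,8] (.node [8,8,8] (.node [10,8,8,8,8] (.node [10,10,8,10,10] (.node [10,10,8,8,10,10] .nil .nil) (.node [10,8,10,8,8,8] .nil .nil)) (.node [8,10,8,8] (.node [10,8,10] .nil .nil) (.node [10,10,8,8,8] .nil .nil))) (.node [10,8,8,10] (.node [8,8,10,10] (.node [10,10] .nil .nil) (.node [8,8,10] .nil .nil)) (.node [8,8,10] (.node [10,8,8,8] .nil .nil) .nil))) (.node [10,8,8,8] (.node [10,10,8,8,10,10] (.node [10,10,8,8,8] (.node [10,8,10,8,8,8] .nil .nil) (.node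 [10,10,8,8,10,10] .nil .nil)) (.node [8,8,10] (.node [8,8,10,8] .nil .nil) .nil)) (.node [8] (.node [10,8,10,8] (.node [8,10,10,10,8] .nil .nil) (.node [10,8,10,8,8] .nil .nil)) (.node [10,8,10,8,8] (.node [10,8,10,8,10,10] .nil .nil) .nil))))))))

/-- Part of `moveWord`. -/
noncomputable def moveWord_l_r_r_r_r : Arr (List ℕ) :=
  (.node [8,10,10] (.node [8,8,8,8,8,8] (.node [10,10,10,8] (.node [10,8,8] (.node [8,8,8,8] (.node [8,10,8] (.node [] (.node [10,10,8] (.node [10] .nil .nil) (.node [10,8,10] .nil .nil)) (.node [10,8,10] (.node [8,8,10,10,10] .nil .nil) (.node [8,8] .nil .nil))) (.node [10,8,10,8,10] (.node [10,8,10,8,8,8] (.node [10,10,8,8] .nil .nil) (.node [10,8,8,10] .nil .nil)) (.node [10,8,10,8,8,8] (.node [10,10,8,10,10] .nil .nil) .nil))) (.node [8,8,10] (.node [10,10,10,8,8,10] (.node [8] (.node [10,8,10,10,10] .nil .nil) (.node [10,10] .nil .nil)) (.node [8,10,8] (.node [8,8,10,10,10] .nil .nil) (.node [10,10] .nil .nil))) (.node [10,10,8,8,10,10]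 (.node [10,8,10,8,8,8] (.node [10,8,10] .nil .nil) (.node [10,8,10,10,10,8] .nil .nil)) (.node [10,10,8,8] (.node [10,8,10,10] .nil .nil) .nil)))) (.node [8,8,10,10] (.node [10,8,8] (.node [8,8,10,8] (.node [8,8,10] (.node [10,10,10,8,8] .nil .nil) (.node [10,10,8,10,10] .nil .nil)) (.node [8,10,8,10] (.node [8,10,10,10] .nil .nil) (.node [8,10,8,10] .nil .nil))) (.node [8,10,8,8,10] (.node [8,10,8,10,10] (.node [8,8,10,8] .nil .nil) (.node [8,10,10,10,8] .nil .nil)) (.node [10,8,8,10] (.node [10,8,8,8] .nil .nil) .nil))) (.node [10,8,8,10,10] (.node [8,8,8,8] (.node [10,8,8,8] (.node [10,8,10] .nil .nil) (.node [10,8,8,8,8] .nil .nil)) (.node [10,8,10,8] (.node [8,8] .nil .nil) .nil)) (.node [8,10,8,10,10] (.node [10,10,8,8,8] (.node [10,8,8] .nil .nil) (.node [8,8,10] .nil .nil)) (.node [10,8,10,8,8] (.node [10,8] .nil .nil) .nil))))) (.node [10,10,8,8,10] (.node [8,8,8] (.node [10,10,10,8,8,10] (.node [10,8,8,10] (.node [8,10,10,10] (.node [10,8,10,8,8]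 .nil .nil) (.node [8,8,10,8] .nil .nil)) (.node [8,8,8,8,8,8] (.node [10,8,8] .nil .nil) (.node [10,8,10,10,10] .nil .nil))) (.node [10,8,8] (.node [8,8,8,8,8,8] (.node [8,8,10] .nil .nil) (.node [8,10,8,8] .nil .nil)) (.node [10,8,10,8,10] (.node [10,10,8,8,10,10] .nil .nil) .nil))) (.node [8,10,8,10] (.node [10,10,10,8,8,10] (.node [10,8,10,10,10] (.node [10,8,8,8] .nil .nil) (.node [8,8,10,10] .nil .nil)) (.node [8,10,8,8,8] (.node [8,8,10,8,8] .nil .nil) .nil)) (.node [10,10,8,10,8] (.node [10,8,8,10,10] (.node [8] .nil .nil) (.node [10,8,10] .nil .nil)) (.node [8] (.node [8,10,8,10] .nil .nil) .nil)))) (.node [10,8,10,8] (.node [8,10,8] (.node [10] (.node [8,10,10,10,8] (.node [10,10,10] .nil .nil) (.node [8,10,10] .nil .nil)) (.node [10,10,8,10,10] (.node [10,10,8,10,10] .nil .nil) (.node [8,10,8,10,10] .nil .nil))) (.node [8,10] (.node [8,10,8,8,8,8] (.node [10,8,10,8,8,8] .nil .nil) (.node [10,8,10,8,10,10] .nil .nil)) (.node [8,10,8,10] (.node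 [8,8,10] .nil .nil) .nil))) (.node [10,10,8] (.node [8,8,8,8,8,8] (.node [8,10,8,8] (.node [8,8,10,8,8] .nil .nil) (.node [10,8,8] .nil .nil)) (.node [10,8,10,8,8] (.node [8,8,8,8,8,8] .nil .nil) .nil)) (.node [10,10,8,8,10] (.node [10,10,8,10] (.node [10,8,10,8,10] .nil .nil) (.node [8] .nil .nil)) (.node [10,10,8] (.node [8,8,10,10,10] .nil .nil) .nil)))))) (.node [8,10,8,8,8,8] (.node [10,8,10,10,10] (.node [10,10,8] (.node [10,8,10,8] (.node [8,8,10,8,8] (.node [10] (.node [8,10,8,8,8,8] .nil .nil) (.node [10,8,10,10,10] .nil .nil)) (.node [8,8,8,8] (.node [8,10,8,8] .nil .nil) (.node [8,8,10] .nil .nil))) (.node [10,8,10,10,10] (.node [8,8,10,10] (.node [8,10,8,8] .nil .nil) (.node [10,8,8,8,8] .nil .nil)) (.node [] (.node [10,10,10,8,8,10] .nil .nil) .nil))) (.node [10,10,10,8,8] (.node [8,10,10,10] (.node [8,10,10,10] (.node [10,8,10,10] .nil .nil) (.node [8,8,8,8,8] .nil .nil)) (.node [8,8,10,10,10] (.node [10,10,8,8,10,10] .nil .nil) (.node [8]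 .nil .nil))) (.node [8,8,8,8] (.node [8,8,8,8] (.node [10,8,8,8,8] .nil .nil) (.node [10,8,10,8,8] .nil .nil)) (.node [8,10,10,10] (.node [10,8,10] .nil .nil) .nil)))) (.node [10,10,8] (.node [10,8,10,8,10] (.node [10,8,8] (.node [10,10,10] (.node [8,10] .nil .nil) (.node [] .nil .nil)) (.node [8,8,8,8,8] (.node [10,8,8,8,8] .nil .nil) (.node [10,10,10,8] .nil .nil))) (.node [] (.node [10,10,8,8,10,10] (.node [10,10,8,8,10] .nil .nil) (.node [8,10,8] .nil .nil)) (.node [10,8,10,8,10,10] (.node [10,8,10,8,10] .nil .nil) .nil))) (.node [8,8,10] (.node [8,10,8,10,10] (.node [10,10,8,8,10] (.node [8,8,8,8,8] .nil .nil) (.node [10,8,10,10,10] .nil .nil)) (.node [10,10,8,8,8] (.node [10,8,8] .nil .nil) .nil)) (.node [8,8] (.node [10,8,10,8] (.node [10,8,8,10] .nil .nil) (.node [10,10,8] .nil .nil)) (.node [10,8,10] (.node [8,8,8,8,8] .nil .nil) .nil))))) (.node [10,8,10,8,10] (.node [10,8,10,8,10,10] (.node [8,8,8,8] (.node [8,10,8,8] (.node [] (.node [10,8,8]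 .nil .nil) (.node [8,10] .nil .nil)) (.node [8,8,10,8,8] (.node [8,10,8,10,10] .nil .nil) (.node [8,10,8,8,8,8] .nil .nil))) (.node [10,8,10,8] (.node [10] (.node [10,8,10,8,8] .nil .nil) (.node [] .nil .nil)) (.node [8,8,10] (.node [8,8,10,8,8] .nil .nil) .nil))) (.node [8,8,10,8,8] (.node [10,10,8] (.node [10,10,8,8,10] (.node [10,10,10,8,8] .nil .nil) (.node [8,10,8,8,8] .nil .nil)) (.node [8,8,10] (.node [8,8,8,8] .nil .nil) .nil)) (.node [8,8,8,8,8] (.node [8,10,8,8,8] (.node [] .nil .nil) (.node [8,8,10,8] .nil .nil)) (.node [8,8,8] (.node [8,10,10,10] .nil .nil) .nil)))) (.node [10,8,10,10] (.node [10,10,8,10] (.node [10,8,10] (.node [10,10,8] (.node [8,8,10,8] .nil .nil) (.node [10,8,10,10,10,8] .nil .nil)) (.node [10,10,8,8] (.node [8,8,8,8,8,8] .nil .nil) (.node [8,8,10,8,8] .nil .nil))) (.node [8,8,8,8,8,8] (.node [8,10,8,8,8] (.node [8,8,8,8,8,8] .nil .nil) (.node [8,10,8,8,8] .nil .nil)) (.node [8,10,8,8] (.node [8,10,10,10,8] .nil .nil) .nil)))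 (.node [10,8,10,10,10] (.node [10,8] (.node [10,10,8,10] (.node [10,8] .nil .nil) (.node [8,10] .nil .nil)) (.node [10,8,10,8] (.node [8,8,10,10,10] .nil .nil) .nil)) (.node [8,10,10,10,8] (.node [10,8,10,10,10,8] (.node [10,8,8,8] .nil .nil) (.node [10,8] .nil .nil)) (.node [8,10,8,10] (.node [10,8,10,8,8,8] .nil .nil) .nil))))))) (.node [8,10,8] (.node [8] (.node [10,10,8,10,10] (.node [10,10,8,8,10] (.node [10,10,8,10] (.node [8,8,8] (.node [10,8,10,8,8,8] (.node [10,8,10,8,10,10] .nil .nil) (.node [8,10] .nil .nil)) (.node [8,10] (.node [8,10,8,8] .nil .nil) (.node [8,8,10,10,10] .nil .nil))) (.node [10,8,10,8,8] (.node [10,10,8,8,10,10] (.node [10,8,10,10,10] .nil .nil) (.node [10,8,10,8,8] .nil .nil)) (.node [10,10,10,8,8] (.node [8,10,10,10,8] .nil .nil) .nil))) (.node [10,8,10,8,8,8] (.node [10,8,10,10] (.node [10,10,8] (.node [10,10] .nil .nil) (.node [8,8,10] .nil .nil)) (.node [10,10,8,8] (.node [8,10,8,8] .nil .nil) (.node [8,10,10] .nil .nil)))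 (.node [10,8,8,10,10] (.node [10,8,10,10] (.node [8,10,8,8] .nil .nil) (.node [8,10,8,10] .nil .nil)) (.node [8,8,8] (.node [] .nil .nil) .nil)))) (.node [10,10,8,8,10] (.node [10,10,8,8,8] (.node [10,10,8,10,10] (.node [8,10,8,8,8,8] (.node [8,10,8,10] .nil .nil) (.node [8,10,8,10,10] .nil .nil)) (.node [10,8,8,10] (.node [8,10,8,10] .nil .nil) (.node [8,8,10] .nil .nil))) (.node [8,8] (.node [10,8,10,8,10] (.node [10,8,10,8,10] .nil .nil) (.node [10,10,8,10,8] .nil .nil)) (.node [10] (.node [8,8,8,8] .nil .nil) .nil))) (.node [10,10] (.node [10,10,8,10,10] (.node [8,10,8] (.node [8,10,8,8,8] .nil .nil) (.node [10,10,8,8,10,10] .nil .nil)) (.node [8,10,8,8] (.node [10,8,8,8,8] .nil .nil) .nil)) (.node [10,8,10,8,10,10] (.node [8] (.node [8,10,8,10] .nil .nil) (.node [8,10,10] .nil .nil)) (.node [10,8,10,8] (.node [10,8,8,10,10] .nil .nil) .nil))))) (.node [10,8,10,8] (.node [8,8] (.node [8,8] (.node [8,8,10,8,8] (.node [10,10,8] (.node [10,10,10] .nil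 .nil) (.node [10,10,8,8,8] .nil .nil)) (.node [10,10,8] (.node [10,10,10,8] .nil .nil) (.node [10,8,10,8,8] .nil .nil))) (.node [8] (.node [10,10,10,8,8] (.node [8,10,10] .nil .nil) (.node [] .nil .nil)) (.node [10,10,8,10] (.node [8,8,10,8] .nil .nil) .nil))) (.node [8,8,10,10,10] (.node [10,10,10,8,8] (.node [10,10] (.node [10,10,8,10] .nil .nil) (.node [10,8,10,10] .nil .nil)) (.node [10,10,8,10] (.node [10,8,10,8,8,8] .nil .nil) .nil)) (.node [8,8,10,8] (.node [10,8,10,10,10] (.node [10,8,10,8,10,10] .nil .nil) (.node [8,8,10,10,10] .nil .nil)) (.node [10,8,8,8,8] (.node [10,10,10,8,8] .nil .nil) .nil)))) (.node [8,10] (.node [8,8,10,10] (.node [8,8,10,10,10] (.node [8,10,8,10,10] (.node [8,8,10,10] .nil .nil) (.node [10,8,10,10,10] .nil .nil)) (.node [8,8,10,8] (.node [10,8,8,8] .nil .nil) (.node [10,8,8,8] .nil .nil))) (.node [8,10,10,10,8] (.node [8,10] (.node [8,10,8,8,10] .nil .nil) (.node [10,10,8,8,8] .nil .nil)) (.node [8,8,10,8,8] (.node [10,8,10,8,10]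 .nil .nil) .nil))) (.node [8,8,10,10] (.node [8,10,10,10] (.node [10,10,10] (.node [8,8,10,8,8] .nil .nil) (.node [8,8,10,10] .nil .nil)) (.node [8,8,10] (.node [8,8,10,8] .nil .nil) .nil)) (.node [8,8,10] (.node [10,8,8,8] (.node [10,8,8] .nil .nil) (.node [10,8,8,8] .nil .nil)) (.node [10,8,10,8] (.node [8,10,8,8,10] .nil .nil) .nil)))))) (.node [10,8,10,10,10] (.node [8,10,8,8] (.node [10,10,10,8,8] (.node [10,8] (.node [8,10,8,8] (.node [10,8,10,8,8] (.node [8,10,10] .nil .nil) (.node [10] .nil .nil)) (.node [10,10,8,10,8] (.node [10,8,10,8,10,10] .nil .nil) (.node [10,8,10,8] .nil .nil))) (.node [10,8,10,8,8,8] (.node [10,10,8,10,10] (.node [10,10,8,10] .nil .nil) (.node [8,10,10] .nil .nil)) (.node [8] (.node [10,10,10,8,8] .nil .nil) .nil))) (.node [10,10,8,8,10] (.node [10,8,10,8,10,10] (.node [] (.node [10,8,10,8] .nil .nil) (.node [8,10,8,8,8,8] .nil .nil)) (.node [8,8,8,8] (.node [10,10] .nil .nil) (.node [10,10,10,8,8,10] .nil .nil))) (.node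 [10,10,10,8,8] (.node [10,10] (.node [10,8,8,8] .nil .nil) (.node [8,10,8,8,8,8] .nil .nil)) (.node [8,8,10,10,10] (.node [10,8,8] .nil .nil) .nil)))) (.node [8,8,10,8,8] (.node [10,10,8,8,8] (.node [8,10,10,10] (.node [8,10,8,10] (.node [8,8,8,8] .nil .nil) (.node [10,10,8,10,8] .nil .nil)) (.node [8] (.node [10,8,10,8,8,8] .nil .nil) (.node [8,10,8,8,10] .nil .nil))) (.node [8,10,8,8,8] (.node [8,10,8] (.node [10,8,10] .nil .nil) (.node [8,8,10,10] .nil .nil)) (.node [10,8,10,8,8] (.node [8,8,8,8,8,8] .nil .nil) .nil))) (.node [8,10,8,8,8,8] (.node [10,10] (.node [10,8,10,10,10,8] (.node [8,8,10,10,10] .nil .nil) (.node [8,10,8,8,10] .nil .nil)) (.node [10,10,10,8,8,10] (.node [10,10,8,10,8] .nil .nil) .nil)) (.node [10,8,10,8,10] (.node [10,10,8,8,8] (.node [10,8,10,10] .nil .nil) (.node [8,8] .nil .nil)) (.node [10,8,10,8,8] (.node [8,8,8,8,8,8] .nil .nil) .nil))))) (.node [8,8,10] (.node [8,10,10] (.node [8,8,10,8,8] (.node [8,10,10,10,8] (.node [8,10,8,10,10]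 (.node [8,10,10] .nil .nil) (.node [8,8,8,8,8] .nil .nil)) (.node [10,8,10] (.node [10,8,8,8] .nil .nil) (.node [10,8,10,8] .nil .nil))) (.node [8,8,8,8,8] (.node [10,8,8,8] (.node [8,10,8,8] .nil .nil) (.node [10,8,10,10] .nil .nil)) (.node [10,10,8,10,10] (.node [] .nil .nil) .nil))) (.node [8,8,8,8,8] (.node [] (.node [10,8,10,10,10,8] (.node [8,8,10,10,10] .nil .nil) (.node [10,8,10,10,10] .nil .nil)) (.node [8,10,8,8,8] (.node [10,10,8,8] .nil .nil) .nil)) (.node [8,8,10,8] (.node [8,8,10,8] (.node [10,10,8,8,10,10] .nil .nil) (.node [8,10,10] .nil .nil)) (.node [10,10,8,8,10,10] (.node [10,10,8,8] .nil .nil) .nil)))) (.node [10,8,8,8,8] (.node [10,10,8,10] (.node [10,8,10,8,10,10] (.node [10,10,10,8] (.node [10,10,8,8,8] .nil .nil) (.node [8,8,8,8,8] .nil .nil)) (.node [10,8,10,8,10] (.node [10,8] .nil .nil) (.node [8,10,8,8,8,8] .nil .nil))) (.node [8,8,10,8,8] (.node [10,8,10,8,10,10] (.node [10,8,8,8] .nil .nil) (.node [8,8,10,8] .nil .nil)) (.node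 [10,10,10,8,8,10] (.node [10,8,8,8] .nil .nil) .nil))) (.node [10,8,10,8,10] (.node [10,10,10,8] (.node [8,10,8,10,10] (.node [8,10,8,8] .nil .nil) (.node [8,8,8,8,8] .nil .nil)) (.node [10,8,10] (.node [8,8,10,8,8] .nil .nil) .nil)) (.node [10,8,10,10] (.node [8,10,8,10] (.node [10,8,8,10,10] .nil .nil) (.node [8,8,8,8,8] .nil .nil)) (.node [10,10,10] (.node [10,10,8,8,10,10] .nil .nil) .nil))))))))

/-- Part of `moveWord`. -/
noncomputable def moveWord_l_r_r_r : Arr (List ℕ) :=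
  .node [10,8,10,8,10] moveWord_l_r_r_r_l moveWord_l_r_r_r_r

/-- Part of `moveWord`. -/
noncomputable def moveWord_l_r_r : Arr (List ℕ) :=
  .node [8,8,10,8,8] moveWord_l_r_r_l moveWord_l_r_r_r

/-- Part of `moveWord`. -/
noncomputable def moveWord_l_r : Arr (List ℕ) :=
  .node [10,8,8,10] moveWord_l_r_l moveWord_l_r_r

/-- Part of `moveWord`. -/
noncomputable def moveWord_l : Arr (List ℕ) :=
  .node [10,8,8,8,8] moveWord_l_l moveWord_l_r

/-- Part of `moveWord`. -/
noncomputable def moveWord_r_l_l_l_l : Arr (List ℕ) :=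
  (.node [10,8,10,10,10,8] (.node [10,10,8,8,10] (.node [8,8,10,10,10] (.node [8,10,10,10] (.node [10,10,8,8,10] (.node [10,10,8,8] (.node [10,8,10,8,10,10] (.node [10,10,8,10] (.node [8,10,8,8,8] .nil .nil) (.node [10,8,10,10,10] .nil .nil)) (.node [8,10,10] (.node [8,10,8] .nil .nil) (.node [10,10,8,8,8] .nil .nil))) (.node [10,10,8,8,10,10] (.node [8,10,8,8,8,8] (.node [8,10,8,8] .nil .nil) (.node [8,8] .nil .nil)) (.node [8,8] (.node [10,10,8] .nil .nil) .nil))) (.node [10,10,8,10,10] (.node [10,8,8] (.node [10,10,10,8,8] (.node [10,10,10] .nil .nil) (.node [10,8,10,8,10,10] .nil .nil)) (.node [10,8,10,10,10] (.node [10,10,8,8,8] .nil .nil) (.node [10,10,10] .nil .nil))) (.node [8,10,8,10,10] (.node [10,8,8,8,8] (.node [10,10] .nil .nil) (.node [10,8,10] .nil .nil)) (.node [8,8,8] (.node [10,10,8,10,10] .nil .nil) .nil)))) (.node [8,10,10,10] (.node [10,8,8,8] (.node [10,10,8,10] (.node [10,10,8,10,10] (.node [10,8,8,10,10] .nil .nil) (.node [10,8,10,8,8]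 .nil .nil)) (.node [8,10,8] (.node [8,10,8,8,8,8] .nil .nil) (.node [8,10,10,10] .nil .nil))) (.node [10,10] (.node [10,10,10,8] (.node [10,10,10,8,8,10] .nil .nil) (.node [10,10] .nil .nil)) (.node [10,10,8,8,8] (.node [10,10,10,8,8] .nil .nil) .nil))) (.node [8] (.node [10,8,10,8,8] (.node [10,10,10,8,8,10] (.node [8,10,8,8,10] .nil .nil) (.node [10,10,10,8,8,10] .nil .nil)) (.node [10,10,10] (.node [10,10,10] .nil .nil) .nil)) (.node [10,10,8,8,10] (.node [10,10,10,8] (.node [10,8,8,8] .nil .nil) (.node [10,10,8,10,8] .nil .nil)) (.node [10,10,8,8,10,10] (.node [8,10,10] .nil .nil) .nil))))) (.node [8,8,10,8] (.node [8,10,8,8,10] (.node [10,10] (.node [10,10,10,8,8] (.node [8,8,8,8] (.node [10,8,10,10,10] .nil .nil) (.node [8,10,10,10,8] .nil .nil)) (.node [10,8,10] (.node [10,10,10,8] .nil .nil) (.node [10,8,10,10] .nil .nil))) (.node [10,10,10,8,8,10] (.node [8,8,10,8,8] (.node [8,10,10,10] .nil .nil) (.node [10,8,8] .nil .nil)) (.node [10,8,10,8,10]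 (.node [10,10] .nil .nil) .nil))) (.node [10,10,10,8] (.node [] (.node [10,8,10,10] (.node [10,8,8,8,8] .nil .nil) (.node [10,8,10,8,8] .nil .nil)) (.node [] (.node [10,8,10,8,10,10] .nil .nil) .nil)) (.node [10,8,10,8] (.node [10,10,8,8,10,10] (.node [8,10,10,10] .nil .nil) (.node [8,8,10] .nil .nil)) (.node [10,10,8,8,8] (.node [10,8,10,10,10] .nil .nil) .nil)))) (.node [10,10,8,10,10] (.node [10,8,8] (.node [10,10,10] (.node [10,10,10,8,8,10] (.node [8,10] .nil .nil) (.node [8,10,10,10] .nil .nil)) (.node [10,8,8,8] (.node [10,8,10,10,10,8] .nil .nil) (.node [8,10,8,8,8] .nil .nil))) (.node [8,8,8] (.node [10,10,10,8] (.node [10,10,8] .nil .nil) (.node [8,10] .nil .nil)) (.node [10,8,10,8] (.node [8,8,8] .nil .nil) .nil))) (.node [8,10,8,10] (.node [10,10,8,10,8] (.node [8,8,10,10] (.node [8,10,10,10] .nil .nil) (.node [10,8,10,8,10] .nil .nil)) (.node [8,8,8] (.node [10,10,8] .nil .nil) .nil)) (.node [10,10,10,8,8,10] (.node [10,8] (.node [8,10,10,10]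 .nil .nil) (.node [8,8,10,10] .nil .nil)) (.node [8,10,8,8,8] (.node [10,10,8,8,10,10] .nil .nil) .nil)))))) (.node [10,8,10,8,10] (.node [10,10,8,8] (.node [8,10,8,8,10] (.node [8,10,10] (.node [10,8,10,8,8] (.node [10,10,8,10,10] (.node [10,10,10,8,8,10] .nil .nil) (.node [10,8,10,10] .nil .nil)) (.node [8,10,8,10] (.node [10,8,10,10] .nil .nil) (.node [10,8,10,10,10] .nil .nil))) (.node [10,8,10,8] (.node [10,8,8,10] (.node [10,8,10,8,8,8] .nil .nil) (.node [10,10,8,8] .nil .nil)) (.node [10,8,8] (.node [10,10,8,10,10] .nil .nil) .nil))) (.node [8,10,10,10,8] (.node [10,8,10,8,10,10] (.node [8,8,8] (.node [] .nil .nil) (.node [10,8,10,10,10,8] .nil .nil)) (.node [10,8,10,8,8,8] (.node [10,10,10,8] .nil .nil) (.node [10,8,10] .nil .nil))) (.node [10,10,8,8,10] (.node [10,10,8,8,8] (.node [8,8,10] .nil .nil) (.node [8,10] .nil .nil)) (.node [10,8,10] (.node [8] .nil .nil) .nil)))) (.node [8,8,8] (.node [] (.node [8,10,10,10,8] (.node [8] (.node [8,8,8]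 .nil .nil) (.node [8] .nil .nil)) (.node [8,8,8] (.node [10,10,8,8,10,10] .nil .nil) (.node [10,8,8,8] .nil .nil))) (.node [10,8,10,8,10] (.node [8,10,8,8] (.node [10,8,10,8] .nil .nil) (.node [8,8,10] .nil .nil)) (.node [8,8,8,8,8] (.node [8,10] .nil .nil) .nil))) (.node [8,10,8,10,10] (.node [10,8,8,8] (.node [10,8,10,8,8] (.node [8,10] .nil .nil) (.node [10,10,8,8,10] .nil .nil)) (.node [8,10,10] (.node [10,10,8,8,10,10] .nil .nil) .nil)) (.node [10,10,8,8,10,10] (.node [10,8,8,10,10] (.node [10,8,10,8] .nil .nil) (.node [10,8] .nil .nil)) (.node [8,10,10] (.node [8,8,10,8] .nil .nil) .nil))))) (.node [8,10,8,10] (.node [10,8] (.node [8,10,8] (.node [8,8,8,8,8,8] (.node [10,8,10,10,10,8] (.node [10,8,8,8] .nil .nil) (.node [8,8,8,8] .nil .nil)) (.node [10,8,10,8,10] (.node [10,8,8,10] .nil .nil) (.node [10,10] .nil .nil))) (.node [8,8,8,8,8,8] (.node [8,8,10,8] (.node [8,10,8,10,10] .nil .nil) (.node [8,10,10,10] .nil .nil)) (.node [8,8] (.node [10]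 .nil .nil) .nil))) (.node [8,8,8,8,8,8] (.node [10,8,10,8,10,10] (.node [10,8,8] (.node [8,8,10,8,8] .nil .nil) (.node [8,10,8] .nil .nil)) (.node [8,10,8] (.node [8,10,8,8,8,8] .nil .nil) .nil)) (.node [10,10,10,8] (.node [8,8,10,8] (.node [] .nil .nil) (.node [10,8,10,8,8] .nil .nil)) (.node [10,10,8,8] (.node [8,8,8,8] .nil .nil) .nil)))) (.node [8,10,8,10] (.node [10,8,10,8,8] (.node [10,10,8,10] (.node [10,10,8,8] (.node [10,10,10,8,8] .nil .nil) (.node [10,8,10,8,8] .nil .nil)) (.node [10,8,10,8,10,10] (.node [10,8] .nil .nil) (.node [10,8] .nil .nil))) (.node [8,10,8] (.node [10,8,10,10,10,8] (.node [8] .nil .nil) (.node [8,8,8,8,8] .nil .nil)) (.node [10,10,8,10,8] (.node [10,10,10,8] .nil .nil) .nil))) (.node [10,8,10,8,8] (.node [10,8,10] (.node [8,10,8,8,8] (.node [10,10,8,10,8] .nil .nil) (.node [10,10,10,8] .nil .nil)) (.node [10,8,10,8,10,10] (.node [8,8,10,8,8] .nil .nil) .nil)) (.node [8,10,10,10] (.node [10,10,8,8,10,10] (.node [10,10,8,8,8]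 .nil .nil) (.node [10,10,8,10,8] .nil .nil)) (.node [10,10,8,8,10] (.node [10,10,10,8,8,10] .nil .nil) .nil))))))) (.node [8] (.node [10,8] (.node [8,10,8,8,8] (.node [8,8,10,10,10] (.node [8,8,10,8,8] (.node [10,10,10,8,8,10] (.node [10,8,10,10,10] (.node [8,10,10] .nil .nil) (.node [8,10,10] .nil .nil)) (.node [10,8] (.node [10,8,8,8,8] .nil .nil) (.node [10,10,8,8,8] .nil .nil))) (.node [10,10,8] (.node [8,8,10,8,8] (.node [10,10,8,8,8] .nil .nil) (.node [10,8,8,8] .nil .nil)) (.node [8,8,8,8,8] (.node [] .nil .nil) .nil))) (.node [8,8,8,8,8] (.node [10,8,10,10] (.node [8,10,10] (.node [10,8] .nil .nil) (.node [10,10,8,8,10,10] .nil .nil)) (.node [10,8,10,10,10,8] (.node [] .nil .nil) (.node [10,10,8,10,8] .nil .nil))) (.node [8] (.node [8,8,10] (.node [8,8,8,8] .nil .nil) (.node [8,10,8] .nil .nil)) (.node [10] (.node [8,10,8,8,10] .nil .nil) .nil)))) (.node [10,10,8,10,8] (.node [8,10,8,10] (.node [10,10,8,8] (.node [8,8,10,10,10] (.node [10,10,8,8,10]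 .nil .nil) (.node [8,10,8,8] .nil .nil)) (.node [10,10,8,10] (.node [10,8,10,8,8,8] .nil .nil) (.node [10,10,8,10,8] .nil .nil))) (.node [8,10,8,8] (.node [10,8,10,8,10,10] (.node [8,10,8,10,10] .nil .nil) (.node [10,8,10,8,10] .nil .nil)) (.node [10,10] (.node [8,8,8] .nil .nil) .nil))) (.node [8,10,8,10,10] (.node [8,10,8,8,8,8] (.node [10,10,8,10,10] (.node [8,8,10,10,10] .nil .nil) (.node [10,8] .nil .nil)) (.node [10,10,8,8,10,10] (.node [10,10,8,8,10,10] .nil .nil) .nil)) (.node [8,8,10,8] (.node [] (.node [10,8,10] .nil .nil) (.node [10,8,10,8,10] .nil .nil)) (.node [10,8,10,8,8,8] (.node [10,10,10,8] .nil .nil) .nil))))) (.node [10,8,10,8,10] (.node [8,10,8,8] (.node [10,10,10,8] (.node [8,10,8,10,10] (.node [8,10,8,10,10] (.node [10,10,8,8,10] .nil .nil) (.node [10,8,10,8,10,10] .nil .nil)) (.node [8,10,8,10] (.node [8,10] .nil .nil) (.node [10,8] .nil .nil))) (.node [10,10,8] (.node [10,10] (.node [8,10,8,8,10] .nil .nil) (.node [10,8,10,8,10]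 .nil .nil)) (.node [10,8,8] (.node [10,8,10,10,10] .nil .nil) .nil))) (.node [10,8,10,8] (.node [8,8,8] (.node [10,10,8,8,10,10] (.node [10,10,8] .nil .nil) (.node [10,8,8,10,10] .nil .nil)) (.node [10,8,10,8,10] (.node [8,8,10] .nil .nil) .nil)) (.node [10,10,8,8,10,10] (.node [8,8] (.node [8,8,10,10,10] .nil .nil) (.node [8,10,8,8,10] .nil .nil)) (.node [8,10,8,10,10] (.node [10,8,10,8,10] .nil .nil) .nil)))) (.node [8,8,8,8,8] (.node [10,8,10,10] (.node [10,10,8] (.node [8,10,8,10] (.node [10,10,10,8,8] .nil .nil) (.node [8,10,8] .nil .nil)) (.node [10,8,10,8,8] (.node [8,8,8,8] .nil .nil) (.node [10,8,10,10,10,8] .nil .nil))) (.node [8,10,8,8,10] (.node [8,8,8,8] (.node [10,8,10,10,10,8] .nil .nil) (.node [8,8,10,8,8] .nil .nil)) (.node [10,8,8,10,10] (.node [8,10,8,10,10] .nil .nil) .nil))) (.node [10,10,8,8,10,10] (.node [10,10,8] (.node [10,8] (.node [10,10,10] .nil .nil) (.node [10,8,10,8,8,8] .nil .nil)) (.node [10,8,8,10] (.node [8,8,8,8,8,8]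 .nil .nil) .nil)) (.node [10,10,8,8,8] (.node [8] (.node [10] .nil .nil) (.node [10,10,10,8,8] .nil .nil)) (.node [10,8,10] (.node [] .nil .nil) .nil)))))) (.node [10,10,10] (.node [10,8,10,8,8] (.node [10,8,10,8,10,10] (.node [10,10,8,8,8] (.node [8,8,10,10] (.node [10,10,8] (.node [8,10,8,10] .nil .nil) (.node [8] .nil .nil)) (.node [10,8,10,8,8,8] (.node [10,8,8,10] .nil .nil) (.node [8,8,10] .nil .nil))) (.node [10,8,10,8] (.node [10,10,8,10,10] (.node [10,8,8,10] .nil .nil) (.node [8,10] .nil .nil)) (.node [8,10,8,10,10] (.node [8,10,8,8,8,8] .nil .nil) .nil))) (.node [10,10,8,10,8] (.node [8,8,8,8,8,8] (.node [10,8,8,8,8] (.node [10,10,10,8,8] .nil .nil) (.node [] .nil .nil)) (.node [10,10,10] (.node [10,10,8,8] .nil .nil) (.node [10,10] .nil .nil))) (.node [8,10,10,10] (.node [10,10,8,10] (.node [10,10,8,8,8] .nil .nil) (.node [10,10] .nil .nil)) (.node [10,8,10,8,10,10] (.node [8,10,8,10,10] .nil .nil) .nil)))) (.node [10,10,8,8,10,10] (.node [8,8,8,8]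 (.node [8,10,8,8,8] (.node [10,10,8,10,8] (.node [10,8] .nil .nil) (.node [8,8,8,8,8,8] .nil .nil)) (.node [10,8,8,8,8] (.node [8,8,10,8] .nil .nil) (.node [10,8,10] .nil .nil))) (.node [10,8,8,10] (.node [10,10,8] (.node [10,10,8,10,10] .nil .nil) (.node [10,8] .nil .nil)) (.node [10,10,10,8,8] (.node [10] .nil .nil) .nil))) (.node [8,10,8,10,10] (.node [10,8] (.node [8,8,8,8,8] (.node [10,10,8,8] .nil .nil) (.node [8,10] .nil .nil)) (.node [10,8,8,8] (.node [8,8,10] .nil .nil) .nil)) (.node [8,10,10] (.node [10,8] (.node [8,10] .nil .nil) (.node [8,10,10,10] .nil .nil)) (.node [10,10,10] (.node [] .nil .nil) .nil))))) (.node [10,10,8,10,10] (.node [8,10,8] (.node [10,10,10] (.node [10,10,8,8] (.node [10,8,10,10] (.node [] .nil .nil) (.node [8,10,10,10] .nil .nil)) (.node [10,10,8,8] (.node [8,10,8,10,10] .nil .nil) (.node [8,8,10,8] .nil .nil))) (.node [8,8,8,8] (.node [8,8,10,8] (.node [10,10,8,10] .nil .nil) (.node [8,10,8,8] .nil .nil)) (.node [10]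 (.node [10,10,8,10,8] .nil .nil) .nil))) (.node [10,8,10,8] (.node [8,8,8,8] (.node [8,8] (.node [8,8,10] .nil .nil) (.node [8,8] .nil .nil)) (.node [10,8,8,8] (.node [10,10,10] .nil .nil) .nil)) (.node [10,10,8] (.node [10,8,8,8] (.node [8,8,10,8,8] .nil .nil) (.node [10,10,10,8] .nil .nil)) (.node [10,10,10,8,8] (.node [10,8,8] .nil .nil) .nil)))) (.node [8,8,10,8,8] (.node [10,10,8,10,8] (.node [8,10,8,10,10] (.node [10,8,10,8] (.node [10,8,8,10] .nil .nil) (.node [8,8,10] .nil .nil)) (.node [8] (.node [8,8,10,10] .nil .nil) (.node [8,8,10,8] .nil .nil))) (.node [8,8,10,10,10] (.node [8] (.node [8,8,8,8] .nil .nil) (.node [10,8,10,10,10] .nil .nil)) (.node [10,8,8] (.node [8,8,10,8] .nil .nil) .nil))) (.node [8,10,8,8,8,8] (.node [10,8,8,10,10] (.node [10,10,8,10,8] (.node [8] .nil .nil) (.node [8,10,10] .nil .nil)) (.node [10,10,10] (.node [8,10,8,8,10] .nil .nil) .nil)) (.node [8,8,10,8,8] (.node [10,8,10,8] (.node [10,10,8,8,8] .nil .nil) (.node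 [8,10,10,10] .nil .nil)) (.node [8,10,10] (.node [8,10,10,10] .nil .nil) .nil))))))))

/-- Part of `moveWord`. -/
noncomputable def moveWord_r_l_l_l_r : Arr (List ℕ) :=
  (.node [8,8,8] (.node [10,10,8,10,8] (.node [10,10,8,8] (.node [10,10,8,10,10] (.node [8,10,8] (.node [8,10,8,8,10] (.node [10,8,8,10] (.node [10,8,10,8,8] (.node [10,8,8,10] .nil .nil) (.node [8,10,8] .nil .nil)) (.node [8,8,10,10] (.node [10,10,8,10,8] .nil .nil) (.node [8,8,10] .nil .nil))) (.node [10,8,8,8,8] (.node [8,8,8,8,8,8] (.node [10,8,10,8,10,10] .nil .nil) (.node [8,10,10,10] .nil .nil)) (.node [8,8,10,10,10] (.node [8,10,8,8,8] .nil .nil) .nil))) (.node [8,8,8,8] (.node [10,8,10,8,8] (.node [8] (.node [8,10,8,8,10] .nil .nil) (.node [8,10,8,10,10] .nil .nil)) (.node [10] (.node [10,8,8] .nil .nil) (.node [10,8,8,10] .nil .nil))) (.node [8,10,10,10] (.node [8,8,8,8,8,8] (.node [10,10,8,10,10] .nil .nil) (.node [10,10,10,8,8,10] .nil .nil)) (.node [8,8,8,8,8] (.node [10,10]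 .nil .nil) .nil)))) (.node [10,8,8,10] (.node [10,10,8,8] (.node [10,10,10] (.node [8,8,8,8,8] (.node [10,8,10] .nil .nil) (.node [10] .nil .nil)) (.node [10,8] (.node [10,8,8,10,10] .nil .nil) (.node [10,8,8,10,10] .nil .nil))) (.node [10,10,8,8,10,10] (.node [10,8,10,8] (.node [10,8,10,8] .nil .nil) (.node [8,8,10,8,8] .nil .nil)) (.node [10,10,8,8,10,10] (.node [10,10,10] .nil .nil) .nil))) (.node [10,8,10,10,10] (.node [] (.node [8,10,8,8,8,8] (.node [8,10,8,8,8,8] .nil .nil) (.node [10,10,8,8] .nil .nil)) (.node [8,8,8,8] (.node [10,10,10,8,8] .nil .nil) .nil)) (.node [10,8,10,8] (.node [10,10,8] (.node [10,8,10] .nil .nil) (.node [8,8,8,8] .nil .nil)) (.node [10] (.node [10,8,8] .nil .nil) .nil))))) (.node [10,10,8,10,10] (.node [8,10,8,10,10] (.node [8,10,8,10,10] (.node [8,10] (.node [8,8,10,10,10] (.node [8,8,8,8] .nil .nil) (.node [8,10,8,8,8,8] .nil .nil)) (.node [10,10,8] (.node [10,10,8] .nil .nil) (.node [10,8,10,10,10,8] .nil .nil))) (.node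 [10,8,8] (.node [10,8,10,8,10] (.node [10,10,8,10,8] .nil .nil) (.node [8,10,8,8,8,8] .nil .nil)) (.node [10,10,8,10,8] (.node [10,8,10,8,8,8] .nil .nil) .nil))) (.node [8,10,8,8,8,8] (.node [10,8,10,10,10] (.node [8,8,10,8,8] (.node [10,8,10,8,10] .nil .nil) (.node [8,8,10] .nil .nil)) (.node [10,10,8,10] (.node [8,8,10] .nil .nil) .nil)) (.node [10,8] (.node [10,10,10,8] (.node [] .nil .nil) (.node [10,10,8,10,8] .nil .nil)) (.node [10] (.node [8,8,8] .nil .nil) .nil)))) (.node [8,10,8,8,8] (.node [10,8,10,8,8,8] (.node [10,10,10,8,8] (.node [10,10,8,8,8] (.node [] .nil .nil) (.node [10,10,10,8,8,10] .nil .nil)) (.node [10,8,8,10] (.node [8,10,8,10] .nil .nil) (.node [10,8,10,10,10,8] .nil .nil))) (.node [8,8,10,8,8] (.node [10,8,10,8,8,8] (.node [8,8,10] .nil .nil) (.node [8,8,8,8,8] .nil .nil)) (.node [10,10,10,8] (.node [10,8,10] .nil .nil) .nil))) (.node [10,10,8,10] (.node [10,10,8,8] (.node [8,10,8,10] (.node [10,8] .nil .nil) (.node [10,8,10,8,10]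 .nil .nil)) (.node [8,10,10,10] (.node [8,8] .nil .nil) .nil)) (.node [10,8,8] (.node [10,8,8,10] (.node [8,10,8] .nil .nil) (.node [10,10,8,10,10] .nil .nil)) (.node [8,8,8,8,8] (.node [10,10,8,10,10] .nil .nil) .nil)))))) (.node [10,8,10,10] (.node [8,10] (.node [10,10,8] (.node [10,8,8] (.node [10,10] (.node [10,10,10] (.node [10,10,8,8,10] .nil .nil) (.node [10,10,8,10,8] .nil .nil)) (.node [8,8,10,8] (.node [8,10,8,8] .nil .nil) (.node [8,10,8,8,8] .nil .nil))) (.node [8,8,10] (.node [10,8,8] (.node [8,10,8,10,10] .nil .nil) (.node [8,10,8,8] .nil .nil)) (.node [10,10,8,8,10,10] (.node [10,10,8,10,8] .nil .nil) .nil))) (.node [10,10,8,8,10] (.node [8,8,8,8,8] (.node [10,8,10,10,10,8] (.node [8,10,8,10] .nil .nil) (.node [8,10,10,10,8] .nil .nil)) (.node [8,10,8,8,8,8] (.node [10,10,8,8] .nil .nil) (.node [10,10,10] .nil .nil))) (.node [10,10,8,8,8] (.node [10,10,8,8,10,10] (.node [8,10,8,10] .nil .nil) (.node [10,10] .nil .nil)) (.node [10,8] (.node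 [10,10,8,10] .nil .nil) .nil)))) (.node [10,8,8,10,10] (.node [10,8,10,10] (.node [8,10,8,10] (.node [8,10,10] (.node [8,10,8,8,8] .nil .nil) (.node [8,8,8] .nil .nil)) (.node [10,8,10,8,8] (.node [10,10,8,8] .nil .nil) (.node [10,8,8,8] .nil .nil))) (.node [10,10,10] (.node [10,8,10,8,10,10] (.node [8,8,10,10,10] .nil .nil) (.node [8,10,10] .nil .nil)) (.node [10,10,8,8,8] (.node [8,10,8,8] .nil .nil) .nil))) (.node [8,10,8,8,8] (.node [8,8,10] (.node [10,8,10,8,8,8] (.node [10,8,10,8,10,10] .nil .nil) (.node [10,8,10] .nil .nil)) (.node [8,10,8,10] (.node [10,8] .nil .nil) .nil)) (.node [10,10] (.node [10,10,8,10] (.node [10,8,8,10] .nil .nil) (.node [10,8,8] .nil .nil)) (.node [10,8,10,8,8,8] (.node [8,10,10,10] .nil .nil) .nil))))) (.node [8,8] (.node [10,10,8,10,8] (.node [8,10,8,8,10] (.node [10,10,8,8,8] (.node [8,10,8,8,8] (.node [10,8,8,10] .nil .nil) (.node [10,8,8,8,8] .nil .nil)) (.node [8,8,10] (.node [10,8,8,10,10] .nil .nil) (.node [10,8,10,8,8]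 .nil .nil))) (.node [8,8,10] (.node [8,8] (.node [10,10,10,8,8] .nil .nil) (.node [8,8,8,8] .nil .nil)) (.node [10,8,10,10,10,8] (.node [10,10,8,10] .nil .nil) .nil))) (.node [8,10,8,8,8] (.node [8,10,10,10] (.node [8,10,10] (.node [8,8,8,8,8] .nil .nil) (.node [8,10,10,10,8] .nil .nil)) (.node [8,8,8,8,8,8] (.node [8,10,8,8,8] .nil .nil) .nil)) (.node [8,8,10] (.node [10,10,10,8,8,10] (.node [8,8,10,10] .nil .nil) (.node [8,10,8] .nil .nil)) (.node [10,8,10,8,10] (.node [8] .nil .nil) .nil)))) (.node [8,10,8,10,10] (.node [10,8,8,10] (.node [8,8,8,8,8,8] (.node [10,8,10,8] (.node [8,10,8] .nil .nil) (.node [10,8,8,10,10] .nil .nil)) (.node [10,8,10] (.node [8,8,8,8] .nil .nil) (.node [10,8,10,8] .nil .nil))) (.node [10,8,8,10] (.node [10,8,10] (.node [8,8] .nil .nil) (.node [10,10,8,8,10,10] .nil .nil)) (.node [10,10] (.node [8,10,8,8,10] .nil .nil) .nil))) (.node [10,10,10] (.node [8,8,10] (.node [8,10,8,8] (.node [10,8,10,10,10] .nil .nil) (.node [10,8,8,10]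 .nil .nil)) (.node [10,8,8,8,8] (.node [10,8,10,10,10,8] .nil .nil) .nil)) (.node [10,10,8,10] (.node [8,8,8,8,8,8] (.node [8,8,10,10,10] .nil .nil) (.node [10,8,10,8,8] .nil .nil)) (.node [8,8,10,8,8] (.node [10,8,8,10,10] .nil .nil) .nil))))))) (.node [10,8,10] (.node [] (.node [8,8,10] (.node [8,10,8,8,8] (.node [10,8,10,8] (.node [10] (.node [10,8,8,8] (.node [8,10] .nil .nil) (.node [10,8,8,10] .nil .nil)) (.node [10,8,8,8,8] (.node [] .nil .nil) (.node [10] .nil .nil))) (.node [10,10,8,8,10,10] (.node [10,8,10,10,10] (.node [8,8,8,8] .nil .nil) (.node [10,8,10,8,10] .nil .nil)) (.node [10,8,10] (.node [10,10,10] .nil .nil) .nil))) (.node [10,8,10,8,10] (.node [10,8] (.node [10,8,10,10,10,8] (.node [8,8,8,8,8,8] .nil .nil) (.node [10,8] .nil .nil)) (.node [10,10,8,8,10] (.node [10,8,8,8,8] .nil .nil) (.node [8,10,8,10,10] .nil .nil))) (.node [10,8,10] (.node [8,10,8,10] (.node [10,10,8] .nil .nil) (.node [8] .nil .nil)) (.node [10,10,8,10,8] (.node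 [8,8,10,10] .nil .nil) .nil)))) (.node [10,8,10] (.node [8,10,8,8,8,8] (.node [8,10,8,10] (.node [8,8,8,8,8] (.node [8,8,8,8,8,8] .nil .nil) (.node [10,10,8,10,10] .nil .nil)) (.node [10,8,8,10] (.node [10,10] .nil .nil) (.node [] .nil .nil))) (.node [8,8,10,8] (.node [8,8,8] (.node [10,8,10] .nil .nil) (.node [10,8,10,8,8] .nil .nil)) (.node [10,10,8,10] (.node [8,10,8,8] .nil .nil) .nil))) (.node [10,10] (.node [8,10,8] (.node [8,8,10,10,10] (.node [10,8,8,8,8] .nil .nil) (.node [10,10,8,8,8] .nil .nil)) (.node [10,10,8,10] (.node [10,8] .nil .nil) .nil)) (.node [10,10,10] (.node [10,10,10,8] (.node [10,8,8] .nil .nil) (.node [10,8,8,8] .nil .nil)) (.node [10,10,8,10,10] (.node [8,10,8,8,8,8] .nil .nil) .nil))))) (.node [10,8,8] (.node [10,8,8,10] (.node [10,8,8,10,10] (.node [8,8,8,8,8] (.node [10,10,8,10,8] (.node [8,10,8,8,10] .nil .nil) (.node [8,8,10,10,10] .nil .nil)) (.node [10,10,10,8,8,10] (.node [10,8,10,8,8] .nil .nil) (.node [10,8,8,8] .nil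 .nil))) (.node [8,8,8,8] (.node [8,8,10,10] (.node [10,8] .nil .nil) (.node [10,8] .nil .nil)) (.node [8,10,10,10,8] (.node [10,8,10,8,8] .nil .nil) .nil))) (.node [10,10] (.node [10,8,10,10,10] (.node [10,10,8,10,8] (.node [10,8,8,8,8] .nil .nil) (.node [10,8,10,10,10,8] .nil .nil)) (.node [8,8,10,8,8] (.node [10,8,8] .nil .nil) .nil)) (.node [10,10,10,8,8,10] (.node [8,8,10,8] (.node [8,10,8,8,10] .nil .nil) (.node [10,10,8,8,10,10] .nil .nil)) (.node [10] (.node [10,8,8] .nil .nil) .nil)))) (.node [10,10,10,8,8] (.node [10,8,10,10,10] (.node [8,8,8,8,8,8] (.node [] (.node [10,8,10,10] .nil .nil) (.node [10,8,8,8] .nil .nil)) (.node [8,10,10,10] (.node [8,10,8,8,8,8] .nil .nil) (.node [10,8,10,10,10,8] .nil .nil))) (.node [10,10,8,10,10] (.node [8,10] (.node [10,8,10,8,10] .nil .nil) (.node [8,10,8,8,8] .nil .nil)) (.node [8,10,8,10] (.node [8,10,10,10,8] .nil .nil) .nil))) (.node [8,10,8,10,10] (.node [10,10,8,10,10] (.node [10,8,8,10,10] (.node [10,8,10,10]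 .nil .nil) (.node [10,8,10,8,8] .nil .nil)) (.node [10,8,10] (.node [8,8,10,8] .nil .nil) .nil)) (.node [8,10,8] (.node [] (.node [10,8,8] .nil .nil) (.node [10,8,10,10,10,8] .nil .nil)) (.node [10,8,10,8] (.node [10,8,10,8,8] .nil .nil) .nil)))))) (.node [10,8,10] (.node [8,10,8,8,8,8] (.node [8,10,8,8,10] (.node [10,8,8,8,8] (.node [10,10] (.node [10,8,10,10] (.node [8,10,10,10,8] .nil .nil) (.node [10,8,10,8,10] .nil .nil)) (.node [8,8,8,8,8,8] (.node [10,8,8,10] .nil .nil) (.node [8,8,8,8,8] .nil .nil))) (.node [10,10,10,8] (.node [8,8,10,8] (.node [8,10,8,8,10] .nil .nil) (.node [8,8,8] .nil .nil)) (.node [10,8,10,10,10,8] (.node [8,10,8,10] .nil .nil) .nil))) (.node [10,10,8,8] (.node [10,8,10,8,10,10] (.node [8,8,10,8] (.node [10,8,8,10] .nil .nil) (.node [8,8,8] .nil .nil)) (.node [10,8,8,8] (.node [8,10,8,8,8,8] .nil .nil) (.node [10,8,8,8] .nil .nil))) (.node [8,8,10,10] (.node [8,8,10] (.node [10,10,10] .nil .nil) (.node [8,8,10,10] .nil .nil))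 (.node [8] (.node [10,8,8,10] .nil .nil) .nil)))) (.node [10,10,8,10,10] (.node [] (.node [10,8,10,8,8] (.node [10,10,10,8] (.node [8,8,8,8,8] .nil .nil) (.node [10,10] .nil .nil)) (.node [8,8,10,10,10] (.node [8,8,10] .nil .nil) (.node [10,10,8,8] .nil .nil))) (.node [10,10,8,10,8] (.node [10,10,8,8,8] (.node [10,8,10] .nil .nil) (.node [10,8,10,8,10] .nil .nil)) (.node [10,8,8,10] (.node [10,10,8,8,10,10] .nil .nil) .nil))) (.node [10,10,8,10,8] (.node [10,8,10,10] (.node [8,8,10,10,10] (.node [10,10,8,8] .nil .nil) (.node [10,8,10] .nil .nil)) (.node [10,8,8,8] (.node [10] .nil .nil) .nil)) (.node [10,8,8,8,8] (.node [10,8,10,8,10] (.node [10,8,10,8,8,8] .nil .nil) (.node [8,8,8,8] .nil .nil)) (.node [10,8,10,10,10] (.node [8,10,8,8] .nil .nil) .nil))))) (.node [8] (.node [10,10,10,8,8] (.node [8,10,8] (.node [8,10,10] (.node [10,8,10,8] (.node [8,10,8,10,10] .nil .nil) (.node [10,8,8,10,10] .nil .nil)) (.node [8,10,8] (.node [8,8,10,8,8] .nil .nil)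 (.node [10,8,10,10,10,8] .nil .nil))) (.node [10,8,8,10] (.node [8,8,8,8,8,8] (.node [10,8,10,10] .nil .nil) (.node [8,8,8,8] .nil .nil)) (.node [8,10,10,10] (.node [8,10] .nil .nil) .nil))) (.node [10,8,8,10] (.node [8,10] (.node [8,8,10,8] (.node [10,8] .nil .nil) (.node [8,10,8,8,10] .nil .nil)) (.node [] (.node [10,10,10,8,8] .nil .nil) .nil)) (.node [10,8,10] (.node [8,10,10,10,8] (.node [8,10,10,10,8] .nil .nil) (.node [10,8,10,8,10,10] .nil .nil)) (.node [8,10,8,8] (.node [10,10,8,8,10,10] .nil .nil) .nil)))) (.node [8,8,10,10,10] (.node [10,8,10,8,8] (.node [8,10,10] (.node [10,10,8] (.node [] .nil .nil) (.node [10,8,10] .nil .nil)) (.node [10,10,8,8,10] (.node [8,10,8,10] .nil .nil) (.node [10,10,8,10,10] .nil .nil))) (.node [10,10,10,8,8,10] (.node [10,10,10,8,8,10] (.node [10,8,10,10] .nil .nil) (.node [10,8,10,8,10,10] .nil .nil)) (.node [10,8,10,8] (.node [10,10,8,10,10] .nil .nil) .nil))) (.node [8,10,10,10,8] (.node [8,10,8,8] (.node [10,10,10,8,8,10]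 (.node [10,10,8,10,10] .nil .nil) (.node [10,10,10,8,8] .nil .nil)) (.node [10,10,10,8] (.node [8,10,8,8] .nil .nil) .nil)) (.node [8,8,8,8,8] (.node [10,10,8,8,10,10] (.node [10,10,8,10,10] .nil .nil) (.node [10,8,10,10] .nil .nil)) (.node [10,10,8] (.node [10,8,8] .nil .nil) .nil))))))))

/-- Part of `moveWord`. -/
noncomputable def moveWord_r_l_l_l : Arr (List ℕ) :=
  .node [10,8,8,8] moveWord_r_l_l_l_l moveWord_r_l_l_l_r

/-- Part of `moveWord`. -/
noncomputable def moveWord_r_l_l_r_l : Arr (List ℕ) :=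
  (.node [10,8,8,8,8] (.node [10,8,10,10,10,8] (.node [10,8,10,10,10] (.node [8,10,8,10,10] (.node [10,8,10,8,10,10] (.node [8,10,8,8] (.node [10,8,10,8,10] (.node [10,8,8,10,10] (.node [8,10,10,10] .nil .nil) (.node [10,8,8,8] .nil .nil)) (.node [10,8,8,8,8] (.node [10,8,10,10] .nil .nil) (.node [10,10,10,8] .nil .nil))) (.node [8,10] (.node [8,8] (.node [10,8,10,10,10,8] .nil .nil) (.node [8,8,8,8] .nil .nil)) (.node [8,8,10,8] (.node [10,10,8,8,10] .nil .nil) .nil))) (.node [10,10,8,8,8] (.node [8,10,10,10] (.node [8,8,10,10,10] (.node [8,10,8,10] .nil .nil) (.node [8,8,8,8] .nil .nil)) (.node [8,10,10,10,8] (.node [10,10] .nil .nil) (.node [10,8,10,10,10] .nil .nil))) (.node [10,10] (.node [10,8,10,8,10,10] (.node [10,8,10,8,10,10] .nil .nil) (.node [8,10,8,8,8,8] .nil .nil)) (.node [8,10,8,8,8] (.node [10,8,10,8,8,8] .nil .nil) .nil)))) (.node [10,10,10,8,8] (.node [8,10,10,10] (.node [8,10,10,10,8] (.node [10,8,8,8] (.node [8,10,10] .nil .nil) (.node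 [8,8,10,8,8] .nil .nil)) (.node [10,10,8,10,10] (.node [10,8,8,8] .nil .nil) (.node [8] .nil .nil))) (.node [10,8] (.node [10,10,10,8] (.node [8,10,10] .nil .nil) (.node [8,8,8,8,8,8] .nil .nil)) (.node [10,10,8,8,10,10] (.node [8,10,8,8,8,8] .nil .nil) .nil))) (.node [8,8,10] (.node [10,10,10] (.node [10,10,10,8,8] (.node [10,10,8,8,10,10] .nil .nil) (.node [8,10,10,10] .nil .nil)) (.node [10,8,10,8,8] (.node [10,8,10,8,10] .nil .nil) .nil)) (.node [10,10,10] (.node [8,8,10,8] (.node [8,10,10,10,8] .nil .nil) (.node [8,8] .nil .nil)) (.node [10,10,8,8,10,10] (.node [10,10,8,10,8] .nil .nil) .nil))))) (.node [8,8,8] (.node [8,8,10,8] (.node [8,10,8,8,8,8] (.node [8,10,8] (.node [8,10,8,8,8,8] (.node [8,10,8,10,10] .nil .nil) (.node [10,10,8,10,8] .nil .nil)) (.node [10,10,8,10] (.node [10,8,8,10,10] .nil .nil) (.node [8,8,8,8,8] .nil .nil))) (.node [10,10,8] (.node [8,8] (.node [10,10,10,8] .nil .nil) (.node [10,8,10,8,10] .nil .nil)) (.node [10,8,8,10]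 (.node [10,10,10,8] .nil .nil) .nil))) (.node [8,8,8,8,8,8] (.node [8,8] (.node [10,10,8,10,8] (.node [10,8,10,8] .nil .nil) (.node [8,8,10,10,10] .nil .nil)) (.node [8,8] (.node [10,10,8,8,8] .nil .nil) .nil)) (.node [10,8,10,8,8] (.node [8,8,10,8,8] (.node [8,10,8,8] .nil .nil) (.node [10,10] .nil .nil)) (.node [10,8,8,8] (.node [10,10] .nil .nil) .nil)))) (.node [10,10,10,8,8,10] (.node [8,10,8,8,10] (.node [10,10,10,8,8,10] (.node [10,8,10,10,10,8] (.node [8,10,8,8] .nil .nil) (.node [8,10,10,10] .nil .nil)) (.node [8,8,8] (.node [8,8,8] .nil .nil) (.node [8,10,8,10] .nil .nil))) (.node [] (.node [8,8] (.node [10,8,10,8] .nil .nil) (.node [8,8,10] .nil .nil)) (.node [10,8,8,8,8] (.node [10] .nil .nil) .nil))) (.node [10,8,8] (.node [10,8,10,8,8,8] (.node [8,10,8] (.node [10] .nil .nil) (.node [10,8,10,8,8] .nil .nil)) (.node [10,10,10,8] (.node [8,10,10,10,8] .nil .nil) .nil)) (.node [10,8,10,10,10] (.node [8,10,8,8,8] (.node [8,10,8,10,10] .nil .nil)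 (.node [8,10,8] .nil .nil)) (.node [8,10,8] (.node [8,10] .nil .nil) .nil)))))) (.node [10,10,10] (.node [8,8,8] (.node [10,10,8,8,8] (.node [8,10,8] (.node [10,8] (.node [8,10,8,8] (.node [10,8,10,8] .nil .nil) (.node [8,10] .nil .nil)) (.node [10,8,10,8,8] (.node [8,10,8] .nil .nil) (.node [8,8,10,8,8] .nil .nil))) (.node [10,8] (.node [8,10,8,8,8,8] (.node [8,8,10,8,8] .nil .nil) (.node [8,8,8,8,8] .nil .nil)) (.node [10,8,10,8,8] (.node [10,8,8,8] .nil .nil) .nil))) (.node [8,10,8,8,10] (.node [10,10,8,8] (.node [8,10,8] (.node [10,8,10,8,8,8] .nil .nil) (.node [10,8,10,8,8] .nil .nil)) (.node [] (.node [10,8] .nil .nil) (.node [10,8,8,8,8] .nil .nil))) (.node [10,10,8,10,10] (.node [8,8,10,10,10] (.node [8,10,10,10,8] .nil .nil) (.node [8,10,8] .nil .nil)) (.node [10,10,8] (.node [8,10,8,8] .nil .nil) .nil)))) (.node [8,8,8,8,8,8] (.node [10,8] (.node [8,10,8] (.node [8,10,10,10] (.node [8,10,10] .nil .nil) (.node [8,8,10,8] .nil .nil)) (.node [10,8,10,10]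 (.node [10,10,8,10,8] .nil .nil) (.node [8,8,8] .nil .nil))) (.node [10,8] (.node [8,8,8,8,8,8] (.node [8,10,10] .nil .nil) (.node [8,10,8] .nil .nil)) (.node [] (.node [10,8,8,10] .nil .nil) .nil))) (.node [8,10,8,10,10] (.node [10,8,10,10] (.node [10,10,8,8,10] (.node [8,10,8,8,10] .nil .nil) (.node [10,10,10,8,8] .nil .nil)) (.node [8,8,8] (.node [8,10,10,10] .nil .nil) .nil)) (.node [10,8,8,8] (.node [8,10,8,8,8] (.node [10,8,10,8] .nil .nil) (.node [8,10,8,10] .nil .nil)) (.node [10,8,10] (.node [8,10,8,8,10] .nil .nil) .nil))))) (.node [10,10] (.node [10,8,10,8,8] (.node [8,10,10,10] (.node [8,10] (.node [] (.node [8,10,8,10] .nil .nil) (.node [10,10,10,8,8,10] .nil .nil)) (.node [8,8,8,8,8,8] (.node [8,8,8,8,8] .nil .nil) (.node [8,10,10] .nil .nil))) (.node [8,8,10,8] (.node [10,10,8,10,8] (.node [10,8,10,8,8,8] .nil .nil) (.node [10,8,10,8,8,8] .nil .nil)) (.node [10,8,10,8,10] (.node [10,10,8,8,10] .nil .nil) .nil))) (.node [10,8,10,10,10] (.node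 [8,8,10] (.node [10,8] (.node [10,8] .nil .nil) (.node [8,10] .nil .nil)) (.node [10,8,8,10] (.node [8,10,8,8,8,8] .nil .nil) .nil)) (.node [8,10,10,10,8] (.node [8,10] (.node [8,8,10,10] .nil .nil) (.node [10,10,8,8,10] .nil .nil)) (.node [8,10,8,8] (.node [10,10,8] .nil .nil) .nil)))) (.node [8,10,8,8,8,8] (.node [10,8,10,10,10,8] (.node [10,8,10,10,10,8] (.node [10,8,10,8] (.node [10,10,8,8,10,10] .nil .nil) (.node [10,8,10,8,10] .nil .nil)) (.node [10,10,8,10] (.node [10,10,10,8,8,10] .nil .nil) (.node [10,8,8,8] .nil .nil))) (.node [10,10,8,10,8] (.node [10,8,8,8] (.node [10,10,8,8,8] .nil .nil) (.node [8,8,10,10] .nil .nil)) (.node [8,8,10,8,8] (.node [] .nil .nil) .nil))) (.node [10,8,10,10,10,8] (.node [10,10] (.node [8,10,8,10,10] (.node [8,8] .nil .nil) (.node [10,8,10,10,10,8] .nil .nil)) (.node [8,10,8,10,10] (.node [10,10,8,8] .nil .nil) .nil)) (.node [10] (.node [8,10,8,8] (.node [8,8,8] .nil .nil) (.node [10,8] .nil .nil)) (.node [10,10,8,10,8]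 (.node [10,8,10,8] .nil .nil) .nil))))))) (.node [8,8,8,8,8,8] (.node [10,10,10] (.node [10,8,10,8,10] (.node [8,8,8,8,8] (.node [10,8,10,8] (.node [10,8] (.node [10,10,8,8,8] (.node [8,8,10,8] .nil .nil) (.node [10,8] .nil .nil)) (.node [10,10,8,8,10] (.node [8,10,10] .nil .nil) (.node [10] .nil .nil))) (.node [10,8,10,8] (.node [10,8,8] (.node [10,10,8,8,10,10] .nil .nil) (.node [10,8,10,8,8] .nil .nil)) (.node [10,10,10] (.node [8,10,10] .nil .nil) .nil))) (.node [8,10,8,8,10] (.node [10,10,8,8] (.node [10,8,10,10] (.node [8,10,10,10,8] .nil .nil) (.node [10,8,8,10,10] .nil .nil)) (.node [10,10,10] (.node [8,8,10] .nil .nil) (.node [10,8,10,8] .nil .nil))) (.node [8,10,10,10,8] (.node [10,10,10,8] (.node [10] .nil .nil) (.node [10,10] .nil .nil)) (.node [8,8,8] (.node [8,8,8] .nil .nil) .nil)))) (.node [8,8,10,8,8] (.node [8,8,8,8,8,8] (.node [10,10] (.node [8,8,10,8,8] (.node [8,8,10,8] .nil .nil) (.node [10,8,10,8] .nil .nil)) (.node [10,10,10] (.node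 [10,8,10] .nil .nil) (.node [8,10,8,8] .nil .nil))) (.node [10,10,10,8] (.node [10,10,10] (.node [10,8,8,8,8] .nil .nil) (.node [8] .nil .nil)) (.node [10,8] (.node [10,8,10,8,8] .nil .nil) .nil))) (.node [10,10,8,8,10,10] (.node [8,10,10] (.node [10,10,8,8,8] (.node [8,10,10,10,8] .nil .nil) (.node [10,8,8,8,8] .nil .nil)) (.node [8,8,10] (.node [10,10,8,8,8] .nil .nil) .nil)) (.node [10,10,10] (.node [8,8] (.node [8,8] .nil .nil) (.node [8,10,8,8,8] .nil .nil)) (.node [10,10,10,8,8,10] (.node [8,8,8,8,8] .nil .nil) .nil))))) (.node [8,10,8] (.node [8,8,8] (.node [10,8,8,8] (.node [8,10,8,8,10] (.node [10,10,8,10,10] (.node [10,8,10,8,8] .nil .nil) (.node [8,8,10,10] .nil .nil)) (.node [8,10,8,8] (.node [10,8,10,10,10,8] .nil .nil) (.node [10,8,8,8] .nil .nil))) (.node [10,10] (.node [8,10,8,10] (.node [10,10,10] .nil .nil) (.node [8,8,10,10] .nil .nil)) (.node [8,8,10,8] (.node [10,10,10,8] .nil .nil) .nil))) (.node [10,8] (.node [10,8,10,8,10] (.node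 [8,10,10] (.node [10,8,10,8,8] .nil .nil) (.node [10,8,8,10] .nil .nil)) (.node [8,10,8,8,10] (.node [8,8,8,8,8] .nil .nil) .nil)) (.node [10,8,10,8,10] (.node [8,8,10,10,10] (.node [10,10,8,8] .nil .nil) (.node [10,8,10,8,8,8] .nil .nil)) (.node [10,8,10,8,8,8] (.node [10,10] .nil .nil) .nil)))) (.node [10,10] (.node [8] (.node [8,10,8,8] (.node [8,10,10,10,8] (.node [10,10,8,8,8] .nil .nil) (.node [10,8,8,8,8] .nil .nil)) (.node [10,8,10] (.node [8,10,8,8,10] .nil .nil) (.node [8,10,10,10,8] .nil .nil))) (.node [10,8,8,10] (.node [8,10] (.node [8,8,10,10] .nil .nil) (.node [8,10] .nil .nil)) (.node [8,8,8,8,8,8] (.node [8,8,8,8,8,8] .nil .nil) .nil))) (.node [10,10,8,8,8] (.node [8,10,8] (.node [] (.node [10,8,10,8] .nil .nil) (.node [8,8,10,10] .nil .nil)) (.node [10,8,10,8,8] (.node [10,10,10] .nil .nil) .nil)) (.node [10,10,8,10,10] (.node [8] (.node [10,10,10] .nil .nil) (.node [10,10,10,8,8] .nil .nil)) (.node [8,8] (.node [10,8,10,10] .nil .nil)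 .nil)))))) (.node [10,10,8,8] (.node [8,8,10,8,8] (.node [10,8] (.node [10,8,8,8] (.node [10,10,8] (.node [10,8,10,8] (.node [10,10,8,8,10,10] .nil .nil) (.node [] .nil .nil)) (.node [8,10,8,8,10] (.node [10,8,10,10] .nil .nil) (.node [10,10,8,8,8] .nil .nil))) (.node [10,8,8] (.node [8,10,8,10] (.node [8,8,10] .nil .nil) (.node [10,10,8,10,8] .nil .nil)) (.node [10,10,8,8,8] (.node [10,8,10,8,8,8] .nil .nil) .nil))) (.node [8,8,8,8,8,8] (.node [10,8,8,10,10] (.node [8,8,8,8,8,8] (.node [8,10,8,8,10] .nil .nil) (.node [10,8,10,8,8,8] .nil .nil)) (.node [10,8,10,10,10] (.node [10,10,10,8,8,10] .nil .nil) (.node [8,10,10,10] .nil .nil))) (.node [] (.node [10,8,8,10,10] (.node [8,10,8] .nil .nil) (.node [10,10,10,8] .nil .nil)) (.node [8,8,8,8] (.node [8,10] .nil .nil) .nil)))) (.node [10,10,8,8,8] (.node [8,10,8,8,10] (.node [8,8,10,10,10] (.node [10,8,10,10,10,8] (.node [8] .nil .nil) (.node [8,8,8,8,8] .nil .nil)) (.node [10,10,8,10,8] (.node [8,8,10,8,8]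 .nil .nil) (.node [10] .nil .nil))) (.node [8,10,10] (.node [8,10,10,10,8] (.node [8,10] .nil .nil) (.node [10,8] .nil .nil)) (.node [8,10,10,10,8] (.node [10,8,8,10] .nil .nil) .nil))) (.node [10,10,10,8,8] (.node [8,8,8] (.node [10,10,8] (.node [10,10,8,10,10] .nil .nil) (.node [8,8,8] .nil .nil)) (.node [10,8,10] (.node [8,10,10,10,8] .nil .nil) .nil)) (.node [10,10,8,8,10] (.node [10,10,8,8,8] (.node [8,8,10,8,8] .nil .nil) (.node [10,8,10,10,10,8] .nil .nil)) (.node [8] (.node [10,8,8,8] .nil .nil) .nil))))) (.node [8,8,10,8,8] (.node [10,10,10] (.node [10,8,8] (.node [8,8,10,10,10] (.node [10,8,8] (.node [10,10,8,8] .nil .nil) (.node [10,10,8,8,10,10] .nil .nil)) (.node [10,10,8,8] (.node [8,10,8,8,8,8] .nil .nil) (.node [10] .nil .nil))) (.node [10,8,8,8,8] (.node [] (.node [10,8,10,10] .nil .nil) (.node [8,8,10,10,10] .nil .nil)) (.node [8,8,8] (.node [8,10,10] .nil .nil) .nil))) (.node [10,10,10,8,8] (.node [10,10,8,8,10,10] (.node [10,8,8,10]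 (.node [8,8,8,8] .nil .nil) (.node [8,8,8] .nil .nil)) (.node [] (.node [8,10,8,8,8] .nil .nil) .nil)) (.node [8,8] (.node [8,8] (.node [8,8,10,10] .nil .nil) (.node [8,10,10] .nil .nil)) (.node [] (.node [8,8,10] .nil .nil) .nil)))) (.node [] (.node [10,8,10,8,8] (.node [] (.node [8,8,10,10,10] (.node [8,8,10,8] .nil .nil) (.node [8,8,10,8,8] .nil .nil)) (.node [10,8,8,8] (.node [10,10,8,10,10] .nil .nil) (.node [8,10,8,10,10] .nil .nil))) (.node [10,10,8,8,8] (.node [8,10,8,10,10] (.node [8,8,10,8] .nil .nil) (.node [10,8,10,8,10,10] .nil .nil)) (.node [10,10,10,8,8] (.node [10,8,10,10,10,8] .nil .nil) .nil))) (.node [8,8,10,8,8] (.node [10,10,10,8] (.node [8,8,8,8,8,8] (.node [8,8] .nil .nil) (.node [10,10,10,8,8] .nil .nil)) (.node [8,10,8,8,10] (.node [8,8,10,8] .nil .nil) .nil)) (.node [10,8,10,10,10,8] (.node [10,10] (.node [10,8,8] .nil .nil) (.node [10,10,8,8,8] .nil .nil)) (.node [8,8,10] (.node [10,8,8,10,10] .nil .nil) .nil))))))))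

/-- Part of `moveWord`. -/
noncomputable def moveWord_r_l_l_r_r : Arr (List ℕ) :=
  (.node [10,10,8,8,10,10] (.node [10,10,8,8,10] (.node [10,8,8,10] (.node [8,10,8] (.node [10,10,10,8] (.node [10,10,8,10,10] (.node [10,8] (.node [10,8,10,8,8] (.node [10,10,8,10] .nil .nil) (.node [10,10,10,8,8,10] .nil .nil)) (.node [10,8,10,10] (.node [8,10] .nil .nil) (.node [8,10,10,10,8] .nil .nil))) (.node [8] (.node [8,10,8,8,8,8] (.node [8,8,10] .nil .nil) (.node [10,10,10,8,8,10] .nil .nil)) (.node [10,10,10,8] (.node [10,10,8,8,8] .nil .nil) .nil))) (.node [8,10,8,8,8] (.node [10,10,8,10] (.node [8,10,10,10,8] (.node [8,10] .nil .nil) (.node [8,10,8,8,8,8] .nil .nil)) (.node [10,8,8,10] (.node [10,10,8,10] .nil .nil) (.node [] .nil .nil))) (.node [10,8,10,8,10] (.node [8,8,10,8,8] (.node [8,10] .nil .nil) (.node [10,8,10,10,10] .nil .nil)) (.node [10,10,8,8,10,10] (.node [8,10,8,10] .nil .nil) .nil)))) (.node [8,10,8,10] (.node [8,8,8] (.node [10,10,8,10] (.node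 [10,8,10,10,10] (.node [10,8,8,10] .nil .nil) (.node [10,10,8,8,8] .nil .nil)) (.node [10,8,10,10] (.node [10,8,8,8] .nil .nil) (.node [8,10,8,10,10] .nil .nil))) (.node [8,10,8,10] (.node [8,10,8,10,10] (.node [10,8,10] .nil .nil) (.node [10,8,10,10] .nil .nil)) (.node [10,8,10,10] (.node [8,8,8,8,8,8] .nil .nil) .nil))) (.node [8,8,8,8,8,8] (.node [10,10,8,10] (.node [8,8,10,8,8] (.node [10,10,10] .nil .nil) (.node [8,10,10] .nil .nil)) (.node [10,10,8,8,10,10] (.node [8,10,8,10,10] .nil .nil) .nil)) (.node [10,8,10,10,10] (.node [8,8,10,10,10] (.node [10,10] .nil .nil) (.node [8,8,8,8,8] .nil .nil)) (.node [10,8,8,10] (.node [10,8,8,8,8] .nil .nil) .nil))))) (.node [8,8,8,8] (.node [10,8,8] (.node [8,10,8,10] (.node [10,10,10,8,8] (.node [8,10,10,10,8] (.node [10,8,8,8] .nil .nil) (.node [10,8,10,8,8,8] .nil .nil)) (.node [8,10,8,8,10] (.node [8,8,8,8,8,8] .nil .nil) (.node [8,10,8,8,10] .nil .nil))) (.node [8,8,10,8] (.node [] (.node [8,10] .nil .nil)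 (.node [8,8,8,8,8] .nil .nil)) (.node [] (.node [10,8,10,8,10] .nil .nil) .nil))) (.node [8,10,8] (.node [10,8,8,10] (.node [8,10,8,8,8,8] (.node [10,10,8,8,8] .nil .nil) (.node [10,10,8,8] .nil .nil)) (.node [10,10,10,8,8,10] (.node [10,10,8,8,8] .nil .nil) .nil)) (.node [10,10,10] (.node [8,8,8,8] (.node [10,8,10,8,10,10] .nil .nil) (.node [10,8,8,8] .nil .nil)) (.node [8,10,8,8] (.node [8,8,8,8,8] .nil .nil) .nil)))) (.node [8,10,8,8] (.node [10,8,10,10,10] (.node [8,10,8,10,10] (.node [10,10] (.node [10,10,10,8,8,10] .nil .nil) (.node [10,8,8,8,8] .nil .nil)) (.node [10,8,8,10,10] (.node [8,8,10] .nil .nil) (.node [10,8,8,10,10] .nil .nil))) (.node [8,10,8,8,8,8] (.node [8,8,8] (.node [8,10] .nil .nil) (.node [8,10,8,10] .nil .nil)) (.node [10,10,10] (.node [10,10,8,8,8] .nil .nil) .nil))) (.node [10,10,8,10] (.node [10,8,10,8,8,8] (.node [10,8,8,10] (.node [8,10,8,8,8] .nil .nil) (.node [10,10,10,8,8,10] .nil .nil)) (.node [8,8,10,10] (.node [10,10,10,8,8]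 .nil .nil) .nil)) (.node [10,8,8,10] (.node [10,10,10,8] (.node [10,8,10,8,8] .nil .nil) (.node [10,8,8,10] .nil .nil)) (.node [10,8,10] (.node [8,10,8,10] .nil .nil) .nil)))))) (.node [8,8,10,8] (.node [8,8,8,8,8,8] (.node [10,10,10] (.node [10,10,8,10,8] (.node [] (.node [8,10,8] (.node [8,8,10,10,10] .nil .nil) (.node [8,10,8,10] .nil .nil)) (.node [8,10,8,10] (.node [] .nil .nil) (.node [8,8,8] .nil .nil))) (.node [8,10,8,8,8,8] (.node [10,8,10,8,10] (.node [10,8,10,8,10,10] .nil .nil) (.node [8,8,10,10,10] .nil .nil)) (.node [10,10,10] (.node [10,10,10,8,8] .nil .nil) .nil))) (.node [10,10,10] (.node [10,8,10,8,8,8] (.node [10,10,10,8,8] (.node [10,10,8,10,10] .nil .nil) (.node [10,10,10] .nil .nil)) (.node [10,8,10,10,10,8] (.node [10,10,8,8,10,10] .nil .nil) (.node [8,8,8,8,8] .nil .nil))) (.node [10,8,8] (.node [10,8,10,8,8] (.node [8,10,8,8,8] .nil .nil) (.node [10,8,10,8,8] .nil .nil)) (.node [8] (.node [10,8,10,10] .nil .nil) .nil)))) (.node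 [8,10,8,10] (.node [8,8,8,8] (.node [10,10,8,8,10] (.node [8,10,8,8,10] (.node [10,10] .nil .nil) (.node [8,10,8,8] .nil .nil)) (.node [10,10,8] (.node [8,10,8,10] .nil .nil) (.node [8,8,10,8] .nil .nil))) (.node [10,8,10,10,10] (.node [8,10,10,10] (.node [8,8,10,10] .nil .nil) (.node [8,10,8,10,10] .nil .nil)) (.node [8,10,10,10] (.node [10,8,10,10] .nil .nil) .nil))) (.node [10,10] (.node [8,8,10,8,8] (.node [10,8,10,8] (.node [10,10,10,8,8,10] .nil .nil) (.node [10,10,10,8,8] .nil .nil)) (.node [10,8,10,10] (.node [10,8] .nil .nil) .nil)) (.node [10,10,10] (.node [8,8,8,8] (.node [8,10] .nil .nil) (.node [8,10,8] .nil .nil)) (.node [10,8,10,8,10,10] (.node [10,8,10] .nil .nil) .nil))))) (.node [8,10,8,8,8,8] (.node [10,10,10] (.node [8,10,10] (.node [8,10] (.node [8,10,8,8,8] (.node [8,8,8,8,8,8] .nil .nil) (.node [8] .nil .nil)) (.node [10,8] (.node [] .nil .nil) (.node [10,10,8,10,10] .nil .nil))) (.node [8,10,8,8] (.node [8] (.node [10,8,8,8,8] .nil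 .nil) (.node [10,10,8,8] .nil .nil)) (.node [10,8,8,8,8] (.node [10,10] .nil .nil) .nil))) (.node [10,8,10,8,8,8] (.node [10] (.node [] (.node [10,10,8,10,8] .nil .nil) (.node [10,8,8,10] .nil .nil)) (.node [8,10,10] (.node [8,10,8,8,8,8] .nil .nil) .nil)) (.node [10,8,10,8,10] (.node [10,8,8,8,8] (.node [10,8,10,8] .nil .nil) (.node [10,10,8,10] .nil .nil)) (.node [10,10,10,8,8] (.node [8,10,8,8,8,8] .nil .nil) .nil)))) (.node [10,8,10] (.node [10,10,8,8,8] (.node [8,8,10,8] (.node [8,10,8] (.node [] .nil .nil) (.node [10,8,10,10,10,8] .nil .nil)) (.node [8,10,8,8] (.node [8,10,8,8] .nil .nil) (.node [8] .nil .nil))) (.node [8,8,10,10] (.node [8,10,10,10,8] (.node [10,8,8,8] .nil .nil) (.node [8,10] .nil .nil)) (.node [10,10,8,8] (.node [8] .nil .nil) .nil))) (.node [8,10] (.node [8,8,8,8,8] (.node [8,10,8,10,10] (.node [8,10,10] .nil .nil) (.node [10,10,8,10,8] .nil .nil)) (.node [10,10,10,8,8,10] (.node [10,10,10,8,8] .nil .nil) .nil)) (.node [8,10,8,8,10]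 (.node [10,10,8,8,10,10] (.node [8,8,10,8] .nil .nil) (.node [10,10,8,10] .nil .nil)) (.node [10,8,8,8,8] (.node [10,8,8,10,10] .nil .nil) .nil))))))) (.node [8,10,8,8,8] (.node [8,8,8,8,8] (.node [10,10,8,8] (.node [10,10,8,8,10] (.node [8,8,8,8,8,8] (.node [8,8,10,10,10] (.node [8,10,10] (.node [8,8,8,8,8] .nil .nil) (.node [8,8,8,8] .nil .nil)) (.node [10,10,8] (.node [10,8,10,8,8] .nil .nil) (.node [8,10,8,10] .nil .nil))) (.node [8,8] (.node [10,10,10,8,8] (.node [10,10,8,10,10] .nil .nil) (.node [8,8,10,8] .nil .nil)) (.node [8,8,8,8,8] (.node [8,8,10,8,8] .nil .nil) .nil))) (.node [8,10,8] (.node [8,8,8] (.node [10,10,10,8] (.node [10,8,10,10,10,8] .nil .nil) (.node [10,8,10,10,10,8] .nil .nil)) (.node [] (.node [10,10,10] .nil .nil) (.node [8,8,10,8,8] .nil .nil))) (.node [10,8,10,10] (.node [8,10,8,10] (.node [10,8,8] .nil .nil) (.node [10,8,8,10] .nil .nil)) (.node [8,10,8,10,10] (.node [10,10,8,8] .nil .nil) .nil)))) (.node [8,10] (.node [10]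 (.node [10,10,8,10,8] (.node [8,10,8,8,8] (.node [8,10,10,10] .nil .nil) (.node [8,8,8,8,8] .nil .nil)) (.node [10,8,10,10,10,8] (.node [10] .nil .nil) (.node [10,8,10,8,8,8] .nil .nil))) (.node [10,8,10,10] (.node [8,8,8,8,8] (.node [8,10] .nil .nil) (.node [8,10,8] .nil .nil)) (.node [8,8,10,8,8] (.node [10,8] .nil .nil) .nil))) (.node [10,8,10,8,8,8] (.node [10,8,10,8,8] (.node [10,8,10,10] (.node [8,10,8,8,8,8] .nil .nil) (.node [10,8,8,10,10] .nil .nil)) (.node [10] (.node [10,10,10] .nil .nil) .nil)) (.node [8,10] (.node [10,10,8] (.node [8,8] .nil .nil) (.node [10,8,8,10,10] .nil .nil)) (.node [8,8,10,8] (.node [10,8,10,8,10,10] .nil .nil) .nil))))) (.node [8,10,8,10] (.node [10,8,10,10] (.node [8,10,8,10] (.node [10,8,10,8,10] (.node [10,10,8,10,8] (.node [8,8,10,10,10] .nil .nil) (.node [10] .nil .nil)) (.node [10,10,8,8] (.node [10,10] .nil .nil) (.node [8,10,10,10,8] .nil .nil))) (.node [10,8,8,8,8] (.node [8,10,8,8,10] (.node [10,10,10,8,8]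 .nil .nil) (.node [8,8,8,8,8] .nil .nil)) (.node [8,10,8,8,10] (.node [10,8,10,8,8,8] .nil .nil) .nil))) (.node [10,8,10,8,8,8] (.node [8,10,8,8] (.node [8,8,8] (.node [8,8,10,10,10] .nil .nil) (.node [10,10,8,8,10] .nil .nil)) (.node [8,8,10,8,8] (.node [8,8,8,8,8] .nil .nil) .nil)) (.node [8,10,10,10,8] (.node [10,8,8,10] (.node [8] .nil .nil) (.node [8,10,10,10] .nil .nil)) (.node [10,8,10,10,10,8] (.node [8,8,8] .nil .nil) .nil)))) (.node [8,10,8] (.node [10,8,10,8] (.node [10,10,8,8,8] (.node [8,8] (.node [8,8,10,10] .nil .nil) (.node [8,10,8,10,10] .nil .nil)) (.node [10,10,8,10,10] (.node [8,8,8,8,8,8] .nil .nil) (.node [8,8,10,8] .nil .nil))) (.node [10,8,8,10,10] (.node [10,8,10,8,8] (.node [8,10,8,8,8] .nil .nil) (.node [10,10,8] .nil .nil)) (.node [8,10,8] (.node [8,8,8,8,8,8] .nil .nil) .nil))) (.node [8,8,8] (.node [8,10,8] (.node [10,8,8,10,10] (.node [10,8,10,8,8,8] .nil .nil) (.node [10,10,8,8,10,10] .nil .nil)) (.node [8,10,8,8,10] (.node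 [] .nil .nil) .nil)) (.node [10,10,10,8] (.node [10,10,8,10,8] (.node [8,10,8,8] .nil .nil) (.node [10,8,10,8,10] .nil .nil)) (.node [10,8,8,8,8] (.node [10,10,10,8] .nil .nil) .nil)))))) (.node [8,10,10,10,8] (.node [8,10,8,8,10] (.node [8,10,8,8] (.node [10,8,10,10,10] (.node [10,8,10,10] (.node [8,8,10,8,8] (.node [10,8,10,8,8] .nil .nil) (.node [8,8,8,8,8] .nil .nil)) (.node [10,10,8,8] (.node [10] .nil .nil) (.node [8,8,10,8] .nil .nil))) (.node [10,8,10,8,10,10] (.node [8,8] (.node [8,8,10] .nil .nil) (.node [10,8] .nil .nil)) (.node [] (.node [8,10,8,10,10] .nil .nil) .nil))) (.node [10,8,10,10,10] (.node [8,10,8] (.node [10,10,8,10,10] (.node [] .nil .nil) (.node [8] .nil .nil)) (.node [10,10,10] (.node [10,10,8,8,10] .nil .nil) (.node [10,8,10,8] .nil .nil))) (.node [8,10,8,10] (.node [10,8,10,8,10] (.node [8,10,8,10,10] .nil .nil) (.node [10,8,10,8,10] .nil .nil)) (.node [10,10,8] (.node [10,10] .nil .nil) .nil)))) (.node [8,8,8,8,8] (.node [8,8,10,10]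 (.node [10,10,8,10,10] (.node [8,8,10,8] (.node [10,10,10] .nil .nil) (.node [8,8,8] .nil .nil)) (.node [10,10,8,10] (.node [10,8,8,10,10] .nil .nil) (.node [10,10,10,8,8] .nil .nil))) (.node [10,10] (.node [10,10,8,8] (.node [8,10,8,8,10] .nil .nil) (.node [8,10,10,10,8] .nil .nil)) (.node [8,8,10,10] (.node [10,8,10,10,10,8] .nil .nil) .nil))) (.node [10,10] (.node [10,10,8,8] (.node [10,8,8,10,10] (.node [8] .nil .nil) (.node [8,8,10,10,10] .nil .nil)) (.node [8,8] (.node [10,8,8,8,8] .nil .nil) .nil)) (.node [8,8,8,8,8] (.node [10,8] (.node [8,10,8,8,8,8] .nil .nil) (.node [10,10,8,10,10] .nil .nil)) (.node [8,8,10,8] (.node [10] .nil .nil) .nil))))) (.node [8,10,8,8,8,8] (.node [8,8,10,8,8] (.node [8,8,8,8] (.node [10,10,8,10,8] (.node [8,10,8,8,10] (.node [10,8,10,8,8] .nil .nil) (.node [10,8,8,8] .nil .nil)) (.node [10,10,8] (.node [10,10,10,8,8,10] .nil .nil) (.node [10,8,10,10,10,8] .nil .nil))) (.node [8,10,10,10] (.node [10,8,8,8,8] (.node [10,8,8,10]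 .nil .nil) (.node [10,10,8,8,10,10] .nil .nil)) (.node [8,10,8,8,8,8] (.node [10,8,10,8,8] .nil .nil) .nil))) (.node [8,8,10,10,10] (.node [10,10,10,8,8] (.node [8,10,8,8,8] (.node [8,10,10] .nil .nil) (.node [8,10,8,8] .nil .nil)) (.node [10,8,10] (.node [10] .nil .nil) .nil)) (.node [8,10,8,8] (.node [10,8,10,10,10,8] (.node [10,8,10,8,8] .nil .nil) (.node [10] .nil .nil)) (.node [10,8,8,10] (.node [8,8,10,8] .nil .nil) .nil)))) (.node [10,8,8] (.node [10] (.node [8,8,8] (.node [8,10,8,8,8,8] (.node [8,10,8,8] .nil .nil) (.node [8,8,10,8] .nil .nil)) (.node [10,10,10] (.node [8,8,10,8] .nil .nil) (.node [10,8,8,8] .nil .nil))) (.node [8,8,10,10,10] (.node [10,8,8,8] (.node [8,10] .nil .nil) (.node [10,10,8,10] .nil .nil)) (.node [8,8,8] (.node [8,8,10,10] .nil .nil) .nil))) (.node [8,8,10,8] (.node [8,10,10] (.node [8,10,8,8,8] (.node [10,10,8,10,8] .nil .nil) (.node [10,10,8] .nil .nil)) (.node [10,8,8,10] (.node [8,10] .nil .nil) .nil)) (.node [10,8,10,8,10,10]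 (.node [8,8,10,8,8] (.node [8,8,10,10] .nil .nil) (.node [8] .nil .nil)) (.node [8,8,10] (.node [10,8,8,10,10] .nil .nil) .nil))))))))

/-- Part of `moveWord`. -/
noncomputable def moveWord_r_l_l_r : Arr (List ℕ) :=
  .node [10,8,10] moveWord_r_l_l_r_l moveWord_r_l_l_r_r

/-- Part of `moveWord`. -/
noncomputable def moveWord_r_l_l : Arr (List ℕ) :=
  .node [8,10,8,8] moveWord_r_l_l_l moveWord_r_l_l_r

/-- Part of `moveWord`. -/
noncomputable def moveWord_r_l_r_l_l : Arr (List ℕ) :=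
  (.node [10,10,8,8,10] (.node [8,8,8] (.node [10,8,8] (.node [10,8,10,8] (.node [10,10,10,8,8,10] (.node [10,8,8,8] (.node [10,8,8,8] (.node [8,10,8,8,8] (.node [8,10,8,8,10] .nil .nil) (.node [10,10,10,8] .nil .nil)) (.node [8,10,10] (.node [10] .nil .nil) (.node [8,8,10,8,8] .nil .nil))) (.node [8,10,8,8] (.node [10,10,8,8] (.node [8,10,8,8,10] .nil .nil) (.node [10,8,10,10] .nil .nil)) (.node [10] (.node [8,8,8,8,8] .nil .nil) .nil))) (.node [8] (.node [10,8,10,10] (.node [10,10,8,10,10] (.node [10] .nil .nil) (.node [8,8,8] .nil .nil)) (.node [10,10,8,8] (.node [10,10] .nil .nil) (.node [10,8,8,10] .nil .nil))) (.node [10,8,10,8,10,10] (.node [10,10,8,10,8] (.node [10,10,10,8,8,10] .nil .nil) (.node [8,8] .nil .nil)) (.node [8,8,10,8] (.node [8,10,10,10] .nil .nil) .nil)))) (.node [8,10,8,8,10] (.node [10,8,8] (.node [8,10,8] (.node [10,8,8,10] (.node [8,8,10,10,10] .nil .nil) (.node [8,10,8] .nil .nil)) (.node [8,10,10,10,8] (.node [8,8,10,8] .nil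 .nil) (.node [8,8,8] .nil .nil))) (.node [10,10,10,8,8] (.node [10,8,10,10] (.node [10,8] .nil .nil) (.node [10,8,10,10] .nil .nil)) (.node [8,10,8,8,8] (.node [10,10,8] .nil .nil) .nil))) (.node [8,10,8,10] (.node [10,8,8,10] (.node [10,8,10,10] (.node [10,8,10,8,8,8] .nil .nil) (.node [10,10,8,8,8] .nil .nil)) (.node [10,8,10,8,8,8] (.node [10,10,8,10,8] .nil .nil) .nil)) (.node [10,8,8,8,8] (.node [10,8,10,8,8] (.node [10,10,8] .nil .nil) (.node [10,8,8,8,8] .nil .nil)) (.node [10,8,10,8] (.node [10,10,10,8] .nil .nil) .nil))))) (.node [10,10,8,8,8] (.node [10,10,8,8,10,10] (.node [10,8,10] (.node [10] (.node [10,8,10,8,8] (.node [8,10,8,10,10] .nil .nil) (.node [8,8,8,8,8,8] .nil .nil)) (.node [8,10,8,10] (.node [10,8] .nil .nil) (.node [10,8] .nil .nil))) (.node [10,8,10,8,8,8] (.node [10,8,8,8,8] (.node [8,10,8,10] .nil .nil) (.node [8,8] .nil .nil)) (.node [10,8] (.node [10,8,10] .nil .nil) .nil))) (.node [8,10,8,8,8] (.node [10,8,8,8,8] (.node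 [10,8,10,8,10] (.node [10,8,10,10,10,8] .nil .nil) (.node [8,8,8] .nil .nil)) (.node [10,10,8,8,8] (.node [8,8,8] .nil .nil) .nil)) (.node [8,10,8,8,8] (.node [8,8,8,8,8,8] (.node [10,8,10,10,10] .nil .nil) (.node [8,8] .nil .nil)) (.node [10,8] (.node [10,10,8,8,10] .nil .nil) .nil)))) (.node [10,10,8,8,8] (.node [8,10,8,8] (.node [8,8,8,8,8,8] (.node [8,8,10,10,10] (.node [10,10,8] .nil .nil) (.node [10,8,8,8,8] .nil .nil)) (.node [10,8,8,10] (.node [10,10,10,8,8] .nil .nil) (.node [10,8,8,10,10] .nil .nil))) (.node [8,8,10,10] (.node [8,8,8] (.node [10] .nil .nil) (.node [8,8,10,10] .nil .nil)) (.node [10,10,10] (.node [10,8,8] .nil .nil) .nil))) (.node [10,10] (.node [8,8,10,8,8] (.node [10,10,8,8,8] (.node [8,10,8,10,10] .nil .nil) (.node [10,8,8,8,8] .nil .nil)) (.node [8,10,8,8,8,8] (.node [10,8,10,8,10] .nil .nil) .nil)) (.node [10,10,10,8] (.node [10] (.node [8,10,10] .nil .nil) (.node [10,8,8,8,8] .nil .nil)) (.node [8,10,8,8,10] (.node [10,10]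 .nil .nil) .nil)))))) (.node [8,10,10,10] (.node [] (.node [10,8,10] (.node [8,10,8,8,8] (.node [] (.node [10,10,10] (.node [10,10] .nil .nil) (.node [10] .nil .nil)) (.node [10,8,8,10] (.node [8,8,8,8,8,8] .nil .nil) (.node [8,10,8,8,8] .nil .nil))) (.node [10,8,8,8] (.node [8] (.node [8,8,10] .nil .nil) (.node [10,8,10] .nil .nil)) (.node [10,10,10,8] (.node [8] .nil .nil) .nil))) (.node [10,8,8,10] (.node [8,10,8,8] (.node [10,10,10,8,8,10] (.node [8,8,8,8,8,8] .nil .nil) (.node [8,10,8,8] .nil .nil)) (.node [8] (.node [10,8,10] .nil .nil) (.node [10,10,8,10,10] .nil .nil))) (.node [] (.node [8,10,10] (.node [8,8,8,8] .nil .nil) (.node [10,8] .nil .nil)) (.node [10,8,10,8,8] (.node [8,10,10] .nil .nil) .nil)))) (.node [8,8,8,8,8] (.node [10,8,10] (.node [10,8,10,10,10] (.node [8,8,10] (.node [10,10,8,8] .nil .nil) (.node [8,8,10,10,10] .nil .nil)) (.node [8,8,10] (.node [8,8,8,8,8,8] .nil .nil) (.node [10,10,8,8,8] .nil .nil))) (.node [10,8,10,8,8]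 (.node [10,10,8,10] (.node [10,10,8,10,10] .nil .nil) (.node [8,10,8,8,8,8] .nil .nil)) (.node [10,10,10,8] (.node [10,10,8,10,10] .nil .nil) .nil))) (.node [8,10,8,10] (.node [8,8,8] (.node [10,8,10,10,10,8] (.node [10,8,10,10] .nil .nil) (.node [8,8] .nil .nil)) (.node [8,10,8,10,10] (.node [10,10,8] .nil .nil) .nil)) (.node [10,8,10,10,10] (.node [10,10,8] (.node [8,10,10,10] .nil .nil) (.node [8,8,10,8] .nil .nil)) (.node [10,8,10,8] (.node [8,8] .nil .nil) .nil))))) (.node [10,10,10,8] (.node [8,10,8,10,10] (.node [10,10] (.node [8,10,10,10,8] (.node [10,10,10] (.node [10,10,8,8,10] .nil .nil) (.node [8,10,8] .nil .nil)) (.node [10,10,8,10] (.node [10,10,8,8,8] .nil .nil) (.node [8,8,10,10,10] .nil .nil))) (.node [10,8,8,8] (.node [10,8,10,8,10] (.node [8,8,10] .nil .nil) (.node [8,10,8,8,8] .nil .nil)) (.node [10,10,8,10,8] (.node [8,8,8,8,8,8] .nil .nil) .nil))) (.node [10,8,10,8,8,8] (.node [10,10,10,8,8,10] (.node [10,10,8] (.node [8,8,10] .nil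 .nil) (.node [10,10,10,8,8,10] .nil .nil)) (.node [10,8,8,8] (.node [10,8,10,8,10] .nil .nil) .nil)) (.node [8,10,8,8,8] (.node [10,10,8] (.node [8,8] .nil .nil) (.node [8,8,8,8] .nil .nil)) (.node [10,10,8,8] (.node [8,8,8,8,8,8] .nil .nil) .nil)))) (.node [10,8,10,8,8] (.node [8,10,10,10,8] (.node [10,8,10,8,10] (.node [10,8,10,8,8] (.node [10,10] .nil .nil) (.node [10,10,10,8,8] .nil .nil)) (.node [] (.node [8,8,10,8,8] .nil .nil) (.node [10,8,8] .nil .nil))) (.node [10,8,10,10] (.node [10,8,10,8,8,8] (.node [10] .nil .nil) (.node [10,10,8] .nil .nil)) (.node [10,8] (.node [10,8,8,8] .nil .nil) .nil))) (.node [10,10,10,8,8,10] (.node [10,8,8,10] (.node [8,10,10,10,8] (.node [10,8,8,10] .nil .nil) (.node [8,10,10,10,8] .nil .nil)) (.node [10,10,10] (.node [8,10] .nil .nil) .nil)) (.node [8,8,10,10,10] (.node [10,10,8] (.node [8] .nil .nil) (.node [8,8,10,8,8] .nil .nil)) (.node [8,8,8,8,8] (.node [8,10,8,10] .nil .nil) .nil))))))) (.node [8,8] (.node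 [8,8,8,8,8] (.node [10,10,10,8] (.node [10,8,8] (.node [8,8,10,8,8] (.node [10,8,10,8,8] (.node [8,10] (.node [10,8,10,10,10,8] .nil .nil) (.node [10,8,8,10] .nil .nil)) (.node [8,8,10,10] (.node [10,8,8] .nil .nil) (.node [10,8] .nil .nil))) (.node [10,8,10,10,10,8] (.node [10,10,10] (.node [8,10,8,8,10] .nil .nil) (.node [8,8,10,8,8] .nil .nil)) (.node [10,10,8,8,8] (.node [10,10,10,8] .nil .nil) .nil))) (.node [10,8,10,8,8] (.node [10,8,8,10,10] (.node [8,8,8] (.node [10,8,10,8,8,8] .nil .nil) (.node [8,8,10,10,10] .nil .nil)) (.node [10,8,10,10,10,8] (.node [8,8,8,8,8] .nil .nil) (.node [10,10,8,10,10] .nil .nil))) (.node [8,10,8,10,10] (.node [8,8,10,10] (.node [10,10,10,8] .nil .nil) (.node [8,10,8,8,10] .nil .nil)) (.node [10,8,8,8,8] (.node [8,8] .nil .nil) .nil)))) (.node [8,10,10] (.node [10,8,10,8,10] (.node [10,10,10,8,8] (.node [8,10,8,8,8] (.node [10,10,10,8] .nil .nil) (.node [8,8,10,10,10] .nil .nil)) (.node [8,8,10,8,8] (.node [10,8,10,10]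 .nil .nil) (.node [8,8,8,8,8,8] .nil .nil))) (.node [10,8,10] (.node [10,8,8,10] (.node [10,8,10,8,10,10] .nil .nil) (.node [10,10,8,10,10] .nil .nil)) (.node [8,10,10,10] (.node [10,10,10,8,8] .nil .nil) .nil))) (.node [8,8,10,10,10] (.node [10,8,10,10] (.node [8,8,10,8] (.node [10,8,8,10,10] .nil .nil) (.node [8,8,10,10,10] .nil .nil)) (.node [8,8,8,8] (.node [10,10,10] .nil .nil) .nil)) (.node [8,8,10,10,10] (.node [10,10,8,10] (.node [10,8,10,8,8,8] .nil .nil) (.node [10,8,8,10,10] .nil .nil)) (.node [8,8,8] (.node [10,10,8,8,10] .nil .nil) .nil))))) (.node [10,8,10] (.node [10,10,8,10,10] (.node [10,10,8,10] (.node [8,10,8,8,8,8] (.node [8,8,10,10] (.node [10,8,8,8] .nil .nil) (.node [8,10] .nil .nil)) (.node [10,8,10] (.node [8,10,8,10,10] .nil .nil) (.node [10,10,8,10,8] .nil .nil))) (.node [10,8,8,10] (.node [10,8] (.node [10,10,10,8] .nil .nil) (.node [8] .nil .nil)) (.node [10,8,10,10] (.node [10,8,8] .nil .nil) .nil))) (.node [10,10,8] (.node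 [8,10,10] (.node [8,8,10,10] (.node [10,8,10,10,10,8] .nil .nil) (.node [10,10,8,10,8] .nil .nil)) (.node [10,8,8,8] (.node [8,10,10,10] .nil .nil) .nil)) (.node [8,10,8,10,10] (.node [10,10,8,10,10] (.node [8,8,10,8] .nil .nil) (.node [10,10,8,10] .nil .nil)) (.node [10,10,10,8] (.node [8,10,10,10,8] .nil .nil) .nil)))) (.node [10,10,8,8] (.node [10,8,8,8,8] (.node [8,10,10,10] (.node [] (.node [10,10,10,8,8,10] .nil .nil) (.node [8,10,8] .nil .nil)) (.node [10,8,8,8,8] (.node [10,10,10,8,8] .nil .nil) (.node [10,10,10] .nil .nil))) (.node [8,8,8] (.node [10,10] (.node [10,8,10,8] .nil .nil) (.node [10,8] .nil .nil)) (.node [10,10,8,8,10,10] (.node [10,10,8] .nil .nil) .nil))) (.node [10,8,10,8,10] (.node [10,10,10,8,8,10] (.node [10,10,10] (.node [8,8,10] .nil .nil) (.node [10,10,8] .nil .nil)) (.node [10,10,8,8] (.node [10,8,8,10] .nil .nil) .nil)) (.node [8,8,8,8] (.node [10,8,10] (.node [10,10,8,8] .nil .nil) (.node [8,10,8,8] .nil .nil)) (.node [8,10,8,8,8,8]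 (.node [10,8,8,8] .nil .nil) .nil)))))) (.node [8,10,8,10] (.node [8,8] (.node [10,8,8] (.node [8,8,8] (.node [10,8,10,8,10,10] (.node [10,8] (.node [10,10,8,8] .nil .nil) (.node [8,10,10,10,8] .nil .nil)) (.node [10,8,8] (.node [10,10,10,8,8,10] .nil .nil) (.node [10] .nil .nil))) (.node [8,10,8,8,8,8] (.node [8,10,8,8,8] (.node [10,8] .nil .nil) (.node [8,8,10,10,10] .nil .nil)) (.node [10,10,10] (.node [8] .nil .nil) .nil))) (.node [10,10,8] (.node [8,8,10,8,8] (.node [10,10,8] (.node [10,10,8,10] .nil .nil) (.node [10,8,10,8,10,10] .nil .nil)) (.node [10,8,8,10] (.node [10,8,10,8,8] .nil .nil) (.node [10,8,10,8] .nil .nil))) (.node [10,8,8,10] (.node [8,10,8] (.node [8,8,10,8,8] .nil .nil) (.node [8,10,8,8,8] .nil .nil)) (.node [10,8,10,8,8,8] (.node [10,10] .nil .nil) .nil)))) (.node [8,10,8,8,8,8] (.node [10,10] (.node [10,10,8,8,8] (.node [10,10,8,8,8] (.node [10,8,10] .nil .nil) (.node [10,8,10,8,10,10] .nil .nil)) (.node [8,10,10,10] (.node [8,10]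 .nil .nil) (.node [8,8,10,8,8] .nil .nil))) (.node [8,8] (.node [10,8,10,10] (.node [10,10,10,8] .nil .nil) (.node [8] .nil .nil)) (.node [10,10,8,10,10] (.node [8,8,10] .nil .nil) .nil))) (.node [8,10,8] (.node [8,10,10,10,8] (.node [10,10,8,8,10,10] (.node [10,10,8,10] .nil .nil) (.node [10,8,10,8,8] .nil .nil)) (.node [10,8,8,8,8] (.node [10,8,10,10,10,8] .nil .nil) .nil)) (.node [8] (.node [8,10] (.node [10,10] .nil .nil) (.node [8,10,8,8,8,8] .nil .nil)) (.node [10,10,8,8] (.node [10,8,8,10,10] .nil .nil) .nil))))) (.node [10,8,8] (.node [8,10,8,8,8] (.node [8,10,10] (.node [8,10,8,8,8,8] (.node [8,8,10,10,10] (.node [8,8,8,8,8] .nil .nil) (.node [10,10,8,8] .nil .nil)) (.node [10,8,10,10,10,8] (.node [10,8,10,8,10] .nil .nil) (.node [8,10,8,8] .nil .nil))) (.node [8,10,8] (.node [10,8,10,8,10] (.node [8,8,8,8] .nil .nil) (.node [10,10,10,8] .nil .nil)) (.node [10,10,8,10,10] (.node [10,10,8,10,10] .nil .nil) .nil))) (.node [10,10,8,10,10] (.node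 [10,8,8] (.node [10,8,8,10,10] (.node [10,8] .nil .nil) (.node [10,8,10] .nil .nil)) (.node [8,8,8] (.node [10,10,10] .nil .nil) .nil)) (.node [8,8,8,8,8] (.node [10,10,8,10,10] (.node [8,10] .nil .nil) (.node [8,10] .nil .nil)) (.node [8,8,10,10,10] (.node [8,10,10,10,8] .nil .nil) .nil)))) (.node [10,8,10,8] (.node [8,8,10,8,8] (.node [10,10,8,10] (.node [] (.node [10,8,8,10] .nil .nil) (.node [10,8,8] .nil .nil)) (.node [8,8,10,8] (.node [8,10,8,8,10] .nil .nil) (.node [10,8,10,8,8,8] .nil .nil))) (.node [8,8,10,10] (.node [10,8,8,10] (.node [8,10,10,10,8] .nil .nil) (.node [10,10,8,8,8] .nil .nil)) (.node [8,10,10,10,8] (.node [8,8,8,8,8,8] .nil .nil) .nil))) (.node [10,8,10,10,10] (.node [10,10,10] (.node [10,8,10,10,10] (.node [10,10,8,8] .nil .nil) (.node [8,8,10] .nil .nil)) (.node [10,8,8,10,10] (.node [10,8] .nil .nil) .nil)) (.node [10,8,8,10,10] (.node [8,10] (.node [8,10,8] .nil .nil) (.node [8,10,8,10] .nil .nil)) (.node [10,10,8,10,10] (.node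 [10,8,10] .nil .nil) .nil))))))))

/-- Part of `moveWord`. -/
noncomputable def moveWord_r_l_r_l_r : Arr (List ℕ) :=
  (.node [10,8,10,8,8] (.node [10,8,8,10] (.node [10,10,10,8] (.node [10,10,10,8] (.node [8,8,10,8] (.node [8,10,8,10,10] (.node [8,10,8,10,10] (.node [10,10,8,10,10] (.node [10,8,8,10,10] .nil .nil) (.node [8,10,8,8,10] .nil .nil)) (.node [10,10,8,8,10,10] (.node [10,8,10,10,10] .nil .nil) (.node [10,10,10,8,8] .nil .nil))) (.node [10] (.node [8,10,8,8,10] (.node [10] .nil .nil) (.node [10,10,8,10,8] .nil .nil)) (.node [8,10,10] (.node [10,10,10,8,8] .nil .nil) .nil))) (.node [10,10,8,10] (.node [10,10,10] (.node [10,10,8,8,10] (.node [10,10,8] .nil .nil) (.node [10,10,8,10,10] .nil .nil)) (.node [8,10,8,10] (.node [10,10,8,8,10] .nil .nil) (.node [8,8,8,8,8,8] .nil .nil))) (.node [10,10,10] (.node [8,10,8] (.node [8,10,8,8] .nil .nil) (.node [10] .nil .nil)) (.node [8,10] (.node [10,8,8,8,8] .nil .nil) .nil)))) (.node [10,10,8] (.node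 [8,8,10,8,8] (.node [8,8] (.node [10,8,8,8] (.node [8,8] .nil .nil) (.node [8,10,8,8,10] .nil .nil)) (.node [10,10,10,8,8] (.node [10,8,10,10] .nil .nil) (.node [10,8,10,8,8,8] .nil .nil))) (.node [10] (.node [10,8,10,8,10] (.node [8,10,8,8] .nil .nil) (.node [8,8,8,8,8] .nil .nil)) (.node [10,10,8,10,10] (.node [8,10] .nil .nil) .nil))) (.node [10] (.node [10,10,10] (.node [8,10,8,10,10] (.node [10,10,8,10] .nil .nil) (.node [8,10,10,10,8] .nil .nil)) (.node [10,10,8] (.node [10,8,8,8,8] .nil .nil) .nil)) (.node [10,10] (.node [10,8,10,8,10,10] (.node [8,10,8,8,8,8] .nil .nil) (.node [10,10,8,10,8] .nil .nil)) (.node [8,8,10,10] (.node [10,8,10,10,10] .nil .nil) .nil))))) (.node [8,8] (.node [10,8,10,10] (.node [10,10,8,8,10] (.node [10,8,8,8] (.node [10,8,10,10] (.node [8,10,8,8,8] .nil .nil) (.node [8,8,10] .nil .nil)) (.node [8,10,8,8,8] (.node [10,10,8,10,8] .nil .nil) (.node [8,10,8,8] .nil .nil))) (.node [10,10,8,10] (.node [10,8,8,10] (.node [10,8,8,10]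 .nil .nil) (.node [8,8,8,8] .nil .nil)) (.node [10,10,10] (.node [8,8,8] .nil .nil) .nil))) (.node [10,10,8,8,8] (.node [8,10,8,8,10] (.node [8,8,10,8] (.node [8,10,10,10] .nil .nil) (.node [10,8] .nil .nil)) (.node [10] (.node [10,10,8,8,10] .nil .nil) .nil)) (.node [10,8,10] (.node [] (.node [10,8,10,8] .nil .nil) (.node [8,10,10] .nil .nil)) (.node [8,8,8,8,8,8] (.node [8,8,10,8] .nil .nil) .nil)))) (.node [8,10,8,10,10] (.node [10,10,8,10,8] (.node [8,8,10,8] (.node [8,8,10] (.node [8,10,8,10,10] .nil .nil) (.node [10,10,10,8,8] .nil .nil)) (.node [8,8,10,10] (.node [10,8,10,10,10] .nil .nil) (.node [10,10,10,8,8] .nil .nil))) (.node [10,10,8,10] (.node [8,10,8,10,10] (.node [8,10] .nil .nil) (.node [8,8,8,8,8] .nil .nil)) (.node [10,8,10,10,10,8] (.node [8,8,10,8,8] .nil .nil) .nil))) (.node [8,10,8,10,10] (.node [8,10,10,10] (.node [8,8,8] (.node [10,8,10] .nil .nil) (.node [10,10,10,8,8,10] .nil .nil)) (.node [10,8,8,8,8] (.node [10,10,8,8,10,10]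 .nil .nil) .nil)) (.node [8,8,10,8] (.node [10,8,10,8,10,10] (.node [8,10,10,10] .nil .nil) (.node [8,10,10,10] .nil .nil)) (.node [10,8,10,10] (.node [10,10,8,10,10] .nil .nil) .nil)))))) (.node [8,8,10,10,10] (.node [10,10,10] (.node [10,10,10,8] (.node [8,8] (.node [8,8,8,8,8,8] (.node [10,10,8,10] (.node [8,10,8,8,8] .nil .nil) (.node [8,10,10] .nil .nil)) (.node [10,8,10] (.node [8,10] .nil .nil) (.node [10,8,10,8,8,8] .nil .nil))) (.node [10,10,8,10,10] (.node [8,10,10,10] (.node [8,8,10] .nil .nil) (.node [8,10,8,8,8,8] .nil .nil)) (.node [10,8,8,10] (.node [8,8,10,8,8] .nil .nil) .nil))) (.node [10,10,8,10,10] (.node [10,10,10,8] (.node [10,10,8,8,8] (.node [8,8,8] .nil .nil) (.node [10,8,10,8,10] .nil .nil)) (.node [8,8,10,8,8] (.node [10,8,10,8,8,8] .nil .nil) (.node [8,8,8] .nil .nil))) (.node [8,10] (.node [10,8,10,10] (.node [8,10,8,10,10] .nil .nil) (.node [10,10,8,10,10] .nil .nil)) (.node [] (.node [10,10,8,10,10] .nil .nil) .nil)))) (.node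 [8,8,8] (.node [8,10,8,8,8] (.node [10,8,10,10] (.node [10,8,10,8] (.node [] .nil .nil) (.node [8,8,8,8,8] .nil .nil)) (.node [8,8] (.node [10,8,10,8,10,10] .nil .nil) (.node [10,10,8,10,8] .nil .nil))) (.node [8,10,8] (.node [10,8,10,10,10] (.node [10,8,8,10] .nil .nil) (.node [] .nil .nil)) (.node [10,8,10,10,10,8] (.node [10,8,8,8] .nil .nil) .nil))) (.node [10,8,10] (.node [8] (.node [10,8,8,10] (.node [10,10,10,8] .nil .nil) (.node [10,10,8,8] .nil .nil)) (.node [10,10,10] (.node [10,8,10,8,10,10] .nil .nil) .nil)) (.node [10,10,8] (.node [10,8,10,8,10] (.node [10,10,8,10] .nil .nil) (.node [10,8,10,8,8] .nil .nil)) (.node [10,8,10] (.node [8,10,8,8,8,8] .nil .nil) .nil))))) (.node [8,10,8,8,10] (.node [8,10,8] (.node [8,8,10,10] (.node [10,8] (.node [10,8,10,8,8,8] (.node [10,8,8,8] .nil .nil) (.node [10,10,8,8,8] .nil .nil)) (.node [10,8,10,10,10] (.node [10,8,10,8,10] .nil .nil) (.node [8,10] .nil .nil))) (.node [8,8,10,8] (.node [10,8,10,10] (.node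 [10,8,8,10,10] .nil .nil) (.node [8,10,8,10,10] .nil .nil)) (.node [8,10,8,8,10] (.node [10,8,10,10,10,8] .nil .nil) .nil))) (.node [8,10] (.node [10,8,10] (.node [10,8,8] (.node [10,8,10] .nil .nil) (.node [10,10,8,8,10] .nil .nil)) (.node [8,10,8] (.node [10,10,8,8,10] .nil .nil) .nil)) (.node [8,8,8,8,8,8] (.node [10,10,10,8,8,10] (.node [8,10,8,10] .nil .nil) (.node [8,10,8,8] .nil .nil)) (.node [10,8,10,8] (.node [10,8,10,8,10,10] .nil .nil) .nil)))) (.node [8,8,10,10] (.node [10,10,8] (.node [10,8,8,8,8] (.node [8,8,8,8,8,8] (.node [10,10,10,8,8] .nil .nil) (.node [8,10,8,10] .nil .nil)) (.node [10,8,10,8,10] (.node [8,10,8,8,8] .nil .nil) (.node [10,8,8,10,10] .nil .nil))) (.node [8,8,10,8,8] (.node [10,10,10] (.node [8,10,8,10] .nil .nil) (.node [10] .nil .nil)) (.node [10,8,10,10,10,8] (.node [10,8,10,8,8] .nil .nil) .nil))) (.node [8,10,8,10] (.node [8,10,8] (.node [8,10,8] (.node [8,10,8,8] .nil .nil) (.node [8,10] .nil .nil)) (.node [8,10,8,8,10]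 (.node [8,8,10,10,10] .nil .nil) .nil)) (.node [10] (.node [8,10,8,10] (.node [10,8,10] .nil .nil) (.node [10,10,8,8] .nil .nil)) (.node [8,8,8] (.node [10,8,10,10,10] .nil .nil) .nil))))))) (.node [10,8,10,8,10,10] (.node [10,8] (.node [8,10,8] (.node [8,10,8,10,10] (.node [10,10,8,8,10] (.node [8] (.node [10,10,10,8] (.node [8,8] .nil .nil) (.node [10,10,8,10,10] .nil .nil)) (.node [8,10,8,8,8,8] (.node [10,8,10,10,10] .nil .nil) (.node [10,10,10,8] .nil .nil))) (.node [8,10,8,8] (.node [10,10,10,8] (.node [10,10,10,8] .nil .nil) (.node [10,8,10,10,10,8] .nil .nil)) (.node [10,10,8] (.node [10,8,10,10,10] .nil .nil) .nil))) (.node [10,8,8,8] (.node [8,10,8,8,8,8] (.node [8,10,8,8] (.node [10,8,10,10] .nil .nil) (.node [8,8,10] .nil .nil)) (.node [] (.node [10,8,10,8,10] .nil .nil) (.node [10,10,8,8,8] .nil .nil))) (.node [10] (.node [8,10,8] (.node [10,8,10,8] .nil .nil) (.node [8,10,8,10,10] .nil .nil)) (.node [8,10,8] (.node [10,10,8,10,8] .nil .nil)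 .nil)))) (.node [8,10,10] (.node [10,10,8,10,8] (.node [10,10,8,10,10] (.node [8,8,8] (.node [10,8,10,10] .nil .nil) (.node [10,8,8,10,10] .nil .nil)) (.node [10,8,8,10,10] (.node [8,10,10,10] .nil .nil) (.node [10] .nil .nil))) (.node [8,8,10] (.node [8,10,8,10,10] (.node [10,8,10,8,10,10] .nil .nil) (.node [10,8,10,8] .nil .nil)) (.node [10] (.node [10,8,10,8,8,8] .nil .nil) .nil))) (.node [10,8,8] (.node [10,10] (.node [8,8,10,8] (.node [10,10,10,8,8,10] .nil .nil) (.node [8,8,8,8] .nil .nil)) (.node [10,10,10] (.node [10,10,8,8] .nil .nil) .nil)) (.node [8,10,8,8] (.node [8,10,8,8] (.node [10,10,8,8,10,10] .nil .nil) (.node [10,10,8,8,8] .nil .nil)) (.node [10,8,10,8] (.node [10,8,8,10] .nil .nil) .nil))))) (.node [8,8,10] (.node [8,8,10,10] (.node [8,8,8] (.node [8,10] (.node [10,10] (.node [10,10,8,10,8] .nil .nil) (.node [10,8] .nil .nil)) (.node [8,10,8,8] (.node [8,8,10,10,10] .nil .nil) (.node [10,8,10] .nil .nil))) (.node [10,8,8,10] (.node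 [8,10,8,8,8,8] (.node [8,10,8,10] .nil .nil) (.node [8,10,8] .nil .nil)) (.node [8,10,8,8,8,8] (.node [10,10,8,8] .nil .nil) .nil))) (.node [8,8,10,8] (.node [8,10,8] (.node [10,8,8,8,8] (.node [10,8,10,8,8,8] .nil .nil) (.node [10,10,8,8,10,10] .nil .nil)) (.node [10] (.node [10,8,8,8,8] .nil .nil) .nil)) (.node [8,10,8,8,10] (.node [8,10,8,8,8,8] (.node [10,8,8,8,8] .nil .nil) (.node [10,8,10,8,10,10] .nil .nil)) (.node [8,10,8] (.node [10,8,10,8,10,10] .nil .nil) .nil)))) (.node [10,10,8,8,10] (.node [10,8,10,8,10] (.node [10,8,10,10,10,8] (.node [10,8,8,8] (.node [10,10,8,8] .nil .nil) (.node [10] .nil .nil)) (.node [10,10,10,8] (.node [8,8] .nil .nil) (.node [8,8] .nil .nil))) (.node [8,8,10] (.node [10,8,8,8] (.node [10,10,10,8] .nil .nil) (.node [10,10,10,8] .nil .nil)) (.node [10,10,10,8] (.node [10,8,8,8] .nil .nil) .nil))) (.node [8,10,8,10] (.node [10,10] (.node [8,10,10] (.node [10,10,10] .nil .nil) (.node [10,10,8,8,8] .nil .nil)) (.node [8,10,10,10,8]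 (.node [8,10,8,10,10] .nil .nil) .nil)) (.node [10,8,10,8,10] (.node [10,8,8,10] (.node [10,8,10,8,10] .nil .nil) (.node [10,10,8,10] .nil .nil)) (.node [10,8,10] (.node [10,10,8,10,10] .nil .nil) .nil)))))) (.node [10,10,8,10,8] (.node [] (.node [10,8,8,10] (.node [10,8,10,8,10] (.node [8,8,10,10] (.node [10,8,10,8,10,10] (.node [10,10,8,8,10,10] .nil .nil) (.node [] .nil .nil)) (.node [8,8,10,8,8] (.node [10,8,10,10,10,8] .nil .nil) (.node [10,10,8,10,8] .nil .nil))) (.node [8,8,8,8] (.node [10,8,8] (.node [10,10,10,8] .nil .nil) (.node [10,10,10,8] .nil .nil)) (.node [10,8,8,8] (.node [10,8] .nil .nil) .nil))) (.node [8,8,10,8,8] (.node [10,8,8] (.node [10,8,8,8] (.node [10,10] .nil .nil) (.node [10,10,8,10,8] .nil .nil)) (.node [8,10,8,8,8,8] (.node [10,10,8,8,8] .nil .nil) (.node [10,8,8,10] .nil .nil))) (.node [8] (.node [10,10,8,10] (.node [10,10,8] .nil .nil) (.node [8,8,10,8] .nil .nil)) (.node [10,8,10,8,8] (.node [10,10,10,8] .nil .nil) .nil))))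 (.node [8,8,10,8,8] (.node [8,10,8,8,8,8] (.node [10,10,8,8,8] (.node [10,8,8,10] (.node [10,8,10,10,10] .nil .nil) (.node [10,10,8,8] .nil .nil)) (.node [10,8,10,10,10,8] (.node [10,10,10,8,8,10] .nil .nil) (.node [8,10,10,10,8] .nil .nil))) (.node [] (.node [10,10] (.node [10,10,10] .nil .nil) (.node [10] .nil .nil)) (.node [10,8,10,8,8] (.node [10,10] .nil .nil) .nil))) (.node [8,8,10,10,10] (.node [10,10,8,8,8] (.node [10,10,10,8] (.node [8,8,8,8,8] .nil .nil) (.node [10,8] .nil .nil)) (.node [8,8,8] (.node [10,10,8,10] .nil .nil) .nil)) (.node [] (.node [10,8,8] (.node [8,8,10,8,8] .nil .nil) (.node [8,10] .nil .nil)) (.node [10,8,8] (.node [10,10,8,8,10] .nil .nil) .nil))))) (.node [10,8,10,8,8,8] (.node [8,10,10,10] (.node [] (.node [10,10,10,8,8] (.node [10,10,8,8] (.node [10,10] .nil .nil) (.node [10,10,8,10] .nil .nil)) (.node [8] (.node [8,10,8,10,10] .nil .nil) (.node [8,8,8,8] .nil .nil))) (.node [10,8,8,8] (.node [] (.node [10,10,8,8] .nil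 .nil) (.node [8,8,10] .nil .nil)) (.node [10,10,10,8,8,10] (.node [8,10,8,10] .nil .nil) .nil))) (.node [8,8,8,8,8,8] (.node [10,8,10,8,8,8] (.node [10,8,10,10,10] (.node [10,10] .nil .nil) (.node [8,10] .nil .nil)) (.node [8,10,10,10] (.node [10,8,10,8,10,10] .nil .nil) .nil)) (.node [10,8,10] (.node [8,10] (.node [10,8,10,8,8,8] .nil .nil) (.node [10,8,8] .nil .nil)) (.node [10,10,8,8,8] (.node [10,10,10,8,8,10] .nil .nil) .nil)))) (.node [10,10,8,8,10] (.node [10,10,10,8,8,10] (.node [8,10,8,8,8,8] (.node [10,8,10,8,10] (.node [10,8,10,8,8,8] .nil .nil) (.node [10,10,8] .nil .nil)) (.node [10,8] (.node [10] .nil .nil) (.node [8,10,10,10] .nil .nil))) (.node [8,10,8] (.node [10,10,8,10] (.node [8,8,10] .nil .nil) (.node [8,8,8,8] .nil .nil)) (.node [10,10,10,8,8,10] (.node [8,8,10,8,8] .nil .nil) .nil))) (.node [8,8,10,10] (.node [10,10,10] (.node [8,10,10,10,8] (.node [10,8,8,8,8] .nil .nil) (.node [8,10,8,8,8] .nil .nil)) (.node [10,10,10,8,8,10] (.node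 [8,10,8,10,10] .nil .nil) .nil)) (.node [10] (.node [8,10,8] (.node [8,10,8] .nil .nil) (.node [10,10,10,8] .nil .nil)) (.node [8,8] (.node [10,10,10,8] .nil .nil) .nil))))))))

/-- Part of `moveWord`. -/
noncomputable def moveWord_r_l_r_l : Arr (List ℕ) :=
  .node [10,8] moveWord_r_l_r_l_l moveWord_r_l_r_l_r

/-- Part of `moveWord`. -/
noncomputable def moveWord_r_l_r_r_l : Arr (List ℕ) :=
  (.node [10,8,10,10,10,8] (.node [8,10,8,8,8,8] (.node [8,10,8,10] (.node [10,8,8,8,8] (.node [8,10,8,10] (.node [8,8,8,8,8,8] (.node [10,8,8,10] (.node [10,8,10,8,8] (.node [8,8] .nil .nil) (.node [10,8,10] .nil .nil)) (.node [8,8,8,8] (.node [10,8,10,8,8,8] .nil .nil) (.node [8,8,10,10] .nil .nil))) (.node [8,10,8,10,10] (.node [10,10,10] (.node [10,8,10,10,10,8] .nil .nil) (.node [10,10,8,10,8] .nil .nil)) (.node [8,10,8,10] (.node [8,8,10,8] .nil .nil) .nil))) (.node [10,8,8,8] (.node [10,10,8,10,10] (.node [10] (.node [10,8,8,10] .nil .nil) (.node [10] .nil .nil))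 (.node [10,10,8,8,8] (.node [8,10,8,10,10] .nil .nil) (.node [10,8,10,8,10,10] .nil .nil))) (.node [10,8,10] (.node [10,10,8,8] (.node [10,8,10,8] .nil .nil) (.node [10,10,8,10,8] .nil .nil)) (.node [10,10,8,10,10] (.node [10,10] .nil .nil) .nil)))) (.node [10,10,8,8,10,10] (.node [8,8] (.node [8,8,10,10] (.node [10,10,10,8,8] (.node [10,8,8] .nil .nil) (.node [] .nil .nil)) (.node [10,10] (.node [10,10,10] .nil .nil) (.node [10,10,8,8,10] .nil .nil))) (.node [10,8,10,8,8,8] (.node [8,8,10,10] (.node [10,10,8,10,8] .nil .nil) (.node [8,8,10,10,10] .nil .nil)) (.node [10,8,8,10] (.node [8,10,8] .nil .nil) .nil))) (.node [8,10,8,8,10] (.node [8,10,8,10,10] (.node [8,10,10,10,8] (.node [8,10,8,8,8] .nil .nil) (.node [10,8,10,8,10,10] .nil .nil)) (.node [10,10,8,8,10,10] (.node [8,10,8,10] .nil .nil) .nil)) (.node [8,8] (.node [8,10,8] (.node [10,10,8,8,10,10] .nil .nil) (.node [8,8,8,8] .nil .nil)) (.node [10,8,8,8] (.node [8,8,8,8,8] .nil .nil) .nil)))))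 (.node [10,10,8] (.node [10,10,8,8,10,10] (.node [8,8,10] (.node [10,10,8,8,10,10] (.node [8,10,8,10,10] (.node [10,8,10,8,8,8] .nil .nil) (.node [10,8,8,8,8] .nil .nil)) (.node [8,8,8,8,8,8] (.node [8,10,8] .nil .nil) (.node [10,10,8,10,10] .nil .nil))) (.node [8,8,8,8,8] (.node [10,10,10,8] (.node [10,8,8,10,10] .nil .nil) (.node [10,10,10,8,8,10] .nil .nil)) (.node [10,10,8,10] (.node [8,8] .nil .nil) .nil))) (.node [8,8,8,8] (.node [8,10,10] (.node [8,8,10] (.node [10,8,10,8,10] .nil .nil) (.node [8,10,8,8,8] .nil .nil)) (.node [10,10,8,8] (.node [8,8,8,8] .nil .nil) .nil)) (.node [10,8,8,10,10] (.node [8,8,10,10,10] (.node [8,8,10] .nil .nil) (.node [10,10,8,8] .nil .nil)) (.node [8,10,8,8,8] (.node [10,8,8,10] .nil .nil) .nil)))) (.node [10,8,10,8] (.node [8,10,8,10] (.node [10,10,10,8,8,10] (.node [10,10,10,8] (.node [10,10,8,10,8] .nil .nil) (.node [10,10,8,10,10] .nil .nil)) (.node [10,10,8,8] (.node [10,8,8] .nil .nil) (.node [8] .nil .nil)))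 (.node [10,10,8,8,8] (.node [10,10,8] (.node [8,10,8,10,10] .nil .nil) (.node [10,8,10,8,10,10] .nil .nil)) (.node [8,8,10,10,10] (.node [10,10,8,10] .nil .nil) .nil))) (.node [8,10,8,8] (.node [8,10,8,8] (.node [10,8,10,8,10] (.node [10,8,8,8,8] .nil .nil) (.node [10,10,8,8,10,10] .nil .nil)) (.node [10,10,8,8] (.node [10,8,8,8,8] .nil .nil) .nil)) (.node [10,8,8,8] (.node [10,8,10,8] (.node [10,10,10] .nil .nil) (.node [10,10,8,10,8] .nil .nil)) (.node [8,10,10,10,8] (.node [10,8,8] .nil .nil) .nil)))))) (.node [8,10,8,8,10] (.node [8,10,8,8] (.node [10,8,10,10,10,8] (.node [8,8,8,8] (.node [8,10] (.node [8,8,10,10] (.node [8,10,8,8,8,8] .nil .nil) (.node [10,10,8,10] .nil .nil)) (.node [10,8,8,8] (.node [10,8,8] .nil .nil) (.node [10,10,10,8,8] .nil .nil))) (.node [8] (.node [10,10,8,8] (.node [10,8,10,8,8] .nil .nil) (.node [10,8,10,8,8] .nil .nil)) (.node [10,8,8,8,8] (.node [10,10,8,8] .nil .nil) .nil))) (.node [10,8,10,10,10,8] (.node [10,10,8,8]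 (.node [10,8,10,10,10,8] (.node [] .nil .nil) (.node [8,8,10,10] .nil .nil)) (.node [10,8,10,8,10] (.node [10,10,10] .nil .nil) (.node [8,10,8,8,10] .nil .nil))) (.node [10,10,8,8] (.node [10,8,8,10] (.node [8,8,8,8] .nil .nil) (.node [10,10,8,8,10,10] .nil .nil)) (.node [10,8,10] (.node [8,10,10] .nil .nil) .nil)))) (.node [10,8,10,10] (.node [8,8] (.node [10,10,8] (.node [10,10,10] (.node [10,8,10,10,10] .nil .nil) (.node [8,8,10] .nil .nil)) (.node [8,8,8,8,8] (.node [10,8,10,10] .nil .nil) (.node [10,10,8,10,8] .nil .nil))) (.node [8] (.node [10,8,10,8] (.node [10,8,8,8] .nil .nil) (.node [10,10,8,8] .nil .nil)) (.node [8,8,10,10] (.node [8,8,8,8,8] .nil .nil) .nil))) (.node [10,10,8,10,10] (.node [8,8,10,10] (.node [10,8,8,8] (.node [10,10,8,10,8] .nil .nil) (.node [10,10,8] .nil .nil)) (.node [10,8,10,8,8] (.node [10,10,10,8,8,10] .nil .nil) .nil)) (.node [10,10,8,8,10] (.node [10,8,10,8] (.node [8,10,8,10] .nil .nil) (.node [10,8,10,8,8] .nil .nil))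 (.node [10,10,8,8,10,10] (.node [8,8,10,10,10] .nil .nil) .nil))))) (.node [10,8,8,10,10] (.node [10,8] (.node [10,8,10,8,8] (.node [8,8,10,10,10] (.node [10] (.node [8,10,8,8,8,8] .nil .nil) (.node [10,8,10,8] .nil .nil)) (.node [8,8,10,8] (.node [8,8,10,8,8] .nil .nil) (.node [8] .nil .nil))) (.node [10,8,8,10,10] (.node [10,10,8] (.node [8,8] .nil .nil) (.node [10,10] .nil .nil)) (.node [10,8,10,8] (.node [10,10,8,10] .nil .nil) .nil))) (.node [10,8,10,8,10,10] (.node [8,8] (.node [10,10,8] (.node [10,8,8] .nil .nil) (.node [8,8,8,8,8,8] .nil .nil)) (.node [10,10,8,8,10] (.node [8,10,8,8,8] .nil .nil) .nil)) (.node [8,8,8] (.node [8,8,10,10,10] (.node [10,10,8,8,10] .nil .nil) (.node [10,10,10,8,8] .nil .nil)) (.node [10,10,10,8] (.node [10,10,10,8] .nil .nil) .nil)))) (.node [8] (.node [] (.node [8] (.node [10,8,8,8,8] (.node [8,10] .nil .nil) (.node [10,10,8,8,10,10] .nil .nil)) (.node [10,8,10,10] (.node [8,10,10,10] .nil .nil) (.node [8,8,8,8,8]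 .nil .nil))) (.node [10,10,8,10] (.node [8,10,10,10,8] (.node [10,10,10] .nil .nil) (.node [10,10,8] .nil .nil)) (.node [8,8,10] (.node [8,8,10,8,8] .nil .nil) .nil))) (.node [8,8] (.node [8,8,8,8] (.node [10,10,8,8,10,10] (.node [10] .nil .nil) (.node [10,8,10,8,8] .nil .nil)) (.node [8,8,10,8,8] (.node [10,8,10,8,8,8] .nil .nil) .nil)) (.node [10,10,10,8,8,10] (.node [8,10,8,10,10] (.node [8,10,8,8] .nil .nil) (.node [10] .nil .nil)) (.node [8] (.node [8,8,8,8,8,8] .nil .nil) .nil))))))) (.node [10,10,8,8,10] (.node [10,8,10,8,10,10] (.node [10,10,8,8] (.node [10,8,10,8,10] (.node [10,8,10,10] (.node [8,8,10,10] (.node [10,8,10,10,10] (.node [] .nil .nil) (.node [8,10,10,10] .nil .nil)) (.node [8,10,10] (.node [8,8,8,8,8] .nil .nil) (.node [10,10] .nil .nil))) (.node [10,8,10,8,8,8] (.node [8,8,10,10,10] (.node [8,10,10,10] .nil .nil) (.node [8,10,8,8] .nil .nil)) (.node [10,10] (.node [10,8] .nil .nil) .nil))) (.node [8,10,8,8] (.node [8,8,8,8,8] (.node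 [8,8,8,8,8,8] (.node [10,10,10,8,8,10] .nil .nil) (.node [8,10,8,10] .nil .nil)) (.node [8,10,8,8,10] (.node [10,10,10] .nil .nil) (.node [8,8,8,8,8] .nil .nil))) (.node [8,8,10,8,8] (.node [10,10,8,8,8] (.node [] .nil .nil) (.node [10,10,8,8,10,10] .nil .nil)) (.node [8,8,10,8] (.node [8,10,8,10] .nil .nil) .nil)))) (.node [10,10] (.node [8,10,10,10] (.node [8,10] (.node [8,10,8,8,10] (.node [10,8,10,8,10] .nil .nil) (.node [10,10] .nil .nil)) (.node [8,8,10,8] (.node [10,10,8,8,10] .nil .nil) (.node [10,8] .nil .nil))) (.node [8,10] (.node [8,8] (.node [10,8,10,10] .nil .nil) (.node [8,10,8,10,10] .nil .nil)) (.node [10,8,8,8,8] (.node [8,8,8] .nil .nil) .nil))) (.node [8,10,10] (.node [10,8,10,10,10] (.node [10,8,10,8,10,10] (.node [8,10,8,10,10] .nil .nil) (.node [10,8,10,10] .nil .nil)) (.node [10,8,10,10] (.node [10,8,10,10] .nil .nil) .nil)) (.node [8,10,8,8] (.node [10,10,10,8] (.node [8,8,8,8] .nil .nil) (.node [10,10,8,8,10] .nil .nil)) (.node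 [8,8,8,8] (.node [10,10,8,8] .nil .nil) .nil))))) (.node [10,10,10,8,8] (.node [8,8,8,8] (.node [10,10,10,8,8,10] (.node [8,10,10,10] (.node [8,10,8,8,8,8] (.node [10,8,8] .nil .nil) (.node [10,8,10,10] .nil .nil)) (.node [8,10] (.node [10,10,8] .nil .nil) (.node [10,8,10] .nil .nil))) (.node [8,10,10,10,8] (.node [10,10,8,10] (.node [10,10,8,8,10] .nil .nil) (.node [8,10,8,8] .nil .nil)) (.node [8,10] (.node [8,10,8] .nil .nil) .nil))) (.node [10] (.node [10,8,10,8,8] (.node [8,8,10,8,8] (.node [8,8,10,10] .nil .nil) (.node [] .nil .nil)) (.node [10,8,8,8] (.node [10,10,8,10,10] .nil .nil) .nil)) (.node [10,8,10,10,10] (.node [8,10] (.node [10,8,10,10] .nil .nil) (.node [8,8,8,8,8,8] .nil .nil)) (.node [10,10,10,8] (.node [8] .nil .nil) .nil)))) (.node [8,8,10,8] (.node [10,10,8,10,10] (.node [10,10,8,10,10] (.node [8,10,8,8,8] (.node [10,10,10,8] .nil .nil) (.node [8,10] .nil .nil)) (.node [10,8,10,8,8,8] (.node [10,10,10,8,8,10] .nil .nil) (.node [8,8,10,10,10]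 .nil .nil))) (.node [10,8,8,10,10] (.node [10,10,8,8] (.node [8,8,10,8,8] .nil .nil) (.node [10,8,8] .nil .nil)) (.node [8,8,10,10] (.node [8,10] .nil .nil) .nil))) (.node [10,8,10,10] (.node [10,10,10] (.node [10,10,8,8] (.node [10,8] .nil .nil) (.node [10,10,10,8,8] .nil .nil)) (.node [10,8] (.node [8,10,8,10] .nil .nil) .nil)) (.node [8,8] (.node [8,10,8,8] (.node [10,8,8,8] .nil .nil) (.node [8,10,8,10,10] .nil .nil)) (.node [8,10] (.node [8] .nil .nil) .nil)))))) (.node [8,8,8] (.node [10,10,8,10,8] (.node [8,8,10,8] (.node [10,10,8] (.node [10,8,8,10] (.node [8,8,8] (.node [10,10,8,10,10] .nil .nil) (.node [10] .nil .nil)) (.node [10,8] (.node [10,8,10] .nil .nil) (.node [8,8,10,8] .nil .nil))) (.node [10,10,8,10,8] (.node [10,8,10,10] (.node [10,10,10,8] .nil .nil) (.node [10,10,8,8,10] .nil .nil)) (.node [10,10,8,8,8] (.node [10,8,8,10] .nil .nil) .nil))) (.node [10,10,8,10,8] (.node [10,8,10,8,10] (.node [10,10,8,10] (.node [10,10,8,8,8] .nil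 .nil) (.node [10,10,8,10,10] .nil .nil)) (.node [10,8,10,8,10] (.node [10,8,10,8,10,10] .nil .nil) (.node [10,8,10,8,10,10] .nil .nil))) (.node [10,8,10,8,10] (.node [8,8] (.node [10,10] .nil .nil) (.node [10,10,8,8,8] .nil .nil)) (.node [10,10,8,10,8] (.node [8,10,10,10] .nil .nil) .nil)))) (.node [8,10,8,8,8,8] (.node [10,10,8,8,8] (.node [8,10,10,10,8] (.node [10,8,8] (.node [8,10,8,10,10] .nil .nil) (.node [10,8,8,8,8] .nil .nil)) (.node [8,8] (.node [10,10,10] .nil .nil) (.node [8,8,10] .nil .nil))) (.node [8,8,8,8] (.node [10,8,10,8,10,10] (.node [8,8,10,8] .nil .nil) (.node [8,8,8] .nil .nil)) (.node [8,10,10,10] (.node [8,10,8,8,8,8] .nil .nil) .nil))) (.node [8,10,8,8,10] (.node [10,8,10,8,8] (.node [10,10,8] (.node [10,8] .nil .nil) (.node [10,8,10] .nil .nil)) (.node [10,10,8,8,10,10] (.node [8,8,10,8] .nil .nil) .nil)) (.node [10,8,10,8,10] (.node [10,10] (.node [8,10,10] .nil .nil) (.node [8,10,10,10,8] .nil .nil)) (.node [8,10,10] (.node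 [10,10,8] .nil .nil) .nil))))) (.node [10,8,10,8] (.node [10,10,10,8] (.node [10,8,10,8,10] (.node [8,8,10,10,10] (.node [10,8,8] (.node [8,10,8,10] .nil .nil) (.node [10,10,8,8] .nil .nil)) (.node [10,8,10,8,8] (.node [10,10,8,8,8] .nil .nil) (.node [10,8,8,8,8] .nil .nil))) (.node [10,8,10,8,10,10] (.node [10,10,8,10] (.node [8,10,8,8,10] .nil .nil) (.node [10,8,10] .nil .nil)) (.node [10,8,10,8,8] (.node [8,10,8,10] .nil .nil) .nil))) (.node [8,8] (.node [8,8,10,10,10] (.node [10,8,8] (.node [10,8,10,10,10,8] .nil .nil) (.node [8,10,10,10,8] .nil .nil)) (.node [10,10,8,8] (.node [10,8,10,10,10] .nil .nil) .nil)) (.node [10,10,8,10,8] (.node [10,10,8,8,8] (.node [10,10,10,8] .nil .nil) (.node [8,10,8,10] .nil .nil)) (.node [] (.node [8,8,10,8] .nil .nil) .nil)))) (.node [8,8,10] (.node [8,10,8] (.node [8,10] (.node [10,10,8,8,10] (.node [10,8,8,10] .nil .nil) (.node [10,10,8,10,10] .nil .nil)) (.node [10,8,8,8] (.node [8,8,8,8,8] .nil .nil) (.node [10,10,8,8]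 .nil .nil))) (.node [10,10,10,8] (.node [8,8] (.node [8,8,10,10] .nil .nil) (.node [8,10,10] .nil .nil)) (.node [8,10,8,8,8,8] (.node [10,10,10] .nil .nil) .nil))) (.node [10,8,8,10] (.node [8,8,8,8,8] (.node [10,8] (.node [8,10,8,8] .nil .nil) (.node [10,8,10,8,8,8] .nil .nil)) (.node [] (.node [8,8,8,8,8,8] .nil .nil) .nil)) (.node [10,10,10,8] (.node [8,8,10,8,8] (.node [10,8,10,8,10,10] .nil .nil) (.node [8] .nil .nil)) (.node [] (.node [10,8,10,8,8] .nil .nil) .nil))))))))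

/-- Part of `moveWord`. -/
noncomputable def moveWord_r_l_r_r_r : Arr (List ℕ) :=
  (.node [] (.node [8,10,10] (.node [10,10,10,8,8,10] (.node [8,8,8,8,8] (.node [8,8,8,8,8,8] (.node [] (.node [10,10,10,8,8,10] (.node [8,10,8,8,8,8] (.node [8,8,8,8,8,8] .nil .nil) (.node [8,8,10,10,10] .nil .nil)) (.node [8,10,8,8] (.node [10] .nil .nil) (.node [8,8,10,8] .nil .nil))) (.node [8,10,10,10] (.node [10,8,10,10,10,8] (.node [8,10,10] .nil .nil) (.node [10,8,10,10,10,8] .nil .nil)) (.node [10,10,8,10,10] (.node [10,8,8,10,10] .nil .nil) .nil))) (.node [8,8,10,8,8] (.node [8,8,8] (.node [8,8,8,8,8] (.node [10,8,8,8,8] .nil .nil) (.node [8,10,8,10,10] .nil .nil)) (.node [8,10,8,8] (.node [10,10,8,10] .nil .nil) (.node [10,8,10,10] .nil .nil))) (.node [10,10,10,8,8] (.node [10,10,8,8,10] (.node [8,10,8,8,10] .nil .nil) (.node [10,8,10,8,10,10] .nil .nil)) (.node [10,8,10,10] (.node [8,10,10] .nil .nil) .nil)))) (.node [8,10,8] (.node [10,10,8,8] (.node [8,8,10,8]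 (.node [10,8,8,10,10] (.node [8,8,8,8,8] .nil .nil) (.node [8,8,10] .nil .nil)) (.node [10,8,10,8,8,8] (.node [10,10,10,8,8,10] .nil .nil) (.node [10,10,10,8] .nil .nil))) (.node [10,8,10,10] (.node [10,10,10,8,8] (.node [10,10,10] .nil .nil) (.node [10,10] .nil .nil)) (.node [8,10,8,10] (.node [8,8,10,8,8] .nil .nil) .nil))) (.node [10,10] (.node [8,8,8,8,8,8] (.node [10,10,8,8,8] (.node [8,10,10] .nil .nil) (.node [8,8,10] .nil .nil)) (.node [8,8,10,8,8] (.node [10,8,10,8,8,8] .nil .nil) .nil)) (.node [8,10,10,10] (.node [10,10,8,10] (.node [10,10,10,8] .nil .nil) (.node [10,10,8] .nil .nil)) (.node [10,10,8,8,8] (.node [8,8] .nil .nil) .nil))))) (.node [10,10,8,10,8] (.node [10,8,8,8] (.node [10,8,8,8] (.node [8,10,8,8,8] (.node [8,10,8,10,10] (.node [10,8,10,10,10] .nil .nil) (.node [10,10] .nil .nil)) (.node [10,10,10,8] (.node [10,8,10,10] .nil .nil) (.node [8,8,10,10] .nil .nil))) (.node [10,8,10,8,10] (.node [8,8,10] (.node [8,10,10,10] .nil .nil)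 (.node [8,10] .nil .nil)) (.node [10,10,8,8] (.node [10,8,8,8] .nil .nil) .nil))) (.node [8,10,8,10,10] (.node [10,8,10,8,8] (.node [10] (.node [10,10] .nil .nil) (.node [8,8] .nil .nil)) (.node [8,8,10,8,8] (.node [10] .nil .nil) .nil)) (.node [8,8,8,8,8] (.node [8] (.node [10,8,10] .nil .nil) (.node [10,10,8,8] .nil .nil)) (.node [10,10] (.node [8] .nil .nil) .nil)))) (.node [10,10,8,8,10] (.node [8,8,10,8,8] (.node [10,10,8,10,8] (.node [10,10,8,10,8] (.node [8,10,8,8] .nil .nil) (.node [10,8,8,8,8] .nil .nil)) (.node [8,10,8,8,8] (.node [8,8,8,8] .nil .nil) (.node [10,10,10,8] .nil .nil))) (.node [10,8,8,10,10] (.node [10,8] (.node [8,10,8,8,8,8] .nil .nil) (.node [8,8,8,8,8,8] .nil .nil)) (.node [8,8,8,8,8] (.node [8,8,10,8] .nil .nil) .nil))) (.node [10,10] (.node [10,10,10] (.node [8,10,10,10,8] (.node [8,8,10,10] .nil .nil) (.node [8,10,10] .nil .nil)) (.node [8,8,8,8,8,8] (.node [10,8,10,10,10] .nil .nil) .nil)) (.node [8,8,8,8,8,8] (.node [10,8,10,8,10,10]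 (.node [8,8,8,8] .nil .nil) (.node [10,8,10] .nil .nil)) (.node [8,8,8,8] (.node [10,8,10,10,10,8] .nil .nil) .nil)))))) (.node [8,10,8] (.node [10,10,8,10] (.node [10,10,8,8,8] (.node [10,8,10,10,10,8] (.node [10,8,10,10,10] (.node [8,8,10,8] (.node [8,8] .nil .nil) (.node [10,10,10,8,8,10] .nil .nil)) (.node [8,8,10,10,10] (.node [10,8,10,8] .nil .nil) (.node [8,10,8,8] .nil .nil))) (.node [8,10,8] (.node [8] (.node [10,8,10,10,10] .nil .nil) (.node [10,8,10,8,10,10] .nil .nil)) (.node [10,10,8,10,10] (.node [10,8,10,8,10,10] .nil .nil) .nil))) (.node [8,10,8,10,10] (.node [8,10,8,8,8] (.node [8,8,8,8] (.node [8,8,8,8,8,8] .nil .nil) (.node [10,10,10] .nil .nil)) (.node [8,8,8,8,8] (.node [10,8] .nil .nil) (.node [10,10,8,8,10,10] .nil .nil))) (.node [10,10,10,8,8] (.node [10,8,10,10,10,8] (.node [10,10,8] .nil .nil) (.node [8,10,8,8,10] .nil .nil)) (.node [10,8,8,10,10] (.node [] .nil .nil) .nil)))) (.node [10,8,8,10,10] (.node [10,8,10,10] (.node [8,10,8,8,10]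 (.node [8,8,8] (.node [10,10,10,8,8] .nil .nil) (.node [10,10] .nil .nil)) (.node [8,8,10,8,8] (.node [8,8,8,8,8] .nil .nil) (.node [8,10] .nil .nil))) (.node [10,10,10,8,8] (.node [10,10,8,10,8] (.node [10,10,8,8] .nil .nil) (.node [8,8,8] .nil .nil)) (.node [8,10,8] (.node [10,10,8,8,8] .nil .nil) .nil))) (.node [10,10,8,8,10] (.node [10,10,10,8,8] (.node [10,8,8] (.node [10,8,8,10,10] .nil .nil) (.node [10,8,10,8,8,8] .nil .nil)) (.node [8,8] (.node [10,10,10,8,8] .nil .nil) .nil)) (.node [8,8,10,10,10] (.node [8,10,8,8,8,8] (.node [8,8,8,8,8] .nil .nil) (.node [10,10,8] .nil .nil)) (.node [10,8,10,10,10] (.node [] .nil .nil) .nil))))) (.node [10,8,8,8,8] (.node [10,8,10,8,8] (.node [10,8,10,8,10] (.node [10,10,10,8,8,10] (.node [8,10,8,8] (.node [10,8,10,8,8] .nil .nil) (.node [8,8,10,8] .nil .nil)) (.node [8,10,8,8,8,8] (.node [8,10,10,10] .nil .nil) (.node [8,10,8,10] .nil .nil))) (.node [8,10] (.node [8,10,8,8] (.node [10,8,10,8,10,10] .nil .nil)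 (.node [10,10,8,10,8] .nil .nil)) (.node [10,8,10,8,10,10] (.node [8,8,8] .nil .nil) .nil))) (.node [10,8,8,10,10] (.node [8,10,8,10,10] (.node [10,10,8,8] (.node [8,8,10,10] .nil .nil) (.node [8,10,8,8,8] .nil .nil)) (.node [8] (.node [8,10,10] .nil .nil) .nil)) (.node [8,10,8,8,8] (.node [10] (.node [10,8,10,10,10] .nil .nil) (.node [8,10,8,8,8,8] .nil .nil)) (.node [8,8,10,8,8] (.node [10,8,10,10] .nil .nil) .nil)))) (.node [10,8,8,10,10] (.node [10,10,10,8,8,10] (.node [10] (.node [10,8,8] (.node [8,8,10,8,8] .nil .nil) (.node [8,10,8] .nil .nil)) (.node [8,8,10] (.node [10,8,10,10,10] .nil .nil) (.node [8] .nil .nil))) (.node [8,10,10,10,8] (.node [10,10,10,8] (.node [10,8,10,8,10,10] .nil .nil) (.node [8,10,8,10,10] .nil .nil)) (.node [8,8,8] (.node [10,8,10] .nil .nil) .nil))) (.node [10,10,10] (.node [10,10,8] (.node [8,8,8,8] (.node [8,8,8,8,8,8] .nil .nil) (.node [8,10,8,8,10] .nil .nil)) (.node [8,8,8,8,8,8] (.node [10,8,10,8,10,10] .nil .nil)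 .nil)) (.node [8,10,8,10,10] (.node [10] (.node [8] .nil .nil) (.node [8,10,10,10,8] .nil .nil)) (.node [8,8] (.node [8,8,8,8] .nil .nil) .nil))))))) (.node [10,8,10] (.node [10,8,10,10] (.node [8,8,10,8] (.node [8,8,8,8,8,8] (.node [8,8,10,8,8] (.node [10,10,8,8,10,10] (.node [10,8,8,8,8] (.node [8,10,8,8] .nil .nil) (.node [8,8,8,8,8,8] .nil .nil)) (.node [10,8,8] (.node [10,10,8,8,10,10] .nil .nil) (.node [10,10] .nil .nil))) (.node [10,10,8,8,10] (.node [10,8,10] (.node [10,10,8,8,8] .nil .nil) (.node [10,8,10,8,10,10] .nil .nil)) (.node [8,10,8] (.node [10,8] .nil .nil) .nil))) (.node [10,10,8,10] (.node [8,8,8,8] (.node [8,10,8,8,10] (.node [8,10] .nil .nil) (.node [10,8,10,8] .nil .nil)) (.node [10,10,10] (.node [10,8,10,8] .nil .nil) (.node [10,10,10] .nil .nil))) (.node [8,10,8,8] (.node [8,10,8,8] (.node [8,10,8] .nil .nil) (.node [8,8] .nil .nil)) (.node [10,10,8,8] (.node [8,10,8,8] .nil .nil) .nil)))) (.node [10,10,10,8,8] (.node [8,10,8]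 (.node [8,8,10] (.node [10,8,8,8] (.node [10,8,10,8,10] .nil .nil) (.node [8,10,10] .nil .nil)) (.node [10,10,8] (.node [10,10,10,8,8] .nil .nil) (.node [8,10,8] .nil .nil))) (.node [10,8,10] (.node [8,8,8] (.node [8,10,10,10,8] .nil .nil) (.node [10,8,8,8,8] .nil .nil)) (.node [8,8,10,10,10] (.node [10,8] .nil .nil) .nil))) (.node [10,10,10] (.node [8,10,8,8] (.node [8,10,8,8,8,8] (.node [10,8,10,8] .nil .nil) (.node [10,10,8,10] .nil .nil)) (.node [10,8,8] (.node [8,8,10,10] .nil .nil) .nil)) (.node [8,8,10] (.node [10,8,10,10,10,8] (.node [8,10,10,10] .nil .nil) (.node [10,8,10,10] .nil .nil)) (.node [10,10,8,10,10] (.node [10,8,8,8] .nil .nil) .nil))))) (.node [10,8,10,10] (.node [10,8,8,10,10] (.node [8,8,10,8] (.node [8,8,10,10] (.node [10,10,8,8,10,10] (.node [10,8,10,8,10,10] .nil .nil) (.node [10,10,8,10,8] .nil .nil)) (.node [10,10,8,10] (.node [10,8,10,10,10] .nil .nil) (.node [8,8,8,8] .nil .nil))) (.node [8,8,10,8,8] (.node [10,10,8,10] (.node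 [8,8,8,8,8] .nil .nil) (.node [10,8,10,8,10] .nil .nil)) (.node [8] (.node [10,8,10,8,10,10] .nil .nil) .nil))) (.node [10,8,10] (.node [10,8,8,10] (.node [10] (.node [10,8,10,10] .nil .nil) (.node [8,8,10,10,10] .nil .nil)) (.node [8,8,10,10] (.node [8,8,10,8] .nil .nil) .nil)) (.node [10,8,10,8,8,8] (.node [8,8,10,8,8] (.node [8,10,10] .nil .nil) (.node [10,10,8,10,8] .nil .nil)) (.node [10,10,8] (.node [8,10,10] .nil .nil) .nil)))) (.node [10,8,8,8] (.node [10,8,10,8,10,10] (.node [10,10,8,8,10] (.node [8,10,8,8,8] (.node [10,8,8,10,10] .nil .nil) (.node [10,10,8,10] .nil .nil)) (.node [8,8,8,8,8,8] (.node [8,10,8,10,10] .nil .nil) (.node [10,8,8] .nil .nil))) (.node [8] (.node [10,8,10] (.node [10,8,8,8,8] .nil .nil) (.node [10,10,8,8,8] .nil .nil)) (.node [8,10,8,8,10] (.node [8,8,8] .nil .nil) .nil))) (.node [10,10,8,8] (.node [10,8,10,8] (.node [10,10,8,8,10,10] (.node [8,8,8,8,8,8] .nil .nil) (.node [8,8,8,8,8] .nil .nil)) (.node [] (.node [10,8,8]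 .nil .nil) .nil)) (.node [10,8,10,8] (.node [8,8,8,8,8,8] (.node [8,8,10] .nil .nil) (.node [10,8,8,8,8] .nil .nil)) (.node [8,10,8,8,8] (.node [10,10,10] .nil .nil) .nil)))))) (.node [10,10,8,8,10] (.node [10,8,10,8,8,8] (.node [10,10,10,8,8,10] (.node [10,10,8,10,8] (.node [10,8,10,8,8,8] (.node [10,8,8,10] (.node [10,10,8,8,8] .nil .nil) (.node [8,10,8] .nil .nil)) (.node [8,8,10,10,10] (.node [8,8,10,10] .nil .nil) (.node [8,10,8,8,10] .nil .nil))) (.node [10,10,10,8,8,10] (.node [10,8] (.node [8,8,10,10] .nil .nil) (.node [10,10,8] .nil .nil)) (.node [8,8] (.node [10,10,10,8,8,10] .nil .nil) .nil))) (.node [8,10,8,8,10] (.node [8,8,10] (.node [10,10,8,10] (.node [8] .nil .nil) (.node [10,8,10,8,10,10] .nil .nil)) (.node [8,10,8,8] (.node [10,10,8,8,10,10] .nil .nil) (.node [10,10,8] .nil .nil))) (.node [10,10,8] (.node [8,8,8] (.node [8,8,8,8,8] .nil .nil) (.node [10,8,10,8,10,10] .nil .nil)) (.node [8,10,8,8,8] (.node [10,8,8,10,10] .nil .nil) .nil))))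 (.node [10,8,10,8,8,8] (.node [8,8,10,8] (.node [8] (.node [8,8,8,8,8] (.node [8,10,8,10] .nil .nil) (.node [8,8,10,10,10] .nil .nil)) (.node [10,10,8,8] (.node [] .nil .nil) (.node [10,8,10,10,10] .nil .nil))) (.node [8,8,8,8,8,8] (.node [8,10,8,8,10] (.node [10] .nil .nil) (.node [8] .nil .nil)) (.node [10,8,8,10] (.node [10,8,10,8,10] .nil .nil) .nil))) (.node [10,8,10,8,8] (.node [8,10,8] (.node [10,10,8,8] (.node [8,8,10,10] .nil .nil) (.node [8,10,8,10,10] .nil .nil)) (.node [8] (.node [10,10,8,8,8] .nil .nil) .nil)) (.node [8,10,8,8,10] (.node [10,8,8,8] (.node [8,10,8] .nil .nil) (.node [8,10,10,10,8] .nil .nil)) (.node [8,8,10] (.node [10,8,10,8,8,8] .nil .nil) .nil))))) (.node [10,8,10,8,10,10] (.node [8,10,10,10,8] (.node [10] (.node [10,8,10] (.node [8,8] (.node [8,10,10] .nil .nil) (.node [10,8,10,10,10,8] .nil .nil)) (.node [8,10,10,10,8] (.node [10,10,8,10,10] .nil .nil) (.node [8,8,10,10] .nil .nil))) (.node [8,8,10] (.node [10,8,10,8,10,10]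 (.node [8,8,8,8,8] .nil .nil) (.node [8,10,8,8,10] .nil .nil)) (.node [10,10,8,8] (.node [8,10,8,10] .nil .nil) .nil))) (.node [10,8,8,8] (.node [] (.node [10,8,8,10] (.node [10,10,8,10] .nil .nil) (.node [8,8,10,10,10] .nil .nil)) (.node [8] (.node [8,8,10,10] .nil .nil) .nil)) (.node [10,8,10,10,10,8] (.node [8,8,10,8,8] (.node [10,8,8,10] .nil .nil) (.node [8,10] .nil .nil)) (.node [8,8,8,8,8,8] (.node [8,10,8,8,8,8] .nil .nil) .nil)))) (.node [10,10,8] (.node [10,10,10,8] (.node [8,10,8,10] (.node [8,10,8] (.node [] .nil .nil) (.node [8,10,10,10,8] .nil .nil)) (.node [10,8,10,8,8,8] (.node [8,10,10,10,8] .nil .nil) (.node [10,10,8,8,10,10] .nil .nil))) (.node [10,8,10] (.node [] (.node [10,10,10,8] .nil .nil) (.node [10,8,10] .nil .nil)) (.node [8,8,8,8,8,8] (.node [10,10,8,8] .nil .nil) .nil))) (.node [8,10] (.node [8,10,10,10] (.node [10,10,8,8,8] (.node [10,8,8,8,8] .nil .nil) (.node [8,8,8] .nil .nil)) (.node [10,10,8,8,10] (.node [10,10,10] .nil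 .nil) .nil)) (.node [10,8,10,8,10,10] (.node [8] (.node [10,8,8,8,8] .nil .nil) (.node [8,8,10,8,8] .nil .nil)) (.node [8] (.node [10,8,10,8] .nil .nil) .nil))))))))

/-- Part of `moveWord`. -/
noncomputable def moveWord_r_l_r_r : Arr (List ℕ) :=
  .node [8,10,8,8] moveWord_r_l_r_r_l moveWord_r_l_r_r_r

/-- Part of `moveWord`. -/
noncomputable def moveWord_r_l_r : Arr (List ℕ) :=
  .node [8,10,8] moveWord_r_l_r_l moveWord_r_l_r_r

/-- Part of `moveWord`. -/
noncomputable def moveWord_r_l : Arr (List ℕ) :=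
  .node [8,8,8,8] moveWord_r_l_l moveWord_r_l_r

/-- Part of `moveWord`. -/
noncomputable def moveWord_r_r_l_l_l : Arr (List ℕ) :=
  (.node [8,10] (.node [8,10,10,10,8] (.node [10,8,10,8,10,10] (.node [8,10] (.node [8,8] (.node [8,8,10,8] (.node [10,8,8,10,10] (.node [10,10,10,8,8] (.node [10,10,8,10] .nil .nil) (.node [8,10,8,10] .nil .nil)) (.node [10,8,8,10] (.node [8,10,8,8,8] .nil .nil) (.node [8,8,8,8] .nil .nil))) (.node [8,8,10] (.node [10,8,8,8,8] (.node [10,8,10,8,8] .nil .nil) (.node [10,8,10,8,10] .nil .nil)) (.node [10,8,10,10,10,8] (.node [10,10,8,10] .nil .nil) .nil))) (.node [10,10] (.node [8,10,8,8,8,8] (.node [10,10,10,8,8,10] (.node [10,8] .nil .nil) (.node [10] .nil .nil)) (.node [10,10,8,10] (.node [10,10,10,8] .nil .nil) (.node [8,8,10,8,8] .nil .nil))) (.node [10,10,10] (.node [10,10,10,8,8,10] (.node [10,8,10,8,10] .nil .nil) (.node [8,10,10] .nil .nil)) (.node [8,8,8,8] (.node [10,10,8,8] .nil .nil) .nil)))) (.node [10] (.node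 [8,8,10,8] (.node [8,10,8,8,8,8] (.node [8,10,10,10] (.node [10,10,8,8] .nil .nil) (.node [10,8,10,8,8,8] .nil .nil)) (.node [8,10] (.node [10,10,10] .nil .nil) (.node [10,10,10,8,8,10] .nil .nil))) (.node [8,8,10,10] (.node [10,8,10,8,8] (.node [8,10,8,10] .nil .nil) (.node [10,10,8,10] .nil .nil)) (.node [10,8,10,8,10] (.node [10,8,10,8] .nil .nil) .nil))) (.node [8,10,10,10,8] (.node [8,10,8] (.node [8,8,10,8] (.node [10,8,8,8] .nil .nil) (.node [8,10,10,10,8] .nil .nil)) (.node [10,8,10,8] (.node [8,10,8,8,8,8] .nil .nil) .nil)) (.node [10,8,10,8,10,10] (.node [8,8,8] (.node [10,10,8,10] .nil .nil) (.node [10,10,8,10,8] .nil .nil)) (.node [10,10,8] (.node [8,10,10,10] .nil .nil) .nil))))) (.node [10,8,8,8,8] (.node [10,8,8] (.node [8,8,10,10] (.node [10,8,10,8,8] (.node [10,8] (.node [10,8,8,8,8] .nil .nil) (.node [] .nil .nil)) (.node [10,8,10,8,8] (.node [10,8,10,8,10,10] .nil .nil) (.node [10,10,10,8,8] .nil .nil))) (.node [10,8,8,10] (.node [8,8,10,8,8]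 (.node [10,8,10,8,8,8] .nil .nil) (.node [8,10,8,8,8] .nil .nil)) (.node [10,8,10,8,10] (.node [8,10,8] .nil .nil) .nil))) (.node [10,10,10,8,8] (.node [8,8] (.node [] (.node [10,8,10] .nil .nil) (.node [8,8,10,8] .nil .nil)) (.node [10,10,10,8] (.node [10,8,8,8,8] .nil .nil) .nil)) (.node [8] (.node [8,8,10] (.node [8,10,8,10] .nil .nil) (.node [10,10,8,10,8] .nil .nil)) (.node [10,8] (.node [10,8,8,8,8] .nil .nil) .nil)))) (.node [8,8,10] (.node [10,8,10,8,10,10] (.node [8,8,8,8,8] (.node [10,8,10,8,8] (.node [8,10,10,10,8] .nil .nil) (.node [8,10,10,10] .nil .nil)) (.node [10,8,10,8,8] (.node [8,10,8,8] .nil .nil) (.node [10,8,10,10,10,8] .nil .nil))) (.node [8,8] (.node [10,8,10,10] (.node [10,8] .nil .nil) (.node [8,10,10,10,8] .nil .nil)) (.node [8,8] (.node [8,8,10,10] .nil .nil) .nil))) (.node [10,10,8,10,8] (.node [10,10,8,10,10] (.node [10,10,10,8] (.node [8,10,10] .nil .nil) (.node [8,8,8,8] .nil .nil)) (.node [8,10,8,10] (.node [10,8,10,8,10,10]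 .nil .nil) .nil)) (.node [10,8,10,10,10,8] (.node [10,8,10,10,10,8] (.node [8,10] .nil .nil) (.node [10,10,8,8,10] .nil .nil)) (.node [8,10,10,10,8] (.node [8,8,10,10,10] .nil .nil) .nil)))))) (.node [10,10,8,10,10] (.node [10,8,10,10,10,8] (.node [10,10,8,8,8] (.node [8,8,10,10,10] (.node [10,10,8,8,8] (.node [8,8,8,8,8] (.node [10,8,8,8,8] .nil .nil) (.node [] .nil .nil)) (.node [10,8,8] (.node [10,8,10,8,10,10] .nil .nil) (.node [8,8,8,8] .nil .nil))) (.node [8] (.node [8,8,8] (.node [10,10,8,10,10] .nil .nil) (.node [8,10,8,8,8] .nil .nil)) (.node [10,8,10,10] (.node [10,10,8,10,8] .nil .nil) .nil))) (.node [10,8,8] (.node [8] (.node [10] (.node [10,10,8,10] .nil .nil) (.node [10,8,8,10] .nil .nil)) (.node [8,8,8] (.node [10,10,8] .nil .nil) (.node [10,8,10,8] .nil .nil))) (.node [10,8,8] (.node [10,8,10,10,10] (.node [] .nil .nil) (.node [10,8,10,10] .nil .nil)) (.node [10,10,8,8,10,10] (.node [10,10,8,8,10] .nil .nil) .nil)))) (.node [10,8,8] (.node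 [10] (.node [8,8,10,8,8] (.node [10,10,10,8,8] (.node [10,8,8,8] .nil .nil) (.node [10,8,10,8,10] .nil .nil)) (.node [10,10,8,8,10] (.node [10,8] .nil .nil) (.node [8,10,8,10] .nil .nil))) (.node [10,10,8,8,8] (.node [10,10,8,10,8] (.node [10,8,8] .nil .nil) (.node [8,10,8,10,10] .nil .nil)) (.node [8,10,10,10,8] (.node [10,8,10,10,10] .nil .nil) .nil))) (.node [8,10] (.node [8,10,8] (.node [10,8,10,8,10] (.node [10,10,8] .nil .nil) (.node [8,10,10] .nil .nil)) (.node [10,8,10,8,8] (.node [] .nil .nil) .nil)) (.node [8,8,8,8,8,8] (.node [8,8,10,10] (.node [8,8,8] .nil .nil) (.node [10,10,8,8,10,10] .nil .nil)) (.node [8,8,8,8] (.node [8,10,8,10,10] .nil .nil) .nil))))) (.node [10,10,8,8] (.node [10,10,8,8,10] (.node [] (.node [10,8,8,8,8] (.node [8,8,8,8] (.node [10,8,10,10,10] .nil .nil) (.node [10,8,10,10,10,8] .nil .nil)) (.node [10,8,10,8] (.node [10,10,8,8] .nil .nil) (.node [8,10,8,10,10] .nil .nil))) (.node [8,8,8,8] (.node [10,8,8,10] (.node [10,8,10,10,10]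 .nil .nil) (.node [10,10,10,8] .nil .nil)) (.node [8,10,10,10] (.node [8,8,10,10] .nil .nil) .nil))) (.node [8,8,10,10,10] (.node [10,8,10,10,10,8] (.node [8] (.node [10,8,8,8,8] .nil .nil) (.node [10,10,8,8,10] .nil .nil)) (.node [10,10,10,8,8] (.node [10,8,10,10,10] .nil .nil) .nil)) (.node [8,8,10,10,10] (.node [8,10,8,8,8] (.node [8,10,10] .nil .nil) (.node [8,8,10] .nil .nil)) (.node [10,8,10,10] (.node [10,8,10,10,10,8] .nil .nil) .nil)))) (.node [8,10,10] (.node [8,10] (.node [] (.node [10,8,8,8,8] (.node [10,10,10,8,8,10] .nil .nil) (.node [10,8,8,8,8] .nil .nil)) (.node [10,8,8] (.node [10,10] .nil .nil) (.node [10,8,8,8] .nil .nil))) (.node [10,8,10] (.node [10,10] (.node [10,10,10] .nil .nil) (.node [8,10,10] .nil .nil)) (.node [8,8,8,8,8] (.node [8,8,10] .nil .nil) .nil))) (.node [10,10,8,8,10,10] (.node [8,10,8,8,8] (.node [8,8,8,8,8] (.node [8,8,10,10,10] .nil .nil) (.node [10,10,8,8] .nil .nil)) (.node [10,8,8,8,8] (.node [10,8,10,8,10]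 .nil .nil) .nil)) (.node [8] (.node [8,10,10,10,8] (.node [10,8] .nil .nil) (.node [8,10,10] .nil .nil)) (.node [10,8,8,8] (.node [8,8,8] .nil .nil) .nil))))))) (.node [10,10,8] (.node [10,8,10,10,10,8] (.node [10,8] (.node [10,8,10,8,10] (.node [8,10,10] (.node [10,8,8,10,10] (.node [10,10,8,8,10,10] (.node [8,8,8] .nil .nil) (.node [10,10] .nil .nil)) (.node [8,8,8,8,8,8] (.node [8,8,10,10] .nil .nil) (.node [10,8,10,8,10] .nil .nil))) (.node [10,10,8,8] (.node [10,8,8] (.node [8,8,8,8,8,8] .nil .nil) (.node [8,10,8] .nil .nil)) (.node [10,10,10,8] (.node [8,8,10,10,10] .nil .nil) .nil))) (.node [10,10,8,8,10,10] (.node [10,10,10,8,8] (.node [10,10,10] (.node [10,10,8,10] .nil .nil) (.node [8,8] .nil .nil)) (.node [8,10,8,10] (.node [10,8,8,8] .nil .nil) (.node [8] .nil .nil))) (.node [8,8,10] (.node [8,8] (.node [10,10,10,8,8,10] .nil .nil) (.node [10,8,10,8,8,8] .nil .nil)) (.node [8,8] (.node [10,10,8] .nil .nil) .nil)))) (.node [8,10,8,8,8,8] (.node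 [10,10,8,10,8] (.node [8,8,8,8,8,8] (.node [10,10,10,8,8,10] (.node [8,10,8,8,8,8] .nil .nil) (.node [10,10,8,10] .nil .nil)) (.node [10,10,8] (.node [10,10,8] .nil .nil) (.node [10,8,10,8,8,8] .nil .nil))) (.node [8,8,10,8] (.node [8,10] (.node [8,8,10,8] .nil .nil) (.node [8] .nil .nil)) (.node [8,10,8,10] (.node [8,10,8,10,10] .nil .nil) .nil))) (.node [8] (.node [8,8] (.node [10,8,8,10] (.node [10,8,10,10] .nil .nil) (.node [10,8,10,10,10,8] .nil .nil)) (.node [10,8,8,10] (.node [8,10,10,10,8] .nil .nil) .nil)) (.node [10,8,10,8,8,8] (.node [10,8,8] (.node [10,10,8,8,10] .nil .nil) (.node [10,10,10,8] .nil .nil)) (.node [10,10,10,8] (.node [8,8,8,8,8,8] .nil .nil) .nil))))) (.node [10,10,10] (.node [8,8,10,8] (.node [10,10,8,10] (.node [10,8,10,8,10,10] (.node [10,10,8,8,8] (.node [10,10,10,8,8] .nil .nil) (.node [8,10,8,8,10] .nil .nil)) (.node [10,10,10,8,8] (.node [8,10,8] .nil .nil) (.node [10,10,8,8,8] .nil .nil))) (.node [8,10,10,10,8] (.node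 [] (.node [8,8,8,8,8] .nil .nil) (.node [8,8,8,8] .nil .nil)) (.node [8,10,8,8] (.node [8,8,10,10] .nil .nil) .nil))) (.node [8,10,8,8,10] (.node [8,10,8,8,8,8] (.node [8,10,8,10,10] (.node [8] .nil .nil) (.node [10,8,10,8,10] .nil .nil)) (.node [8,10,10] (.node [10,8,8,10] .nil .nil) .nil)) (.node [8,8,8,8] (.node [8,10,8] (.node [10] .nil .nil) (.node [10,8,10,8,8] .nil .nil)) (.node [10,8,8] (.node [10,10,8,8,8] .nil .nil) .nil)))) (.node [8,8,10,10] (.node [8,8,10,10] (.node [8,8,10,8,8] (.node [10,8,8,10,10] (.node [10,10,10,8] .nil .nil) (.node [8,8,8,8,8,8] .nil .nil)) (.node [10,10,8,8,8] (.node [10,10,8,8,10,10] .nil .nil) (.node [10,8,10,8,10] .nil .nil))) (.node [8] (.node [10,10,10,8,8,10] (.node [8,8,10,10] .nil .nil) (.node [10,10,8,8,10,10] .nil .nil)) (.node [8,10,8,8,10] (.node [10,8,8,10] .nil .nil) .nil))) (.node [10,10,8] (.node [10,8,10,8,8,8] (.node [10,8,8,10] (.node [10,10,8] .nil .nil) (.node [8,10] .nil .nil)) (.node [10,8,8,8,8]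 (.node [10] .nil .nil) .nil)) (.node [10,8,8,10,10] (.node [10,10] (.node [10,8,8] .nil .nil) (.node [8,8,10,10] .nil .nil)) (.node [10,8,8] (.node [8,10] .nil .nil) .nil)))))) (.node [8,8,10] (.node [8,10,8,8] (.node [10,10,8,8,10] (.node [8,8,10,8] (.node [10,10,8,8,10,10] (.node [10,10,8,10,10] (.node [10] .nil .nil) (.node [10,8,10,8,8] .nil .nil)) (.node [8,8,10,8,8] (.node [10,8,10,10] .nil .nil) (.node [8,10,8,10,10] .nil .nil))) (.node [8,8,8,8,8,8] (.node [10,8,10,10,10,8] (.node [10,10,8,8,8] .nil .nil) (.node [10,10,8,8,8] .nil .nil)) (.node [8,10,8] (.node [10,8,8] .nil .nil) .nil))) (.node [8,10,8,10] (.node [10,10,8,10,8] (.node [10,10,10,8] (.node [10,10,10,8,8] .nil .nil) (.node [10,10,8,8,10,10] .nil .nil)) (.node [8,8,10,8,8] (.node [10,10] .nil .nil) (.node [8,8,8,8,8] .nil .nil))) (.node [10,8,10,8,8,8] (.node [] (.node [8,8,10] .nil .nil) (.node [10,10,8,10] .nil .nil)) (.node [10,8,8,10] (.node [8,8,10] .nil .nil) .nil)))) (.node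 [10,8,10,10] (.node [10,10,8,8,8] (.node [8,8,10] (.node [8,8,8,8,8] (.node [] .nil .nil) (.node [8,10,8,10] .nil .nil)) (.node [10,8,10,8,10] (.node [10,8,10,10,10,8] .nil .nil) (.node [8,8,10,10,10] .nil .nil))) (.node [8,8] (.node [8,10,8,8,10] (.node [8,8,8,8,8] .nil .nil) (.node [8,10,8,8,10] .nil .nil)) (.node [8,10,8,8,8,8] (.node [8,8,10,10] .nil .nil) .nil))) (.node [10,10,8,8,10] (.node [10,10,8,8,10] (.node [8,8,8,8,8,8] (.node [8,10] .nil .nil) (.node [8] .nil .nil)) (.node [10,8,8,10,10] (.node [10,10,8,10] .nil .nil) .nil)) (.node [10,10,8,10,10] (.node [10,10,10,8,8] (.node [8,8,10,10,10] .nil .nil) (.node [8,10,8,10,10] .nil .nil)) (.node [10,10,8,8,10,10] (.node [8] .nil .nil) .nil))))) (.node [10,10,8,10,8] (.node [8,8] (.node [8,10,8,10] (.node [8,8,10,10] (.node [10,10,8,10] (.node [10,10,10,8] .nil .nil) (.node [10,8,10,10] .nil .nil)) (.node [10,8,10,8,8,8] (.node [8,10,10,10] .nil .nil) (.node [10,8,8,10,10] .nil .nil))) (.node [10,8,10,8,8]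 (.node [10,8,10,10,10,8] (.node [10,8,10,8] .nil .nil) (.node [10,10,8,8] .nil .nil)) (.node [10,8,10,8,10] (.node [8,10,8] .nil .nil) .nil))) (.node [8,10,8,8,10] (.node [10] (.node [10,10,8,10,10] (.node [8,10,8,10,10] .nil .nil) (.node [8,8,10,8] .nil .nil)) (.node [8,10] (.node [10,8,10,10] .nil .nil) .nil)) (.node [8,8,10,10,10] (.node [8,10,10,10] (.node [10,8,10,8,8,8] .nil .nil) (.node [8,10,8] .nil .nil)) (.node [10,10,8,8,10] (.node [8,8,10,8] .nil .nil) .nil)))) (.node [8,8,8,8,8,8] (.node [10,8,10,10] (.node [10,10,8,8,10] (.node [10,8,10,8,8] (.node [8,10,10,10] .nil .nil) (.node [10,8,10,10,10] .nil .nil)) (.node [10] (.node [8,10,10] .nil .nil) (.node [8,8,8] .nil .nil))) (.node [8,8,10,10] (.node [8,10] (.node [8,10,8,10] .nil .nil) (.node [8,8,10,8] .nil .nil)) (.node [10,8,10,8,10,10] (.node [10,8,8,8] .nil .nil) .nil))) (.node [8,10,8,8,8] (.node [8,10] (.node [10,8,8] (.node [8,8] .nil .nil) (.node [8,8] .nil .nil)) (.node [8,10,10,10]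 (.node [10,8,10,10,10] .nil .nil) .nil)) (.node [8,8,8] (.node [10,8,10,8,10] (.node [10,8,8,8] .nil .nil) (.node [10,8,10,10,10] .nil .nil)) (.node [10,8,10,10,10] (.node [10,8,10,8] .nil .nil) .nil))))))))

/-- Part of `moveWord`. -/
noncomputable def moveWord_r_r_l_l_r : Arr (List ℕ) :=
  (.node [10,10,8,8,8] (.node [10,10] (.node [10,10,8,10,10] (.node [10,10,8] (.node [10,8,10,8,8,8] (.node [10,8,10,8,8] (.node [10] (.node [] (.node [10,10,8,10,10] .nil .nil) (.node [10,10,8,8,10] .nil .nil)) (.node [10,8,8,10] (.node [8,10,8,10,10] .nil .nil) (.node [10,8,10] .nil .nil))) (.node [10,10,10,8,8,10] (.node [8] (.node [8,10,8,10,10] .nil .nil) (.node [10] .nil .nil)) (.node [8,10,8,10] (.node [10,8,10,8,8] .nil .nil) .nil))) (.node [8,10,10,10,8] (.node [8,10,10,10] (.node [10,8,8,10] (.node [10] .nil .nil) (.node [8,8,8,8,8,8] .nil .nil)) (.node [10,8,8,8] (.node [8,10,10,10,8] .nil .nil) (.node [8,10] .nil .nil))) (.node [10,8,8,10,10] (.node [8,10,8,8,8,8]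 (.node [10,8,8] .nil .nil) (.node [10,8,10,10] .nil .nil)) (.node [10] (.node [10,10,10,8,8,10] .nil .nil) .nil)))) (.node [10,8,10,8,8,8] (.node [8,10,8,8,10] (.node [8,10] (.node [8,8] (.node [10,10,10,8] .nil .nil) (.node [10,8,10] .nil .nil)) (.node [10,8,8] (.node [10,10,8,10,8] .nil .nil) (.node [10,10,8,8,10,10] .nil .nil))) (.node [8,8,8] (.node [8,8,8,8] (.node [8,10,10] .nil .nil) (.node [10,10,8,8,10] .nil .nil)) (.node [10,10,8] (.node [10,10,10,8,8] .nil .nil) .nil))) (.node [10,10,8,8,10,10] (.node [10,10] (.node [8,8,10,8] (.node [10,10,10,8,8,10] .nil .nil) (.node [10,8,10,10,10,8] .nil .nil)) (.node [10,10,10,8,8] (.node [10,8,10,8,8] .nil .nil) .nil)) (.node [10,10,10,8,8,10] (.node [10,8] (.node [8,8,10,10,10] .nil .nil) (.node [8,8,10,8,8] .nil .nil)) (.node [10,8,10,10,10] (.node [10,8,8] .nil .nil) .nil))))) (.node [8,10,8,10,10] (.node [10,8,8,8] (.node [10,10,10,8] (.node [10,8,10,8,10,10] (.node [10,10,10,8,8] (.node [8,8,10,10,10]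 .nil .nil) (.node [10,8,10,8,10] .nil .nil)) (.node [10,10] (.node [8,8,10] .nil .nil) (.node [8,8,10] .nil .nil))) (.node [10,8,8] (.node [10,10,10] (.node [] .nil .nil) (.node [10,8,8,10,10] .nil .nil)) (.node [8,8,10,8,8] (.node [8,10,8,8,8] .nil .nil) .nil))) (.node [10,8,10] (.node [8,8,10] (.node [10,8,8,8,8] (.node [10,8,10,8,10,10] .nil .nil) (.node [10,10,8,10,8] .nil .nil)) (.node [10,8,10,10] (.node [10,8,8,8,8] .nil .nil) .nil)) (.node [8,10,8,8,8] (.node [10,10,10,8,8,10] (.node [10,10,10,8] .nil .nil) (.node [10,8] .nil .nil)) (.node [8,10,8,10,10] (.node [8,8,8] .nil .nil) .nil)))) (.node [10,8,8,10] (.node [8,10,8,8] (.node [8,8] (.node [8,10,8,8,8,8] (.node [8,8,10,10,10] .nil .nil) (.node [10,8,10,8] .nil .nil)) (.node [8,8,10,8,8] (.node [10,8,10,8,8,8] .nil .nil) (.node [10,10,10,8,8] .nil .nil))) (.node [8,8,8] (.node [8,8,8,8,8,8] (.node [10,8,10,10,10,8] .nil .nil) (.node [8] .nil .nil)) (.node [8,10,8,10] (.node [8,8,8,8] .nil .nil)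 .nil))) (.node [10,10,10] (.node [10,8,10,10,10,8] (.node [10,8,10,8] (.node [10,8] .nil .nil) (.node [10,10,8,8] .nil .nil)) (.node [8,10,8,8,10] (.node [8] .nil .nil) .nil)) (.node [8,8,10,10,10] (.node [10,8,10,8,10,10] (.node [10,10,10] .nil .nil) (.node [10,8,8,8,8] .nil .nil)) (.node [8,10,8,8,10] (.node [10,10,8,8,8] .nil .nil) .nil)))))) (.node [8,10,8,8,8] (.node [8,10,8,8,8] (.node [8,8,8,8,8,8] (.node [10,10,8] (.node [10,10,8,8,8] (.node [10,8,10,8,8,8] (.node [10] .nil .nil) (.node [10,10,8,8] .nil .nil)) (.node [8,10,8,10,10] (.node [10,8,8,8] .nil .nil) (.node [10] .nil .nil))) (.node [8,8,10] (.node [8,10,10,10,8] (.node [8,8,10,8] .nil .nil) (.node [10,8,8,8,8] .nil .nil)) (.node [10,8,10,10,10] (.node [8,8,8,8,8,8] .nil .nil) .nil))) (.node [8] (.node [10,10,8,10,10] (.node [8,10,8] (.node [10,8,8,10,10] .nil .nil) (.node [10,8,10,8] .nil .nil)) (.node [10,10,10,8,8,10] (.node [10,10,8,10,10] .nil .nil) (.node [8,8,10] .nil .nil))) (.node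 [8,10,8,8,8] (.node [8,10,8,8] (.node [8,8,8] .nil .nil) (.node [8,10,8,10,10] .nil .nil)) (.node [8,8,8,8,8] (.node [10,10,8,8,8] .nil .nil) .nil)))) (.node [10,10,10,8] (.node [10,10,8,10,10] (.node [8,10] (.node [10,10,8,8,8] (.node [10,10,10,8,8] .nil .nil) (.node [10,8,10,10,10] .nil .nil)) (.node [10,10,10,8,8,10] (.node [8,10,8,10] .nil .nil) (.node [8,10,8,8] .nil .nil))) (.node [8] (.node [8,8] (.node [8,10,8,8,10] .nil .nil) (.node [10,8,10,10,10,8] .nil .nil)) (.node [8,8,10,8] (.node [10,10,10] .nil .nil) .nil))) (.node [10,8,10,8,8] (.node [10,8,10,8,10] (.node [10,8,10,8,8] (.node [8,10,10,10,8] .nil .nil) (.node [8,10,8,8,10] .nil .nil)) (.node [8,10,10] (.node [10,8] .nil .nil) .nil)) (.node [10,10,8,10,10] (.node [8,10,8,8,10] (.node [10,10,8,8,10] .nil .nil) (.node [10,10,10,8,8] .nil .nil)) (.node [10,10] (.node [10] .nil .nil) .nil))))) (.node [10,8,8,10] (.node [10,8,8,10,10] (.node [10,8,10,8,10,10] (.node [8,10,8,8,10] (.node [10,8]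 (.node [10,10,8,8,10] .nil .nil) (.node [10] .nil .nil)) (.node [10,8,10] (.node [10,8,10] .nil .nil) (.node [8,10,8,8,8] .nil .nil))) (.node [8,8,10,8,8] (.node [8,10,10] (.node [10,10,8,8,10] .nil .nil) (.node [8,10,10,10,8] .nil .nil)) (.node [10,10,10] (.node [10,8,10,8,10,10] .nil .nil) .nil))) (.node [10,10,10,8] (.node [8,8] (.node [8,8] (.node [10,8,10] .nil .nil) (.node [10,10,8] .nil .nil)) (.node [10,10,10,8,8,10] (.node [8,10,8,10] .nil .nil) .nil)) (.node [8,8,8,8,8] (.node [8] (.node [10,10,8,8,8] .nil .nil) (.node [10,10,8,8,8] .nil .nil)) (.node [8,10,8,8] (.node [8,10,8,8,8,8] .nil .nil) .nil)))) (.node [8,10,8,8,8] (.node [10,8] (.node [8,8,10,10,10] (.node [8,8,8,8,8,8] (.node [8,8,10,8,8] .nil .nil) (.node [10,8,8,10,10] .nil .nil)) (.node [8,10,8,8] (.node [10,8,8,8,8] .nil .nil) (.node [8,8,10,10,10] .nil .nil))) (.node [10,8,10,10] (.node [10,10] (.node [8,10,10] .nil .nil) (.node [10,8,10,8,8,8] .nil .nil)) (.node [8,10,10] (.node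 [10,8] .nil .nil) .nil))) (.node [8,10,8,8] (.node [10,10,8,8] (.node [10,10,8,8,10] (.node [10,8,10] .nil .nil) (.node [10,8,8,10,10] .nil .nil)) (.node [10,10,8,10] (.node [10,10,8,10,8] .nil .nil) .nil)) (.node [8,10,8,8] (.node [8,8,8,8] (.node [8,8,10,10] .nil .nil) (.node [10,8,10,8] .nil .nil)) (.node [10] (.node [8,10] .nil .nil) .nil))))))) (.node [8,10,8,8,8] (.node [8,10,8,8,10] (.node [10,10] (.node [10,8,8,10,10] (.node [10,10,8,10,10] (.node [8,10,10] (.node [10,8,10,10,10] (.node [] .nil .nil) (.node [8,10,10,10] .nil .nil)) (.node [8,10] (.node [10,10,10,8,8] .nil .nil) (.node [8,8,10] .nil .nil))) (.node [10,8,10,8,10,10] (.node [10,10] (.node [10,8,8,8] .nil .nil) (.node [] .nil .nil)) (.node [10,10,8,10,10] (.node [8,8,10,10] .nil .nil) .nil))) (.node [8,8,8,8,8] (.node [8,8,10,10,10] (.node [10,8,10,8,8,8] (.node [8,8,10] .nil .nil) (.node [10,10,8,8,10,10] .nil .nil)) (.node [10,10,10,8,8,10] (.node [10,10,10,8,8] .nil .nil) (.node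 [10,10,8,8,10,10] .nil .nil))) (.node [8,8,8] (.node [8,8,8] (.node [10,8,8,10] .nil .nil) (.node [10,8,10,8,8,8] .nil .nil)) (.node [8,10,8,8,8] (.node [10,10,8] .nil .nil) .nil)))) (.node [8,8,10,10] (.node [10,8,10,8] (.node [10,10] (.node [8,10] (.node [10,10,8,10,8] .nil .nil) (.node [8,10] .nil .nil)) (.node [8,8,8] (.node [10,8,8] .nil .nil) (.node [10,10,8,10] .nil .nil))) (.node [8] (.node [8,8,10,10] (.node [8,10,10] .nil .nil) (.node [10,8,10,8,8] .nil .nil)) (.node [8,10,8,8] (.node [10] .nil .nil) .nil))) (.node [8,10,8] (.node [10,10,10,8] (.node [10,10,8] (.node [8,10,8,8,8,8] .nil .nil) (.node [8,10,8,8,8,8] .nil .nil)) (.node [10,8,10,8,8] (.node [8,8,8,8] .nil .nil) .nil)) (.node [8,8] (.node [8,8,8] (.node [] .nil .nil) (.node [10,8,10,10] .nil .nil)) (.node [10,10,8,8,8] (.node [8,8] .nil .nil) .nil))))) (.node [10,8,10,8,10,10] (.node [8,10,10,10,8] (.node [8,10,10,10] (.node [10,8] (.node [8,10,8,8,8] (.node [8,10,10,10,8] .nil .nil)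 (.node [8,8,8,8,8,8] .nil .nil)) (.node [10,8,8,10] (.node [10,10,10] .nil .nil) (.node [8,8,8,8,8,8] .nil .nil))) (.node [8,8,10,10] (.node [8,10,10,10] (.node [8,8,10,10] .nil .nil) (.node [10,10,8,10,8] .nil .nil)) (.node [10,8,10] (.node [10,10,8,10] .nil .nil) .nil))) (.node [8,8] (.node [10,10,8,8] (.node [8,8,10,8,8] (.node [10,8,10,8] .nil .nil) (.node [10,8,8,10,10] .nil .nil)) (.node [8,10,10,10,8] (.node [10,10] .nil .nil) .nil)) (.node [8,10,8,8,8] (.node [10,8,10,10] (.node [10,8,8,8,8] .nil .nil) (.node [10,10,10,8,8,10] .nil .nil)) (.node [10,8] (.node [10,8,8,8,8] .nil .nil) .nil)))) (.node [10,10,8,10,10] (.node [8,10,8,8,10] (.node [10,10,8,10,8] (.node [10] (.node [10,8,10] .nil .nil) (.node [8,8,10,8] .nil .nil)) (.node [10,8] (.node [8,10,8,8,8] .nil .nil) (.node [10,8,8,10] .nil .nil))) (.node [10,8,10,8,8] (.node [10,8,10,10,10,8] (.node [10,10] .nil .nil) (.node [10,10] .nil .nil)) (.node [10,10,8] (.node [10,8,10,8,8] .nil .nil)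 .nil))) (.node [10] (.node [10,10,10,8] (.node [8,8,8,8,8] (.node [10,8,10] .nil .nil) (.node [8,10,10,10,8] .nil .nil)) (.node [10,10,8,10,8] (.node [8,10,8,8,10] .nil .nil) .nil)) (.node [10,8,8,10,10] (.node [10,10,10,8,8,10] (.node [10,8,10,10,10,8] .nil .nil) (.node [10,8] .nil .nil)) (.node [8,10,10,10,8] (.node [8,8,10] .nil .nil) .nil)))))) (.node [8,8,10,8] (.node [10,8,10,8] (.node [8,10,8] (.node [10,8,8,10,10] (.node [8,10,10] (.node [8,10,8,8,8,8] (.node [10,8,8] .nil .nil) (.node [10,10,8,8,10,10] .nil .nil)) (.node [8,10,8,8] (.node [10,10,8,10,8] .nil .nil) (.node [] .nil .nil))) (.node [8,10,8,10,10] (.node [8,10,8,8] (.node [10,8,8] .nil .nil) (.node [8] .nil .nil)) (.node [10,8,10,8,8,8] (.node [10,10,8,8] .nil .nil) .nil))) (.node [10,8,8,8] (.node [10,10,8] (.node [10,8,10,8,8] (.node [8,10,8] .nil .nil) (.node [8,10,8] .nil .nil)) (.node [8,8,8,8,8,8] (.node [8,10,8,8] .nil .nil) (.node [8,8,10,8,8] .nil .nil))) (.node [10,10,10]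 (.node [8,10,8,8] (.node [10,8,10,10,10,8] .nil .nil) (.node [10,8,10,8] .nil .nil)) (.node [10,8,8,10,10] (.node [10,8,10,10,10,8] .nil .nil) .nil)))) (.node [8,8,8,8,8] (.node [10,8,8] (.node [10,10,8,10,8] (.node [8,8,8] (.node [10,10,10,8,8] .nil .nil) (.node [8,10,8,8] .nil .nil)) (.node [10,8,10,8,8,8] (.node [8,8,10,10] .nil .nil) (.node [8] .nil .nil))) (.node [10,8,10,8,8,8] (.node [10,8,8,10,10] (.node [8,10,8,8,8] .nil .nil) (.node [8,8,10,8] .nil .nil)) (.node [8,8,10,8] (.node [10,10,8,8,10] .nil .nil) .nil))) (.node [10,8,8,8,8] (.node [8,10,8,8,8,8] (.node [10,10,8,10,8] (.node [8,8] .nil .nil) (.node [8,8,8,8,8,8] .nil .nil)) (.node [10,10,8,8,10] (.node [8,10,8] .nil .nil) .nil)) (.node [10,10,8,10] (.node [10,8,10,8] (.node [10] .nil .nil) (.node [10,10,8,10] .nil .nil)) (.node [10,8,10,10] (.node [8,8,10,10] .nil .nil) .nil))))) (.node [10,10,8,8] (.node [8,10,8] (.node [10,10,8,8,8] (.node [10,10,8,10] (.node [10,8,10,8,10] (.node [8,10,8]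 .nil .nil) (.node [8,8,8,8] .nil .nil)) (.node [10,8,10,10,10] (.node [8,8,10,10] .nil .nil) (.node [10,10,8] .nil .nil))) (.node [10,10,8,10,8] (.node [10,10,10] (.node [10,10,8] .nil .nil) (.node [10] .nil .nil)) (.node [10,8,8] (.node [8,8,8,8,8] .nil .nil) .nil))) (.node [8,8,8,8,8,8] (.node [10,10,8,10] (.node [10,8,10,10,10,8] (.node [10,10,10,8,8,10] .nil .nil) (.node [10,8,10,8,10] .nil .nil)) (.node [8,8,8] (.node [8,10,10] .nil .nil) .nil)) (.node [8,8,8] (.node [10,8,10,8,10] (.node [10,10,8,8,10,10] .nil .nil) (.node [10,10,8,10] .nil .nil)) (.node [10,10,8,8,10,10] (.node [8,10,10,10,8] .nil .nil) .nil)))) (.node [10,10,8,8,10,10] (.node [10,8,10] (.node [10,10,8,8,8] (.node [8,8,10,10] (.node [10,10,8,8,10,10] .nil .nil) (.node [8,10] .nil .nil)) (.node [10,10,10] (.node [10,10,8,8,10,10] .nil .nil) (.node [8,10] .nil .nil))) (.node [10,8,10,10,10,8] (.node [10,10,8,8] (.node [8,8,8,8,8] .nil .nil) (.node [10,10,8,8,10,10] .nil .nil)) (.node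 [10,8] (.node [10,10,10,8,8,10] .nil .nil) .nil))) (.node [10,10,10,8,8] (.node [8,10,10,10,8] (.node [10,10,10,8,8] (.node [10,8,10,10,10] .nil .nil) (.node [8,8,10,8] .nil .nil)) (.node [8,10,8,8] (.node [10,8,8,10,10] .nil .nil) .nil)) (.node [8,10,10] (.node [10,10,8,10] (.node [10,10] .nil .nil) (.node [8,8,8,8,8,8] .nil .nil)) (.node [10,8,10,10] (.node [8,8,10,8] .nil .nil) .nil))))))))

/-- Part of `moveWord`. -/
noncomputable def moveWord_r_r_l_l : Arr (List ℕ) :=
  .node [10] moveWord_r_r_l_l_l moveWord_r_r_l_l_r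

/-- Part of `moveWord`. -/
noncomputable def moveWord_r_r_l_r_l : Arr (List ℕ) :=
  (.node [10,10,10,8] (.node [8,10,8,8,10] (.node [10,10,10] (.node [8,10,10] (.node [10,10,10] (.node [10,10,10] (.node [8,10,10,10,8] (.node [10,8,8] (.node [8,10,8,8,10] .nil .nil) (.node [10,8,10,10,10,8] .nil .nil)) (.node [10,8,8,10,10] (.node [8,8,10,8] .nil .nil) (.node [8,10] .nil .nil))) (.node [8,8,10,10,10] (.node [8,8,10,10,10] (.node [10,8,8,10] .nil .nil) (.node [8,8,10,10,10] .nil .nil)) (.node [8,10,8,10,10] (.node [10,10,8,10,10] .nil .nil) .nil))) (.node [8,10,8,10,10] (.node [10,8,10,10,10] (.node [10,8,8] (.node [10,8,10,8] .nil .nil) (.node [8,8,8] .nil .nil)) (.node [10,8,10,10] (.node [8,10,8,8] .nil .nil) (.node [8,8] .nil .nil))) (.node [10,8,10] (.node [10,10,8,10] (.node [10,8,10,8,10,10] .nil .nil) (.node [10,8,8,8] .nil .nil)) (.node [8,10,10] (.node [10,8,8,10] .nil .nil) .nil)))) (.node [8,8,8,8] (.node [10,10,8,10] (.node [10,8] (.node [10]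 (.node [10,10,8,10,10] .nil .nil) (.node [8,10,10,10,8] .nil .nil)) (.node [10,10,8,8,8] (.node [10,10,10,8,8] .nil .nil) (.node [8,8,10] .nil .nil))) (.node [10,8,8] (.node [10,8,10,10,10] (.node [8,10,8,8,8] .nil .nil) (.node [10,8,10,10] .nil .nil)) (.node [8,10,10] (.node [8] .nil .nil) .nil))) (.node [8,8,10,8,8] (.node [10,10,10] (.node [10,10,8] (.node [8,10,8,8] .nil .nil) (.node [] .nil .nil)) (.node [8,8,10] (.node [10,10,10,8,8,10] .nil .nil) .nil)) (.node [8,8] (.node [10,10,10,8,8] (.node [10,10,10,8,8,10] .nil .nil) (.node [8,10,10,10,8] .nil .nil)) (.node [8,10,8,8] (.node [8,8,10] .nil .nil) .nil))))) (.node [10,10,8,10,10] (.node [10,8,8,8] (.node [8,8,10,10] (.node [10,8] (.node [10,8,10,8,8] (.node [10,10,8,8,8] .nil .nil) (.node [8,10,8,8,8] .nil .nil)) (.node [10,8,10,10,10] (.node [8,8,10,8,8] .nil .nil) (.node [8,10] .nil .nil))) (.node [10,10,8,10] (.node [10,8,8,8] (.node [10,10,10,8,8] .nil .nil) (.node [10,10,8,10,10] .nil .nil))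 (.node [10,8,8,10] (.node [8,8,10,10,10] .nil .nil) .nil))) (.node [8,8,10,10,10] (.node [8,10,8,10] (.node [10,8,10,8,8,8] (.node [8,10,10,10] .nil .nil) (.node [8,10,8] .nil .nil)) (.node [8,8,8,8,8] (.node [10,8,10] .nil .nil) .nil)) (.node [10,10,8,8,10] (.node [10,8,10,8,8] (.node [8,10,10,10] .nil .nil) (.node [10,10,8] .nil .nil)) (.node [8,10,10,10,8] (.node [8,10,8] .nil .nil) .nil)))) (.node [8,10,10] (.node [8,10,8,10] (.node [8,8,10,8,8] (.node [10,8,10,8,10,10] (.node [10,10,8,10,8] .nil .nil) (.node [10,8,8] .nil .nil)) (.node [10,8,10,8,8] (.node [8,10,8,8,10] .nil .nil) (.node [8,10,10,10,8] .nil .nil))) (.node [10,8,8] (.node [10,10,8,10,8] (.node [10] .nil .nil) (.node [8,10,10,10,8] .nil .nil)) (.node [10,10,8,10,8] (.node [10,8,8,8,8] .nil .nil) .nil))) (.node [10,8,10] (.node [10,8,8] (.node [10,8,10,8,8,8] (.node [8,10,8,8,10] .nil .nil) (.node [8,10,8,10] .nil .nil)) (.node [8,10,8,8,8] (.node [10,10,10,8,8,10] .nil .nil) .nil))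 (.node [10,10,8,8] (.node [8,10,8,8,10] (.node [10,10,10,8,8] .nil .nil) (.node [10,8,10,8,10,10] .nil .nil)) (.node [] (.node [10,8,8,8,8] .nil .nil) .nil)))))) (.node [8,8,10,8] (.node [8,10,8,10] (.node [10,8,10,10,10,8] (.node [10,10,10,8] (.node [10,8,10,10,10] (.node [10,8,8,10] (.node [10,10,8,10,8] .nil .nil) (.node [10,10] .nil .nil)) (.node [10,10,10,8,8,10] (.node [8,8,8,8,8,8] .nil .nil) (.node [8,10,8,8] .nil .nil))) (.node [8,10] (.node [10,8,10,8,8,8] (.node [10,10,8,8,8] .nil .nil) (.node [] .nil .nil)) (.node [10,8,10,8,10,10] (.node [8,10,8,10] .nil .nil) .nil))) (.node [10,10,8,10,8] (.node [10,10,8,10,8] (.node [8,8,8,8,8,8] (.node [8] .nil .nil) (.node [8] .nil .nil)) (.node [10,10,10,8,8,10] (.node [10,10,10,8,8,10] .nil .nil) (.node [10,8,8,8,8] .nil .nil))) (.node [10,8,10,8,10] (.node [10,8,8,8] (.node [8,10,8,8,10] .nil .nil) (.node [10,10,8,10,8] .nil .nil)) (.node [8,10,8] (.node [8] .nil .nil) .nil)))) (.node [8,8,10,10,10]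 (.node [8,10,10,10,8] (.node [10,10,10] (.node [8,10,10,10,8] (.node [10,10,8,10,8] .nil .nil) (.node [8,8,8,8,8,8] .nil .nil)) (.node [10,8,10,8,8,8] (.node [10,10,10,8,8] .nil .nil) (.node [10,8,8,8] .nil .nil))) (.node [8,10,10] (.node [8] (.node [8,8,10] .nil .nil) (.node [8,10,8] .nil .nil)) (.node [10,10,10,8,8] (.node [10,8,10,8,8] .nil .nil) .nil))) (.node [10,8,10,8,8,8] (.node [10,10,10,8,8,10] (.node [10,10,8,10,8] (.node [8,10,10] .nil .nil) (.node [10,10,8,10,10] .nil .nil)) (.node [10,10,10,8,8] (.node [8,10] .nil .nil) .nil)) (.node [8,8,10] (.node [10,10,10] (.node [8,8,8] .nil .nil) (.node [8] .nil .nil)) (.node [10,10,8] (.node [10,10,10] .nil .nil) .nil))))) (.node [10,8,10,10] (.node [10,10,10] (.node [10,8,10,8,8,8] (.node [8,10,8,8] (.node [10,8,8,10] (.node [10,10,10,8] .nil .nil) (.node [10,10,8,8,10] .nil .nil)) (.node [8,10,8,8,8] (.node [10,8,8,8] .nil .nil) (.node [10,10,8] .nil .nil))) (.node [10,8,10,10] (.node [8,10,10] (.node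 [8,10,10] .nil .nil) (.node [10,10,8,8,10] .nil .nil)) (.node [8,8] (.node [10,8,8,10,10] .nil .nil) .nil))) (.node [10,10,10] (.node [10,10,8,10,8] (.node [8,8] (.node [8,10,8] .nil .nil) (.node [10,10,10,8] .nil .nil)) (.node [8,8,10] (.node [10,8,10,8,8,8] .nil .nil) .nil)) (.node [8,8,10,10] (.node [8,10,8,8] (.node [8,10,8,10,10] .nil .nil) (.node [10,8,10] .nil .nil)) (.node [10,8,8,8] (.node [8] .nil .nil) .nil)))) (.node [8,8,10,8] (.node [10,10,8,8,10,10] (.node [10,10,8,8,10,10] (.node [10,8,10,8,10] (.node [10,10,8,10,8] .nil .nil) (.node [10,10,8,10,10] .nil .nil)) (.node [10,8,10,8] (.node [8,10,8,10,10] .nil .nil) (.node [10,8,10,10,10,8] .nil .nil))) (.node [8,8,8] (.node [10,8,10,8,10] (.node [8,10,10,10] .nil .nil) (.node [8,10,8,10,10] .nil .nil)) (.node [10,10] (.node [8,8,8,8,8] .nil .nil) .nil))) (.node [10,8,10,8,8,8] (.node [10,10,10,8,8] (.node [10,10,10,8,8] (.node [8,10,8] .nil .nil) (.node [8,8,10] .nil .nil)) (.node [8,8,10,8]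 (.node [10,8,10,8] .nil .nil) .nil)) (.node [10,8,10,10] (.node [8,10,8,8,8,8] (.node [8,10,10,10] .nil .nil) (.node [8,10,8,10,10] .nil .nil)) (.node [10,10,8,8,10] (.node [8,8] .nil .nil) .nil))))))) (.node [8,8,10,8] (.node [10] (.node [10,10,10,8] (.node [10,8,10,8] (.node [8,10,8,8,8,8] (.node [10,10,8] (.node [10,8,8,10] (.node [8,8,10] .nil .nil) (.node [10,10,10,8,8] .nil .nil)) (.node [10,8,10,8,10,10] (.node [10,10,8,8,10] .nil .nil) (.node [10,8,10] .nil .nil))) (.node [10,8,10,8,8,8] (.node [10,10,8,8] (.node [8,8,10] .nil .nil) (.node [10,8,10,8,10,10] .nil .nil)) (.node [8,8,10,8] (.node [10,8,10,8,8] .nil .nil) .nil))) (.node [10,10,8,8,10] (.node [10,10,10,8] (.node [10,8,10,10] (.node [8,10,8,8] .nil .nil) (.node [10,8,10,10,10,8] .nil .nil)) (.node [10,8,10] (.node [10,10,8,8,8] .nil .nil) (.node [8,10,8,10,10] .nil .nil))) (.node [10,8,10,8,10,10] (.node [8] (.node [8,10,8,10,10] .nil .nil) (.node [8,8,10,8,8] .nil .nil)) (.node [10,8,10,10]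 (.node [8,10,8,8,8,8] .nil .nil) .nil)))) (.node [10,10,8,10,8] (.node [8,8,10,10,10] (.node [8,8,8,8,8] (.node [10,8,10,10,10] (.node [10,10,8,8,10,10] .nil .nil) (.node [10,10] .nil .nil)) (.node [8,8,8] (.node [8,10] .nil .nil) (.node [8,8,10,8] .nil .nil))) (.node [8,8,10,10] (.node [8,8,10] (.node [8,10] .nil .nil) (.node [8,10,8,10] .nil .nil)) (.node [] (.node [8] .nil .nil) .nil))) (.node [8,8,10] (.node [8,8,8,8,8] (.node [10,10,10,8,8] (.node [10] .nil .nil) (.node [10,8,10] .nil .nil)) (.node [10,8,8,10,10] (.node [8,8,10] .nil .nil) .nil)) (.node [8,8,10,10,10] (.node [8,10,8] (.node [10,8,10] .nil .nil) (.node [10,8,10,10,10,8] .nil .nil)) (.node [8,8,8] (.node [8] .nil .nil) .nil))))) (.node [8,10,8,10] (.node [] (.node [8,8,10,8,8] (.node [10,10,8,10,8] (.node [8,8,8] (.node [10,8,10,10] .nil .nil) (.node [10] .nil .nil)) (.node [8,10,8] (.node [8,10,10,10,8] .nil .nil) (.node [10,8,10,10,10,8] .nil .nil))) (.node [10,10,8,8,10] (.node [10,8]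 (.node [8,8] .nil .nil) (.node [10,10,8,8,10] .nil .nil)) (.node [10,8,10,8,8] (.node [10,8,10,8,10,10] .nil .nil) .nil))) (.node [10,8,10,8,10] (.node [10,8,10,8,8,8] (.node [] (.node [10,10,8,8] .nil .nil) (.node [8,10,8,10,10] .nil .nil)) (.node [8] (.node [10,10,8,8] .nil .nil) .nil)) (.node [10,8,10,8,8,8] (.node [8,8,10,10,10] (.node [8,10,8,10,10] .nil .nil) (.node [10,10,8,10,10] .nil .nil)) (.node [8,8,10,8,8] (.node [10,10,8,10,10] .nil .nil) .nil)))) (.node [8,10,8,10,10] (.node [10,10,10,8,8,10] (.node [8,8,8] (.node [8,10,10,10] (.node [8,8,8,8,8,8] .nil .nil) (.node [10,8,10,8] .nil .nil)) (.node [10,10,8] (.node [10,8,8] .nil .nil) (.node [10,8,10,10] .nil .nil))) (.node [8,8,10] (.node [10,10] (.node [10,10,8,10,10] .nil .nil) (.node [10,10,10] .nil .nil)) (.node [8,8,8,8] (.node [10,8,8] .nil .nil) .nil))) (.node [10,8,10,8] (.node [8] (.node [8,10,8,10,10] (.node [8,10] .nil .nil) (.node [10,10,8,8] .nil .nil)) (.node [8,10,10] (.node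 [8,8,10,10,10] .nil .nil) .nil)) (.node [8,10,8,8,8,8] (.node [10,8,10,8] (.node [10,8,10,8] .nil .nil) (.node [8,10,10,10] .nil .nil)) (.node [10,10] (.node [10,8,10,10] .nil .nil) .nil)))))) (.node [10,8,10,8,8] (.node [8,10,8,10] (.node [8,10] (.node [8,8,10,8] (.node [10,8,10] (.node [8,8,10,10] (.node [8,8,10] .nil .nil) (.node [10,8,8] .nil .nil)) (.node [10,10,8,8,10,10] (.node [8,10,10] .nil .nil) (.node [8,10,8,10] .nil .nil))) (.node [8,10,8,10] (.node [10,10,10] (.node [10,8,10] .nil .nil) (.node [8,8,8,8,8,8] .nil .nil)) (.node [10,10,8,8,8] (.node [8,10,8] .nil .nil) .nil))) (.node [10,10,8,8] (.node [10,10,10,8,8] (.node [10,8,8] (.node [8,8,8,8,8,8] .nil .nil) (.node [10,8,8,10,10] .nil .nil)) (.node [10,10,8,8] (.node [8,8,10,10,10] .nil .nil) (.node [8,10,10,10,8] .nil .nil))) (.node [10,8,8,10] (.node [10,8,10,10,10] (.node [8,10,8,8,10] .nil .nil) (.node [8,10,10,10] .nil .nil)) (.node [10,8,8,8] (.node [8,8,10,8,8] .nil .nil) .nil))))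 (.node [8,8] (.node [8,10,10,10] (.node [8,8,10] (.node [10,8,10,8] (.node [8,8,10] .nil .nil) (.node [8,8,10] .nil .nil)) (.node [8,8,10,10,10] (.node [10,8,10,8,10,10] .nil .nil) (.node [10,8,10] .nil .nil))) (.node [8,8,10,8,8] (.node [10,8,10,8] (.node [8,8,8,8,8] .nil .nil) (.node [10,8,10] .nil .nil)) (.node [10,8,8,8,8] (.node [8,10] .nil .nil) .nil))) (.node [8,10,8,8,8,8] (.node [10] (.node [8,8,8,8] (.node [10,8,10] .nil .nil) (.node [8,10] .nil .nil)) (.node [10,10,10] (.node [8,8,8] .nil .nil) .nil)) (.node [10,10,10,8,8,10] (.node [8,8,10,10] (.node [10,10,8,8] .nil .nil) (.node [8,10,10,10,8] .nil .nil)) (.node [8,8,10,8] (.node [10,10,10,8,8,10] .nil .nil) .nil))))) (.node [10,8,10,8,8,8] (.node [8,10,8,8,10] (.node [10,10,8,10,8] (.node [10,10,10,8,8,10] (.node [10,8] (.node [8,8,10,10] .nil .nil) (.node [10,8,10,10,10] .nil .nil)) (.node [8,8,10,10] (.node [10,10,8,10,8] .nil .nil) (.node [10,8,8,8,8] .nil .nil))) (.node [8,10,8,8,8] (.node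 [8,10,8,8,8,8] (.node [8,10,10] .nil .nil) (.node [10,8,10,10] .nil .nil)) (.node [10,10,10,8,8,10] (.node [10,8,10,8,8] .nil .nil) .nil))) (.node [8,8,10,10,10] (.node [8,10,10] (.node [8,8,10] (.node [8,10,8,8,8] .nil .nil) (.node [10,8] .nil .nil)) (.node [10,10,8,8,10,10] (.node [10,8,10] .nil .nil) .nil)) (.node [10,10,8,8] (.node [10,8,10,8] (.node [10,8,8] .nil .nil) (.node [8,8,10,10] .nil .nil)) (.node [10,8] (.node [8,10,8,8,8] .nil .nil) .nil)))) (.node [10,8,10] (.node [10,10,8,8,10,10] (.node [8,10,8,8,8] (.node [10,8] (.node [8,10,8,10,10] .nil .nil) (.node [10,8,8,10] .nil .nil)) (.node [10,8,10,10,10,8] (.node [10,8,10,10,10,8] .nil .nil) (.node [10,8,10,8,10,10] .nil .nil))) (.node [10,10,8,10,10] (.node [10,10,10,8] (.node [10,8,10,8,8,8] .nil .nil) (.node [10,10,10,8,8] .nil .nil)) (.node [8,10,8,8,8,8] (.node [10,10,8,8,10,10] .nil .nil) .nil))) (.node [10,10,8,10,8] (.node [10,8] (.node [10,8,8,10,10] (.node [8,8,10,8,8] .nil .nil)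 (.node [10,8,10,10] .nil .nil)) (.node [10,10,10] (.node [10,10,10,8] .nil .nil) .nil)) (.node [8,8,10,8] (.node [10] (.node [10,10,8,10,10] .nil .nil) (.node [8,10,8] .nil .nil)) (.node [10,8,8,10,10] (.node [8,8,10] .nil .nil) .nil))))))))

/-- Part of `moveWord`. -/
noncomputable def moveWord_r_r_l_r_r : Arr (List ℕ) :=
  (.node [8,8] (.node [8,10,10,10] (.node [10,10] (.node [10,10,8,8,10,10] (.node [10,10,8,10] (.node [10,8,8,10] (.node [] (.node [8,8,8] (.node [10,8,10,8,10] .nil .nil) (.node [8,10,8,8] .nil .nil)) (.node [] (.node [10,8,10,8,8] .nil .nil) (.node [10,8,10,10] .nil .nil))) (.node [10,10,8,8,10,10] (.node [10,10,8,10,8] (.node [10,10,8] .nil .nil) (.node [10,8,10,8] .nil .nil)) (.node [10,10,8,8] (.node [8,8,8,8,8,8] .nil .nil) .nil))) (.node [8,8,8] (.node [10,8,10] (.node [8,10,10,10,8] (.node [8,8,8] .nil .nil) (.node [10,10,8] .nil .nil)) (.node [10,8,10,8,8,8] (.node [10,10,8,8] .nil .nil) (.node [10,8,10,10,10] .nil .nil))) (.node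 [10,8,10,8,8] (.node [10,8,10,10] (.node [10,8,10] .nil .nil) (.node [10,8,10] .nil .nil)) (.node [10,10,8,8,10] (.node [8,8,8,8] .nil .nil) .nil)))) (.node [10,10,8,10] (.node [8,10] (.node [10,8,8] (.node [10,8,10,10] (.node [8,10,8] .nil .nil) (.node [10,10,10,8] .nil .nil)) (.node [8,10,8,10] (.node [10,8,10,10,10] .nil .nil) (.node [10,10,8,10,10] .nil .nil))) (.node [8,10,10,10] (.node [8,10,10,10,8] (.node [10,10,10,8] .nil .nil) (.node [8,8,8,8,8,8] .nil .nil)) (.node [10,10,8,10,8] (.node [8,8,10,10] .nil .nil) .nil))) (.node [10,8,10] (.node [10,8] (.node [8,10,8,8,8,8] (.node [10,8,8,8,8] .nil .nil) (.node [10,8,10,10,10] .nil .nil)) (.node [10,10,8,8] (.node [8,10] .nil .nil) .nil)) (.node [8,8] (.node [8,10,8] (.node [8,10] .nil .nil) (.node [8,8,10,8] .nil .nil)) (.node [8,8] (.node [8,10,10] .nil .nil) .nil))))) (.node [10,10,8,8,10] (.node [8,10,8,8,10] (.node [10,10] (.node [10,8,8,10,10] (.node [8,10,8,8] (.node [8,8,8,8,8] .nil .nil)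 (.node [8,10] .nil .nil)) (.node [10,10,8] (.node [8,8,8,8,8] .nil .nil) (.node [8,8,10,8] .nil .nil))) (.node [10,8,10,8,8,8] (.node [10,10,10] (.node [8,10,8,8] .nil .nil) (.node [10,10,8,10,10] .nil .nil)) (.node [10,8,10,10,10] (.node [8,10,8,8,8,8] .nil .nil) .nil))) (.node [8,8,10] (.node [8,10,8,8,8,8] (.node [10,10,8] (.node [10,8,10,8] .nil .nil) (.node [10,8,10,8,10] .nil .nil)) (.node [8,8,8,8,8] (.node [8,8,8,8] .nil .nil) .nil)) (.node [8,10,8,10,10] (.node [8,10,10,10] (.node [10,10,10,8] .nil .nil) (.node [10,10,8,8,8] .nil .nil)) (.node [8,10,8,8] (.node [10,10,8,8,10] .nil .nil) .nil)))) (.node [8,10,10] (.node [10,10] (.node [8,10,8,8,10] (.node [10,10,10,8,8] (.node [8,8,10,8,8] .nil .nil) (.node [10,8,10,8] .nil .nil)) (.node [8,8,10,10,10] (.node [8,10,8,8] .nil .nil) (.node [10,8,8,10] .nil .nil))) (.node [8,8] (.node [10,8,10,8,10] (.node [10,8,8,10] .nil .nil) (.node [8,10,8,8,8,8] .nil .nil)) (.node [8,8,8,8,8,8] (.node [8,8,10,8,8]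 .nil .nil) .nil))) (.node [10,8,8,8] (.node [8,10] (.node [8,10,10] (.node [10,10,10,8,8] .nil .nil) (.node [10,8,10,8,8,8] .nil .nil)) (.node [8,10,10,10] (.node [8,8,10,10,10] .nil .nil) .nil)) (.node [10,8,8,8] (.node [10,8,10,8,10] (.node [10,8,10,10,10] .nil .nil) (.node [8,10,8,8,10] .nil .nil)) (.node [10,10,10,8,8] (.node [10,8,8,8,8] .nil .nil) .nil)))))) (.node [8,8,10,10,10] (.node [8] (.node [10,8,10,10] (.node [8,10,8,8,8,8] (.node [10,8,8,8] (.node [10,8,8,8,8] (.node [10,8,8,10,10] .nil .nil) (.node [10,10,8,10] .nil .nil)) (.node [10,10,8,8,10,10] (.node [10,8,10,10,10,8] .nil .nil) (.node [8,8,10] .nil .nil))) (.node [10,8,8,8,8] (.node [10,8,10,8,8] (.node [10,8,10,8,10,10] .nil .nil) (.node [8,10,8] .nil .nil)) (.node [8,8,10,8,8] (.node [8,8,8,8] .nil .nil) .nil))) (.node [10,8,8] (.node [8,10,8,8,8] (.node [10,10,8,10,8] (.node [8,10,8,8,8,8] .nil .nil) (.node [10,8,10,10,10,8] .nil .nil)) (.node [8,8,8,8,8] (.node [8,8,10,8,8] .nil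 .nil) (.node [10,8,8,8] .nil .nil))) (.node [10] (.node [10,8,10,10] (.node [8,8,10,8] .nil .nil) (.node [10,8,10,10,10,8] .nil .nil)) (.node [10,8,10,10] (.node [10,10,10] .nil .nil) .nil)))) (.node [10,8,10,8] (.node [] (.node [8,8,8,8] (.node [8,8] (.node [10,8,10,10] .nil .nil) (.node [10,10,8,8,8] .nil .nil)) (.node [10,8,8,10,10] (.node [10,8,10,8,10] .nil .nil) (.node [8,8,10,10,10] .nil .nil))) (.node [10,10,8,8,8] (.node [10,10,8,8,10,10] (.node [10,10,10,8] .nil .nil) (.node [8,10] .nil .nil)) (.node [8,10,8,10,10] (.node [10,10,8,8,8] .nil .nil) .nil))) (.node [8,10] (.node [10,10,8,10] (.node [8,8,10,8,8] (.node [10,8,10] .nil .nil) (.node [8,10,10] .nil .nil)) (.node [8,10,10,10,8] (.node [10,8,10,10,10,8] .nil .nil) .nil)) (.node [10,8,10,8] (.node [10,10,8,8] (.node [8,8,10] .nil .nil) (.node [10,8,8,8,8] .nil .nil)) (.node [8,10,8,8,8] (.node [8,10,8,8] .nil .nil) .nil))))) (.node [8,8,8,8,8] (.node [8,8,10,10,10] (.node [8,10,8,8,8] (.node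 [10,8,8,8,8] (.node [10,10,8,8,8] (.node [8,8,10,8] .nil .nil) (.node [8,8,10,10] .nil .nil)) (.node [10] (.node [10,8,10,8] .nil .nil) (.node [8,8,10] .nil .nil))) (.node [8,8,8,8,8,8] (.node [8,8,8,8,8] (.node [8] .nil .nil) (.node [10,8] .nil .nil)) (.node [8,10,8] (.node [10,8,8,8,8] .nil .nil) .nil))) (.node [10,8,10,8,10,10] (.node [8,10,10] (.node [10,8,10] (.node [10] .nil .nil) (.node [10,8,8,10,10] .nil .nil)) (.node [10,8] (.node [8,8,10] .nil .nil) .nil)) (.node [8,8,10] (.node [8,10,8,8,10] (.node [10,8] .nil .nil) (.node [10,10,8,10] .nil .nil)) (.node [8,8] (.node [10,10,8,8,8] .nil .nil) .nil)))) (.node [10,8,8,10,10] (.node [8,10,10] (.node [10,10,8,8,10,10] (.node [10,8,10,8,10,10] (.node [8,10,8,10,10] .nil .nil) (.node [8,10,8] .nil .nil)) (.node [10,8,10,10] (.node [10,10,10,8,8] .nil .nil) (.node [8,10] .nil .nil))) (.node [10,8] (.node [8,8,8,8] (.node [8,8,10,10,10] .nil .nil) (.node [10,8,10,8,8,8] .nil .nil)) (.node [10,8,8,10,10]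 (.node [10,8,10,8,8] .nil .nil) .nil))) (.node [10,10,8,8,8] (.node [8,8,8,8,8,8] (.node [8,10,10,10,8] (.node [10,8,10,8,10] .nil .nil) (.node [10,10,8,8,10,10] .nil .nil)) (.node [] (.node [10] .nil .nil) .nil)) (.node [10,8] (.node [8,8,8] (.node [10,8,10,10,10,8] .nil .nil) (.node [8,10,8,8,8,8] .nil .nil)) (.node [8,10,8] (.node [8,10,8,10,10] .nil .nil) .nil))))))) (.node [10,8,10,10] (.node [8,10,10,10] (.node [10] (.node [10,10,8,8,10,10] (.node [8,8,8,8] (.node [8,10] (.node [10,10,8,8,10] (.node [8,10,8,8,8,8] .nil .nil) (.node [10,8,10,8] .nil .nil)) (.node [8,10,8,8,8,8] (.node [8,8,10,8,8] .nil .nil) (.node [8,8,10,8,8] .nil .nil))) (.node [10,10,10,8,8,10] (.node [8,8,10] (.node [10,10,8,8] .nil .nil) (.node [8,8,8,8,8,8] .nil .nil)) (.node [8,10,8,8] (.node [10,10,8,8] .nil .nil) .nil))) (.node [10,10,10,8] (.node [10,8,10,10,10] (.node [10,10] (.node [10,8,8] .nil .nil) (.node [8,8,10,10,10] .nil .nil)) (.node [8,10] (.node [10,8,10,8,10,10]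 .nil .nil) (.node [10,10,8,10,8] .nil .nil))) (.node [10,10,8,8,8] (.node [8,8,8,8] (.node [10,10,10] .nil .nil) (.node [10,8,8,10] .nil .nil)) (.node [8,8,8,8] (.node [8,10,8,8] .nil .nil) .nil)))) (.node [8,8,10] (.node [8,10,10] (.node [10,10,8,10,10] (.node [8,10,8,10] (.node [8,10,8,8,8] .nil .nil) (.node [8,8,10,10] .nil .nil)) (.node [10,10,10,8,8,10] (.node [10,8,10,10] .nil .nil) (.node [10,8,8,10,10] .nil .nil))) (.node [10,10,8,10,8] (.node [10,8,10,10,10,8] (.node [8,10,8,8] .nil .nil) (.node [10,10,8,8,10] .nil .nil)) (.node [10,8,10,10,10,8] (.node [8,8,8,8,8] .nil .nil) .nil))) (.node [8,8,10,10] (.node [10,10,8,8,8] (.node [8,10,10,10,8] (.node [8,10,10,10] .nil .nil) (.node [8,10,8,8,10] .nil .nil)) (.node [8,8,8] (.node [10,10,8,8] .nil .nil) .nil)) (.node [8,10,8,8,8,8] (.node [8,10] (.node [8,8,10,10] .nil .nil) (.node [10,10,8,8,10] .nil .nil)) (.node [10,10,8,10] (.node [10,10,8,10] .nil .nil) .nil))))) (.node [8,10,10,10,8] (.node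 [8,10,8] (.node [10,8,8,8] (.node [8,8,10,10,10] (.node [8,8] (.node [10,8,8] .nil .nil) (.node [10,8,10,8,8,8] .nil .nil)) (.node [8,8,10,8,8] (.node [8,8,8] .nil .nil) (.node [8,10,8,8,10] .nil .nil))) (.node [] (.node [8,8] (.node [10,8,10,8] .nil .nil) (.node [10] .nil .nil)) (.node [8,10,8,8,10] (.node [10,8,10,8] .nil .nil) .nil))) (.node [10,10] (.node [10,10,8,8,8] (.node [10,8,8] (.node [8,10,8] .nil .nil) (.node [10,10,10,8,8] .nil .nil)) (.node [8,10,10,10] (.node [10,8,10,8,10] .nil .nil) .nil)) (.node [8,8,10,8,8] (.node [8,8,8,8,8] (.node [10,8,10,8,8,8] .nil .nil) (.node [10,8,10,8,10,10] .nil .nil)) (.node [10,8,10,8,10,10] (.node [] .nil .nil) .nil)))) (.node [10,10,10,8,8] (.node [8,8,10] (.node [10,8,8] (.node [10,8,10,10] (.node [8] .nil .nil) (.node [10,8,10,8,8] .nil .nil)) (.node [10,8,10,10] (.node [8,8,10,10] .nil .nil) (.node [10,10,8,8,10,10] .nil .nil))) (.node [8,10,10] (.node [10,10,8,8,10] (.node [8,10,10] .nil .nil) (.node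 [10,10,10,8] .nil .nil)) (.node [10,8,10,8,8,8] (.node [8,8,10,10] .nil .nil) .nil))) (.node [10,8] (.node [10,8] (.node [10,8,10,8,8] (.node [10,10,8,8,8] .nil .nil) (.node [8,8,10] .nil .nil)) (.node [8,8,10] (.node [8,8,10,10] .nil .nil) .nil)) (.node [10,10,10,8,8] (.node [10,10,8,8,8] (.node [8,8,10,10,10] .nil .nil) (.node [8,8,8,8,8,8] .nil .nil)) (.node [10,10,8] (.node [10,8,10,8,10,10] .nil .nil) .nil)))))) (.node [10,10,10] (.node [8,10,8,10,10] (.node [10,10,10,8,8,10] (.node [10,10,8] (.node [10,10,10,8,8,10] (.node [10,8,10,8] (.node [8,10,10,10,8] .nil .nil) (.node [10] .nil .nil)) (.node [10,10,8,10] (.node [10,8,10,8] .nil .nil) (.node [8,8,8,8,8] .nil .nil))) (.node [8,8] (.node [10,10,8,10] (.node [10,8,10,8,10,10] .nil .nil) (.node [8] .nil .nil)) (.node [10,10,8,8,8] (.node [8,10,10] .nil .nil) .nil))) (.node [] (.node [8,8] (.node [10,10,8,10,10] (.node [8,10,10,10] .nil .nil) (.node [10,8,8,8,8] .nil .nil)) (.node [10,8,10] (.node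 [10,8,8,10] .nil .nil) (.node [8,10,8] .nil .nil))) (.node [10,10,8,8,10] (.node [10,10,10,8,8] (.node [10,10,10,8,8] .nil .nil) (.node [10,8,10,10] .nil .nil)) (.node [10,8] (.node [10,8,8,8] .nil .nil) .nil)))) (.node [10,8,10,10] (.node [10,10,8,10,8] (.node [10,10,8,10] (.node [10,10,8,10,10] (.node [10,10,10,8] .nil .nil) (.node [8,8] .nil .nil)) (.node [10,10,8,8,10,10] (.node [10,10,8,8,8] .nil .nil) (.node [10,8,8,8] .nil .nil))) (.node [10,10,8,10,10] (.node [10,8,10] (.node [8] .nil .nil) (.node [10,10,8,8,8] .nil .nil)) (.node [10,10,8] (.node [10,10,8] .nil .nil) .nil))) (.node [8,8,10] (.node [10,8,8,8] (.node [10,8,10,10] (.node [8,8,8] .nil .nil) (.node [10,8] .nil .nil)) (.node [8,8,8,8] (.node [10,10,8] .nil .nil) .nil)) (.node [10,10,10,8,8] (.node [8,8,8,8] (.node [8,8,8,8] .nil .nil) (.node [8,8,10] .nil .nil)) (.node [8,8,10,10] (.node [8,10,10,10] .nil .nil) .nil))))) (.node [10,10,8,8,10] (.node [8,8] (.node [] (.node [10,8,10,8,8,8]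 (.node [10,10,10,8,8,10] (.node [] .nil .nil) (.node [8,8,10,8] .nil .nil)) (.node [10,10,10,8] (.node [8,8,10,10,10] .nil .nil) (.node [10,10,10,8,8,10] .nil .nil))) (.node [10,10] (.node [10,8,8,10,10] (.node [8,10,8,8,8] .nil .nil) (.node [8,10,10,10] .nil .nil)) (.node [10] (.node [8,10,8,8,8,8] .nil .nil) .nil))) (.node [] (.node [8,10,8] (.node [8,8,10,10] (.node [10,8,10,10,10,8] .nil .nil) (.node [10,10,10] .nil .nil)) (.node [8,8,10] (.node [10,8,10,10,10] .nil .nil) .nil)) (.node [10,10,8,8,8] (.node [8,10,8,8,8,8] (.node [8,10,8,10,10] .nil .nil) (.node [10,8,8,8] .nil .nil)) (.node [10,10,8,10] (.node [10,10,8,10,8] .nil .nil) .nil)))) (.node [8,8,8,8] (.node [8,8,8,8] (.node [8,10,10] (.node [8,10,8,8] (.node [8,8] .nil .nil) (.node [8,8,10,8] .nil .nil)) (.node [8,10,8,8,8,8] (.node [8,10,8,10,10] .nil .nil) (.node [10,10,8,8] .nil .nil))) (.node [] (.node [10,10,8,10,10] (.node [10,10,8,8,10,10] .nil .nil) (.node [8,8,8] .nil .nil)) (.node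 [8,10,8,10] (.node [10,8,8,8] .nil .nil) .nil))) (.node [10,8,10] (.node [10,8,10,10] (.node [10,10,8,8,10] (.node [10,10,8,8,10,10] .nil .nil) (.node [10,8,10,10,10,8] .nil .nil)) (.node [8,10,8] (.node [8,8,10] .nil .nil) .nil)) (.node [8,10,10,10,8] (.node [10,10,10] (.node [8,10,8,8] .nil .nil) (.node [10,10,8,8,8] .nil .nil)) (.node [10,10,10,8] (.node [10,10] .nil .nil) .nil))))))))

/-- Part of `moveWord`. -/
noncomputable def moveWord_r_r_l_r : Arr (List ℕ) :=
  .node [10,10,10,8,8] moveWord_r_r_l_r_l moveWord_r_r_l_r_r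

/-- Part of `moveWord`. -/
noncomputable def moveWord_r_r_l : Arr (List ℕ) :=
  .node [10,8,10,8,8] moveWord_r_r_l_l moveWord_r_r_l_r

/-- Part of `moveWord`. -/
noncomputable def moveWord_r_r_r_l_l : Arr (List ℕ) :=
  (.node [10,8] (.node [8,10,8,8,10] (.node [10,10,10,8,8,10] (.node [8,10,8,10,10] (.node [10,10,8,8] (.node [10,10] (.node [10,10,10,8,8,10] (.node [8,10,10,10,8] (.node [10,8,10] .nil .nil) (.node [10,10,8,10] .nil .nil)) (.node [10,10,8,8] (.node [8,10] .nil .nil) (.node [8,10,8,8] .nil .nil))) (.node [8,10,8,8,8] (.node [10,8,8,10] (.node [10,10,10,8] .nil .nil) (.node [8,10,8,8,8,8] .nil .nil)) (.node [8,10,10,10] (.node [8,8,8,8,8] .nil .nil) .nil))) (.node [10,8] (.node [10,8,10,8,8] (.node [8,10,10] (.node [10,10,10,8,8,10] .nil .nil) (.node [10,10] .nil .nil)) (.node [8,10,10,10,8] (.node [8,8,8,8] .nil .nil) (.node [8,10] .nil .nil))) (.node [10,10,8,8] (.node [10,8,10] (.node [8,10,8,8,8,8] .nil .nil) (.node [8,10,10,10] .nil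 .nil)) (.node [10,8,10,10,10] (.node [10,8,10,10] .nil .nil) .nil)))) (.node [] (.node [8,8,8,8,8,8] (.node [10,8] (.node [10,8,10,10,10,8] (.node [8,10,10,10,8] .nil .nil) (.node [8,8,10,10,10] .nil .nil)) (.node [10,8,8,8] (.node [8,10,10] .nil .nil) (.node [8,8] .nil .nil))) (.node [10,8,8] (.node [8,10,8,8] (.node [8,8,10,10] .nil .nil) (.node [10,8,8,10] .nil .nil)) (.node [10,8,10,8] (.node [8,10,8,8] .nil .nil) .nil))) (.node [10,8,10,8,8] (.node [10,10,8,8,10] (.node [10,8,10,10] (.node [10,10,8,8,10] .nil .nil) (.node [8,10,10,10,8] .nil .nil)) (.node [10,10,10,8] (.node [10,8,8,8,8] .nil .nil) .nil)) (.node [8,10] (.node [10,8,10,8,8] (.node [10,8,10,8,10] .nil .nil) (.node [8,8,10] .nil .nil)) (.node [10,10,8] (.node [10] .nil .nil) .nil))))) (.node [10,10,8,10,8] (.node [10] (.node [10,10,10,8,8] (.node [10,8,10,10,10,8] (.node [10,8,8,10] (.node [8] .nil .nil) (.node [10,10,10] .nil .nil)) (.node [10,10,10,8] (.node [10,10,8,10,10] .nil .nil)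 (.node [8,10,8,8,8] .nil .nil))) (.node [8,8,8,8,8,8] (.node [8,8,8,8,8,8] (.node [10,10,8,8] .nil .nil) (.node [10,8,10,10,10] .nil .nil)) (.node [8,10,8,8,8] (.node [10,8,10,10,10,8] .nil .nil) .nil))) (.node [8,8,8,8] (.node [10,8,10,10,10] (.node [8,8,8,8,8,8] (.node [10,10,10,8,8] .nil .nil) (.node [10,8] .nil .nil)) (.node [8,8,10,8] (.node [10,8,8] .nil .nil) .nil)) (.node [10,8,10,8,8,8] (.node [8,8,10,10] (.node [10,10,8,8,10] .nil .nil) (.node [8,8,8,8] .nil .nil)) (.node [8,10,8,8] (.node [10,10,8,8,10,10] .nil .nil) .nil)))) (.node [10,8,10,8,8,8] (.node [10,8,10,8,8] (.node [10,8,10,10] (.node [8,8] (.node [10,10,8,10,10] .nil .nil) (.node [8,8,8,8,8] .nil .nil)) (.node [10,8,8,10,10] (.node [10,8,8] .nil .nil) (.node [8,8,8,8] .nil .nil))) (.node [10,8,8,10,10] (.node [10,8,10,8,8] (.node [8,10,8,8] .nil .nil) (.node [10,8,10,8,10,10] .nil .nil)) (.node [10,8,8,8] (.node [8,8,10] .nil .nil) .nil))) (.node [8,10,10,10,8] (.node [8,10,10,10]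 (.node [8,10,8,10,10] (.node [10,8,10,8] .nil .nil) (.node [8,10,8] .nil .nil)) (.node [10,10,10] (.node [10,8,10,8,10] .nil .nil) .nil)) (.node [8,10] (.node [10,10] (.node [8,8,8,8] .nil .nil) (.node [10,10,10,8,8] .nil .nil)) (.node [8,10] (.node [10,10,8,8,8] .nil .nil) .nil)))))) (.node [10,8,10,8,8] (.node [10,8,8] (.node [10,10,8,10,10] (.node [10,8,8,8,8] (.node [8,10,10,10] (.node [10,10,8] (.node [8,10,10,10] .nil .nil) (.node [] .nil .nil)) (.node [8,8,10,10,10] (.node [8,10] .nil .nil) (.node [10,10,8,10] .nil .nil))) (.node [8,10,8,8,8,8] (.node [10,8,8,10,10] (.node [8,8,10,10] .nil .nil) (.node [8,10,10] .nil .nil)) (.node [10,8,10] (.node [8,8,8,8] .nil .nil) .nil))) (.node [10,8] (.node [10,8,10,8,10,10] (.node [10,8,10,8,8] (.node [10,10,8,8,8] .nil .nil) (.node [10] .nil .nil)) (.node [8,8,10] (.node [10] .nil .nil) (.node [8,10,8,8] .nil .nil))) (.node [10,10,10,8,8] (.node [] (.node [8,8,10] .nil .nil) (.node [8,8,10,10,10] .nil .nil))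 (.node [10,8,10,8,10,10] (.node [10,8,10,8,10] .nil .nil) .nil)))) (.node [10,8,10] (.node [8,10,8,8,8] (.node [10,8,10] (.node [8,10,8,10,10] (.node [8,8,10,10] .nil .nil) (.node [10,10,10,8,8,10] .nil .nil)) (.node [10,8,8,8,8] (.node [8] .nil .nil) (.node [8,10,10] .nil .nil))) (.node [8,10,10,10,8] (.node [8,10,10,10,8] (.node [8,8] .nil .nil) (.node [10,8] .nil .nil)) (.node [10,8,10,10,10] (.node [8,10,10] .nil .nil) .nil))) (.node [10,8,10,10,10] (.node [10,8,10,8,10] (.node [10,10,8,8,10] (.node [8,8] .nil .nil) (.node [8,8,10,10,10] .nil .nil)) (.node [8,8] (.node [8,10,10,10] .nil .nil) .nil)) (.node [10,8,10,8,10,10] (.node [8,8,8,8,8] (.node [10,8] .nil .nil) (.node [8,8,8,8,8] .nil .nil)) (.node [8,10,8,10,10] (.node [10,10,10,8] .nil .nil) .nil))))) (.node [8,8,10,8,8] (.node [10,10,10,8,8] (.node [8,10,8,8,8] (.node [8,8,8,8,8] (.node [10,10,8,8,8] (.node [8,10,8,8,10] .nil .nil) (.node [8,10,10] .nil .nil)) (.node [10,8,10,10,10] (.node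 [10,8,10,8] .nil .nil) (.node [10,10,8,8,10,10] .nil .nil))) (.node [8,8,8] (.node [10,10,10] (.node [10,10,8,8] .nil .nil) (.node [10,8,10] .nil .nil)) (.node [10,10,8,10,10] (.node [8,8,10,10] .nil .nil) .nil))) (.node [10,10,10,8,8,10] (.node [10,8,10,8] (.node [10,8,10,10,10] (.node [8,10,10,10] .nil .nil) (.node [8,8,10,10] .nil .nil)) (.node [10,8,8] (.node [10,8,8,8] .nil .nil) .nil)) (.node [8,8,10,8] (.node [8,8,10,10] (.node [10,8,10,8,10,10] .nil .nil) (.node [10,10,8,8,10] .nil .nil)) (.node [8,8,8] (.node [8,8,8] .nil .nil) .nil)))) (.node [8,8,10,10,10] (.node [8,8,8] (.node [8,8,8,8,8,8] (.node [10,10,8,10,8] (.node [10,8,10,8,8,8] .nil .nil) (.node [10,8,10,8,8] .nil .nil)) (.node [8,10,10,10,8] (.node [10,8,10,8,8,8] .nil .nil) (.node [10,8,8,10] .nil .nil))) (.node [8,10,8,8,8] (.node [8,10,8,10,10] (.node [10,10,10] .nil .nil) (.node [] .nil .nil)) (.node [10,8,10,8,10] (.node [8,10,8,8,8,8] .nil .nil) .nil))) (.node [10,8,8] (.node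 [10,8,10,8,10] (.node [10,8,10,10,10,8] (.node [8,10,8,10] .nil .nil) (.node [10,8,10,8] .nil .nil)) (.node [8,10,8,8,8,8] (.node [10,8,8,8,8] .nil .nil) .nil)) (.node [8,8,8,8,8] (.node [8,10,8,10,10] (.node [8,10,10,10] .nil .nil) (.node [8,10,10] .nil .nil)) (.node [8,8,8] (.node [10,8,8,8,8] .nil .nil) .nil))))))) (.node [10,8,10,8,8] (.node [10,10,8,8,10] (.node [10,8,10,8,8] (.node [10,10] (.node [8,8,8,8] (.node [10,10,8] (.node [10,10,8] (.node [10,10,8] .nil .nil) (.node [10,8,8,8] .nil .nil)) (.node [10,8,10,8,10] (.node [10,8] .nil .nil) (.node [10,10,8,8,8] .nil .nil))) (.node [8] (.node [8,8,8,8,8,8] (.node [10,8,10,8,8,8] .nil .nil) (.node [10,8] .nil .nil)) (.node [10,10,10,8] (.node [10,10,10,8,8] .nil .nil) .nil))) (.node [10,10,10,8,8] (.node [8,10,8,8] (.node [10,10,8,10,10] (.node [8,10,10,10] .nil .nil) (.node [8,10,10,10,8] .nil .nil)) (.node [10,10,10] (.node [8,10,10,10,8] .nil .nil) (.node [10,8,10,10,10] .nil .nil))) (.node [8]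 (.node [8,8,10,10] (.node [8,8,8,8] .nil .nil) (.node [10] .nil .nil)) (.node [8,8] (.node [10,10,8,8] .nil .nil) .nil)))) (.node [8,8,8,8] (.node [10,8,10] (.node [10,10,10,8,8] (.node [10,10,8,10,8] (.node [10,10,10,8,8,10] .nil .nil) (.node [] .nil .nil)) (.node [10,8,10] (.node [8,10] .nil .nil) (.node [10,10,8,8,8] .nil .nil))) (.node [8,10,8,10] (.node [8,8,8,8,8,8] (.node [8,8] .nil .nil) (.node [8,10,8,8,8] .nil .nil)) (.node [8,8,10] (.node [8,8,10] .nil .nil) .nil))) (.node [8,8,8,8,8] (.node [10,8,10,10,10,8] (.node [10,8,8,10,10] (.node [10,8,10,10,10] .nil .nil) (.node [10,10,8,8,8] .nil .nil)) (.node [8,10,8,8,10] (.node [8,10,8,8] .nil .nil) .nil)) (.node [10,10,8,8] (.node [10,8,8] (.node [10,10,8,10,8] .nil .nil) (.node [10,8,10,8] .nil .nil)) (.node [] (.node [8,8,8,8] .nil .nil) .nil))))) (.node [8,8,8,8] (.node [10,8,8,10] (.node [] (.node [8,8,8,8] (.node [10,10,10,8] (.node [10,8,10,10,10] .nil .nil) (.node [10,8,8,8] .nil .nil))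 (.node [8,10,8,10,10] (.node [10,10,10] .nil .nil) (.node [8,8,8,8,8,8] .nil .nil))) (.node [10,10,8,8] (.node [10] (.node [8,10,8,8] .nil .nil) (.node [10,8,8,10,10] .nil .nil)) (.node [10,8,8,10,10] (.node [10,8,8,8,8] .nil .nil) .nil))) (.node [8,8,10,8,8] (.node [8,10,8,10] (.node [10,10,8] (.node [10,10,8,10,10] .nil .nil) (.node [10,10,8,10,10] .nil .nil)) (.node [10,8,10,8,10] (.node [10,8,8,10,10] .nil .nil) .nil)) (.node [8,10,10,10] (.node [10,10,10,8,8,10] (.node [10,8,10,8] .nil .nil) (.node [10,8,10,8] .nil .nil)) (.node [10,10,8,8,10] (.node [10,10,10,8,8,10] .nil .nil) .nil)))) (.node [10,10,8,10] (.node [8,10,8,8] (.node [8,10,8,8,8] (.node [8,8,10,8] (.node [10,10,8,8,10] .nil .nil) (.node [8,10,8,10] .nil .nil)) (.node [8,10,8,10] (.node [10,10,10,8,8,10] .nil .nil) (.node [8,8,10,10,10] .nil .nil))) (.node [10,8,10,8,10,10] (.node [10,8,8,10] (.node [8,10,8] .nil .nil) (.node [10,10,10] .nil .nil)) (.node [10,10,8,8,10,10] (.node [10,8,8,10,10]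 .nil .nil) .nil))) (.node [10,10,10] (.node [8,8,8,8,8,8] (.node [10,8,8,10,10] (.node [8] .nil .nil) (.node [10,8,8,8,8] .nil .nil)) (.node [10,8,10] (.node [10,8,10] .nil .nil) .nil)) (.node [10,8,8,8] (.node [8,8,10,8,8] (.node [8,10,8,8] .nil .nil) (.node [10,8,8] .nil .nil)) (.node [] (.node [8,10,8,8,10] .nil .nil) .nil)))))) (.node [8,10,8,10,10] (.node [10,10,10,8,8] (.node [8] (.node [8,8,10,10,10] (.node [10,8] (.node [10,8,10,8,10,10] (.node [10,10,8,8,10] .nil .nil) (.node [8,10,8] .nil .nil)) (.node [10,10,10,8,8,10] (.node [10,10,8] .nil .nil) (.node [8,8,8] .nil .nil))) (.node [10,10,8,8] (.node [8,10,8,8,8] (.node [10,8,8,10,10] .nil .nil) (.node [8,8,10,8] .nil .nil)) (.node [10,10,10] (.node [] .nil .nil) .nil))) (.node [8,10,10,10,8] (.node [8,8,8] (.node [10,8] (.node [10,8] .nil .nil) (.node [8,10] .nil .nil)) (.node [8,8,10] (.node [8,8,8,8,8] .nil .nil) (.node [8,10,8] .nil .nil))) (.node [8,10,10,10,8] (.node [8,8,10,8,8] (.node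 [10,10,8,8,8] .nil .nil) (.node [8,8,10,10,10] .nil .nil)) (.node [8,8,8,8] (.node [10,8,10,8,10] .nil .nil) .nil)))) (.node [8,10,8,8] (.node [10,10,8,8] (.node [10,8,10,8,10,10] (.node [10,10,10] (.node [8,10,8,8,8] .nil .nil) (.node [10,8,10,8] .nil .nil)) (.node [10,10,8,8] (.node [8,10,8,8] .nil .nil) (.node [10,10,8,8,8] .nil .nil))) (.node [10,8,10,10,10,8] (.node [10,8,10,8,10,10] (.node [10,8,10,10] .nil .nil) (.node [8,8,10,10] .nil .nil)) (.node [8,10,10,10,8] (.node [8] .nil .nil) .nil))) (.node [10,10,8] (.node [8,10,10] (.node [10,8,10,8,10,10] (.node [8,10,10,10] .nil .nil) (.node [10,10] .nil .nil)) (.node [10,10,10,8,8] (.node [10,10,8,10,8] .nil .nil) .nil)) (.node [8,8,8,8,8,8] (.node [10,8,10,10,10,8] (.node [10,10,10] .nil .nil) (.node [10,10,8,8,8] .nil .nil)) (.node [10,8,8] (.node [10,8,10,8,10,10] .nil .nil) .nil))))) (.node [8,10,8,10] (.node [8,10,8,8] (.node [8,10,8,8,10] (.node [8,8,10,10,10] (.node [10,8,8,10] (.node [10,8,8,8,8]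 .nil .nil) (.node [] .nil .nil)) (.node [8,8,10,10] (.node [10,10,10,8] .nil .nil) (.node [8,8] .nil .nil))) (.node [10,8,10,10,10] (.node [10] (.node [10,8] .nil .nil) (.node [10,8,10,10] .nil .nil)) (.node [8,10,8,8,10] (.node [8] .nil .nil) .nil))) (.node [10,10,8,8,10] (.node [8,10,10,10,8] (.node [10,8,10,8,10] (.node [8,10,8,8,8,8] .nil .nil) (.node [10,10,8,8,10] .nil .nil)) (.node [8,10] (.node [8,10,10] .nil .nil) .nil)) (.node [10,8,8,10,10] (.node [10,8,10,10,10,8] (.node [10,10] .nil .nil) (.node [8,8,8,8] .nil .nil)) (.node [8,8,8,8] (.node [10,8,10,8,8] .nil .nil) .nil)))) (.node [8] (.node [10,8,10,8,10] (.node [10,10,8,10,10] (.node [10,8,8,8] (.node [10,8,8] .nil .nil) (.node [10,8,10,10,10,8] .nil .nil)) (.node [8] (.node [8,10] .nil .nil) (.node [8,10,8,8,8,8] .nil .nil))) (.node [8,10,10,10,8] (.node [8,10,10,10,8] (.node [8,8,10] .nil .nil) (.node [10,8,10,8] .nil .nil)) (.node [10,10,8,10,8] (.node [8,10,8,10,10] .nil .nil) .nil)))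 (.node [8,8,10,10,10] (.node [8,8,8,8] (.node [8,8,8,8] (.node [10,10,8,8,10] .nil .nil) (.node [10,10,8] .nil .nil)) (.node [10,8,10,8] (.node [10,8] .nil .nil) .nil)) (.node [10,8,10] (.node [10] (.node [8,8] .nil .nil) (.node [10,8,10] .nil .nil)) (.node [8] (.node [10,10,8,8] .nil .nil) .nil))))))))

/-- Part of `moveWord`. -/
noncomputable def moveWord_r_r_r_l_r : Arr (List ℕ) :=
  (.node [10,10,8,8] (.node [10,10] (.node [8] (.node [10,10,8,8,10,10] (.node [10,10,8,8] (.node [10,8,10,8,8] (.node [8,8,10,10,10] (.node [10] (.node [10,8,10,8] .nil .nil) (.node [10,8,10,8,8,8] .nil .nil)) (.node [8,8,8,8,8,8] (.node [8,10,10] .nil .nil) (.node [10,8,10,8,10] .nil .nil))) (.node [8,8,10] (.node [8,10,8,8,8,8] (.node [8,10] .nil .nil) (.node [10,8,10,8,10,10] .nil .nil)) (.node [10,8,8,10] (.node [8,10,10] .nil .nil) .nil))) (.node [8,10,8,8,8] (.node [8,8,10,8,8] (.node [10,8,10,10,10] (.node [8,10,10,10] .nil .nil) (.node [10,8,10,8,8] .nil .nil)) (.node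 [8,8,8,8,8] (.node [8,10,10,10] .nil .nil) (.node [8,10,8,8,10] .nil .nil))) (.node [10,8,10,10,10,8] (.node [10,8,10,10] (.node [10,10,10] .nil .nil) (.node [10,10] .nil .nil)) (.node [10,10,10,8,8] (.node [10,10,8,10,10] .nil .nil) .nil)))) (.node [10,10,8,10,8] (.node [8,10,8,8,8,8] (.node [10,8] (.node [10,10,8,8,10] (.node [10,10,8,8] .nil .nil) (.node [8,10,10] .nil .nil)) (.node [10,8,10,8] (.node [] .nil .nil) (.node [10,8] .nil .nil))) (.node [10,8,10,8,10,10] (.node [10,10,10,8,8] (.node [8,10,8,10,10] .nil .nil) (.node [8,10,8,10,10] .nil .nil)) (.node [10,8,10,8,8] (.node [10,8,10,10,10] .nil .nil) .nil))) (.node [8,10,10,10] (.node [8,10] (.node [10,8,10,10,10,8] (.node [10,8,10,8] .nil .nil) (.node [8,10,8,8] .nil .nil)) (.node [10,8,8,8,8] (.node [10,8,10,10] .nil .nil) .nil)) (.node [8,10] (.node [10,8,10,8,8,8] (.node [10,8,8,10] .nil .nil) (.node [10,8,10,8,10,10] .nil .nil)) (.node [10,8,10,10,10,8] (.node [10,10,8] .nil .nil) .nil)))))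 (.node [8,10,8,8,10] (.node [10,8,8,10] (.node [8] (.node [10,8,8,8,8] (.node [8,8,8,8] (.node [8,10,8] .nil .nil) (.node [8,8,8] .nil .nil)) (.node [8,10,10] (.node [10,8,8] .nil .nil) (.node [8,8,8,8,8] .nil .nil))) (.node [8,10,8] (.node [10,10,8,8,10] (.node [10,8,10,8,10] .nil .nil) (.node [8,10,8,8,8,8] .nil .nil)) (.node [10,10,10,8,8] (.node [10,8,10,8,8] .nil .nil) .nil))) (.node [8,8] (.node [8,10,8,10] (.node [8,10,10,10] (.node [10,8,8,8] .nil .nil) (.node [8,10,8,8,8] .nil .nil)) (.node [10,8,8,8,8] (.node [10,10,8,8,10,10] .nil .nil) .nil)) (.node [10,8,8] (.node [8,10,8,10] (.node [8,10,8,8,10] .nil .nil) (.node [10,10,10] .nil .nil)) (.node [8,10,10] (.node [10,10,8,8] .nil .nil) .nil)))) (.node [8,10] (.node [8,8] (.node [8,10,8,10] (.node [10,10,8,8] (.node [] .nil .nil) (.node [10,8,10,10,10,8] .nil .nil)) (.node [8,10,8,8,10] (.node [8,10] .nil .nil) (.node [10,10,8,10] .nil .nil))) (.node [10,10,8,8,10,10] (.node [10,8,8,10] (.node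 [8,10,10,10] .nil .nil) (.node [10,10] .nil .nil)) (.node [8] (.node [8,8,8] .nil .nil) .nil))) (.node [8,8,8,8,8,8] (.node [8,8,8,8,8,8] (.node [10,10,8,8,8] (.node [8,8,8,8,8,8] .nil .nil) (.node [10,8,10,8] .nil .nil)) (.node [8,8,10,8,8] (.node [8,10,8,10] .nil .nil) .nil)) (.node [10,8,10,8,10,10] (.node [10,8,10,8,8] (.node [10,8,10] .nil .nil) (.node [8,10,8,8,8] .nil .nil)) (.node [10,10,8,8,10] (.node [8,8] .nil .nil) .nil)))))) (.node [8] (.node [10,10,10,8] (.node [10,10,10,8,8] (.node [10,10,10,8,8] (.node [10,10,10,8,8,10] (.node [8,8,10,10,10] (.node [8,8] .nil .nil) (.node [8,10,8] .nil .nil)) (.node [10,10,10,8,8] (.node [8,8,10,8,8] .nil .nil) (.node [8,10,8,8,8,8] .nil .nil))) (.node [10,8,10,8] (.node [10,8,8] (.node [10,8,10,8] .nil .nil) (.node [10,10,8,8,8] .nil .nil)) (.node [10,10,8,10,8] (.node [8,10,8,8,10] .nil .nil) .nil))) (.node [10,8,10,8,10] (.node [10,8,10,8,10] (.node [10,10,10,8,8,10] (.node [10,8,10,10,10] .nil .nil)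 (.node [10,8,8,10] .nil .nil)) (.node [8,8,8,8] (.node [8,8,8,8] .nil .nil) (.node [8] .nil .nil))) (.node [10,8,10,8,10,10] (.node [10,10,8,10] (.node [8,8,8] .nil .nil) (.node [8,10,8,8,8] .nil .nil)) (.node [10,10,8,10,10] (.node [10,10,8,10,10] .nil .nil) .nil)))) (.node [10,8,10,8,10,10] (.node [10,8,10,10,10] (.node [8] (.node [10,10,8,10,8] (.node [10,10] .nil .nil) (.node [8,8,10,10] .nil .nil)) (.node [8,8] (.node [8,8,10,10] .nil .nil) (.node [8,10,8,10] .nil .nil))) (.node [10,8,8,8] (.node [8,8] (.node [10,8,10,8,10,10] .nil .nil) (.node [10,10,8,8] .nil .nil)) (.node [8,8,10,8,8] (.node [8,10,10,10,8] .nil .nil) .nil))) (.node [10,10,8,8,8] (.node [8,10,8] (.node [10,10,8,8,10] (.node [10,10,8] .nil .nil) (.node [10,8,8,8] .nil .nil)) (.node [8,8,10,8,8] (.node [8,8,8] .nil .nil) .nil)) (.node [10,8,10] (.node [8,10,8,10] (.node [10,8,8] .nil .nil) (.node [10,10,8,10] .nil .nil)) (.node [10,8,10,8,8,8] (.node [8,8,10,10] .nil .nil) .nil)))))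 (.node [10,8,8,10,10] (.node [8,8,10,8] (.node [8,10,10,10] (.node [8,10,8,10,10] (.node [8,10,8,8] (.node [10,8,10] .nil .nil) (.node [] .nil .nil)) (.node [10,8,10,8] (.node [8,10,8,8,10] .nil .nil) (.node [10,8,8,8] .nil .nil))) (.node [10,8,10] (.node [10,8,10,8,8,8] (.node [10,8,10] .nil .nil) (.node [8,10,10,10] .nil .nil)) (.node [10] (.node [10,10,10,8] .nil .nil) .nil))) (.node [8,10,8,8,10] (.node [10,8,10,8,10] (.node [10,8,10,8,10] (.node [10,8,10,8] .nil .nil) (.node [8,10,10,10,8] .nil .nil)) (.node [10,10,8,10,10] (.node [10,8,10,10] .nil .nil) .nil)) (.node [8,10,10,10] (.node [8,10,8] (.node [10,10,8,8,10,10] .nil .nil) (.node [10] .nil .nil)) (.node [10,10,10,8] (.node [8,8,10] .nil .nil) .nil)))) (.node [10,8,10,8,10,10] (.node [8,8,10,8,8] (.node [8,10,8] (.node [8,8] (.node [8] .nil .nil) (.node [8,8,10,8] .nil .nil)) (.node [10,10,10,8] (.node [8,10,8,10,10] .nil .nil) (.node [10,10,8,8,10,10] .nil .nil))) (.node [8,10,10,10,8] (.node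 [8,10,10,10,8] (.node [10,10,10,8,8,10] .nil .nil) (.node [8,10,8,10] .nil .nil)) (.node [8,8,10,10,10] (.node [8,8] .nil .nil) .nil))) (.node [8,10,10,10,8] (.node [8,10,10,10] (.node [10,8,8,10,10] (.node [8,8,10,8] .nil .nil) (.node [10,8] .nil .nil)) (.node [10,8,8,8] (.node [10,10,8,10,10] .nil .nil) .nil)) (.node [8,10,8,10] (.node [10,10,8] (.node [10,8,10,10,10,8] .nil .nil) (.node [8,8,8] .nil .nil)) (.node [10,10,8,8,10,10] (.node [10,10,8] .nil .nil) .nil))))))) (.node [10,8] (.node [8,8,10,8,8] (.node [10,8,10,8,10,10] (.node [8,8] (.node [8,10,10,10,8] (.node [10,8,10,8] (.node [8,8,8,8,8,8] (.node [8,8,10,10] .nil .nil) (.node [10,10,8] .nil .nil)) (.node [10] (.node [10,8,8,8] .nil .nil) (.node [10] .nil .nil))) (.node [8,10,8,10,10] (.node [10,10,10] (.node [8,8,10] .nil .nil) (.node [10,10] .nil .nil)) (.node [8,10,10,10,8] (.node [10,10,8,8,8] .nil .nil) .nil))) (.node [8,8,10,8] (.node [8,8,10,8,8] (.node [10,10,10,8,8,10] (.node [10,8,10,8]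 .nil .nil) (.node [8,8,10,10,10] .nil .nil)) (.node [10,10,8,8,10,10] (.node [10,8,10,8] .nil .nil) (.node [8,10,10,10,8] .nil .nil))) (.node [8,10,8,8,10] (.node [10,8,8] (.node [10,10,8,8] .nil .nil) (.node [8,8,8,8] .nil .nil)) (.node [10,8,10,8,10] (.node [10,8,10,10] .nil .nil) .nil)))) (.node [10,8,8] (.node [10,10,8,10,10] (.node [10,10,10,8,8] (.node [10,10,8,8,10] (.node [10,10,8,10] .nil .nil) (.node [8,10,10,10] .nil .nil)) (.node [8,10,10,10,8] (.node [8,10,8,10] .nil .nil) (.node [8,10,8,8] .nil .nil))) (.node [8,10,8,8,8] (.node [8,10,10,10] (.node [10,8,10] .nil .nil) (.node [8,8,8,8] .nil .nil)) (.node [8,8,10,10,10] (.node [8,8,10,8] .nil .nil) .nil))) (.node [10,8,10,8,8] (.node [8,8] (.node [10,10,8,10,10] (.node [8,8,10,8,8] .nil .nil) (.node [8,8,10,8,8] .nil .nil)) (.node [10,10,8,10,10] (.node [8,8,10,10] .nil .nil) .nil)) (.node [10,8,8,10,10] (.node [8,8,10,10,10] (.node [10,10,8,10] .nil .nil) (.node [] .nil .nil)) (.node [10,8,10]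 (.node [8,8] .nil .nil) .nil))))) (.node [10,8,10,8,10] (.node [10,10,8] (.node [8,8,10,8,8] (.node [8,10,8,10,10] (.node [10] (.node [10,8,10,8,8,8] .nil .nil) (.node [] .nil .nil)) (.node [10,10,8,8] (.node [8,10,8,8,10] .nil .nil) (.node [8,8,10,8] .nil .nil))) (.node [8,10,8,10,10] (.node [8,8,8,8,8] (.node [8,8,10,8,8] .nil .nil) (.node [8,8,10,10] .nil .nil)) (.node [8,10,10,10] (.node [10,10,8,8,8] .nil .nil) .nil))) (.node [8,10,8,10,10] (.node [10,8,8,10] (.node [10,10,8,10,10] (.node [10,10,8,10,8] .nil .nil) (.node [8,10,8,8,10] .nil .nil)) (.node [8,10,10,10] (.node [10] .nil .nil) .nil)) (.node [10,8,8,8,8] (.node [10,8,8,8,8] (.node [10,8] .nil .nil) (.node [8,10,8,10,10] .nil .nil)) (.node [8,10,10,10] (.node [10,10,8,8,8] .nil .nil) .nil)))) (.node [10,10,10] (.node [8,8,8,8] (.node [10,8,8,10,10] (.node [10,8,8,10] (.node [8,8,8,8] .nil .nil) (.node [8,10,8,10,10] .nil .nil)) (.node [10,8,10,8,10,10] (.node [8,8,8,8] .nil .nil) (.node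 [8,8,8] .nil .nil))) (.node [10,10,10] (.node [8,10,8,10,10] (.node [10,8] .nil .nil) (.node [8,8] .nil .nil)) (.node [10,10,8,8,10,10] (.node [10,10,10,8] .nil .nil) .nil))) (.node [8,8,10,10,10] (.node [8,10,10,10,8] (.node [10,10,8,8,8] (.node [10,10,8,10,8] .nil .nil) (.node [8,8,8,8,8,8] .nil .nil)) (.node [8,8,10,10,10] (.node [8,10] .nil .nil) .nil)) (.node [10,8,8,8] (.node [10] (.node [10,8,10] .nil .nil) (.node [10,8,10] .nil .nil)) (.node [10,8,10,8,8] (.node [10,10,8,10] .nil .nil) .nil)))))) (.node [10,10,10,8] (.node [8,10,10] (.node [8,10,10,10,8] (.node [10,8,10,8] (.node [10,8,10,10,10] (.node [10,10,10,8,8] (.node [] .nil .nil) (.node [8,8,8,8,8] .nil .nil)) (.node [8,10] (.node [10,10] .nil .nil) (.node [8,10,8,10] .nil .nil))) (.node [10,10,10,8,8] (.node [10,10,8,10,10] (.node [10,10,8,8,8] .nil .nil) (.node [10,8,10,8,8,8] .nil .nil)) (.node [8,8,10,8,8] (.node [10,8,10,8] .nil .nil) .nil))) (.node [8,10,8,10] (.node [10,10,8,8,10]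 (.node [10,8,8,8,8] (.node [8,8,8,8] .nil .nil) (.node [10,10,8,8] .nil .nil)) (.node [10,10,8] (.node [10,8,10,8] .nil .nil) (.node [8,8,10] .nil .nil))) (.node [10,8,10,8,10,10] (.node [10,10,10,8,8] (.node [10,10,10,8,8] .nil .nil) (.node [10,8,10,10,10,8] .nil .nil)) (.node [8,10,8,8,10] (.node [10,8,8] .nil .nil) .nil)))) (.node [8,8] (.node [10,8,8,8] (.node [8,10,8] (.node [10,10,8,10] (.node [8,8,8] .nil .nil) (.node [10,10,10,8,8,10] .nil .nil)) (.node [10,10,10,8,8,10] (.node [8,8,8,8,8] .nil .nil) (.node [10,10,8,10] .nil .nil))) (.node [10,8] (.node [8,10] (.node [10,8,10,8,10,10] .nil .nil) (.node [10,8,10,8,8,8] .nil .nil)) (.node [8,8,10,8] (.node [10,10,8,8,10] .nil .nil) .nil))) (.node [8,8,10,8,8] (.node [8,8,8,8,8,8] (.node [8,8,10,8] (.node [8,10,10] .nil .nil) (.node [] .nil .nil)) (.node [8,10,8,8] (.node [8,10,8,10] .nil .nil) .nil)) (.node [10,10,8,8] (.node [10,8,10,8,10,10] (.node [10,10,10,8,8] .nil .nil) (.node [8,10] .nil .nil))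 (.node [8,10,8,8] (.node [10,8,8] .nil .nil) .nil))))) (.node [8,8,8] (.node [10,8,8] (.node [10,10,8,10,10] (.node [8,8,10,8] (.node [8,8,8] (.node [8,10,10,10,8] .nil .nil) (.node [10,10,8,8] .nil .nil)) (.node [10,10,8,8] (.node [10,8,10,10,10,8] .nil .nil) (.node [10,10,8,10,8] .nil .nil))) (.node [10,10,8,8,10,10] (.node [10,8,10,8,8] (.node [10,8,10,10] .nil .nil) (.node [] .nil .nil)) (.node [10,8,10] (.node [8] .nil .nil) .nil))) (.node [10,10,8,8,8] (.node [8,8,10] (.node [8,10,8,8,10] (.node [8,10,8,10] .nil .nil) (.node [10,8,10,8,8] .nil .nil)) (.node [10] (.node [8,8] .nil .nil) .nil)) (.node [10,8,10,8] (.node [10,10,8] (.node [8,10,8,8,8] .nil .nil) (.node [10,10,8,10,8] .nil .nil)) (.node [8,8,10] (.node [8,8,8] .nil .nil) .nil)))) (.node [10,8] (.node [8,8,8,8,8,8] (.node [10,8,8,10,10] (.node [10,10,8,8,10,10] (.node [10,8,10,8,8] .nil .nil) (.node [10,8,10,8,8,8] .nil .nil)) (.node [10,8,8,8,8] (.node [10,8,10,8,10,10] .nil .nil) (.node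 [8,10,10] .nil .nil))) (.node [8,10,10,10] (.node [10,10,8,10] (.node [] .nil .nil) (.node [10,8,10] .nil .nil)) (.node [10,8,8,10] (.node [8,10,8,8,8,8] .nil .nil) .nil))) (.node [8,10,8,8,10] (.node [10,8,10,10] (.node [8,10,10,10] (.node [8,8,10,10,10] .nil .nil) (.node [8] .nil .nil)) (.node [8,10,8,8] (.node [10,8,10,10] .nil .nil) .nil)) (.node [10,10,8] (.node [8,8,8] (.node [8,10,10,10,8] .nil .nil) (.node [8,8,10,10] .nil .nil)) (.node [8,8] (.node [10,8,8,8,8] .nil .nil) .nil))))))))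

/-- Part of `moveWord`. -/
noncomputable def moveWord_r_r_r_l : Arr (List ℕ) :=
  .node [] moveWord_r_r_r_l_l moveWord_r_r_r_l_r

/-- Part of `moveWord`. -/
noncomputable def moveWord_r_r_r_r_l : Arr (List ℕ) :=
  (.node [8,10,8,8,8,8] (.node [8,10,8,8,8] (.node [8,10,8,8,10] (.node [10,8,10,8,10] (.node [10,8,8] (.node [8,8,10,8,8] (.node [8,8,8] (.node [10,10] (.node [10,10,8,8,10,10] .nil .nil) (.node [8,10,8,8,8] .nil .nil)) (.node [8,10,8,8,10] (.node [10,8,10,8] .nil .nil) (.node [8,10,8,10] .nil .nil))) (.node [8,10,10] (.node [10,8,8,10] (.node [10,10,10,8,8] .nil .nil) (.node [8,10,8,8,8] .nil .nil)) (.node [10,8,10,8,10,10] (.node [10] .nil .nil) .nil))) (.node [10,10,8,8,8] (.node [8,10,8,8,8] (.node [8,8,8,8] (.node [10,10,8,8,10,10] .nil .nil) (.node [10,10,8,10,8] .nil .nil)) (.node [10,10,10,8,8] (.node [10,10,8,10] .nil .nil) (.node [8,8,8,8,8] .nil .nil))) (.node [10,10,8,8,10] (.node [8,10,8] (.node [10,8,8,10] .nil .nil) (.node [10,10,8]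 .nil .nil)) (.node [8,8,10,8,8] (.node [10,10,8,10,8] .nil .nil) .nil)))) (.node [8,10,8,8] (.node [10,8,10,10] (.node [10,8,8,8] (.node [8,10,8,8,8] (.node [10,10,8] .nil .nil) (.node [10,10,10,8] .nil .nil)) (.node [8,10,8,8,10] (.node [10,10,10,8,8] .nil .nil) (.node [10,10,8,10] .nil .nil))) (.node [10,8,8,8] (.node [10,8,10,10,10] (.node [8,8,10,10] .nil .nil) (.node [10,8,8,8] .nil .nil)) (.node [8,10,8,8,10] (.node [10,8,8,8] .nil .nil) .nil))) (.node [8,10] (.node [8] (.node [10,8,10,10,10] (.node [10,8,10,8,10] .nil .nil) (.node [8,10,8] .nil .nil)) (.node [10,8] (.node [8,10,8,8,8] .nil .nil) .nil)) (.node [10,8,8,10] (.node [10,8,10,10] (.node [10,10,8,8,8] .nil .nil) (.node [10,8,10,8,8,8] .nil .nil)) (.node [10,8] (.node [10,10,8,8,10,10] .nil .nil) .nil))))) (.node [8,10,8,10] (.node [10,10,10,8,8,10] (.node [10,10,10,8,8] (.node [10,8,8] (.node [10,8,10,10,10,8] (.node [10,10] .nil .nil) (.node [8,8] .nil .nil)) (.node [8,8,10,8,8] (.node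 [10,8,8,10,10] .nil .nil) (.node [10,10,10,8,8] .nil .nil))) (.node [8,10] (.node [10,10,8,10,8] (.node [10,8,8,10] .nil .nil) (.node [10,10] .nil .nil)) (.node [10,10,8,10] (.node [10,8,10] .nil .nil) .nil))) (.node [] (.node [10,8,10,8] (.node [10,10] (.node [8,10,8,8,10] .nil .nil) (.node [8,10,10] .nil .nil)) (.node [8,8,8,8,8] (.node [10,8,8,10,10] .nil .nil) .nil)) (.node [10,8,10,8,8] (.node [8,8,10] (.node [8,8,10,10] .nil .nil) (.node [8,10,8,8,8] .nil .nil)) (.node [8,10,10,10,8] (.node [8,10,10,10,8] .nil .nil) .nil)))) (.node [8] (.node [8,8,8,8] (.node [8,10,10] (.node [10,10,10] (.node [10,10,8] .nil .nil) (.node [10,8,10,8] .nil .nil)) (.node [10,8,10,8,8,8] (.node [10,10,8,10] .nil .nil) (.node [] .nil .nil))) (.node [8,10,8,8,8] (.node [10,10,8] (.node [8,8] .nil .nil) (.node [10,8,10,10] .nil .nil)) (.node [10,8,8] (.node [10,8,8] .nil .nil) .nil))) (.node [8,10,10,10,8] (.node [8,10,10] (.node [10,10,10] (.node [10,8,10,10,10] .nil .nil)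 (.node [10,10,10] .nil .nil)) (.node [10,10,8] (.node [10,8,10,8,8,8] .nil .nil) .nil)) (.node [8,8,10,10] (.node [8,8,8,8,8,8] (.node [10,8,10,8,8,8] .nil .nil) (.node [10,10] .nil .nil)) (.node [10,8,8,8,8] (.node [8,8,10,8,8] .nil .nil) .nil)))))) (.node [8,10,10,10] (.node [8,10,8] (.node [8,10,8,8,8] (.node [8,10,8,8,10] (.node [10,8,10,10] (.node [8] (.node [10,8,8,10] .nil .nil) (.node [8,8,10,10,10] .nil .nil)) (.node [10,10,8,8,10,10] (.node [10,8,10,8] .nil .nil) (.node [10,10] .nil .nil))) (.node [10,8,10,8,10,10] (.node [10,10,8,10] (.node [8,8,8,8,8] .nil .nil) (.node [10,8,8] .nil .nil)) (.node [] (.node [10,8,8,8,8] .nil .nil) .nil))) (.node [10,10,8,10,10] (.node [10,8,8,8] (.node [10,8,10] (.node [8,10,10] .nil .nil) (.node [10,8,10,10,10] .nil .nil)) (.node [10,10,8,10] (.node [8,8,10,8,8] .nil .nil) (.node [8,8,10,8,8] .nil .nil))) (.node [10,8,8,8] (.node [8,8] (.node [10,10,8] .nil .nil) (.node [8,8,8,8] .nil .nil)) (.node [8,8,10,8]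 (.node [10,8] .nil .nil) .nil)))) (.node [10,10,10,8,8,10] (.node [8,10,8,8,8] (.node [10,10,8,8,10] (.node [10,8,10,10,10] (.node [10,10,10] .nil .nil) (.node [10,8,10,10,10,8] .nil .nil)) (.node [10,8,8,10,10] (.node [8,10,8,8] .nil .nil) (.node [8,10] .nil .nil))) (.node [8,10,10,10] (.node [10,8,10,8,8,8] (.node [10,10] .nil .nil) (.node [10,10,8,8,10] .nil .nil)) (.node [10,10,8,8,10] (.node [10,10,8,8,8] .nil .nil) .nil))) (.node [8,10,8,10,10] (.node [10,8,10,10,10,8] (.node [10,10,8,10,8] (.node [8,8,8,8] .nil .nil) (.node [10,8,10,8,10,10] .nil .nil)) (.node [8,10,8,8,8] (.node [10,10,8,8,8] .nil .nil) .nil)) (.node [10,10,8,8,10] (.node [10,10,8,8,10,10] (.node [10,8,10,8,8,8] .nil .nil) (.node [10,8,10,8,8,8] .nil .nil)) (.node [8,8,8,8,8,8] (.node [10,10,8,8,10] .nil .nil) .nil))))) (.node [10,8,10,8,8,8] (.node [10,8,10,8,10,10] (.node [10,8,10,10,10] (.node [10,10,8,8,10] (.node [8,10,10,10,8] (.node [8,10,8,8,8,8] .nil .nil) (.node [8,10,8,10]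 .nil .nil)) (.node [8,10,10,10] (.node [8,10,8,8] .nil .nil) (.node [10,8,10,10,10,8] .nil .nil))) (.node [8,10,10] (.node [10,10,8,8,8] (.node [10,8,10,10] .nil .nil) (.node [8,10,10,10] .nil .nil)) (.node [10,8,10,10] (.node [10,8,10,10] .nil .nil) .nil))) (.node [10,10] (.node [8,8,8] (.node [10,8,10] (.node [8,8,10,10,10] .nil .nil) (.node [10,10,8,8] .nil .nil)) (.node [8,10,10] (.node [8,10,8,8,10] .nil .nil) .nil)) (.node [10,8,10,8,10] (.node [10,10,8,8,8] (.node [10,10,10] .nil .nil) (.node [8,10,8,8,10] .nil .nil)) (.node [10,8,10,8,8] (.node [10,8,10,10] .nil .nil) .nil)))) (.node [8,10,10] (.node [10,8,8,10] (.node [10,10,8,8] (.node [8,10,8] (.node [10,10,8,8] .nil .nil) (.node [10,8,10,10,10] .nil .nil)) (.node [10,8] (.node [10,8,8,8] .nil .nil) (.node [8,8,10,10] .nil .nil))) (.node [10,8,10,8,10,10] (.node [10,8,10,10] (.node [10,8,8,8,8] .nil .nil) (.node [10,10] .nil .nil)) (.node [8,8,10,8] (.node [8,8,10,8,8] .nil .nil) .nil))) (.node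 [10,8,10,8,8] (.node [8,8,8,8,8] (.node [10,10,8,10,10] (.node [10,10,8,10] .nil .nil) (.node [10,8,10,10] .nil .nil)) (.node [10,10,10] (.node [8,8,8,8,8,8] .nil .nil) .nil)) (.node [10,10,8,8,10] (.node [8,10,10,10,8] (.node [10,10,10,8] .nil .nil) (.node [8,10,10,10,8] .nil .nil)) (.node [8] (.node [10,8,10,10,10] .nil .nil) .nil))))))) (.node [10,10,8,8,8] (.node [10,8,10,10] (.node [8,10,8,8,10] (.node [10,8,8,8,8] (.node [10,10,8,10,8] (.node [10,10,8] (.node [10,10,8,8,10,10] (.node [10,8,10,8,10,10] .nil .nil) (.node [8,10,8,10] .nil .nil)) (.node [8,10,8,10,10] (.node [8,10,10] .nil .nil) (.node [10,10,8,8] .nil .nil))) (.node [8,10,10,10] (.node [8,8,10,10] (.node [] .nil .nil) (.node [10] .nil .nil)) (.node [10,10,8,10,10] (.node [10,10,8,8] .nil .nil) .nil))) (.node [8,10,10,10] (.node [10,10,8,8,8] (.node [10,10,8,10,8] (.node [10,10,8,8] .nil .nil) (.node [10,10,10,8] .nil .nil)) (.node [10,8,10,10] (.node [8,8,10,8] .nil .nil) (.node [8,8,8,8]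 .nil .nil))) (.node [8,8,8,8,8] (.node [8,8,8,8] (.node [10,10,8,8,10] .nil .nil) (.node [10,8,10,8,8,8] .nil .nil)) (.node [10,10,10,8,8,10] (.node [8,8,8,8] .nil .nil) .nil)))) (.node [10,10,10] (.node [10,10,10,8,8] (.node [8,10,10,10] (.node [8,10,8,10,10] (.node [8,8,8,8,8] .nil .nil) (.node [10,10,8,10,8] .nil .nil)) (.node [10,8,8] (.node [8,10,8,8,10] .nil .nil) (.node [8,10] .nil .nil))) (.node [8,10,8,10,10] (.node [8,10,8] (.node [10,8] .nil .nil) (.node [10,10,8,10,8] .nil .nil)) (.node [10,8,8,8] (.node [8,10,8,8,10] .nil .nil) .nil))) (.node [10,8,8,10,10] (.node [10,8,10,10,10,8] (.node [8,10,8,8,10] (.node [8] .nil .nil) (.node [10,8,10,8,8] .nil .nil)) (.node [8,8,10,10,10] (.node [8,10,8,8,8,8] .nil .nil) .nil)) (.node [8,8,10,8,8] (.node [8] (.node [10,8,10,8,8,8] .nil .nil) (.node [10,10,8,8] .nil .nil)) (.node [8,10,10] (.node [8,10,8,8,8] .nil .nil) .nil))))) (.node [8,10] (.node [8,8,10,8] (.node [10,8,10] (.node [10] (.node [10,10,10]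 (.node [10,10,10,8,8] .nil .nil) (.node [8,8,10] .nil .nil)) (.node [8,10,8] (.node [10,10,10,8,8] .nil .nil) (.node [10,8,10,10,10] .nil .nil))) (.node [8,10,8,8,8] (.node [10,8,8,10,10] (.node [8,10,8,8,8,8] .nil .nil) (.node [10,8,10,10,10] .nil .nil)) (.node [10,8,10,8,10,10] (.node [8,10,8,8] .nil .nil) .nil))) (.node [10,8,10,8] (.node [10,10,8,8,10,10] (.node [10,10,10,8] (.node [10,8,8,10,10] .nil .nil) (.node [10,8,8,8] .nil .nil)) (.node [10,8,8,8] (.node [8,10,8,8,10] .nil .nil) .nil)) (.node [8,10,8,8] (.node [8,8,8,8,8,8] (.node [8,10] .nil .nil) (.node [10,8,10,10,10] .nil .nil)) (.node [8,8,10,8] (.node [8,10,8,10] .nil .nil) .nil)))) (.node [10,8] (.node [10,10,8,8,10,10] (.node [10,8,10,10,10] (.node [10,10,8,8,8] (.node [8,10,8,8,10] .nil .nil) (.node [8,8,8] .nil .nil)) (.node [10,8] (.node [10,8,10,10,10,8] .nil .nil) (.node [10,10] .nil .nil))) (.node [10,10,8,10] (.node [8,10,8,8] (.node [10,10,8,10,8] .nil .nil) (.node [8,8,10,10]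 .nil .nil)) (.node [10,10,8,8] (.node [8,8,10,10,10] .nil .nil) .nil))) (.node [10,10,8,10,8] (.node [8,10,8,8] (.node [10,8,10,8] (.node [8,10,8,10] .nil .nil) (.node [10,8,10,10,10,8] .nil .nil)) (.node [8,10,8] (.node [8,8,10,10,10] .nil .nil) .nil)) (.node [10,10,10] (.node [10,10,10] (.node [] .nil .nil) (.node [10,8,8,10,10] .nil .nil)) (.node [8,10,8,8,10] (.node [10,8,10,8,10] .nil .nil) .nil)))))) (.node [10,8,8,10,10] (.node [8,10,10,10,8] (.node [10] (.node [10,8,8] (.node [8,10,8,8,10] (.node [8,8,10,10,10] (.node [10,8,8,10] .nil .nil) (.node [10,8,10,8,8,8] .nil .nil)) (.node [10,10,8,10] (.node [10,10,8,8] .nil .nil) (.node [10,8,8,10] .nil .nil))) (.node [10,8,8,10] (.node [10,10,10,8,8] (.node [10,10] .nil .nil) (.node [10,8,10,8,8] .nil .nil)) (.node [8,10,8,10] (.node [8,10,8,8,8] .nil .nil) .nil))) (.node [8,10,8,8,8] (.node [10,10,8,8,10] (.node [10,8,10,8] (.node [8,8,10,8,8] .nil .nil) (.node [10,10,8] .nil .nil)) (.node [8,8] (.node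 [8,10,8,8] .nil .nil) (.node [8,8,10,8] .nil .nil))) (.node [10,10,10] (.node [8,10,8,8,8,8] (.node [10,10,8,8] .nil .nil) (.node [10,8,10] .nil .nil)) (.node [10,8,10,10,10] (.node [10,10,8] .nil .nil) .nil)))) (.node [8,8,8] (.node [] (.node [10,10,8,8,10] (.node [10,10,8,8,8] (.node [10,10,10] .nil .nil) (.node [10,10] .nil .nil)) (.node [8,8,10,10,10] (.node [10,8,10,10,10] .nil .nil) (.node [8,8,10,8] .nil .nil))) (.node [10,8] (.node [10,10,8,8] (.node [10,10,10,8] .nil .nil) (.node [8,8,10,8,8] .nil .nil)) (.node [8,8] (.node [8,10,8] .nil .nil) .nil))) (.node [10,8,8,10] (.node [8,8,10,8] (.node [10,8,8] (.node [10,10,10,8] .nil .nil) (.node [8,10,8,8] .nil .nil)) (.node [8,10] (.node [10,10,8] .nil .nil) .nil)) (.node [10,10] (.node [8,10,8,8] (.node [8,10,8] .nil .nil) (.node [8,8,8,8] .nil .nil)) (.node [10,10,8,10] (.node [8,10,8,10] .nil .nil) .nil))))) (.node [10,8,10,8,10,10] (.node [10,8,8,10,10] (.node [8,8,8,8,8,8] (.node [10,8,10,8,8,8]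 (.node [10,8,10,8] (.node [8,8,10,8] .nil .nil) (.node [8,10,8,8,8,8] .nil .nil)) (.node [8,8,8,8,8,8] (.node [10,10,8] .nil .nil) (.node [10,8,8,8] .nil .nil))) (.node [8,10,8,10] (.node [8,10,8,8] (.node [10,8,10,8,8] .nil .nil) (.node [10,10,10,8] .nil .nil)) (.node [8,10,8,8,10] (.node [8,10,8] .nil .nil) .nil))) (.node [10,10,8,8,8] (.node [10,8,10,10,10] (.node [10,10,10,8,8,10] (.node [10,8] .nil .nil) (.node [10,8,10,8,10] .nil .nil)) (.node [10,10,8,8,10] (.node [10,8,10,10] .nil .nil) .nil)) (.node [10,8,10,8,8,8] (.node [8] (.node [10,8,8,8] .nil .nil) (.node [10,8,10,10,10,8] .nil .nil)) (.node [8,8,10,8] (.node [8,8,8] .nil .nil) .nil)))) (.node [8,8,8,8] (.node [10] (.node [10,10,8,8,10,10] (.node [10,8,8] (.node [8,10,10,10,8] .nil .nil) (.node [8,8,10] .nil .nil)) (.node [10,10,8,8] (.node [10,10,10,8,8,10] .nil .nil) (.node [10,10,10] .nil .nil))) (.node [10,10,8,10,10] (.node [8,8,10] (.node [10,8,10,8,8] .nil .nil) (.node [10,10,10,8,8]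 .nil .nil)) (.node [10,8] (.node [8,10,8,8] .nil .nil) .nil))) (.node [10,8,10,8,8] (.node [8,8,8,8,8] (.node [10,10,8,10] (.node [10,8,10,8,10,10] .nil .nil) (.node [8,8,8,8] .nil .nil)) (.node [10,8,10,10,10,8] (.node [10,10,8,8,8] .nil .nil) .nil)) (.node [8,8,10,8,8] (.node [10,8,10,8] (.node [8,8] .nil .nil) (.node [8,10,10,10,8] .nil .nil)) (.node [10] (.node [10,8,10,10,10] .nil .nil) .nil))))))))

/-- Part of `moveWord`. -/
noncomputable def moveWord_r_r_r_r_r : Arr (List ℕ) :=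
  (.node [10,10,8,8,10] (.node [8,10,8] (.node [10,8,10,10] (.node [8,10,8,8,8] (.node [8,10] (.node [10,10,10] (.node [10,8,10,10,10] (.node [8,8,8,8,8,8] (.node [8,8,10,10] .nil .nil) (.node [8,8,10] .nil .nil)) (.node [10,10,8,10,10] (.node [8] .nil .nil) (.node [8,8,8] .nil .nil))) (.node [10,8,8,10,10] (.node [10,10,8,10,10] (.node [8,10,8,10] .nil .nil) (.node [8,8,8] .nil .nil)) (.node [10,8,10,8,8] (.node [10,8,8,8,8] .nil .nil) .nil))) (.node [10,8,10,10,10,8] (.node [8,10] (.node [10,8,10,8,8] (.node [8,10,8] .nil .nil) (.node [10,10] .nil .nil)) (.node [10,10,8,10,8] (.node [8,10,8,8,8] .nil .nil) (.node [10,8,10,10] .nil .nil))) (.node [10,8,10,8] (.node [10,8] (.node [10,10,8,8] .nil .nil) (.node [10,8,8,8,8] .nil .nil)) (.node [10,10,8,8,10,10] (.node [8,8,10,10,10] .nil .nil) .nil)))) (.node [8,10,8,8] (.node [10,10,10,8,8,10] (.node [10,10,8,8,10,10] (.node [8,10,10,10] (.node [8,8,8] .nil .nil) (.node [10,8,10,8,8,8] .nil .nil)) (.node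 [10,8,10,8,10] (.node [8,10] .nil .nil) (.node [10,8,10,8,10] .nil .nil))) (.node [8,10,8] (.node [10,8,8,8] (.node [10,10,8,8,10] .nil .nil) (.node [8,10,10,10] .nil .nil)) (.node [8,10,8,8,10] (.node [8] .nil .nil) .nil))) (.node [10,8,10,8] (.node [8,10,8] (.node [10,10,8,10] (.node [8,8] .nil .nil) (.node [8,8,10] .nil .nil)) (.node [8,10,8,8,10] (.node [8,8,10] .nil .nil) .nil)) (.node [8,10] (.node [10,10,8,8,10] (.node [10,8,8] .nil .nil) (.node [10,10,10,8,8] .nil .nil)) (.node [8,10,8,8,8,8] (.node [10,8,10,8,8] .nil .nil) .nil))))) (.node [8,10,10] (.node [10,10,8,8,8] (.node [10,8,10,8,10,10] (.node [10,10,8,8,10] (.node [8,10] (.node [10,8,10,8,10] .nil .nil) (.node [8,10,8,8] .nil .nil)) (.node [10,8,8,8] (.node [10,10,10,8] .nil .nil) (.node [8,10,10,10] .nil .nil))) (.node [8,8,8,8,8] (.node [10,10,8,8] (.node [8,10,10] .nil .nil) (.node [10,10,8] .nil .nil)) (.node [8,8,8,8,8] (.node [8,10,8,8,10] .nil .nil) .nil))) (.node [10,8,10,10,10,8]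 (.node [10,10,8,8] (.node [8,10,8] (.node [8,8,8,8,8] .nil .nil) (.node [10,10,8,8,10,10] .nil .nil)) (.node [10,10,8] (.node [10,8,8,8] .nil .nil) .nil)) (.node [8,10] (.node [8,10] (.node [10,10,8,10,10] .nil .nil) (.node [8] .nil .nil)) (.node [8,8,8] (.node [8,10,8,8] .nil .nil) .nil)))) (.node [10,10,8] (.node [8,10,8,8,8,8] (.node [10,8,10,10,10] (.node [10,10] (.node [10,10,8,10] .nil .nil) (.node [10,8,10,8] .nil .nil)) (.node [8,10] (.node [8,8,8,8,8] .nil .nil) (.node [8,8,8,8] .nil .nil))) (.node [10,8,10,8,8,8] (.node [8,8,8,8,8] (.node [8,8,8,8,8,8] .nil .nil) (.node [10,10,10] .nil .nil)) (.node [10,8,8,8] (.node [8,8,10,10,10] .nil .nil) .nil))) (.node [10,10] (.node [10,8,10,8,10] (.node [8,10,8,8,8,8] (.node [10,10,8,8,8] .nil .nil) (.node [10,10,8,8,8] .nil .nil)) (.node [10,10,8,10] (.node [8] .nil .nil) .nil)) (.node [10,8,10,8,10] (.node [10,10,8,8,8] (.node [10,10,8,8,10,10] .nil .nil) (.node [10,8,10,8] .nil .nil)) (.node [10,8,10,8,8]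 (.node [8,8,8,8,8] .nil .nil) .nil)))))) (.node [10,10,8] (.node [10,8,8] (.node [8,10,10] (.node [8,8,10,10] (.node [10] (.node [8] (.node [10,8] .nil .nil) (.node [10,8,10] .nil .nil)) (.node [8,10,8,8,10] (.node [10,8,10,8,8,8] .nil .nil) (.node [10,8] .nil .nil))) (.node [8,10,10] (.node [8,8,8,8,8,8] (.node [10,8,8,10] .nil .nil) (.node [8,10,8,10] .nil .nil)) (.node [8,10,8] (.node [10,8,10,10] .nil .nil) .nil))) (.node [8,10,10,10,8] (.node [] (.node [10,10,8,8,8] (.node [10,10] .nil .nil) (.node [] .nil .nil)) (.node [8,8,8,8,8,8] (.node [10,10,10,8,8] .nil .nil) (.node [8,8,10,8,8] .nil .nil))) (.node [10,8,10,8,8,8] (.node [10,8,8,10] (.node [10,10,8,10,10] .nil .nil) (.node [10,8,8,10] .nil .nil)) (.node [10,8,10] (.node [8,8,8,8,8,8] .nil .nil) .nil)))) (.node [8,10,8,8,8] (.node [] (.node [10,8,10] (.node [8,8,8,8,8,8] (.node [10,8,10] .nil .nil) (.node [8,10,8,8,10] .nil .nil)) (.node [10,10,8,8,10] (.node [10,8,8,10,10] .nil .nil) (.node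 [10,8,8,10] .nil .nil))) (.node [10,8,10,10] (.node [10,8,8,10] (.node [8,8,8,8] .nil .nil) (.node [10,8,8,8] .nil .nil)) (.node [10,8,10] (.node [10,10,10,8,8] .nil .nil) .nil))) (.node [10,10,10] (.node [10,8,10,8,10] (.node [10,8,10] (.node [10,10,8,10] .nil .nil) (.node [8,10,8,8] .nil .nil)) (.node [10,8] (.node [8] .nil .nil) .nil)) (.node [10,10,10,8,8,10] (.node [10,8,8,8,8] (.node [10,8,10,8,8,8] .nil .nil) (.node [8,10,8,8,8] .nil .nil)) (.node [10,8,10,10] (.node [10,8,8,8,8] .nil .nil) .nil))))) (.node [8,8,10,8] (.node [8,8,10] (.node [10,8,10,10,10,8] (.node [8,10,10,10,8] (.node [8,10,10,10] (.node [8,8,8,8] .nil .nil) (.node [8,10,8,8,10] .nil .nil)) (.node [10,10,8,8,8] (.node [10,8,10,8] .nil .nil) (.node [10,10,8,8] .nil .nil))) (.node [8,8,10,10,10] (.node [8,10,10,10] (.node [10,10,8,8,8] .nil .nil) (.node [10,8,8,8,8] .nil .nil)) (.node [8,8] (.node [8,10,10] .nil .nil) .nil))) (.node [10,10,8,8,10] (.node [8,10] (.node [8,10,10]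 (.node [8,8,10,8] .nil .nil) (.node [10,8,10,8,8] .nil .nil)) (.node [10,10,10,8,8] (.node [8,8,8,8,8,8] .nil .nil) .nil)) (.node [10,8,8,8,8] (.node [8,8,8,8] (.node [10,10,8,8,10,10] .nil .nil) (.node [8,8,10] .nil .nil)) (.node [8,8,10] (.node [10,10,8,8,10,10] .nil .nil) .nil)))) (.node [10,10,8,10,10] (.node [8,10,8,8] (.node [8,10,8,10,10] (.node [8,10,10,10] (.node [8,10,8] .nil .nil) (.node [10,10,8,8,10] .nil .nil)) (.node [10,10,10,8] (.node [8,10,8,10] .nil .nil) (.node [8,10,8,8,10] .nil .nil))) (.node [10,10,8,10,10] (.node [10,10,8,10] (.node [8,10,8] .nil .nil) (.node [10,10,8] .nil .nil)) (.node [10,8,8,10,10] (.node [10,8,10] .nil .nil) .nil))) (.node [10,10,8,8,10] (.node [10,10,8,8,8] (.node [8,8,8] (.node [10,10,8] .nil .nil) (.node [10,10,10,8,8,10] .nil .nil)) (.node [8,10,8,8,8,8] (.node [8,8,8,8,8,8] .nil .nil) .nil)) (.node [10] (.node [10,10,8,8,10] (.node [] .nil .nil) (.node [10,8,10,10,10] .nil .nil)) (.node [8,8,8,8] (.node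 [10,8,8,8] .nil .nil) .nil))))))) (.node [8,10,8,10,10] (.node [10,10,8,8,10] (.node [10,8,8,8] (.node [8,10,10] (.node [10,10,8,8,10] (.node [8,10,8,10,10] (.node [8,10,8,10,10] (.node [8,10,10,10] .nil .nil) (.node [8,10,8,8] .nil .nil)) (.node [10,8,10,10,10,8] (.node [10,8,10,8,10] .nil .nil) (.node [10,8,10,10,10] .nil .nil))) (.node [8,8,8,8,8,8] (.node [8,8] (.node [10,10,10,8,8] .nil .nil) (.node [8,10,8,8] .nil .nil)) (.node [10,10,8,8,10] (.node [8,10,10] .nil .nil) .nil))) (.node [8,10] (.node [8] (.node [10,10,10,8,8] (.node [10,10,10,8,8,10] .nil .nil) (.node [10,10] .nil .nil)) (.node [10,8,10,10,10,8] (.node [10,8,10,10,10] .nil .nil) (.node [8,8,8,8] .nil .nil))) (.node [10,8,8,8] (.node [10,10,8,10] (.node [10,10,8,10] .nil .nil) (.node [8,8,8] .nil .nil)) (.node [8,10,8,10,10] (.node [10,8,8,8] .nil .nil) .nil)))) (.node [10,8,8,8,8] (.node [8,8,8,8,8,8] (.node [8,10,10,10] (.node [10,8,8,10,10] (.node [8,8] .nil .nil) (.node [10,8,10,8,10]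 .nil .nil)) (.node [10,10,8] (.node [8,8,10,10,10] .nil .nil) (.node [8,8,8,8,8] .nil .nil))) (.node [8,10,10,10,8] (.node [10,8,10,8,10] (.node [8,8,10,8] .nil .nil) (.node [10,10,8,10,10] .nil .nil)) (.node [8,8,8,8] (.node [8,10,8,8] .nil .nil) .nil))) (.node [8,10,8] (.node [8,10] (.node [] (.node [10,8,10,10,10] .nil .nil) (.node [10,10,10,8,8] .nil .nil)) (.node [8,10,10,10,8] (.node [8,8,10,8] .nil .nil) .nil)) (.node [8,8] (.node [10,10,8,8,8] (.node [10,8] .nil .nil) (.node [10,10,10,8] .nil .nil)) (.node [10,8,10,8,8,8] (.node [10,8,10] .nil .nil) .nil))))) (.node [10,8,8] (.node [10,10,8,10,8] (.node [8,10,8,10] (.node [10,8,10,8,8] (.node [8,8,10,8,8] (.node [10,8,10,8,10] .nil .nil) (.node [8,10,8,10] .nil .nil)) (.node [10,8,10,8] (.node [10,8,10,8] .nil .nil) (.node [10] .nil .nil))) (.node [8,10,8] (.node [10,8,8,10,10] (.node [10,10,8,10,10] .nil .nil) (.node [10,10,10,8,8,10] .nil .nil)) (.node [8,10,8,8,8] (.node [] .nil .nil) .nil)))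 (.node [8,8,10] (.node [8,8,8] (.node [8,10,8,10] (.node [10,8,10,8,8] .nil .nil) (.node [8,8,8,8,8,8] .nil .nil)) (.node [8,8] (.node [10,8,8,10,10] .nil .nil) .nil)) (.node [8,10,8,8,10] (.node [10,8,10,10,10,8] (.node [10,8,10,8] .nil .nil) (.node [10,10,8] .nil .nil)) (.node [10] (.node [10,8,10,10,10,8] .nil .nil) .nil)))) (.node [8,8,8,8] (.node [10,8,8] (.node [10,10,8,8,10,10] (.node [10,10,8,8,10] (.node [8] .nil .nil) (.node [8,8,10,8] .nil .nil)) (.node [10,8,8,10] (.node [8,8,8,8,8] .nil .nil) (.node [8,8,8] .nil .nil))) (.node [8,10] (.node [10,10,10,8,8,10] (.node [8,8] .nil .nil) (.node [8,10,8,8] .nil .nil)) (.node [8,10,10,10,8] (.node [8,8,10,10] .nil .nil) .nil))) (.node [10,8,10,8] (.node [8,8,8,8] (.node [8,8] (.node [10,8,10,8] .nil .nil) (.node [10,8,8,8,8] .nil .nil)) (.node [10,10,8,8,10,10] (.node [8,10] .nil .nil) .nil)) (.node [10,8,8,8] (.node [10,8,8,8] (.node [10,10,10] .nil .nil) (.node [8,8] .nil .nil)) (.node [10,8,10,8,8,8]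 (.node [8,10,10,10] .nil .nil) .nil)))))) (.node [8,10,10] (.node [10,10,8] (.node [8,10,10,10] (.node [10,10,8,10] (.node [10,8,10] (.node [8,8] (.node [10,8,8,8,8] .nil .nil) (.node [8,8,10,10,10] .nil .nil)) (.node [10,8,10,8,10,10] (.node [10,10] .nil .nil) (.node [8,10,8,10] .nil .nil))) (.node [10,10,8,10,10] (.node [8,8,10,10,10] (.node [8,10,10] .nil .nil) (.node [8,10,8,8,8,8] .nil .nil)) (.node [10,8,10,8,10] (.node [8,10,10,10] .nil .nil) .nil))) (.node [10,8,8,8,8] (.node [10,10,10] (.node [8,8,10] (.node [8,8,8,8,8,8] .nil .nil) (.node [10,8,8,10] .nil .nil)) (.node [8,8,10,8,8] (.node [10,8,10,10,10] .nil .nil) (.node [8,10,8] .nil .nil))) (.node [8,8,8,8] (.node [10,10,10] (.node [8,10,10] .nil .nil) (.node [10,10,8,10,10] .nil .nil)) (.node [10,8,10,8,10] (.node [10,8,10,10] .nil .nil) .nil)))) (.node [10,10,8,10,10] (.node [8,8,10,10] (.node [8,8,8,8,8,8] (.node [8,10,8,8,8] (.node [8,10,8] .nil .nil) (.node [10,10,10,8,8] .nil .nil))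 (.node [10,8,10,10,10] (.node [10,10,8,8,8] .nil .nil) (.node [10] .nil .nil))) (.node [10,8,10] (.node [8,8,10,8] (.node [8,10,8,8] .nil .nil) (.node [8,8,10,8,8] .nil .nil)) (.node [8,10] (.node [10,10,10] .nil .nil) .nil))) (.node [10,10,10,8,8,10] (.node [10,8,8,10,10] (.node [10,8,10,8,10,10] (.node [10,8] .nil .nil) (.node [10,10,8,10,8] .nil .nil)) (.node [10,8] (.node [10,8,10,8,8,8] .nil .nil) .nil)) (.node [10,8,8,8,8] (.node [8,10,8,10,10] (.node [10,10,10,8] .nil .nil) (.node [10,10] .nil .nil)) (.node [10,8,10,10] (.node [10,8,10,8,8] .nil .nil) .nil))))) (.node [8,8,8,8,8,8] (.node [10,10,8,8,10,10] (.node [8,10,10,10,8] (.node [8,10,8,8,8,8] (.node [8,10,10,10] (.node [10,10,8] .nil .nil) (.node [10,10,8,10,10] .nil .nil)) (.node [8] (.node [10,10,8] .nil .nil) (.node [8,10,8] .nil .nil))) (.node [10,8,8,10,10] (.node [] (.node [10,8,10,10,10,8] .nil .nil) (.node [8,8,8,8] .nil .nil)) (.node [8,10,10,10] (.node [10,10,8,10,8] .nil .nil)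 .nil))) (.node [8,10] (.node [10,8,10,8,10] (.node [10,8,8,10,10] (.node [8,10,8,8,8,8] .nil .nil) (.node [10,10,8,8] .nil .nil)) (.node [10,10,8,8] (.node [10,10,10,8,8,10] .nil .nil) .nil)) (.node [10,8,10,8,10] (.node [10,8,10,8,10] (.node [8,10,8,8,10] .nil .nil) (.node [8,8,8,8,8,8] .nil .nil)) (.node [10,10,8] (.node [8,10,10,10] .nil .nil) .nil)))) (.node [10,8,10,8,10] (.node [8,8,8,8] (.node [8,8,10,10,10] (.node [10,8,8] (.node [10,10,10] .nil .nil) (.node [8,10,8,8,8] .nil .nil)) (.node [8,8,8,8] (.node [10,10,8,8,8] .nil .nil) (.node [10,10,10,8] .nil .nil))) (.node [10,8,10,8,10] (.node [8] (.node [8] .nil .nil) (.node [10,10,8,10,8] .nil .nil)) (.node [8] (.node [10,10] .nil .nil) .nil))) (.node [10,10,8,10] (.node [] (.node [10,8,10,8,8,8] (.node [8,10,10,10] .nil .nil) (.node [8,8,10,10] .nil .nil)) (.node [8,10,8,8,8,8] (.node [10,8,10,8,8,8] .nil .nil) .nil)) (.node [8,8,8,8,8,8] (.node [10,8,8,10,10] (.node [10,8,10,8,10,10] .nil .nil)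 (.node [10,8,8,8,8] .nil .nil)) (.node [10,8,10,8,10,10] (.node [10,8,8,10,10] .nil .nil) .nil))))))))

/-- Part of `moveWord`. -/
noncomputable def moveWord_r_r_r_r : Arr (List ℕ) :=
  .node [8,8,8] moveWord_r_r_r_r_l moveWord_r_r_r_r_r

/-- Part of `moveWord`. -/
noncomputable def moveWord_r_r_r : Arr (List ℕ) :=
  .node [8,8,10] moveWord_r_r_r_l moveWord_r_r_r_r

/-- Part of `moveWord`. -/
noncomputable def moveWord_r_r : Arr (List ℕ) :=
  .node [10,10,8,10,8] moveWord_r_r_l moveWord_r_r_r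

/-- Part of `moveWord`. -/
noncomputable def moveWord_r : Arr (List ℕ) :=
  .node [8] moveWord_r_l moveWord_r_r

/-- A word reaching a set from its representative. -/
noncomputable def moveWord : Arr (List ℕ) :=
  .node [8,8] moveWord_l moveWord_r

/-- Words of order sixteen. -/
def witness : List (ℕ × List ℕ) :=
  [(1,[0,0,1]),(2,[0,2,2]),(3,[0,0,0,1,2]),(4,[0,1]),(5,[0,2,2]),(6,[0,0,1]),(7,[0,1,1]),(8,[0,0,2]),(9,[0,0,1,0,1,1]),(10,[0,1]),(11,[0,1]),(12,[0,1]),(13,[0,1,2]),(14,[0,2]),(15,[0,2]),(16,[0,1,0,2]),(17,[0,0,1,1]),(18,[0,0,1]),(19,[0,1,0,2]),(20,[0,1]),(21,[0,1]),(22,[0,1,2]),(23,[0,0,1]),(24,[0,1,1]),(25,[0,1,1]),(26,[0,2,2]),(27,[0,0,0,0,1]),(28,[0,2]),(29,[0,1,2]),(30,[0,0,1]),(31,[0,2,2]),(32,[0,0,1]),(33,[0,1,1]),(34,[0,0,1]),(35,[0,1,1]),(36,[0,1]),(37,[0,2]),(38,[0,2]),(39,[0,0,0,1]),(40,[0,1,2]),(41,[0,1]),(42,[0,0,2]),(43,[0,2]),(44,[0,0,2]),(45,[0,2]),(46,[0,1,1]),(47,[0,0,1,0,1,1]),(48,[0,1]),(49,[0,2]),(50,[0,1,1]),(51,[0,1]),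(52,[0,0,2]),(53,[0,0,2]),(54,[0,1,1]),(55,[0,1]),(57,[0,1]),(58,[0,0,0,2]),(59,[0,1,2,2]),(60,[0,0,2]),(61,[0,1,2,2]),(62,[0,0,1]),(63,[0,2]),(64,[0,0,1]),(65,[0,1,2]),(66,[0,0,0,1]),(67,[0,0,1]),(68,[0,1]),(69,[0,0,0,1]),(70,[0,2]),(71,[0,0,1]),(72,[0,0,2,2]),(73,[0,1]),(74,[0,2]),(75,[0,2]),(76,[0,1,2]),(77,[0,0,0,2]),(78,[0,0,1,1]),(79,[0,1,2]),(80,[0,1,1]),(81,[0,2,2]),(82,[0,1]),(83,[0,0,2]),(84,[0,2]),(85,[0,0,1]),(86,[0,1,2]),(87,[0,1]),(88,[0,0,1]),(89,[0,1,1]),(90,[0,2]),(91,[0,1,2]),(92,[0,1]),(93,[0,1,1]),(94,[0,1]),(95,[0,2,2,2]),(96,[0,2,2]),(97,[0,0,0,1,0,2]),(98,[0,0,1]),(99,[0,1,1]),(100,[0,0,0,1]),(101,[0,2]),(102,[0,2]),(103,[0,1]),(104,[0,0,1]),(105,[0,0,1]),(106,[0,1]),(107,[0,1,2]),(108,[0,0,0,1,0,1,1]),(109,[0,1]),(110,[0,1]),(111,[0,2]),(112,[0,1,1]),(113,[0,1]),(114,[0,1]),(115,[0,0,0,1]),(116,[0,0,2]),(117,[0,2]),(118,[0,2]),(119,[0,0,1]),(120,[0,1]),(121,[0,0,1]),(122,[0,0,1]),(123,[0,1,1]),(124,[0,0,2,2]),(125,[0,2]),(126,[0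,1]),(127,[0,0,2]),(128,[0,0,0,2]),(129,[0,1,1]),(130,[0,0,1]),(131,[0,2]),(132,[0,0,1]),(133,[0,1]),(134,[0,2]),(135,[0,0,0,2]),(136,[0,1]),(137,[0,2,2]),(138,[0,1]),(139,[0,1,2]),(140,[0,2]),(141,[0,0,1]),(142,[0,1,1]),(143,[0,1]),(144,[0,2]),(145,[0,2]),(146,[0,2]),(147,[0,1]),(148,[0,1,1]),(149,[0,0,1,0,1,2]),(150,[0,1,1,2]),(151,[0,0,1,1]),(152,[0,1]),(153,[0,2]),(154,[0,1]),(155,[0,0,1]),(156,[0,0,2]),(157,[0,1]),(158,[0,0,1]),(159,[0,2]),(160,[0,1]),(161,[0,1]),(162,[0,1]),(163,[0,2]),(164,[0,1]),(165,[0,1,1]),(166,[0,2]),(167,[0,2]),(168,[0,1]),(169,[0,1]),(170,[0,1,2]),(171,[0,1]),(172,[0,0,2]),(173,[0,1]),(174,[0,1]),(175,[0,1]),(176,[0,1,1]),(177,[0,0,2]),(178,[0,0,1]),(180,[0,0,0,1,0,2]),(181,[0,1]),(182,[0,1,1]),(183,[0,1]),(184,[0,1]),(185,[0,0,1]),(186,[0,0,1]),(187,[0,2]),(188,[0,1]),(189,[0,2]),(190,[0,2]),(191,[0,0,2]),(192,[0,2,2]),(193,[0,0,1]),(194,[0,2]),(195,[0,1,1]),(196,[0,2]),(197,[0,1,2]),(198,[0,2]),(199,[0,0,2]),(200,[0,1])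,(201,[0,0,1]),(202,[0,1]),(203,[0,0,2]),(204,[0,0,0,2]),(205,[0,0,1,0,2,2]),(206,[0,1,1]),(207,[0,0,2]),(208,[0,1]),(209,[0,2,2]),(210,[0,0,1]),(211,[0,1]),(212,[0,1]),(213,[0,2]),(214,[0,0,2]),(215,[0,0,2,2]),(216,[0,2]),(217,[0,2]),(218,[0,0,1]),(219,[0,1,1]),(220,[0,2]),(221,[0,1]),(222,[0,2,2]),(223,[0,0,2]),(224,[0,1]),(225,[0,0,2]),(226,[0,1]),(227,[0,1,2]),(228,[0,0,0,1]),(229,[0,0,0,1,2]),(230,[0,1,1]),(231,[0,0,2,0,2,2]),(232,[0,1,2]),(233,[0,2]),(234,[0,0,2]),(235,[0,0,1]),(236,[0,1]),(237,[0,1,1,2]),(238,[0,1,1]),(239,[0,1]),(240,[0,1]),(241,[0,0,1]),(242,[0,0,0,1]),(243,[0,0,1]),(244,[0,2]),(245,[0,1]),(246,[0,1]),(247,[0,2]),(248,[0,0,1]),(249,[0,0,1,1]),(250,[0,1,2]),(251,[0,1,1]),(252,[0,0,1,1,0,2]),(253,[0,1]),(254,[0,1,1]),(255,[0,0,2]),(256,[0,1]),(257,[0,1,1]),(258,[0,0,1,1]),(259,[0,2,2]),(260,[0,2]),(261,[0,2]),(262,[0,2]),(263,[0,2]),(264,[0,0,1,0,2]),(265,[0,2]),(266,[0,1]),(267,[0,1]),(268,[0,1]),(269,[0,2,2]),(270,[0,1,2]),(271,[0,1]),(272,[0,0,1]),(273,[0,1]),(274,[0,2]),(275,[0,1]),(276,[0,2]),(277,[0,0,2]),(278,[0,2]),(279,[0,1,1]),(280,[0,0,1]),(281,[0,0,1]),(282,[0,1]),(283,[0,0,1,0,2]),(284,[0,2]),(285,[0,0,2]),(286,[0,0,1]),(287,[0,1]),(288,[0,0,2]),(289,[0,0,0,1]),(290,[0,1,1]),(291,[0,2,2]),(292,[0,0,1]),(293,[0,0,0,1,0,2]),(294,[0,2]),(295,[0,0,1,0,2,2])]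

end Cfsg.Agent.RuRankThree
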