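import Cfsg.Agent.RuRankThree.RowDefs

/-! Evaluation of the checks on the orbits of two-line stabilisers. -/

set_option autoImplicit false
set_option maxRecDepth 100000
set_option maxHeartbeats 0
set_option Elab.async false

namespace Cfsg.Agent.RuRankThree

open Cfsg.Agent.Compute Cfsg.Agent.StemCert

/-- The orbits of the stabiliser of the lines 0 and 2305 on the neighbours of 0. -/
noncomputable def pTrees : List (Arr (ℕ × ℕ × ℕ) × ℕ) :=
  [(treeP10, treeP10Size), (treeP80, treeP80Size), (treeP640, treeP640Size), (treeD, treeDSize)]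

/-- The orbits of a subgroup of the stabiliser of the lines 0 and 1 on the neighbours of 0. -/
noncomputable def cTrees : List (Arr (ℕ × ℕ × ℕ) × ℕ) :=
  [(treeC1_0, treeC1_0Size), (treeC1_1, treeC1_1Size)]

/-- The orbits of the same subgroup on the other lines. -/
noncomputable def fTrees : List (Arr (ℕ × ℕ × ℕ) × ℕ) :=
  [(treeC2_0, treeC2_0Size), (treeC2_1, treeC2_1Size), (treeC2_2, treeC2_2Size),
    (treeC2_3, treeC2_3Size), (treeC2_4, treeC2_4Size)]

/-- The masks of the trees. -/
noncomputable def masksOf (l : List (Arr (ℕ × ℕ × ℕ) × ℕ)) : List ℕ :=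
  l.map fun T => treeMask T.1 T.2

/-- Trees of the given sizes partition a set. -/
noncomputable def partB (l : List (Arr (ℕ × ℕ × ℕ) × ℕ)) (ws : List (List ℕ)) (ns : List ℕ)
    (f : ℕ → Bool) : Bool :=
  Nat.beq l.length ns.length &&
    allBelow l.length (fun i =>
      treeB (l.getD i (Arr.nil, 0)).1 (l.getD i (Arr.nil, 0)).2 ws &&
        distinctB (l.getD i (Arr.nil, 0)).1 (l.getD i (Arr.nil, 0)).2 0 &&
        Nat.beq (l.getD i (Arr.nil, 0)).2 (ns.getD i 0)) &&
    forceL (masksOf l) fun ms => allBelow 4060 fun x =>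
      Nat.beq (List.rec (motive := fun _ => ℕ) 0 (fun m _ r => cond (hasBit m x) (Nat.add r 1) r) ms)
        (cond (f x) 1 0)

/-- The neighbours of 0 split under the stabiliser of 0 and 2305. -/
noncomputable def pB : Bool :=
  fixB [[16], [17]] [0, 2305] && hasRow 2305 && forceN (rMask 0) fun m0 =>
    forceN (nb 2305) fun m1 =>
      partB pTrees [[16], [17]] [10, 80, 640, 1024] (fun x => hasBit m0 x && !(Nat.beq x 2305)) &&
      forceN (treeMask treeD treeDSize) fun md => allBelow 4060 fun x =>
        !(hasBit m0 x) || Nat.beq x 2305 || sameB (hasBit md x) (!(hasBit m1 x))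

/-- The lines split under a subgroup of the stabiliser of 0 and 1. -/
noncomputable def cB : Bool :=
  fixB [[8], [10], [12], [13]] [0, 1] && hasRow 1 && forceN (rMask 0) fun m0 =>
    forceN (nb 1) fun m1 =>
      partB cTrees [[8], [10], [12], [13]] [780, 975] (fun x => hasBit m0 x) &&
      partB fTrees [[8], [10], [12], [13]] [78, 300, 300, 650, 975]
        (fun x => !(hasBit m0 x) && !(Nat.beq x 0) && !(Nat.beq x 1)) &&
      !(hasBit m0 1) &&
      forceN (treeMask treeC1_0 treeC1_0Size) fun mc => forceN (treeMask treeC2_4 treeC2_4Size)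
        fun mf => allBelow 4060 fun x => sameB (hasBit m1 x) (hasBit mc x || hasBit mf x)

theorem p_ok : pB = true := by decide +kernel

theorem c_ok : cB = true := by decide +kernel

end Cfsg.Agent.RuRankThree
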