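import Cfsg.Agent.RuRankThree.FarLine
import Cfsg.Agent.RuRankThree.RelCheck

/-!
# The only symmetric invariant relation of valency 1755 is adjacency
-/

set_option autoImplicit false
set_option maxRecDepth 100000

namespace Cfsg.Agent.RuRankThree

open Cfsg.Agent.Compute Cfsg.Agent.StemCert

attribute [local irreducible] rowInfo rowMask rowIdx letterCodes nb treeP10 treeP80 treeP640 treeD
  treeC1_0 treeC1_1 treeC2_0 treeC2_1 treeC2_2 treeC2_3 treeC2_4 treeO1 treeO2

/-- The line 2305. -/
abbrev lineB : Fin 4060 := ⟨2305, by norm_num⟩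

/-- The line 1. -/
abbrev lineC : Fin 4060 := ⟨1, by norm_num⟩

/-- The lines of a tree. -/
noncomputable def treeSet (T : Arr (ℕ × ℕ × ℕ) × ℕ) : Finset (Fin 4060) :=
  Finset.univ.filter fun x : Fin 4060 => Nat.testBit (treeMask T.1 T.2) (x : ℕ) = true

theorem mem_treeSet {T : Arr (ℕ × ℕ × ℕ) × ℕ} {x : Fin 4060} :
    x ∈ treeSet T ↔ Nat.testBit (treeMask T.1 T.2) (x : ℕ) = true := by simp [treeSet]

theorem card_treeSet {T : Arr (ℕ × ℕ × ℕ) × ℕ} {ws : List (List ℕ)}
    (h : treeB T.1 T.2 ws = true) (hd : distinctB T.1 T.2 0 = true) : (treeSet T).card = T.2 := by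
  let f : Fin T.2 → Fin 4060 := fun k => ⟨tPt T.1 k, tPt_lt h k.2⟩
  have e : treeSet T = Finset.univ.image f := by
    ext x
    rw [mem_treeSet, treeMask_spec]
    simp only [Finset.mem_image, Finset.mem_univ, true_and]
    exact ⟨fun ⟨k, hk, e⟩ => ⟨⟨k, hk⟩, Fin.ext e⟩, fun ⟨k, e⟩ => ⟨k, k.2, congrArg Fin.val e⟩⟩
  rw [e, Finset.card_image_of_injective _ fun i j e => Fin.ext
    ((distinctB_spec T.1 T.2 0 hd).2 i i.2 j j.2 (congrArg Fin.val e)), Finset.card_univ,
    Fintype.card_fin]

theorem countBit_spec (x : ℕ) : ∀ ms : List ℕ,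
    List.rec (motive := fun _ => ℕ) 0 (fun m _ r => cond (hasBit m x) (Nat.add r 1) r) ms =
      ms.countP (fun m => hasBit m x)
  | [] => rfl
  | m :: ms => by
    rw [List.countP_cons]
    show cond (hasBit m x) (Nat.add _ 1) _ = _
    rw [countBit_spec x ms]
    cases hasBit m x <;> rfl

/-- An invariant set is a union of some of the parts. -/
theorem union_of_parts {l : List (Arr (ℕ × ℕ × ℕ) × ℕ)} {ws : List (List ℕ)} {ns : List ℕ}
    {f : ℕ → Bool} (h : partB l ws ns f = true) {S : Finset (Fin 4060)}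
    (hS : ∀ x ∈ S, f (x : ℕ) = true)
    (hinv : ∀ g ∈ wordsGrp ws, ∀ x, x ∈ S → ap g x ∈ S) :
    ∃ e : ℕ → Bool, (∀ i < l.length, ∀ x ∈ treeSet (l.getD i (Arr.nil, 0)), x ∈ S ↔ e i = true) ∧
      S.card = ∑ i ∈ Finset.range l.length, cond (e i) (ns.getD i 0) 0 := by
  simp only [partB, Bool.and_eq_true, Nat.beq_eq, allBelow_eq_true, forceL_eq] at h
  obtain ⟨⟨-, htree⟩, hcover⟩ := h
  set T := fun i => l.getD i (Arr.nil, 0)
  classical
  refine ⟨fun i => decide (∃ x ∈ treeSet (T i), x ∈ S), fun i hi x hx => ?_, ?_⟩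
  · obtain ⟨⟨ht, -⟩, -⟩ := htree i hi
    rw [decide_eq_true_eq]
    refine ⟨fun hxS => ⟨x, hx, hxS⟩, ?_⟩
    rintro ⟨y, hy, hyS⟩
    have h0 : 0 < (T i).2 := by
      have h := ht
      simp only [treeB, Bool.and_eq_true, Nat.blt_eq] at h
      exact h.1.1
    set r : Fin 4060 := ⟨tPt (T i).1 0, tPt_lt ht h0⟩
    obtain ⟨g, hg, hgy⟩ := tree_reach ht (fun a ha => mem_wordsGrp ha) (r := r) rfl
      (mem_treeSet.1 hy)
    obtain ⟨k, hk, hkx⟩ := tree_reach ht (fun a ha => mem_wordsGrp ha) (r := r) rfl
      (mem_treeSet.1 hx)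
    have h1 := hinv _ (mul_mem hk (inv_mem hg)) y hyS
    rwa [ap_mul, ← hgy, ap_inv_ap, hkx] at h1
  have hdecomp : ∀ x ∈ S, ((Finset.range l.length).filter fun i => x ∈ treeSet (T i)).card = 1 := by
    intro x hx
    have h := hcover x x.2
    rw [countBit_spec, hS x hx, cond_true] at h
    rw [← h]
    have key : ∀ (l : List (Arr (ℕ × ℕ × ℕ) × ℕ)),
        ((Finset.range l.length).filter fun i => x ∈ treeSet (l.getD i (Arr.nil, 0))).card =
          (masksOf l).countP fun m => hasBit m x := by
      intro l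
      induction l using List.reverseRecOn with
      | nil => rfl
      | append_singleton l a ih =>
        have e1 : Finset.range (l ++ [a]).length = insert l.length (Finset.range l.length) := by
          rw [List.length_append, List.length_singleton, Finset.range_add_one]
        have e2 : ∀ i ∈ Finset.range l.length, (l ++ [a]).getD i (Arr.nil, 0) =
            l.getD i (Arr.nil, 0) := fun i hi =>
          List.getD_append _ _ _ _ (Finset.mem_range.1 hi)
        rw [e1, Finset.filter_insert, List.getD_append_right _ _ _ _ le_rfl, Nat.sub_self,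
          List.getD_cons_zero]
        simp only [masksOf, List.map_append, List.map_cons, List.map_nil, List.countP_append,
          List.countP_cons, List.countP_nil, Nat.zero_add]
        have e3 : (Finset.range l.length).filter (fun i => x ∈ treeSet ((l ++ [a]).getD i (Arr.nil, 0))) =
            (Finset.range l.length).filter (fun i => x ∈ treeSet (l.getD i (Arr.nil, 0))) :=
          Finset.filter_congr fun i hi => by rw [e2 i hi]
        have ih' : _ = List.countP (fun m => hasBit m (x : ℕ)) (List.map (fun T => treeMask T.1 T.2) l) := ih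
        split_ifs with hxa h'
        · rw [Finset.card_insert_of_notMem (by simp), e3, ih']
        · exact absurd (by rw [mem_treeSet] at hxa; rw [hasBit_eq]; exact hxa) h'
        · exact absurd (by rw [mem_treeSet]; rwa [hasBit_eq] at *) hxa
        · rw [e3, ih', Nat.add_zero]
    exact key l
  have hpart : ∀ i ∈ Finset.range l.length, (S.filter fun x => x ∈ treeSet (T i)).card =
      cond (decide (∃ x ∈ treeSet (T i), x ∈ S)) (ns.getD i 0) 0 := by
    intro i hi
    obtain ⟨⟨ht, hd⟩, hn⟩ := htree i (Finset.mem_range.1 hi)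
    by_cases he : ∃ x ∈ treeSet (T i), x ∈ S
    · rw [decide_eq_true he, cond_true, ← hn, ← card_treeSet ht hd]
      congr 1
      ext x
      rw [Finset.mem_filter]
      refine ⟨fun h => h.2, fun hx => ⟨?_, hx⟩⟩
      obtain ⟨y, hy, hyS⟩ := he
      have h0 : 0 < (T i).2 := by
        have h := ht
        simp only [treeB, Bool.and_eq_true, Nat.blt_eq] at h
        exact h.1.1
      obtain ⟨g, hg, hgy⟩ := tree_reach ht (fun a ha => mem_wordsGrp ha)
        (r := ⟨_, tPt_lt ht h0⟩) rfl (mem_treeSet.1 hy)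
      obtain ⟨k, hk, hkx⟩ := tree_reach ht (fun a ha => mem_wordsGrp ha)
        (r := ⟨_, tPt_lt ht h0⟩) rfl (mem_treeSet.1 hx)
      have h1 := hinv _ (mul_mem hk (inv_mem hg)) y hyS
      rwa [ap_mul, ← hgy, ap_inv_ap, hkx] at h1
    · rw [decide_eq_false he, cond_false, Finset.card_eq_zero, Finset.filter_eq_empty_iff]
      exact fun x hx hxT => he ⟨x, hxT, hx⟩
  rw [← Finset.sum_congr rfl hpart, Finset.card_eq_sum_ones]
  simp only [Finset.card_filter]
  rw [Finset.sum_comm]
  refine Finset.sum_congr rfl fun x hx => ?_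
  rw [← Finset.card_filter, hdecomp x hx]

theorem mem_near {x : Fin 4060} : hasBit (rMask 0) (x : ℕ) = true ↔ Adj 0 x := by
  rw [hasBit_eq, row0_spec]

theorem not_adj_zero : ¬Adj 0 0 := fun h => by
  have := (row0_spec 0).2 h
  have h2 : Nat.testBit (rMask 0) 0 = false := by decide +kernel
  exact Bool.false_ne_true (h2.symm.trans this)

theorem lines_facts : Adj 0 lineB ∧ ¬Adj 0 lineC ∧ lineC ≠ 0 ∧ lineB ≠ 0 := by
  have h := c_ok
  simp only [cB, Bool.and_eq_true, forceN_eq, Bool.not_eq_true'] at h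
  have hp := baseOrbits_ok
  simp only [baseOrbitsB, Bool.and_eq_true] at hp
  refine ⟨mem_near.1 hp.1.1.2, fun hA => ?_, fun e => absurd (congrArg Fin.val e) (by decide),
    fun e => absurd (congrArg Fin.val e) (by decide)⟩
  exact Bool.false_ne_true (h.2.1.2.symm.trans (mem_near.2 hA))

theorem trans_near {x : Fin 4060} (h : Adj 0 x) : ∃ g : ↥grp, ap g lineB = x := by
  have hb := baseOrbits_ok
  simp only [baseOrbitsB, Bool.and_eq_true, Nat.beq_eq] at hb
  obtain ⟨⟨⟨⟨⟨⟨⟨⟨⟨⟨⟨hT1, hr1⟩, hm1⟩, -⟩, -⟩, -⟩, -⟩, -⟩, -⟩, -⟩, -⟩, -⟩ := hb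
  obtain ⟨g, -, hg⟩ := tree_reach hT1 (H := ⊤) (fun a _ => Subgroup.mem_top _) (r := lineB) hr1.symm
    (x := x) (by rw [hm1]; exact (row0_spec x).2 h)
  exact ⟨g, hg⟩

open scoped Classical in
theorem card_split (S : Finset (Fin 4060)) : S.card = (if (0 : Fin 4060) ∈ S then 1 else 0) +
    (S.filter (fun v => Adj 0 v)).card + (S.filter (fun v => ¬Adj 0 v ∧ v ≠ 0)).card := by
  have h1 := Finset.card_filter_add_card_filter_not (s := S) (fun v => Adj 0 v)
  have h2 := Finset.card_filter_add_card_filter_not (s := S.filter fun v => ¬Adj 0 v) (fun v => v = 0)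
  rw [Finset.filter_filter, Finset.filter_filter] at h2
  have h3 : (S.filter fun v => ¬Adj 0 v ∧ v = 0).card = if (0 : Fin 4060) ∈ S then 1 else 0 := by
    split_ifs with h
    · rw [show (S.filter fun v => ¬Adj 0 v ∧ v = 0) = {0} from Finset.ext fun v => by
        rw [Finset.mem_filter, Finset.mem_singleton]
        exact ⟨fun h' => h'.2.2, fun e => ⟨e ▸ h, e ▸ not_adj_zero, e⟩⟩, Finset.card_singleton]
    · rw [Finset.card_eq_zero, Finset.filter_eq_empty_iff]
      exact fun v hv e => h (e.2 ▸ hv)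
  rw [h3] at h2
  have h4 : (S.filter fun v => ¬Adj 0 v ∧ ¬v = 0).card =
      (S.filter (fun v => ¬Adj 0 v ∧ v ≠ 0)).card := rfl
  omega

section Relation

variable {R : Fin 4060 → Fin 4060 → Prop}

theorem adj_zero_ap (g : ↥grp) (v : Fin 4060) : Adj 0 (ap g v) ↔ Adj 0 v := adj_zero_iff g v

theorem card_near [DecidableRel R] (h0 : ∀ x, R 0 x ↔ Adj 0 x) :
    (Finset.univ.filter (R 0)).card = 1755 := by
  have e : Finset.univ.filter (R 0) = Finset.univ.image (fun i => (piPt i : Fin 4060)) := by
    ext x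
    simp only [Finset.mem_filter, Finset.mem_univ, true_and, Finset.mem_image, h0]
    exact ⟨fun hx => ⟨numEquiv.symm ⟨x, hx⟩, congrArg Subtype.val (numEquiv.apply_symm_apply _)⟩,
      fun ⟨i, e⟩ => e ▸ (piPt i).2⟩
  rw [e, Finset.card_image_of_injective (f := fun i => (piPt i : Fin 4060)) _
      fun i j e => numEquiv.injective (Subtype.ext e),
    Finset.card_univ, Fintype.card_fin]

open scoped Classical in
/-- The only symmetric relation of the graph's valency invariant under a transitive extension of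
the stabiliser is adjacency. -/
theorem rel_eq_adj (h0 : ∀ x, R 0 x ↔ Adj 0 x) (hsymm : ∀ x y, R x y → R y x)
    (hgrp : ∀ (g : ↥grp) x y, R (ap g x) (ap g y) ↔ R x y)
    (htr : ∀ x, ∃ π : Equiv.Perm (Fin 4060), π 0 = x ∧ ∀ u v, R (π u) (π v) ↔ R u v)
    (x y : Fin 4060) : R x y ↔ Adj x y := by
  set N : Fin 4060 → Finset (Fin 4060) := fun u => Finset.univ.filter (R u) with hNdef
  have hN : ∀ u v, v ∈ N u ↔ R u v := fun u v => by simp [N]
  have hdeg : ∀ u, (N u).card = 1755 := by
    intro u
    obtain ⟨π, hπ, hR⟩ := htr u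
    rw [← card_near h0]
    refine (Finset.card_equiv π fun v => ?_).symm
    simp only [Finset.mem_filter, Finset.mem_univ, true_and, hN]
    rw [← hπ, hR]
  have hirr : ∀ u, ¬R u u := by
    intro u
    obtain ⟨π, rfl, hR⟩ := htr u
    rw [hR, h0]
    exact not_adj_zero
  obtain ⟨hbA, hcA, hc0, hb0⟩ := lines_facts
  -- the line 2305
  set near : Finset (Fin 4060) := Finset.univ.filter (fun v => Adj 0 v)
  set far : Finset (Fin 4060) := Finset.univ.filter (fun v => ¬Adj 0 v ∧ v ≠ 0)
  have hp := p_ok
  simp only [pB, Bool.and_eq_true, forceN_eq, allBelow_eq_true] at hp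
  obtain ⟨⟨hpfix, hpRow⟩, hpart, hpd⟩ := hp
  have hbfix : ∀ g ∈ wordsGrp [[16], [17]], ap g lineB = lineB := fun g hg =>
    fixB_spec hpfix hg (by simp)
  obtain ⟨eb, hebS, hebc⟩ := union_of_parts hpart (S := (N lineB).filter (fun v => Adj 0 v))
    (fun v hv => by
      rw [Finset.mem_filter, hN] at hv
      rw [Bool.and_eq_true, Bool.not_eq_true', ← Bool.not_eq_true, Nat.beq_eq, mem_near]
      exact ⟨hv.2, fun e => hirr lineB (by rw [show v = lineB from Fin.ext e] at hv; exact hv.1)⟩)
    (fun g hg v hv => by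
      rw [Finset.mem_filter, hN] at hv ⊢
      refine ⟨?_, (adj_zero_iff g v).2 hv.2⟩
      rw [← hbfix g hg, hgrp]
      exact hv.1)
  -- the line 1
  have hc := c_ok
  simp only [cB, Bool.and_eq_true, forceN_eq, allBelow_eq_true] at hc
  obtain ⟨⟨hcfix, hcRow⟩, ⟨⟨hpartC, hpartF⟩, -⟩, hcm⟩ := hc
  have hcfixC : ∀ g ∈ wordsGrp [[8], [10], [12], [13]], ap g lineC = lineC := fun g hg =>
    fixB_spec hcfix hg (by simp)
  obtain ⟨ec, hecS, hecc⟩ := union_of_parts hpartC (S := (N lineC).filter (fun v => Adj 0 v))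
    (fun v hv => by rw [Finset.mem_filter] at hv; exact mem_near.2 hv.2)
    (fun g hg v hv => by
      rw [Finset.mem_filter, hN] at hv ⊢
      refine ⟨?_, (adj_zero_iff g v).2 hv.2⟩
      rw [← hcfixC g hg, hgrp]
      exact hv.1)
  have hfixz : ∀ (g : ↥grp) (v : Fin 4060), ap g v = 0 → v = 0 := by
    intro g v h
    have := congrArg (ap g⁻¹) h
    rwa [ap_inv_ap, ap_zero] at this
  obtain ⟨ef, hefS, hefc⟩ := union_of_parts hpartF
    (S := (N lineC).filter (fun v => ¬Adj 0 v ∧ v ≠ 0))
    (fun v hv => by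
      rw [Finset.mem_filter, hN] at hv
      simp only [Bool.and_eq_true, Bool.not_eq_true', ← Bool.not_eq_true, mem_near, Nat.beq_eq]
      exact ⟨⟨hv.2.1, fun e => hv.2.2 (Fin.ext e)⟩,
        fun e => hirr lineC (by rw [show v = lineC from Fin.ext e] at hv; exact hv.1)⟩)
    (fun g hg v hv => by
      rw [Finset.mem_filter, hN] at hv ⊢
      refine ⟨?_, fun h => hv.2.1 ((adj_zero_iff g v).1 h), fun h => hv.2.2 (hfixz g v h)⟩
      rw [← hcfixC g hg, hgrp]
      exact hv.1)
  -- splitting a neighbourhood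
  have hsplit : ∀ u, (N u).card = (if R u 0 then 1 else 0) +
      ((N u).filter (fun v => Adj 0 v)).card +
      ((N u).filter (fun v => ¬Adj 0 v ∧ v ≠ 0)).card := by
    intro u
    rw [card_split (N u)]
    simp only [hN]
  have hRb0 : R lineB 0 := hsymm _ _ ((h0 _).2 hbA)
  have hRc0 : ¬R lineC 0 := fun h => hcA ((h0 _).1 (hsymm _ _ h))
  have h1 := hsplit lineB
  rw [hdeg, if_pos hRb0] at h1
  have h2 := hsplit lineC
  rw [hdeg, if_neg hRc0, Nat.zero_add] at h2
  -- counting pairs
  have hcountB : ∀ v ∈ near, (far.bipartiteAbove R v).card =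
      ((N lineB).filter (fun z => ¬Adj 0 z ∧ z ≠ 0)).card := by
    intro v hv
    obtain ⟨g, rfl⟩ := trans_near (Finset.mem_filter.1 hv).2
    refine (Finset.card_equiv (g : Equiv.Perm (Fin 4060)) fun z => ?_).symm
    simp only [Finset.bipartiteAbove, far, Finset.mem_filter, Finset.mem_univ, true_and, hN]
    show _ ↔ (¬Adj 0 (ap g z) ∧ ap g z ≠ 0) ∧ R (ap g lineB) (ap g z)
    rw [hgrp, adj_zero_ap g z, and_comm]
    exact and_congr_left fun _ => and_congr_right fun _ =>
      not_congr ⟨fun e => e ▸ ap_zero g, hfixz g z⟩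
  have hcountC : ∀ v ∈ far, (near.bipartiteBelow R v).card =
      ((N lineC).filter (fun z => Adj 0 z)).card := by
    intro v hv
    obtain ⟨g, rfl⟩ := far_facts (Finset.mem_filter.1 hv).2.1 (Finset.mem_filter.1 hv).2.2
    refine (Finset.card_equiv (g : Equiv.Perm (Fin 4060)) fun z => ?_).symm
    simp only [Finset.bipartiteBelow, near, Finset.mem_filter, Finset.mem_univ, true_and, hN]
    show _ ↔ Adj 0 (ap g z) ∧ R (ap g z) (ap g lineC)
    rw [hgrp, adj_zero_ap g z, and_comm]
    exact and_congr_right fun _ => ⟨hsymm _ _, hsymm _ _⟩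
  have hnear : near.card = 1755 := by
    rw [← card_near h0]
    exact congrArg Finset.card (Finset.filter_congr fun v _ => (h0 v).symm)
  have hfar : far.card = 2304 := by
    have h := Finset.card_filter_add_card_filter_not (s := (Finset.univ : Finset (Fin 4060)))
      (fun v => Adj 0 v)
    have h' := Finset.card_filter_add_card_filter_not
      (s := Finset.univ.filter (fun v : Fin 4060 => ¬Adj 0 v)) (fun v => v = 0)
    have e : (Finset.univ.filter (fun v : Fin 4060 => ¬Adj 0 v)).filter (fun v => v = 0) = {0} := by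
      ext v
      simp only [Finset.mem_filter, Finset.mem_univ, true_and, Finset.mem_singleton]
      exact ⟨fun h => h.2, fun e => ⟨e ▸ not_adj_zero, e⟩⟩
    rw [e, Finset.card_singleton, Finset.filter_filter] at h'
    rw [Finset.card_univ, Fintype.card_fin] at h
    change (Finset.univ.filter _).card + _ = _ at h
    change (Finset.univ.filter fun v : Fin 4060 => ¬Adj 0 v ∧ ¬(v = 0)).card = 2304
    change (Finset.univ.filter (fun v : Fin 4060 => Adj 0 v)).card = 1755 at hnear
    omega
  have hdc := Finset.sum_card_bipartiteAbove_eq_sum_card_bipartiteBelow (r := R) (s := near) (t := far)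
  rw [Finset.sum_congr rfl hcountB, Finset.sum_congr rfl hcountC, Finset.sum_const, Finset.sum_const,
    hnear, hfar, smul_eq_mul, smul_eq_mul] at hdc
  have hplen : pTrees.length = 4 := rfl
  have hclen : cTrees.length = 2 := rfl
  have hflen : fTrees.length = 5 := rfl
  rw [hplen, Finset.sum_range_succ, Finset.sum_range_succ, Finset.sum_range_succ,
    Finset.sum_range_succ, Finset.sum_range_zero, Nat.zero_add] at hebc
  rw [hclen, Finset.sum_range_succ, Finset.sum_range_succ, Finset.sum_range_zero, Nat.zero_add] at hecc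
  rw [hflen, Finset.sum_range_succ, Finset.sum_range_succ, Finset.sum_range_succ,
    Finset.sum_range_succ, Finset.sum_range_succ, Finset.sum_range_zero, Nat.zero_add] at hefc
  simp only [List.getD_cons_zero, List.getD_cons_succ] at hebc hecc hefc
  obtain ⟨eb0, eb1, eb2, eb3⟩ : eb 0 = true ∧ eb 1 = true ∧ eb 2 = true ∧ eb 3 = false ∨
      (((N lineB).filter (fun v => Adj 0 v)).card = 1754) := by
    cases he0 : eb 0 <;> cases he1 : eb 1 <;> cases he2 : eb 2 <;> cases he3 : eb 3 <;>
      simp only [he0, he1, he2, he3, cond_true, cond_false] at hebc <;>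
      simp <;> omega
  case inr hbig =>
    exfalso
    have hBempty : (N lineB).filter (fun v => ¬Adj 0 v ∧ v ≠ 0) = ∅ := by
      rw [← Finset.card_eq_zero]; omega
    have hC0 : insert lineB (N lineB) = insert 0 (N 0) := by
      refine Finset.eq_of_subset_of_card_le (fun v hv => ?_) ?_
      · rw [Finset.mem_insert] at hv ⊢
        rcases hv with rfl | hv
        · exact Or.inr ((hN _ _).2 ((h0 _).2 hbA))
        · by_cases hv0 : v = 0
          · exact Or.inl hv0
          · by_cases hA : Adj 0 v
            · exact Or.inr ((hN _ _).2 ((h0 _).2 hA))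
            · have hm : v ∈ (N lineB).filter (fun v => ¬Adj 0 v ∧ v ≠ 0) :=
                Finset.mem_filter.2 ⟨hv, hA, hv0⟩
              rw [hBempty] at hm
              exact absurd hm (Finset.notMem_empty v)
      · rw [Finset.card_insert_of_notMem (fun h => hirr _ ((hN _ _).1 h)),
          Finset.card_insert_of_notMem (fun h => hirr _ ((hN _ _).1 h)), hdeg, hdeg]
    set C : Fin 4060 → Finset (Fin 4060) := fun u => insert u (N u) with hC
    have hperm : ∀ π : Equiv.Perm (Fin 4060), (∀ u v, R (π u) (π v) ↔ R u v) →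
        ∀ u, C (π u) = (C u).image π := by
      intro π hR u
      ext v
      obtain ⟨w, rfl⟩ := π.surjective v
      rw [π.injective.mem_finset_image]
      simp only [C, Finset.mem_insert, hN, hR, π.injective.eq_iff]
    have hgp : ∀ g : ↥grp, ∀ u, C (ap g u) = (C u).image (ap g) := fun g u =>
      hperm (g : Equiv.Perm (Fin 4060)) (hgrp g) u
    have hclass0 : ∀ v, v ∈ C 0 → C v = C 0 := by
      intro v hv
      rcases Finset.mem_insert.1 hv with rfl | hv
      · rfl
      obtain ⟨g, rfl⟩ := trans_near ((h0 v).1 ((hN _ _).1 hv))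
      rw [hgp, show C lineB = C 0 from hC0, ← hgp, ap_zero]
    have hclass : ∀ u v, v ∈ C u → C v = C u := by
      intro u v hv
      obtain ⟨π, rfl, hR⟩ := htr u
      obtain ⟨w, rfl⟩ := π.surjective v
      rw [hperm π hR, π.injective.mem_finset_image] at hv
      rw [hperm π hR, hperm π hR, hclass0 w hv]
    have hsum := Finset.card_eq_sum_card_image C (Finset.univ : Finset (Fin 4060))
    have hfib : ∀ S ∈ (Finset.univ : Finset (Fin 4060)).image C,
        ((Finset.univ : Finset (Fin 4060)).filter (fun u => C u = S)).card = 1756 := by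
      intro S hS
      obtain ⟨u, -, rfl⟩ := Finset.mem_image.1 hS
      rw [show (Finset.univ.filter fun v => C v = C u) = C u from Finset.ext fun v => by
        simp only [Finset.mem_filter, Finset.mem_univ, true_and]
        exact ⟨fun h => h ▸ Finset.mem_insert_self v _, hclass u v⟩]
      show (insert u (N u)).card = 1756
      rw [Finset.card_insert_of_notMem (fun h => hirr _ ((hN _ _).1 h)), hdeg]
    rw [Finset.sum_congr rfl hfib, Finset.sum_const, Finset.card_univ, Fintype.card_fin,
      smul_eq_mul] at hsum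
    omega
  have hec : ec 0 = true ∧ ec 1 = false := by
    rw [eb0, eb1, eb2, eb3] at hebc
    simp only [cond_true, cond_false] at hebc
    cases he0 : ec 0 <;> cases he1 : ec 1 <;>
      simp only [he0, he1, cond_true, cond_false] at hecc <;> simp <;> omega
  have hef : ef 0 = false ∧ ef 1 = false ∧ ef 2 = false ∧ ef 3 = false ∧ ef 4 = true := by
    rw [eb0, eb1, eb2, eb3] at hebc
    simp only [cond_true, cond_false] at hebc
    cases he0 : ef 0 <;> cases he1 : ef 1 <;> cases he2 : ef 2 <;> cases he3 : ef 3 <;>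
      cases he4 : ef 4 <;> simp only [he0, he1, he2, he3, he4, cond_true, cond_false] at hefc <;>
      simp <;> omega
  have hbb : ∀ v, Adj 0 v → (R lineB v ↔ Adj lineB v) := by
    intro v hv
    by_cases hvb : v = lineB
    · subst hvb
      exact iff_of_false (hirr _) fun h => not_adj_zero (by
        obtain ⟨h', hh, hh0⟩ : ∃ h ∈ Rud.Hgrp, h lineB = 0 := by
          have := Rud.Hgrp_transitive
          obtain ⟨h', e⟩ := MulAction.exists_smul_eq ↥Rud.Hgrp lineB (0 : Fin 4060)
          exact ⟨h', h'.2, e⟩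
        rw [← hh0]
        exact (hgrp_adj hh lineB lineB).2 h)
    have hf : (hasBit (rMask 0) (v : ℕ) && !(Nat.beq (v : ℕ) 2305)) = true := by
      rw [Bool.and_eq_true, Bool.not_eq_true', ← Bool.not_eq_true, Nat.beq_eq]
      exact ⟨mem_near.2 hv, fun e => hvb (Fin.ext e)⟩
    have hmd : Nat.testBit (treeMask treeD treeDSize) (v : ℕ) = true ↔ ¬Adj lineB v := by
      have h := hpd v v.2
      rw [Bool.or_eq_true, Bool.or_eq_true, Bool.not_eq_true', ← Bool.not_eq_true, mem_near,
        Nat.beq_eq] at h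
      rcases h with (h | h) | h
      · exact absurd hv h
      · exact absurd (Fin.ext h) hvb
      · rw [← hasBit_eq, sameB_eq h, Bool.not_eq_true', ← Bool.not_eq_true,
          hasBit_nb (p := lineB) hpRow]
    have hR' : R lineB v ↔ v ∈ (N lineB).filter (fun v => Adj 0 v) := by
      rw [Finset.mem_filter, hN]; exact ⟨fun h => ⟨h, hv⟩, fun h => h.1⟩
    simp only [partB, Bool.and_eq_true, allBelow_eq_true, forceL_eq] at hpart
    have hcnt := hpart.2 v v.2
    rw [countBit_spec, Nat.beq_eq, hf, cond_true] at hcnt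
    simp only [pTrees, masksOf, List.map_cons, List.map_nil, List.countP_cons, List.countP_nil,
      hasBit_eq] at hcnt
    rw [hR']
    by_cases hd : Nat.testBit (treeMask treeD treeDSize) (v : ℕ) = true
    · rw [hebS 3 (by decide) v (mem_treeSet.2 hd), eb3]
      exact iff_of_false Bool.false_ne_true (hmd.1 hd)
    · refine iff_of_true ?_ (by_contra fun h => hd (hmd.2 h))
      rcases (show Nat.testBit (treeMask treeP10 treeP10Size) (v : ℕ) = true ∨
          Nat.testBit (treeMask treeP80 treeP80Size) (v : ℕ) = true ∨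
          Nat.testBit (treeMask treeP640 treeP640Size) (v : ℕ) = true by
        by_contra hc'
        simp only [not_or] at hc'
        simp [hc'.1, hc'.2.1, hc'.2.2, hd] at hcnt) with h | h | h
      · exact (hebS 0 (by decide) v (mem_treeSet.2 h)).2 eb0
      · exact (hebS 1 (by decide) v (mem_treeSet.2 h)).2 eb1
      · exact (hebS 2 (by decide) v (mem_treeSet.2 h)).2 eb2
  have hcc : ∀ v, v ≠ 0 → (R lineC v ↔ Adj lineC v) := by
    intro v hv0
    have hm := sameB_eq (hcm v v.2)
    have hadj : Adj lineC v ↔ Nat.testBit (treeMask treeC1_0 treeC1_0Size) (v : ℕ) = true ∨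
        Nat.testBit (treeMask treeC2_4 treeC2_4Size) (v : ℕ) = true := by
      rw [← hasBit_nb (p := lineC) hcRow, hm, Bool.or_eq_true, hasBit_eq, hasBit_eq]
    rw [hadj]
    by_cases hvc : v = lineC
    · subst hvc
      refine iff_of_false (hirr _) ?_
      rintro (h | h) <;>
      · have : hasBit (nb 1) 1 = true := by
          rw [sameB_eq (hcm 1 (by norm_num)), Bool.or_eq_true, hasBit_eq, hasBit_eq]
          first | exact Or.inl h | exact Or.inr h
        have h' : hasBit (nb 1) 1 = false := by decide +kernel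
        exact Bool.false_ne_true (h'.symm.trans this)
    simp only [partB, Bool.and_eq_true, allBelow_eq_true, forceL_eq] at hpartC hpartF
    by_cases hA : Adj 0 v
    · have hcnt := hpartC.2 v v.2
      rw [countBit_spec, Nat.beq_eq, mem_near.2 hA, cond_true] at hcnt
      have hcntF := hpartF.2 v v.2
      rw [countBit_spec, Nat.beq_eq, mem_near.2 hA] at hcntF
      simp only [cTrees, fTrees, masksOf, List.map_cons, List.map_nil, List.countP_cons,
        List.countP_nil, hasBit_eq, Bool.not_true, Bool.false_and, cond_false] at hcnt hcntF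
      have hR' : R lineC v ↔ v ∈ (N lineC).filter (fun v => Adj 0 v) := by
        rw [Finset.mem_filter, hN]; exact ⟨fun h => ⟨h, hA⟩, fun h => h.1⟩
      rw [hR']
      have hn : ¬Nat.testBit (treeMask treeC2_4 treeC2_4Size) (v : ℕ) = true := fun h => by
        simp [h] at hcntF
      by_cases h10 : Nat.testBit (treeMask treeC1_0 treeC1_0Size) (v : ℕ) = true
      · exact iff_of_true ((hecS 0 (by decide) v (mem_treeSet.2 h10)).2 hec.1) (Or.inl h10)
      · have h11 : Nat.testBit (treeMask treeC1_1 treeC1_1Size) (v : ℕ) = true := by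
          by_contra hc'
          simp [h10, hc'] at hcnt
        refine iff_of_false (fun h => ?_) (fun h => h.elim h10 hn)
        have := (hecS 1 (by decide) v (mem_treeSet.2 h11)).1 h
        rw [hec.2] at this
        exact Bool.false_ne_true this
    · have hcnt := hpartF.2 v v.2
      have hf : (!(hasBit (rMask 0) (v : ℕ)) && !(Nat.beq (v : ℕ) 0) && !(Nat.beq (v : ℕ) 1)) =
          true := by
        simp only [Bool.and_eq_true, Bool.not_eq_true', ← Bool.not_eq_true, Nat.beq_eq, mem_near]
        exact ⟨⟨hA, fun e => hv0 (Fin.ext e)⟩, fun e => hvc (Fin.ext e)⟩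
      rw [countBit_spec, Nat.beq_eq, hf, cond_true] at hcnt
      have hcntC := hpartC.2 v v.2
      rw [countBit_spec, Nat.beq_eq,
        show hasBit (rMask 0) (v : ℕ) = false from Bool.eq_false_iff.2 fun h => hA (mem_near.1 h)]
        at hcntC
      simp only [cTrees, fTrees, masksOf, List.map_cons, List.map_nil, List.countP_cons,
        List.countP_nil, hasBit_eq, cond_false] at hcnt hcntC
      have hR' : R lineC v ↔ v ∈ (N lineC).filter (fun v => ¬Adj 0 v ∧ v ≠ 0) := by
        rw [Finset.mem_filter, hN]; exact ⟨fun h => ⟨h, hA, hv0⟩, fun h => h.1⟩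
      rw [hR']
      have hn : ¬Nat.testBit (treeMask treeC1_0 treeC1_0Size) (v : ℕ) = true := fun h => by
        simp [h] at hcntC
      by_cases h4 : Nat.testBit (treeMask treeC2_4 treeC2_4Size) (v : ℕ) = true
      · exact iff_of_true ((hefS 4 (by decide) v (mem_treeSet.2 h4)).2 hef.2.2.2.2) (Or.inr h4)
      · refine iff_of_false (fun h => ?_) (fun h => h.elim hn h4)
        rcases (show Nat.testBit (treeMask treeC2_0 treeC2_0Size) (v : ℕ) = true ∨
            Nat.testBit (treeMask treeC2_1 treeC2_1Size) (v : ℕ) = true ∨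
            Nat.testBit (treeMask treeC2_2 treeC2_2Size) (v : ℕ) = true ∨
            Nat.testBit (treeMask treeC2_3 treeC2_3Size) (v : ℕ) = true by
          by_contra hc'
          simp only [not_or] at hc'
          simp [hc'.1, hc'.2.1, hc'.2.2.1, hc'.2.2.2, h4] at hcnt) with h' | h' | h' | h'
        · exact Bool.false_ne_true (hef.1.symm.trans ((hefS 0 (by decide) v (mem_treeSet.2 h')).1 h))
        · exact Bool.false_ne_true (hef.2.1.symm.trans ((hefS 1 (by decide) v (mem_treeSet.2 h')).1 h))
        · exact Bool.false_ne_true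
            (hef.2.2.1.symm.trans ((hefS 2 (by decide) v (mem_treeSet.2 h')).1 h))
        · exact Bool.false_ne_true
            (hef.2.2.2.1.symm.trans ((hefS 3 (by decide) v (mem_treeSet.2 h')).1 h))
  -- all pairs
  have hfar' : ∀ u v, ¬Adj 0 u → u ≠ 0 → (R u v ↔ Adj u v) := by
    intro u v hu hu0
    by_cases hv : v = 0
    · subst hv
      exact iff_of_false (fun h => hu ((h0 _).1 (hsymm _ _ h))) (fun h => hu (adj_symm h))
    obtain ⟨g, rfl⟩ := far_facts hu hu0
    obtain ⟨w, rfl⟩ : ∃ w, ap g w = v := ⟨ap g⁻¹ v, ap_ap_inv g v⟩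
    rw [hgrp, hcc w fun e => hv (e ▸ ap_zero g)]
    exact (grp_pres g _ _).symm
  by_cases hx0 : x = 0
  · subst hx0; exact h0 y
  by_cases hxA : Adj 0 x
  · by_cases hy0 : y = 0
    · subst hy0
      exact iff_of_true (hsymm _ _ ((h0 _).2 hxA)) (adj_symm hxA)
    by_cases hyA : Adj 0 y
    · obtain ⟨g, rfl⟩ := trans_near hxA
      obtain ⟨w, rfl⟩ : ∃ w, ap g w = y := ⟨ap g⁻¹ y, ap_ap_inv g y⟩
      rw [hgrp, hbb w ((adj_zero_iff g w).1 hyA)]
      exact (grp_pres g _ _).symm
    · exact ⟨fun h => adj_symm ((hfar' y x hyA hy0).1 (hsymm _ _ h)),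
        fun h => hsymm _ _ ((hfar' y x hyA hy0).2 (adj_symm h))⟩
  · exact hfar' x y hxA hx0

end Relation

end Cfsg.Agent.RuRankThree
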