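import Cfsg.Agent.RuRankThree.RowDefs

/-! Evaluation of the checks on a quarter of the neighbourhoods. -/

set_option autoImplicit false
set_option maxRecDepth 100000
set_option maxHeartbeats 0
set_option Elab.async false

namespace Cfsg.Agent.RuRankThree

theorem rows0_ok : rowsB 0 181 = true := by decide +kernel

end Cfsg.Agent.RuRankThree
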