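import Cfsg.Agent.StemCert.Defs

/-! Data: orbits of subgroups. -/

set_option autoImplicit false
set_option maxRecDepth 100000
set_option maxHeartbeats 0
set_option linter.all false

namespace Cfsg.Agent.RuRankThree

open Cfsg.Agent.StemCert

/-- The size of an orbit. -/
def treeO1Size : ℕ :=
  1755

/-- Part of `treeO1`. -/
noncomputable def treeO1_l_l : Arr (ℕ × ℕ × ℕ) :=
  (.node (4044,1,2) (.node (4043,3,3) (.node (4041,6,3) (.node (4031,17,0) (.node (3991,31,3) (.node (4013,63,3) (.node (4029,133,3) (.node (2508,263,0) (.node (3335,546,2) .nil .nil) (.node (3634,1006,3) .nil .nil)) (.node (2521,403,0) (.node (3107,743,3) .nil .nil) .nil)) (.node (3425,198,2) (.node (2499,330,3) (.node (3664,636,3) .nil .nil) (.node (3604,1245,3) .nil .nil)) (.node (3156,473,3) (.node (2610,865,3) .nil .nil) .nil))) (.node (3731,98,2) (.node (2933,166,1) (.node (3111,298,0) (.node (3254,589,2) .nil .nil) (.node (2494,1112,2) .nil .nil)) (.node (2422,436,3) (.node (2771,808,2) .nil .nil) .nil)) (.node (3406,230,3) (.node (3436,367,2) (.node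 (3268,685,3) .nil .nil) (.node (2930,1471,2) .nil .nil)) (.node (2467,509,3) (.node (3259,931,3) .nil .nil) .nil)))) (.node (4011,48,0) (.node (4024,80,3) (.node (3631,151,3) (.node (3959,280,1) (.node (2913,565,1) .nil .nil) (.node (2917,1057,3) .nil .nil)) (.node (3611,419,3) (.node (3565,772,2) .nil .nil) .nil)) (.node (3836,215,2) (.node (3594,349,2) (.node (2976,661,1) .nil .nil) (.node (2701,1343,0) .nil .nil)) (.node (3562,492,3) (.node (2459,896,2) .nil .nil) .nil))) (.node (3953,117,1) (.node (3807,181,3) (.node (2345,316,1) (.node (3334,618,1) .nil .nil) (.node (3095,1167,3) .nil .nil)) (.node (2650,456,3) (.node (3377,835,3) .nil .nil) .nil)) (.node (2639,247,1) (.node (3776,385,2) (.node (2994,713,1) .nil .nil) .nil) (.node (2450,528,3) (.node (2738,963,1) .nil .nil) .nil))))) (.node (3931,23,3) (.node (4038,39,3) (.node (3452,72,2) (.node (3198,143,0) (.node (3090,271,2) (.node (2404,555,0) .nil .nil) (.node (3011,1026,0) .nil .nil)) (.node (2455,414,0) (.node (2468,756,3) .nil .nil) .nil)) (.node (3492,205,3)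 (.node (3032,339,3) (.node (2306,650,0) .nil .nil) (.node (3060,1288,3) .nil .nil)) (.node (2545,481,3) (.node (2623,883,2) .nil .nil) .nil))) (.node (3846,107,1) (.node (3359,173,2) (.node (3570,306,0) (.node (3432,603,0) .nil .nil) (.node (3062,1137,3) .nil .nil)) (.node (3310,445,0) (.node (2635,824,0) .nil .nil) .nil)) (.node (3790,237,3) (.node (3800,375,3) (.node (3496,700,2) .nil .nil) (.node (3255,1550,3) .nil .nil)) (.node (3447,519,2) (.node (3118,945,2) .nil .nil) .nil)))) (.node (3879,55,1) (.node (3082,88,0) (.node (3853,159,1) (.node (2632,289,2) (.node (3600,576,2) .nil .nil) (.node (2889,1086,3) .nil .nil)) (.node (3234,427,3) (.node (2489,790,0) .nil .nil) .nil)) (.node (3745,222,3) (.node (3671,359,1) (.node (3650,673,3) .nil .nil) (.node (2764,1408,2) .nil .nil)) (.node (2988,501,1) (.node (2651,912,3) .nil .nil) .nil))) (.node (3996,124,2) (.node (4025,189,3) (.node (2761,323,2) (.node (2866,628,3) .nil .nil) (.node (3267,1200,3) .nil .nil)) (.node (3449,463,2) (.node (2522,851,1) .nil .nil) .nil)) (.node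 (3450,254,2) (.node (3026,395,2) (.node (2367,728,2) .nil .nil) .nil) (.node (3669,538,3) (.node (3130,978,2) .nil .nil) .nil)))))) (.node (3929,12,2) (.node (3987,21,0) (.node (3938,36,2) (.node (3903,68,1) (.node (3729,138,2) (.node (3866,267,1) (.node (2848,550,2) .nil .nil) (.node (2955,1019,1) .nil .nil)) (.node (2612,409,1) (.node (3220,751,2) .nil .nil) .nil)) (.node (3733,202,2) (.node (3007,336,1) (.node (3505,643,1) .nil .nil) (.node (3529,1273,3) .nil .nil)) (.node (2559,477,0) (.node (3522,872,3) .nil .nil) .nil))) (.node (4037,102,3) (.node (3586,169,1) (.node (3614,301,2) (.node (2805,597,1) .nil .nil) (.node (2809,1128,2) .nil .nil)) (.node (2624,442,0) (.node (2684,813,3) .nil .nil) .nil)) (.node (2453,234,3) (.node (3346,370,3) (.node (3278,691,3) .nil .nil) (.node (3014,1514,1) .nil .nil)) (.node (2542,514,2) (.node (2908,938,2) .nil .nil) .nil)))) (.node (3917,52,2) (.node (3125,85,0) (.node (3752,154,3) (.node (3273,285,2) (.node (2839,571,2) .nil .nil) (.node (2326,1071,0) .nil .nil)) (.node (2655,424,3)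 (.node (3718,780,3) .nil .nil) .nil)) (.node (3701,219,3) (.node (3129,355,0) (.node (2849,667,2) .nil .nil) (.node (3262,1368,2) .nil .nil)) (.node (3176,497,0) (.node (3022,903,1) .nil .nil) .nil))) (.node (3393,121,2) (.node (3661,185,3) (.node (2890,319,0) (.node (2720,623,3) .nil .nil) (.node (2929,1186,2) .nil .nil)) (.node (2506,459,3) (.node (2694,843,2) .nil .nil) .nil)) (.node (3832,250,2) (.node (2427,390,2) (.node (2692,722,0) .nil .nil) .nil) (.node (3839,532,3) (.node (2667,969,1) .nil .nil) .nil))))) (.node (3940,28,3) (.node (3859,44,1) (.node (3742,77,2) (.node (3980,145,3) (.node (3782,274,2) (.node (2374,560,2) .nil .nil) (.node (2706,1040,0) .nil .nil)) (.node (3592,416,3) (.node (3400,761,2) .nil .nil) .nil)) (.node (3810,210,2) (.node (3663,344,1) (.node (2501,655,1) .nil .nil) (.node (2687,1307,2) .nil .nil)) (.node (3378,486,1) (.node (3065,888,3) .nil .nil) .nil))) (.node (4012,111,0) (.node (3734,178,2) (.node (3601,310,1) (.node (3635,611,0) .nil .nil) (.node (3186,1150,0) .nil .nil)) (.node (2355,452,2)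 (.node (3114,830,2) .nil .nil) .nil)) (.node (3647,242,3) (.node (3418,381,3) (.node (2946,707,1) .nil .nil) (.node (3499,1729,3) .nil .nil)) (.node (3382,524,3) (.node (3236,951,3) .nil .nil) .nil)))) (.node (3882,59,3) (.node (3442,92,2) (.node (3662,162,1) (.node (3588,293,2) (.node (3096,581,3) .nil .nil) (.node (2431,1098,3) .nil .nil)) (.node (2679,433,1) (.node (2403,797,2) .nil .nil) .nil)) (.node (3854,227,1) (.node (3804,363,2) (.node (3213,679,3) .nil .nil) (.node (3270,1425,0) .nil .nil)) (.node (3081,505,0) (.node (3577,919,3) .nil .nil) .nil))) (.node (3077,129,0) (.node (3518,193,3) (.node (3336,326,1) (.node (3475,631,3) .nil .nil) (.node (2920,1222,3) .nil .nil)) (.node (3720,469,2) (.node (2712,860,2) .nil .nil) .nil)) (.node (3712,259,3) (.node (3777,398,3) (.node (3656,735,3) .nil .nil) .nil) (.node (3751,541,3) (.node (3308,989,2) .nil .nil) .nil))))))) (.node (4059,5,1) (.node (4053,9,0) (.node (3924,18,2) (.node (3890,33,1) (.node (3994,65,0) (.node (3762,136,2) (.node (3362,265,2) (.node (2311,547,3)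 .nil .nil) (.node (3714,1013,2) .nil .nil)) (.node (2504,407,0) (.node (3482,746,2) .nil .nil) .nil)) (.node (3872,200,1) (.node (3545,333,3) (.node (3423,640,2) .nil .nil) (.node (3054,1267,1) .nil .nil)) (.node (3291,475,2) (.node (2700,869,2) .nil .nil) .nil))) (.node (2462,101,0) (.node (2314,167,2) (.node (3059,300,1) (.node (2821,593,2) .nil .nil) (.node (2605,1121,3) .nil .nil)) (.node (3655,438,1) (.node (2845,810,0) .nil .nil) .nil)) (.node (2393,233,2) (.node (2516,369,0) (.node (3251,689,3) .nil .nil) (.node (2474,1477,0) .nil .nil)) (.node (2347,511,3) (.node (2664,935,1) .nil .nil) .nil)))) (.node (3880,50,3) (.node (3342,83,2) (.node (3116,153,0) (.node (2465,284,0) (.node (2497,568,3) .nil .nil) (.node (2882,1063,0) .nil .nil)) (.node (2413,421,3) (.node (2858,776,1) .nil .nil) .nil)) (.node (3833,218,2) (.node (2511,352,0) (.node (3229,664,2) .nil .nil) (.node (3467,1356,1) .nil .nil)) (.node (3180,495,0) (.node (3002,901,0) .nil .nil) .nil))) (.node (4010,118,3) (.node (3368,184,2) (.node (2341,317,2) (.node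 (2953,619,3) .nil .nil) (.node (2485,1179,1) .nil .nil)) (.node (2972,458,2) (.node (2512,840,1) .nil .nil) .nil)) (.node (3581,248,2) (.node (3724,388,2) (.node (2604,717,1) .nil .nil) .nil) (.node (3299,530,0) (.node (2596,966,3) .nil .nil) .nil))))) (.node (3998,26,0) (.node (3956,42,3) (.node (3933,73,3) (.node (3353,144,2) (.node (3585,272,3) (.node (2847,558,3) .nil .nil) (.node (3067,1028,1) .nil .nil)) (.node (3399,415,2) (.node (2479,758,3) .nil .nil) .nil)) (.node (3727,207,2) (.node (2315,342,2) (.node (2602,652,3) .nil .nil) (.node (3514,1301,2) .nil .nil)) (.node (3553,484,1) (.node (3281,885,2) .nil .nil) .nil))) (.node (3457,108,2) (.node (2998,175,2) (.node (3102,307,3) (.node (3315,605,3) .nil .nil) (.node (3252,1145,0) .nil .nil)) (.node (3061,449,3) (.node (3230,825,3) .nil .nil) .nil)) (.node (3411,240,1) (.node (3004,378,2) (.node (2808,704,2) .nil .nil) (.node (2875,1614,2) .nil .nil)) (.node (2663,522,2) (.node (2376,949,2) .nil .nil) .nil)))) (.node (3958,58,1) (.node (3101,91,0) (.node (2322,160,3)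 (.node (2622,291,1) (.node (3006,579,3) .nil .nil) (.node (3008,1094,2) .nil .nil)) (.node (3837,430,3) (.node (3078,793,0) .nil .nil) .nil)) (.node (3850,225,3) (.node (3089,361,0) (.node (2520,676,0) .nil .nil) (.node (2387,1418,2) .nil .nil)) (.node (3654,503,1) (.node (3620,915,2) .nil .nil) .nil))) (.node (3092,126,0) (.node (3861,192,1) (.node (2457,324,3) (.node (3066,630,1) .nil .nil) (.node (2901,1219,1) .nil .nil)) (.node (3133,467,0) (.node (2727,854,2) .nil .nil) .nil)) (.node (3386,257,2) (.node (2673,397,1) (.node (2444,730,3) .nil .nil) .nil) (.node (3124,540,0) (.node (2748,984,2) .nil .nil) .nil)))))) (.node (4057,14,1) (.node (3409,22,2) (.node (4051,38,1) (.node (3981,71,0) (.node (4000,140,0) (.node (3798,269,2) (.node (3021,553,1) .nil .nil) (.node (2625,1022,1) .nil .nil)) (.node (3579,410,3) (.node (3052,754,1) .nil .nil) .nil)) (.node (2932,204,2) (.node (2435,338,2) (.node (2640,647,2) .nil .nil) (.node (3290,1279,2) .nil .nil)) (.node (2654,479,3) (.node (3181,879,0) .nil .nil) .nil))) (.node (3941,105,3)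 (.node (3946,170,2) (.node (3360,303,2) (.node (3117,600,3) .nil .nil) (.node (2395,1134,3) .nil .nil)) (.node (3196,443,3) (.node (3144,820,0) .nil .nil) .nil)) (.node (3312,236,0) (.node (2830,373,2) (.node (3552,694,2) .nil .nil) (.node (2936,1534,2) .nil .nil)) (.node (3543,516,1) (.node (3749,940,3) .nil .nil) .nil)))) (.node (3978,53,3) (.node (4006,86,2) (.node (3856,157,3) (.node (3637,287,1) (.node (2582,575,1) .nil .nil) (.node (2742,1078,3) .nil .nil)) (.node (2736,426,2) (.node (3086,787,0) .nil .nil) .nil)) (.node (3151,221,0) (.node (2925,357,2) (.node (3244,670,0) .nil .nil) (.node (2365,1394,1) .nil .nil)) (.node (3426,499,2) (.node (2666,906,0) .nil .nil) .nil))) (.node (3158,123,0) (.node (3849,187,1) (.node (2967,321,1) (.node (2850,625,0) .nil .nil) (.node (3048,1197,2) .nil .nil)) (.node (3249,461,0) (.node (3311,849,2) .nil .nil) .nil)) (.node (2456,253,0) (.node (3333,392,3) (.node (3009,724,3) .nil .nil) .nil) (.node (2642,536,1) (.node (3694,973,3) .nil .nil) .nil))))) (.node (3915,30,2) (.node (3404,45,2)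 (.node (3954,79,1) (.node (3848,150,1) (.node (3098,278,0) (.node (2493,563,2) .nil .nil) (.node (2333,1051,3) .nil .nil)) (.node (2961,418,1) (.node (2423,766,0) .nil .nil) .nil)) (.node (3485,211,3) (.node (2672,347,1) (.node (2962,658,3) .nil .nil) (.node (2746,1326,1) .nil .nil)) (.node (2965,489,2) (.node (2757,891,3) .nil .nil) .nil))) (.node (3809,115,2) (.node (3123,180,0) (.node (3155,313,2) (.node (2607,616,0) .nil .nil) (.node (3657,1162,1) .nil .nil)) (.node (2811,454,0) (.node (2983,832,1) .nil .nil) .nil)) (.node (2555,245,0) (.node (3115,383,0) (.node (3561,709,2) .nil .nil) .nil) (.node (3322,527,2) (.node (2985,959,1) .nil .nil) .nil)))) (.node (3419,62,2) (.node (4036,95,3) (.node (2562,164,3) (.node (2484,296,0) (.node (3352,585,3) .nil .nil) (.node (2974,1102,0) .nil .nil)) (.node (3528,434,3) (.node (2353,804,3) .nil .nil) .nil)) (.node (2407,228,3) (.node (3199,366,0) (.node (2600,683,2) .nil .nil) (.node (2401,1439,3) .nil .nil)) (.node (2880,508,2) (.node (2406,928,0) .nil .nil) .nil))) (.node (3373,130,2)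 (.node (2478,196,0) (.node (3708,327,2) (.node (2547,634,3) .nil .nil) (.node (2451,1230,3) .nil .nil)) (.node (2795,472,2) (.node (3247,863,2) .nil .nil) .nil)) (.node (3753,261,2) (.node (3951,400,2) (.node (2429,738,3) .nil .nil) .nil) (.node (2554,545,0) (.node (2320,1001,0) .nil .nil) .nil))))))))

/-- Part of `treeO1`. -/
noncomputable def treeO1_l_r : Arr (ℕ × ℕ × ℕ) :=
  (.node (4055,3,0) (.node (4047,4,2) (.node (3896,8,2) (.node (3925,17,3) (.node (3921,32,2) (.node (3337,64,2) (.node (4030,135,0) (.node (3695,264,1) (.node (3029,547,1) .nil .nil) (.node (2442,1010,3) .nil .nil)) (.node (3394,405,2) (.node (3105,744,3) .nil .nil) .nil)) (.node (3943,199,1) (.node (3651,332,3) (.node (2986,639,1) .nil .nil) (.node (2812,1260,2) .nil .nil)) (.node (3477,474,3) (.node (2688,867,0) .nil .nil) .nil))) (.node (3387,100,2) (.node (2553,166,3) (.node (3478,298,3) (.node (3515,591,1) .nil .nil) (.node (2660,1115,3) .nil .nil)) (.node (3640,437,2) (.node (2354,809,2) .nil .nil) .nil)) (.node (2977,232,2) (.node (2409,368,2)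 (.node (2634,688,2) .nil .nil) (.node (3437,1473,1) .nil .nil)) (.node (3265,510,2) (.node (3805,932,3) .nil .nil) .nil)))) (.node (3898,49,1) (.node (3821,82,2) (.node (2852,152,2) (.node (3819,282,2) (.node (2878,566,1) .nil .nil) (.node (2372,1059,3) .nil .nil)) (.node (2950,421,1) (.node (3407,773,3) .nil .nil) .nil)) (.node (3448,217,2) (.node (3763,350,3) (.node (2334,663,0) .nil .nil) (.node (2783,1348,2) .nil .nil)) (.node (3025,494,1) (.node (2888,898,2) .nil .nil) .nil))) (.node (3865,118,1) (.node (3869,182,3) (.node (2789,316,3) (.node (2617,619,0) .nil .nil) (.node (3596,1173,3) .nil .nil)) (.node (2576,457,3) (.node (3024,838,1) .nil .nil) .nil)) (.node (3320,247,3) (.node (3396,387,2) (.node (2873,715,0) .nil .nil) .nil) (.node (2989,529,2) (.node (2399,964,0) .nil .nil) .nil))))) (.node (3885,24,3) (.node (3881,40,3) (.node (3983,73,0) (.node (3488,143,3) (.node (3161,272,0) (.node (2637,557,3) .nil .nil) (.node (2747,1027,1) .nil .nil)) (.node (3615,414,3) (.node (2454,757,3) .nil .nil) .nil)) (.node (4005,206,2)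 (.node (3527,340,3) (.node (2999,651,2) .nil .nil) (.node (3170,1300,0) .nil .nil)) (.node (3245,482,3) (.node (3572,884,1) .nil .nil) .nil))) (.node (4019,107,3) (.node (3605,174,3) (.node (2740,307,1) (.node (3309,604,3) .nil .nil) (.node (3242,1142,3) .nil .nil)) (.node (2619,448,1) (.node (2627,825,1) .nil .nil) .nil)) (.node (3945,238,2) (.node (3050,377,3) (.node (3740,701,3) .nil .nil) (.node (2861,1586,2) .nil .nil)) (.node (3852,521,1) (.node (3372,947,3) .nil .nil) .nil)))) (.node (3877,56,2) (.node (3801,89,2) (.node (2984,160,1) (.node (2495,290,2) (.node (2490,578,0) .nil .nil) (.node (2907,1091,0) .nil .nil)) (.node (3625,429,2) (.node (2668,792,1) .nil .nil) .nil)) (.node (3191,224,0) (.node (3166,360,2) (.node (3500,674,3) .nil .nil) (.node (2770,1411,0) .nil .nil)) (.node (2486,502,0) (.node (3013,913,2) .nil .nil) .nil))) (.node (3876,125,0) (.node (3780,191,2) (.node (2823,324,1) (.node (2970,629,2) .nil .nil) (.node (2741,1213,0) .nil .nil)) (.node (2470,464,3) (.node (2817,853,0) .nil .nil) .nil)) (.node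 (3410,255,2) (.node (3141,396,2) (.node (2749,729,0) .nil .nil) .nil) (.node (2828,539,2) (.node (2570,979,3) .nil .nil) .nil)))))) (.node (4049,13,1) (.node (3893,21,3) (.node (3935,37,2) (.node (3847,70,1) (.node (3338,139,2) (.node (4023,267,3) (.node (2754,551,2) .nil .nil) (.node (2515,1020,0) .nil .nil)) (.node (3159,410,0) (.node (2380,752,2) .nil .nil) .nil)) (.node (3446,203,2) (.node (2424,336,3) (.node (2498,646,0) .nil .nil) (.node (2704,1278,0) .nil .nil)) (.node (3685,478,1) (.node (2540,875,3) .nil .nil) .nil))) (.node (3888,103,3) (.node (3841,169,3) (.node (3693,302,1) (.node (2390,599,0) .nil .nil) (.node (3178,1131,2) .nil .nil)) (.node (2721,443,1) (.node (2822,815,1) .nil .nil) .nil)) (.node (2590,235,2) (.node (2546,372,0) (.node (3497,693,2) .nil .nil) (.node (2780,1525,2) .nil .nil)) (.node (3152,515,0) (.node (3462,939,2) .nil .nil) .nil)))) (.node (3863,53,1) (.node (3548,85,3) (.node (3185,156,0) (.node (2436,286,0) (.node (2745,573,2) .nil .nil) (.node (2915,1074,0) .nil .nil)) (.node (3217,425,3)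 (.node (3094,784,0) .nil .nil) .nil)) (.node (3121,220,2) (.node (3431,356,2) (.node (3556,668,0) .nil .nil) (.node (2724,1388,2) .nil .nil)) (.node (3415,498,2) (.node (2348,903,3) .nil .nil) .nil))) (.node (2461,122,2) (.node (3391,186,2) (.node (2819,319,3) (.node (2408,624,2) .nil .nil) (.node (3206,1189,2) .nil .nil)) (.node (3639,460,2) (.node (2993,844,3) .nil .nil) .nil)) (.node (3083,251,0) (.node (3567,391,2) (.node (2786,722,3) .nil .nil) .nil) (.node (3680,534,2) (.node (3717,971,3) .nil .nil) .nil))))) (.node (3910,29,2) (.node (4020,44,3) (.node (3369,78,2) (.node (3914,147,2) (.node (3732,276,2) (.node (3787,561,0) .nil .nil) (.node (3056,1044,3) .nil .nil)) (.node (3384,417,2) (.node (2500,762,3) .nil .nil) .nil)) (.node (3074,211,0) (.node (2829,346,1) (.node (2788,656,2) .nil .nil) (.node (3530,1312,2) .nil .nil)) (.node (3781,488,2) (.node (2449,890,2) .nil .nil) .nil))) (.node (3858,114,1) (.node (2718,179,2) (.node (3370,311,3) (.node (3027,614,2) .nil .nil) (.node (2756,1154,1) .nil .nil)) (.node (2358,453,2)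 (.node (2646,831,2) .nil .nil) .nil)) (.node (2360,243,2) (.node (2758,382,2) (.node (2388,707,3) .nil .nil) (.node (3266,1749,3) .nil .nil)) (.node (2643,526,2) (.node (2838,955,3) .nil .nil) .nil)))) (.node (3942,61,3) (.node (3789,93,2) (.node (3163,163,0) (.node (3764,294,3) (.node (2831,582,2) .nil .nil) (.node (3700,1100,3) .nil .nil)) (.node (3136,434,0) (.node (2995,802,3) .nil .nil) .nil)) (.node (3071,228,1) (.node (3961,365,1) (.node (3154,681,0) .nil .nil) (.node (3015,1431,3) .nil .nil)) (.node (3735,506,3) (.node (2803,925,1) .nil .nil) .nil))) (.node (3557,129,3) (.node (2990,195,1) (.node (3636,326,3) (.node (3538,633,2) .nil .nil) (.node (3676,1224,3) .nil .nil)) (.node (2773,470,2) (.node (3697,861,0) .nil .nil) .nil)) (.node (3408,260,2) (.node (3721,399,3) (.node (3381,737,2) .nil .nil) .nil) (.node (2448,544,0) (.node (2509,995,3) .nil .nil) .nil))))))) (.node (3973,5,3) (.node (3937,11,2) (.node (3906,19,2) (.node (3891,34,2) (.node (4021,67,0) (.node (3971,137,3) (.node (3944,266,1) (.node (3666,548,3)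 .nil .nil) (.node (3187,1018,0) .nil .nil)) (.node (3599,407,3) (.node (3112,750,2) .nil .nil) .nil)) (.node (4009,200,3) (.node (3157,335,0) (.node (2328,642,2) .nil .nil) (.node (2309,1270,3) .nil .nil)) (.node (2591,476,2) (.node (3038,871,1) .nil .nil) .nil))) (.node (3711,101,3) (.node (3228,168,0) (.node (2321,300,3) (.node (2645,595,1) .nil .nil) (.node (2356,1123,2) .nil .nil)) (.node (3365,439,2) (.node (3016,812,1) .nil .nil) .nil)) (.node (2865,234,1) (.node (3641,369,3) (.node (3150,690,3) .nil .nil) (.node (3474,1489,3) .nil .nil)) (.node (3439,513,3) (.node (3830,936,2) .nil .nil) .nil)))) (.node (3796,51,2) (.node (2790,84,2) (.node (3466,153,3) (.node (3591,284,3) (.node (3506,570,3) .nil .nil) (.node (3328,1068,3) .nil .nil)) (.node (3627,422,3) (.node (3675,779,2) .nil .nil) .nil)) (.node (2505,219,0) (.node (2608,354,1) (.node (2939,665,3) .nil .nil) (.node (2774,1364,2) .nil .nil)) (.node (3489,495,3) (.node (2714,902,1) .nil .nil) .nil))) (.node (3758,120,2) (.node (2447,185,0) (.node (2375,318,2) (.node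 (2734,621,3) .nil .nil) (.node (2797,1182,3) .nil .nil)) (.node (2884,459,1) (.node (2753,841,3) .nil .nil) .nil)) (.node (3541,249,1) (.node (3851,389,1) (.node (3706,718,2) .nil .nil) .nil) (.node (3682,531,2) (.node (2384,967,3) .nil .nil) .nil))))) (.node (4033,28,0) (.node (3356,43,2) (.node (3892,75,2) (.node (3948,145,1) (.node (3995,273,2) (.node (2357,559,2) .nil .nil) (.node (2813,1033,0) .nil .nil)) (.node (2531,416,0) (.node (3660,759,3) .nil .nil) .nil)) (.node (3963,209,1) (.node (2460,343,0) (.node (3799,654,0) .nil .nil) (.node (2759,1305,2) .nil .nil)) (.node (3329,485,0) (.node (2471,887,0) .nil .nil) .nil))) (.node (3993,109,0) (.node (2530,177,0) (.node (2339,308,3) (.node (2987,609,2) .nil .nil) (.node (2335,1147,3) .nil .nil)) (.node (2691,451,2) (.node (3670,826,2) .nil .nil) .nil)) (.node (3366,241,2) (.node (3612,380,1) (.node (3283,706,2) .nil .nil) (.node (3168,1725,1) .nil .nil)) (.node (2558,523,0) (.node (2536,950,3) .nil .nil) .nil)))) (.node (4028,58,3) (.node (3511,91,3) (.node (3479,161,2)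 (.node (3293,291,3) (.node (2826,580,2) .nil .nil) (.node (2523,1096,2) .nil .nil)) (.node (2476,432,0) (.node (2851,796,2) .nil .nil) .nil)) (.node (3828,226,2) (.node (3508,361,3) (.node (2581,677,3) .nil .nil) (.node (2794,1422,1) .nil .nil)) (.node (3184,504,2) (.node (2525,917,3) .nil .nil) .nil))) (.node (3820,127,2) (.node (3137,193,0) (.node (3036,325,2) (.node (2340,630,3) .nil .nil) (.node (3288,1221,2) .nil .nil)) (.node (2307,468,0) (.node (2859,858,3) .nil .nil) .nil)) (.node (2532,259,0) (.node (3248,397,3) (.node (3788,733,3) .nil .nil) .nil) (.node (3498,540,3) (.node (2877,988,1) .nil .nil) .nil)))))) (.node (3974,14,3) (.node (3984,23,0) (.node (3972,39,1) (.node (3908,71,3) (.node (3747,142,2) (.node (3401,270,2) (.node (2391,553,3) .nil .nil) (.node (3172,1023,0) .nil .nil)) (.node (3746,411,3) (.node (3564,756,0) .nil .nil) .nil)) (.node (3122,205,0) (.node (2629,339,0) (.node (2779,649,1) .nil .nil) (.node (2385,1284,3) .nil .nil)) (.node (2400,480,3) (.node (2957,881,1) .nil .nil) .nil))) (.node (3428,106,2)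 (.node (3438,172,1) (.node (2874,305,2) (.node (3580,601,3) .nil .nil) (.node (3263,1136,2) .nil .nil)) (.node (2599,444,2) (.node (2425,821,3) .nil .nil) .nil)) (.node (3491,237,1) (.node (3171,374,0) (.node (3775,697,2) .nil .nil) (.node (2312,1546,0) .nil .nil)) (.node (3829,517,2) (.node (3190,942,0) .nil .nil) .nil)))) (.node (3911,54,2) (.node (3875,87,0) (.node (3779,158,2) (.node (2683,288,3) (.node (3306,575,3) .nil .nil) (.node (2426,1085,2) .nil .nil)) (.node (2584,427,1) (.node (3069,789,2) .nil .nil) .nil)) (.node (3547,221,3) (.node (3188,358,0) (.node (3063,672,2) .nil .nil) (.node (2725,1395,3) .nil .nil)) (.node (3967,500,1) (.node (2371,909,2) .nil .nil) .nil))) (.node (3465,123,3) (.node (4026,187,3) (.node (2785,322,2) (.node (3047,627,1) .nil .nil) (.node (2366,1198,3) .nil .nil)) (.node (3835,461,3) (.node (2992,850,2) .nil .nil) .nil)) (.node (3687,253,3) (.node (2689,394,3) (.node (3145,726,3) .nil .nil) .nil) (.node (2526,538,0) (.node (3566,975,3) .nil .nil) .nil))))) (.node (3864,31,1) (.node (4008,46,0)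 (.node (3871,80,1) (.node (2527,151,0) (.node (3535,278,3) (.node (2614,564,0) .nil .nil) (.node (2652,1053,3) .nil .nil)) (.node (2432,418,3) (.node (2661,770,2) .nil .nil) .nil)) (.node (3960,213,1) (.node (3218,348,0) (.node (3167,659,3) .nil .nil) (.node (2703,1339,1) .nil .nil)) (.node (2330,491,3) (.node (2825,894,0) .nil .nil) .nil))) (.node (3434,116,2) (.node (3554,180,3) (.node (3120,315,1) (.node (3318,617,2) .nil .nil) (.node (3271,1165,2) .nil .nil)) (.node (2363,455,2) (.node (3513,834,2) .nil .nil) .nil)) (.node (3797,246,2) (.node (3573,384,1) (.node (3840,711,1) .nil .nil) .nil) (.node (2898,528,1) (.node (2863,960,2) .nil .nil) .nil)))) (.node (3860,63,1) (.node (4035,97,0) (.node (2593,165,2) (.node (2648,297,1) (.node (3153,588,2) .nil .nil) (.node (2472,1107,3) .nil .nil)) (.node (2991,436,1) (.node (2437,807,2) .nil .nil) .nil)) (.node (3525,229,2) (.node (3558,366,3) (.node (2772,684,1) .nil .nil) (.node (2616,1469,3) .nil .nil)) (.node (3476,509,0) (.node (2681,930,2) .nil .nil) .nil))) (.node (3842,131,2)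 (.node (3653,197,1) (.node (3358,329,1) (.node (3421,636,1) .nil .nil) (.node (2887,1240,0) .nil .nil)) (.node (3609,473,0) (.node (2762,864,2) .nil .nil) .nil)) (.node (3243,262,2) (.node (3350,402,1) (.node (2973,742,3) .nil .nil) .nil) (.node (3678,545,3) (.node (3040,1005,1) .nil .nil) .nil))))))))

/-- Part of `treeO1`. -/
noncomputable def treeO1_l : Arr (ℕ × ℕ × ℕ) :=
  .node (3843,0,0) treeO1_l_l treeO1_l_r

/-- Part of `treeO1`. -/
noncomputable def treeO1_r_l : Arr (ℕ × ℕ × ℕ) :=
  (.node (4046,2,2) (.node (4054,4,0) (.node (4056,8,1) (.node (3936,17,2) (.node (3985,32,0) (.node (3947,64,1) (.node (3900,134,3) (.node (3683,263,3) (.node (3526,546,3) .nil .nil) (.node (2896,1009,0) .nil .nil)) (.node (2677,404,1) (.node (2767,744,1) .nil .nil) .nil)) (.node (3533,198,3) (.node (3952,331,3) (.node (3088,638,0) .nil .nil) (.node (2657,1255,2) .nil .nil)) (.node (3165,474,0) (.node (2941,866,0) .nil .nil) .nil))) (.node (4022,98,3) (.node (2514,166,2) (.node (3454,298,2) (.node (2927,589,3) .nil .nil) (.node (3104,1115,1)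 .nil .nil)) (.node (2487,437,0) (.node (2919,809,1) .nil .nil) .nil)) (.node (3140,231,0) (.node (3064,368,1) (.node (2323,687,0) .nil .nil) (.node (2552,1472,3) .nil .nil)) (.node (2711,510,1) (.node (3204,932,0) .nil .nil) .nil)))) (.node (3904,48,3) (.node (2466,82,0) (.node (2659,152,1) (.node (3765,280,2) (.node (3005,565,2) .nil .nil) (.node (2791,1059,2) .nil .nil)) (.node (3607,420,1) (.node (3595,772,3) .nil .nil) .nil)) (.node (3802,216,2) (.node (3207,350,0) (.node (2377,661,2) .nil .nil) (.node (2726,1344,2) .nil .nil)) (.node (3597,493,1) (.node (3307,896,3) .nil .nil) .nil))) (.node (3376,117,2) (.node (3773,182,2) (.node (2359,316,2) (.node (3686,618,2) .nil .nil) (.node (2730,1170,1) .nil .nil)) (.node (3003,457,0) (.node (3149,837,0) .nil .nil) .nil)) (.node (2537,247,2) (.node (3182,386,0) (.node (2869,713,2) .nil .nil) .nil) (.node (2631,529,1) (.node (2867,963,2) .nil .nil) .nil))))) (.node (3889,24,1) (.node (3999,40,0) (.node (3992,72,3) (.node (3363,143,2) (.node (3211,271,3) (.node (2801,557,2) .nil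 .nil) (.node (2571,1026,3) .nil .nil)) (.node (3340,414,2) (.node (2940,757,1) .nil .nil) .nil)) (.node (3574,206,1) (.node (3138,340,0) (.node (3339,650,3) .nil .nil) (.node (2820,1294,0) .nil .nil)) (.node (2630,482,1) (.node (3277,883,3) .nil .nil) .nil))) (.node (3414,107,2) (.node (2518,174,0) (.node (2832,306,2) (.node (3216,603,3) .nil .nil) (.node (2719,1141,1) .nil .nil)) (.node (3523,446,2) (.node (3126,824,2) .nil .nil) .nil)) (.node (3202,238,0) (.node (2528,376,0) (.node (3542,701,1) .nil .nil) (.node (2814,1558,2) .nil .nil)) (.node (2441,520,0) (.node (2420,947,0) .nil .nil) .nil)))) (.node (3883,55,3) (.node (3966,89,1) (.node (3715,159,2) (.node (2905,289,3) (.node (3582,577,1) .nil .nil) (.node (3261,1090,1) .nil .nil)) (.node (3222,428,0) (.node (3646,791,1) .nil .nil) .nil)) (.node (3725,223,2) (.node (3044,360,1) (.node (3106,674,0) .nil .nil) (.node (2892,1410,0) .nil .nil)) (.node (2317,501,3) (.node (2857,913,1) .nil .nil) .nil))) (.node (3811,124,3) (.node (2557,191,0) (.node (3109,323,3) (.node (2675,629,0)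 .nil .nil) (.node (2807,1206,0) .nil .nil)) (.node (3232,464,2) (.node (3483,852,2) .nil .nil) .nil)) (.node (3855,255,1) (.node (2945,395,3) (.node (2568,728,3) .nil .nil) .nil) (.node (2658,539,1) (.node (3000,978,3) .nil .nil) .nil)))))) (.node (3926,12,3) (.node (3918,21,2) (.node (4032,37,0) (.node (4016,69,0) (.node (3621,138,3) (.node (3738,267,2) (.node (3555,551,0) .nil .nil) (.node (2433,1019,3) .nil .nil)) (.node (3323,409,3) (.node (3043,751,3) .nil .nil) .nil)) (.node (3632,202,3) (.node (3108,336,2) (.node (2378,645,2) .nil .nil) (.node (2732,1276,3) .nil .nil)) (.node (3699,477,3) (.node (2402,875,2) .nil .nil) .nil))) (.node (4001,103,0) (.node (3587,169,2) (.node (3659,301,3) (.node (2816,598,2) .nil .nil) (.node (2902,1130,1) .nil .nil)) (.node (3051,442,3) (.node (2792,814,2) .nil .nil) .nil)) (.node (2620,235,1) (.node (3422,371,2) (.node (3812,692,3) .nil .nil) (.node (2924,1522,2) .nil .nil)) (.node (3210,514,3) (.node (3215,938,3) .nil .nil) .nil)))) (.node (3907,52,3) (.node (3463,85,2) (.node (3784,155,2)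 (.node (2336,285,3) (.node (2318,571,3) .nil .nil) (.node (2628,1073,2) .nil .nil)) (.node (2362,425,2) (.node (2329,783,3) .nil .nil) .nil)) (.node (2613,220,1) (.node (3472,355,3) (.node (2564,667,3) .nil .nil) (.node (2894,1370,2) .nil .nil)) (.node (3962,498,1) (.node (3023,903,2) .nil .nil) .nil))) (.node (2615,122,1) (.node (2538,186,0) (.node (3072,319,2) (.node (2641,624,1) .nil .nil) (.node (3304,1189,1) .nil .nil)) (.node (3383,460,1) (.node (3128,844,2) .nil .nil) .nil)) (.node (3870,250,3) (.node (2337,390,3) (.node (2477,722,2) .nil .nil) .nil) (.node (3371,534,1) (.node (2410,969,2) .nil .nil) .nil))))) (.node (4050,29,1) (.node (3374,44,2) (.node (3099,78,0) (.node (4007,146,0) (.node (3091,275,0) (.node (2909,560,3) .nil .nil) (.node (2782,1043,2) .nil .nil)) (.node (3113,417,0) (.node (2959,762,2) .nil .nil) .nil)) (.node (3965,210,3) (.node (2763,345,0) (.node (2633,656,1) .nil .nil) (.node (2793,1310,1) .nil .nil)) (.node (2519,487,0) (.node (3057,889,2) .nil .nil) .nil))) (.node (4015,113,0) (.node (3629,178,3)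 (.node (2414,311,0) (.node (2398,614,1) .nil .nil) (.node (2594,1152,1) .nil .nil)) (.node (2844,453,0) (.node (3018,830,3) .nil .nil) .nil)) (.node (2609,243,1) (.node (2592,382,1) (.node (2855,707,2) .nil .nil) (.node (2833,1741,2) .nil .nil)) (.node (3139,525,0) (.node (3569,952,1) .nil .nil) .nil)))) (.node (3803,61,2) (.node (3970,93,1) (.node (3453,162,3) (.node (3325,294,0) (.node (2947,582,1) .nil .nil) (.node (3239,1099,3) .nil .nil)) (.node (3053,433,2) (.node (3039,798,1) .nil .nil) .nil)) (.node (3768,227,2) (.node (3200,364,0) (.node (3769,680,3) .nil .nil) (.node (2903,1426,2) .nil .nil)) (.node (3516,505,3) (.node (3146,923,2) .nil .nil) .nil))) (.node (3364,129,2) (.node (3814,194,2) (.node (3613,326,2) (.node (3690,633,1) .nil .nil) (.node (3412,1224,1) .nil .nil)) (.node (2969,470,1) (.node (2981,860,3) .nil .nil) .nil)) (.node (3110,260,0) (.node (3707,399,2) (.node (3135,737,0) .nil .nil) .nil) (.node (3424,543,2) (.node (2938,990,0) .nil .nil) .nil))))))) (.node (3905,5,2) (.node (4042,9,3) (.node (4058,19,1)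 (.node (3884,33,3) (.node (3920,66,2) (.node (3344,137,2) (.node (3487,265,3) (.node (2481,548,0) .nil .nil) (.node (3212,1014,0) .nil .nil)) (.node (3757,407,2) (.node (2452,748,2) .nil .nil) .nil)) (.node (3755,200,2) (.node (2428,334,0) (.node (3698,641,2) .nil .nil) (.node (3644,1269,3) .nil .nil)) (.node (3068,476,1) (.node (2916,869,3) .nil .nil) .nil))) (.node (3778,101,2) (.node (3235,167,3) (.node (3275,300,2) (.node (2798,593,3) .nil .nil) (.node (2343,1122,3) .nil .nil)) (.node (3390,438,3) (.node (2806,811,0) .nil .nil) .nil)) (.node (2352,233,3) (.node (3638,369,2) (.node (2802,690,1) .nil .nil) (.node (3131,1488,3) .nil .nil)) (.node (3665,512,1) (.node (2750,935,2) .nil .nil) .nil)))) (.node (3857,51,1) (.node (2665,84,1) (.node (3550,153,2) (.node (3786,284,2) (.node (3652,569,3) .nil .nil) (.node (2804,1066,0) .nil .nil)) (.node (2535,422,0) (.node (3238,777,3) .nil .nil) .nil)) (.node (3677,218,3) (.node (3728,353,2) (.node (2897,665,0) .nil .nil) (.node (2881,1359,2) .nil .nil)) (.node (3536,495,2) (.node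 (2674,901,3) .nil .nil) .nil))) (.node (2492,120,0) (.node (3862,184,3) (.node (2682,317,3) (.node (2621,620,0) .nil .nil) (.node (2699,1180,0) .nil .nil)) (.node (2446,458,3) (.node (3246,840,2) .nil .nil) .nil)) (.node (3459,248,3) (.node (3709,388,3) (.node (3524,718,1) .nil .nil) .nil) (.node (3730,530,3) (.node (3305,967,2) .nil .nil) .nil))))) (.node (3927,27,2) (.node (3177,43,0) (.node (3886,74,3) (.node (4014,144,3) (.node (3544,273,1) (.node (3031,559,0) .nil .nil) (.node (2430,1030,0) .nil .nil)) (.node (3616,415,3) (.node (3456,759,1) .nil .nil) .nil)) (.node (3085,208,0) (.node (2417,342,3) (.node (2656,653,3) .nil .nil) (.node (3033,1305,1) .nil .nil)) (.node (3619,484,2) (.node (3020,886,2) .nil .nil) .nil))) (.node (3990,108,3) (.node (3402,176,2) (.node (3042,308,1) (.node (3183,607,3) .nil .nil) (.node (2837,1147,2) .nil .nil)) (.node (3617,451,0) (.node (3197,826,0) .nil .nil) .nil)) (.node (3624,240,2) (.node (2952,379,1) (.node (2710,706,1) .nil .nil) (.node (3578,1656,3) .nil .nil)) (.node (2412,522,3)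 (.node (2872,950,2) .nil .nil) .nil)))) (.node (3458,58,2) (.node (3427,91,2) (.node (2458,161,0) (.node (3070,291,2) (.node (3484,580,0) .nil .nil) (.node (2776,1095,0) .nil .nil)) (.node (3417,431,1) (.node (2722,795,2) .nil .nil) .nil)) (.node (2463,226,0) (.node (3486,361,2) (.node (2769,677,2) .nil .nil) (.node (2685,1419,1) .nil .nil)) (.node (2583,504,1) (.node (2370,917,2) .nil .nil) .nil))) (.node (3964,127,1) (.node (3791,192,2) (.node (2928,325,1) (.node (2911,630,2) .nil .nil) (.node (3296,1219,2) .nil .nil)) (.node (3468,467,3) (.node (2876,856,2) .nil .nil) .nil)) (.node (4039,257,3) (.node (3240,397,2) (.node (3313,732,0) .nil .nil) .nil) (.node (3495,540,2) (.node (3127,986,2) .nil .nil) .nil)))))) (.node (3895,14,2) (.node (3977,22,3) (.node (3923,38,2) (.node (3916,71,2) (.node (3887,140,3) (.node (3702,269,3) (.node (2676,553,2) .nil .nil) (.node (2716,1022,2) .nil .nil)) (.node (3501,411,1) (.node (2686,755,3) .nil .nil) .nil)) (.node (3317,204,3) (.node (2618,338,3) (.node (3250,648,3) .nil .nil) (.node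 (2606,1281,1) .nil .nil)) (.node (3736,480,0) (.node (2338,880,2) .nil .nil) .nil))) (.node (3174,106,0) (.node (3794,170,3) (.node (2539,304,0) (.node (3759,601,1) .nil .nil) (.node (3194,1136,1) .nil .nil)) (.node (2996,444,1) (.node (3571,820,3) .nil .nil) .nil)) (.node (3834,236,3) (.node (3300,373,3) (.node (3704,695,3) .nil .nil) (.node (3279,1541,3) .nil .nil)) (.node (3817,516,3) (.node (3726,941,2) .nil .nil) .nil)))) (.node (3986,54,0) (.node (3806,86,3) (.node (2438,158,0) (.node (3301,288,2) (.node (3119,575,2) .nil .nil) (.node (2818,1081,3) .nil .nil)) (.node (2543,426,3) (.node (3532,787,3) .nil .nil) .nil)) (.node (3584,221,2) (.node (2415,357,3) (.node (3593,670,2) .nil .nil) (.node (2781,1395,0) .nil .nil)) (.node (3512,499,3) (.node (3633,908,3) .nil .nil) .nil))) (.node (3493,123,2) (.node (3331,187,2) (.node (2997,321,2) (.node (2942,625,2) .nil .nil) (.node (2751,1198,2) .nil .nil)) (.node (3681,461,2) (.node (2885,850,0) .nil .nil) .nil)) (.node (3444,253,2) (.node (3164,393,0) (.node (3087,726,2) .nil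 .nil) .nil) (.node (2556,537,0) (.node (2572,974,1) .nil .nil) .nil))))) (.node (3894,30,3) (.node (3979,45,3) (.node (3435,79,2) (.node (3756,150,2) (.node (3355,278,2) (.node (2595,563,3) .nil .nil) (.node (3253,1052,2) .nil .nil)) (.node (2313,418,2) (.node (3519,769,3) .nil .nil) .nil)) (.node (3413,212,2) (.node (3272,347,2) (.node (2715,659,2) .nil .nil) (.node (2956,1338,3) .nil .nil)) (.node (3502,490,3) (.node (2573,892,3) .nil .nil) .nil))) (.node (3075,116,0) (.node (3551,180,2) (.node (3084,314,3) (.node (3017,616,3) .nil .nil) (.node (2900,1164,1) .nil .nil)) (.node (3010,455,1) (.node (2324,833,0) .nil .nil) .nil)) (.node (2503,246,0) (.node (3494,383,2) (.node (3349,710,3) .nil .nil) .nil) (.node (3233,527,3) (.node (2416,959,3) .nil .nil) .nil)))) (.node (3560,62,3) (.node (3899,96,3) (.node (2768,165,0) (.node (3648,296,3) (.node (3045,588,1) .nil .nil) (.node (2841,1105,1) .nil .nil)) (.node (3815,435,2) (.node (2713,806,2) .nil .nil) .nil)) (.node (2561,229,0) (.node (3361,366,2) (.node (2883,683,3) .nil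 .nil) (.node (2698,1445,0) .nil .nil)) (.node (3012,508,3) (.node (3034,929,3) .nil .nil) .nil))) (.node (3969,131,1) (.node (3642,196,3) (.node (3792,327,3) (.node (2381,635,0) .nil .nil) (.node (2943,1236,2) .nil .nil)) (.node (2671,472,3) (.node (2544,864,1) .nil .nil) .nil)) (.node (3058,262,1) (.node (3770,400,3) (.node (2728,742,2) .nil .nil) .nil) (.node (3772,545,2) (.node (2895,1002,2) .nil .nil) .nil))))))))

/-- Part of `treeO1`. -/
noncomputable def treeO1_r_r : Arr (ℕ × ℕ × ℕ) :=
  (.node (4045,3,2) (.node (3976,4,3) (.node (3975,8,3) (.node (4048,18,1) (.node (3932,32,3) (.node (3989,64,3) (.node (3902,135,3) (.node (3076,265,0) (.node (2589,547,2) .nil .nil) (.node (2579,1011,1) .nil .nil)) (.node (2533,406,0) (.node (3225,745,0) .nil .nil) .nil)) (.node (3347,199,2) (.node (3169,333,0) (.node (2373,639,3) .nil .nil) (.node (2707,1265,3) .nil .nil)) (.node (2954,475,1) (.node (2893,868,2) .nil .nil) .nil))) (.node (3957,100,3) (.node (2578,167,1) (.node (3748,299,2) (.node (2931,592,3) .nil .nil) (.node (2705,1121,2)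 .nil .nil)) (.node (3618,437,3) (.node (2473,809,3) .nil .nil) .nil)) (.node (2598,232,3) (.node (2418,368,3) (.node (3274,689,2) .nil .nil) (.node (2383,1475,2) .nil .nil)) (.node (2980,511,1) (.node (3630,934,3) .nil .nil) .nil)))) (.node (4017,50,0) (.node (3672,82,3) (.node (3327,152,3) (.node (3395,283,2) (.node (2669,568,2) .nil .nil) (.node (3294,1062,2) .nil .nil)) (.node (2951,421,2) (.node (3162,774,0) .nil .nil) .nil)) (.node (2440,218,0) (.node (3351,351,1) (.node (2394,664,1) .nil .nil) (.node (2843,1350,0) .nil .nil)) (.node (2735,494,2) (.node (3142,900,2) .nil .nil) .nil))) (.node (3795,118,2) (.node (3093,183,0) (.node (2979,317,0) (.node (2560,619,2) .nil .nil) (.node (2351,1176,2) .nil .nil)) (.node (2912,458,1) (.node (2815,838,2) .nil .nil) .nil)) (.node (3160,248,0) (.node (2464,388,0) (.node (2944,715,3) .nil .nil) .nil) (.node (3287,529,3) (.node (3540,965,3) .nil .nil) .nil))))) (.node (3878,25,2) (.node (3744,42,2) (.node (3912,73,2) (.node (3845,144,1) (.node (3549,272,2) (.node (2918,558,2) .nil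 .nil) (.node (2567,1027,2) .nil .nil)) (.node (2541,415,0) (.node (2835,758,1) .nil .nil) .nil)) (.node (3750,206,3) (.node (3030,341,1) (.node (2396,651,3) .nil .nil) (.node (3563,1300,3) .nil .nil)) (.node (3302,483,0) (.node (2799,885,1) .nil .nil) .nil))) (.node (3950,108,1) (.node (2574,175,1) (.node (3297,307,2) (.node (2346,605,2) .nil .nil) (.node (3537,1144,2) .nil .nil)) (.node (2910,448,2) (.node (2854,825,2) .nil .nil) .nil)) (.node (3719,238,3) (.node (2760,378,1) (.node (3783,702,2) .nil .nil) (.node (2723,1590,3) .nil .nil)) (.node (2948,522,1) (.node (2649,948,2) .nil .nil) .nil)))) (.node (4004,57,0) (.node (3813,90,2) (.node (3289,160,2) (.node (2443,290,3) (.node (2914,579,2) .nil .nil) (.node (2765,1092,3) .nil .nil)) (.node (3203,430,0) (.node (3227,792,3) .nil .nil) .nil)) (.node (3388,225,2) (.node (2331,360,3) (.node (2968,675,1) .nil .nil) (.node (3285,1414,3) .nil .nil)) (.node (3684,502,3) (.node (2922,914,1) .nil .nil) .nil))) (.node (3774,125,2) (.node (3622,191,3) (.node (3282,324,2) (.node (2964,629,3)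 .nil .nil) (.node (2729,1213,3) .nil .nil)) (.node (3610,466,3) (.node (2697,853,3) .nil .nil) .nil)) (.node (4040,255,3) (.node (2550,396,3) (.node (2800,729,3) .nil .nil) .nil) (.node (3205,539,3) (.node (3195,980,3) .nil .nil) .nil)))))) (.node (3909,13,2) (.node (3874,22,1) (.node (3939,37,3) (.node (3825,70,2) (.node (4027,139,3) (.node (2491,269,0) (.node (2766,552,1) .nil .nil) (.node (3608,1021,1) .nil .nil)) (.node (3461,410,2) (.node (2934,752,3) .nil .nil) .nil)) (.node (2586,204,1) (.node (3623,337,1) (.node (3649,646,3) .nil .nil) (.node (2611,1279,1) .nil .nil)) (.node (3049,479,2) (.node (2369,876,0) .nil .nil) .nil))) (.node (3816,105,2) (.node (3324,170,0) (.node (3443,302,3) (.node (2482,600,2) .nil .nil) (.node (2534,1134,2) .nil .nil)) (.node (2975,443,2) (.node (2524,818,3) .nil .nil) .nil)) (.node (3292,235,3) (.node (2626,373,1) (.node (3824,694,1) .nil .nil) (.node (2708,1531,1) .nil .nil)) (.node (3464,515,2) (.node (3576,940,1) .nil .nil) .nil)))) (.node (3385,53,2) (.node (3470,86,1) (.node (3343,157,2)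 (.node (3602,286,3) (.node (2777,574,2) .nil .nil) (.node (2868,1074,3) .nil .nil)) (.node (2864,426,1) (.node (3490,784,3) .nil .nil) .nil)) (.node (3209,220,3) (.node (3019,357,1) (.node (2886,669,1) .nil .nil) (.node (2846,1388,3) .nil .nil)) (.node (3175,499,0) (.node (2411,905,0) .nil .nil) .nil))) (.node (3208,122,3) (.node (3688,186,3) (.node (3771,320,0) (.node (3280,624,3) .nil .nil) (.node (3073,1190,3) .nil .nil)) (.node (3689,460,3) (.node (2731,846,1) .nil .nil) .nil)) (.node (3357,252,2) (.node (3628,391,3) (.node (2678,723,0) .nil .nil) .nil) (.node (2513,535,0) (.node (2475,973,0) .nil .nil) .nil))))) (.node (3982,30,0) (.node (3949,45,1) (.node (3509,78,3) (.node (4018,149,0) (.node (3741,277,2) (.node (2597,562,2) .nil .nil) (.node (3658,1045,0) .nil .nil)) (.node (3480,417,3) (.node (3643,764,3) .nil .nil) .nil)) (.node (3420,211,2) (.node (2445,346,3) (.node (3231,656,3) .nil .nil) (.node (3269,1323,3) .nil .nil)) (.node (2575,489,1) (.node (3303,891,2) .nil .nil) .nil))) (.node (3737,114,2) (.node (3214,179,3)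 (.node (2670,313,1) (.node (2834,615,3) .nil .nil) (.node (2862,1158,1) .nil .nil)) (.node (2853,453,3) (.node (3189,831,3) .nil .nil) .nil)) (.node (3445,244,2) (.node (3316,382,3) (.node (2405,708,0) .nil .nil) (.node (2860,1753,1) .nil .nil)) (.node (2653,526,3) (.node (2695,958,0) .nil .nil) .nil)))) (.node (3201,62,0) (.node (3716,95,2) (.node (2389,164,2) (.node (3440,295,1) (.node (2350,582,3) .nil .nil) (.node (3713,1101,2) .nil .nil)) (.node (3405,434,2) (.node (2971,804,1) .nil .nil) .nil)) (.node (3028,228,2) (.node (3348,365,2) (.node (3284,682,2) .nil .nil) (.node (2364,1437,2) .nil .nil)) (.node (2502,507,0) (.node (3257,926,3) .nil .nil) .nil))) (.node (3868,130,1) (.node (2316,195,3) (.node (3286,327,0) (.node (2566,634,2) .nil .nil) (.node (3673,1226,3) .nil .nil)) (.node (2319,470,3) (.node (3276,862,3) .nil .nil) .nil)) (.node (3568,260,3) (.node (3319,400,0) (.node (3520,737,3) .nil .nil) .nil) (.node (3397,544,2) (.node (3345,998,2) .nil .nil) .nil))))))) (.node (4052,6,0) (.node (4034,12,0) (.node (3844,19,3)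 (.node (4003,35,0) (.node (3897,67,3) (.node (2439,138,0) (.node (3416,266,2) (.node (3645,549,1) .nil .nil) (.node (3507,1018,3) .nil .nil)) (.node (3341,408,2) (.node (2601,751,0) .nil .nil) .nil)) (.node (2469,202,0) (.node (3793,335,2) (.node (3264,642,3) .nil .nil) (.node (3221,1272,3) .nil .nil)) (.node (2332,476,3) (.node (3079,872,0) .nil .nil) .nil))) (.node (3403,102,2) (.node (3785,168,3) (.node (2517,301,0) (.node (2958,596,3) .nil .nil) (.node (2755,1127,3) .nil .nil)) (.node (2548,440,0) (.node (2921,813,2) .nil .nil) .nil)) (.node (2810,234,2) (.node (3696,370,1) (.node (2870,691,2) .nil .nil) (.node (3295,1497,1) .nil .nil)) (.node (2638,514,1) (.node (3193,937,0) .nil .nil) .nil)))) (.node (3988,52,0) (.node (3326,84,3) (.node (3469,154,1) (.node (3041,285,1) (.node (2963,571,1) .nil .nil) (.node (2696,1069,2) .nil .nil)) (.node (2563,424,2) (.node (3314,780,0) .nil .nil) .nil)) (.node (3823,219,2) (.node (2344,354,2) (.node (3055,666,1) .nil .nil) (.node (2662,1367,2) .nil .nil)) (.node (3743,496,2) (.node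 (2644,902,2) .nil .nil) .nil))) (.node (3598,120,3) (.node (3389,185,2) (.node (2717,318,3) (.node (2693,623,0) .nil .nil) (.node (3603,1184,0) .nil .nil)) (.node (2386,459,2) (.node (2577,843,1) .nil .nil) .nil)) (.node (3818,249,3) (.node (3035,390,1) (.node (2978,720,1) .nil .nil) .nil) (.node (3766,531,3) (.node (2899,968,1) .nil .nil) .nil))))) (.node (3930,28,2) (.node (3510,43,3) (.node (3997,76,0) (.node (3380,145,2) (.node (3739,273,3) (.node (2603,559,3) .nil .nil) (.node (3080,1039,2) .nil .nil)) (.node (3723,416,2) (.node (3430,761,1) .nil .nil) .nil)) (.node (3761,209,2) (.node (3674,343,3) (.node (2342,654,3) .nil .nil) (.node (2382,1305,3) .nil .nil)) (.node (3838,485,3) (.node (3692,887,3) .nil .nil) .nil))) (.node (3913,110,2) (.node (2529,178,0) (.node (3226,309,0) (.node (2784,610,2) .nil .nil) (.node (3037,1148,2) .nil .nil)) (.node (2702,452,1) (.node (3521,826,3) .nil .nil) .nil)) (.node (2510,242,0) (.node (2421,381,0) (.node (3179,706,3) .nil .nil) (.node (3260,1726,2) .nil .nil)) (.node (3517,523,2)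 (.node (2680,951,1) .nil .nil) .nil)))) (.node (4002,59,0) (.node (3867,92,1) (.node (3668,161,3) (.node (3298,292,0) (.node (2709,581,1) .nil .nil) (.node (2733,1098,2) .nil .nil)) (.node (3606,432,3) (.node (2796,797,1) .nil .nil) .nil)) (.node (3589,226,3) (.node (3433,362,3) (.node (2737,678,2) .nil .nil) (.node (2827,1424,1) .nil .nil)) (.node (3224,504,3) (.node (3691,918,3) .nil .nil) .nil))) (.node (3754,128,2) (.node (3455,193,2) (.node (2480,325,3) (.node (3173,631,0) .nil .nil) (.node (2871,1222,0) .nil .nil)) (.node (3148,469,0) (.node (2588,860,0) .nil .nil) .nil)) (.node (3827,259,2) (.node (3223,398,0) (.node (2483,735,0) .nil .nil) .nil) (.node (3471,541,1) (.node (2368,988,2) .nil .nil) .nil)))))) (.node (3928,16,2) (.node (3922,23,2) (.node (3379,39,2) (.node (3873,72,1) (.node (3955,142,3) (.node (2636,271,1) (.node (3667,554,1) .nil .nil) (.node (3132,1025,2) .nil .nil)) (.node (3429,413,2) (.node (2906,756,2) .nil .nil) .nil)) (.node (3583,205,2) (.node (2434,339,2) (.node (2937,649,2) .nil .nil) (.node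 (2824,1288,2) .nil .nil)) (.node (2690,481,2) (.node (2361,881,3) .nil .nil) .nil))) (.node (3534,106,3) (.node (3710,172,2) (.node (3046,305,3) (.node (2569,602,2) .nil .nil) (.node (2585,1137,0) .nil .nil)) (.node (2397,444,3) (.node (2551,823,2) .nil .nil) .nil)) (.node (3626,237,2) (.node (3481,374,3) (.node (3321,699,3) .nil .nil) (.node (2647,1549,1) .nil .nil)) (.node (3192,518,0) (.node (2982,945,1) .nil .nil) .nil)))) (.node (3934,54,3) (.node (3831,87,2) (.node (3679,158,3) (.node (2879,289,0) (.node (3103,576,0) .nil .nil) (.node (3237,1086,1) .nil .nil)) (.node (3256,427,2) (.node (2310,789,3) .nil .nil) .nil)) (.node (3503,222,1) (.node (3531,358,3) (.node (2496,672,3) .nil .nil) (.node (2966,1400,3) .nil .nil)) (.node (3375,500,2) (.node (2379,911,2) .nil .nil) .nil))) (.node (3504,124,1) (.node (3451,189,2) (.node (2565,322,3) (.node (2488,628,2) .nil .nil) (.node (3258,1200,2) .nil .nil)) (.node (3367,463,1) (.node (2904,850,3) .nil .nil) .nil)) (.node (2549,254,0) (.node (2891,395,0) (.node (3473,727,3) .nil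 .nil) .nil) (.node (3822,538,2) (.node (2960,976,1) .nil .nil) .nil))))) (.node (3332,31,2) (.node (3919,47,2) (.node (3826,80,2) (.node (3760,151,2) (.node (3354,279,2) (.node (3001,564,3) .nil .nil) (.node (2856,1055,3) .nil .nil)) (.node (2507,419,0) (.node (2327,771,3) .nil .nil) .nil)) (.node (3722,213,2) (.node (3460,349,1) (.node (2743,660,1) .nil .nil) (.node (2349,1340,2) .nil .nil)) (.node (3097,492,0) (.node (2580,896,1) .nil .nil) .nil))) (.node (3559,116,3) (.node (3575,181,1) (.node (2739,315,2) (.node (2935,617,3) .nil .nil) (.node (2775,1165,3) .nil .nil)) (.node (3143,456,2) (.node (2308,835,0) .nil .nil) .nil)) (.node (3703,246,3) (.node (3808,384,3) (.node (3147,712,0) .nil .nil) .nil) (.node (2840,528,2) (.node (3546,961,0) .nil .nil) .nil)))) (.node (3441,63,2) (.node (3901,97,3) (.node (2744,165,3) (.node (2392,297,2) (.node (2836,589,0) .nil .nil) (.node (3219,1108,3) .nil .nil)) (.node (2949,436,2) (.node (2587,807,3) .nil .nil) .nil)) (.node (3705,229,3) (.node (3968,367,1) (.node (2926,685,2) .nil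 .nil) (.node (2842,1471,1) .nil .nil)) (.node (2752,509,2) (.node (2778,930,3) .nil .nil) .nil))) (.node (3767,133,2) (.node (3100,198,0) (.node (3392,329,2) (.node (3398,636,2) .nil .nil) (.node (3539,1244,3) .nil .nil)) (.node (2923,473,2) (.node (2325,865,2) .nil .nil) .nil)) (.node (2419,262,3) (.node (3590,402,2) (.node (2787,743,2) .nil .nil) .nil) (.node (3134,546,0) (.node (3241,1005,2) .nil .nil) .nil))))))))

/-- Part of `treeO1`. -/
noncomputable def treeO1_r : Arr (ℕ × ℕ × ℕ) :=
  .node (3330,1,1) treeO1_r_l treeO1_r_r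

/-- An orbit, with a spanning tree. -/
noncomputable def treeO1 : Arr (ℕ × ℕ × ℕ) :=
  .node (2305,0,0) treeO1_l treeO1_r

/-- The size of an orbit. -/
def treeO2Size : ℕ :=
  2304

/-- Part of `treeO2`. -/
noncomputable def treeO2_l_l : Arr (ℕ × ℕ × ℕ) :=
  (.node (1771,0,2) (.node (291,1,3) (.node (2115,4,2) (.node (1933,10,1) (.node (2268,22,2) (.node (911,50,2) (.node (266,105,2) (.node (1082,222,3) (.node (821,505,2) (.node (461,1424,3) .nil .nil) .nil) (.node (327,866,2) .nil .nil)) (.node (648,358,0) (.node (982,668,3) (.node (2152,2253,0) .nil .nil) .nil) (.node (1412,1101,2) .nil .nil))) (.node (2223,164,1) (.node (2216,285,1) (.node (1769,578,2) (.node (1215,1671,2) .nil .nil) .nil) (.node (2163,982,0) .nil .nil)) (.node (867,430,2) (.node (728,766,1) .nil .nil) (.node (2124,1246,2) .nil .nil)))) (.node (937,77,3) (.node (351,134,2) (.node (1696,253,3) (.node (2063,539,1) (.node (1829,1517,1) .nil .nil) .nil) (.node (956,922,3) .nil .nil)) (.node (296,394,2) (.node (438,717,2) .nil .nil) (.node (1165,1173,3) .nil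 .nil))) (.node (1917,194,1) (.node (220,321,2) (.node (2294,623,2) (.node (539,1837,2) .nil .nil) .nil) (.node (732,1051,2) .nil .nil)) (.node (1673,464,0) (.node (1193,814,0) .nil .nil) (.node (1816,1342,2) .nil .nil))))) (.node (359,36,1) (.node (2098,64,1) (.node (295,119,2) (.node (1285,237,0) (.node (1583,522,3) (.node (1663,1471,1) .nil .nil) .nil) (.node (1108,891,2) .nil .nil)) (.node (1759,377,3) (.node (1358,693,2) .nil .nil) (.node (1496,1136,1) .nil .nil))) (.node (353,181,0) (.node (672,304,0) (.node (2262,598,2) (.node (159,1735,0) .nil .nil) .nil) (.node (724,1023,2) .nil .nil)) (.node (2048,447,2) (.node (514,788,0) .nil .nil) (.node (235,1301,2) .nil .nil)))) (.node (1162,91,2) (.node (660,148,1) (.node (751,268,2) (.node (1380,557,3) (.node (1491,1581,0) .nil .nil) .nil) (.node (934,956,0) .nil .nil)) (.node (2075,412,0) (.node (1413,736,2) .nil .nil) (.node (1404,1200,1) .nil .nil))) (.node (1321,209,2) (.node (1200,341,2) (.node (1818,646,3) (.node (746,1957,2) .nil .nil) .nil) (.node (2040,1076,3) .nil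 .nil)) (.node (1144,486,2) (.node (1036,843,3) .nil .nil) (.node (813,1386,2) .nil .nil)))))) (.node (330,16,2) (.node (477,29,2) (.node (513,57,0) (.node (127,111,3) (.node (1758,231,2) (.node (1074,515,2) (.node (1728,1451,1) .nil .nil) .nil) (.node (1498,878,1) .nil .nil)) (.node (175,366,3) (.node (996,680,2) .nil .nil) (.node (1187,1117,0) .nil .nil))) (.node (210,172,2) (.node (1327,294,2) (.node (111,588,2) (.node (2117,1699,0) .nil .nil) .nil) (.node (1166,1002,1) .nil .nil)) (.node (1106,438,2) (.node (2002,776,0) .nil .nil) (.node (2101,1275,2) .nil .nil)))) (.node (568,85,3) (.node (893,141,3) (.node (1100,261,0) (.node (827,548,2) (.node (2049,1543,3) .nil .nil) .nil) (.node (435,936,2) .nil .nil)) (.node (1768,402,1) (.node (414,729,0) .nil .nil) (.node (489,1186,1) .nil .nil))) (.node (466,201,3) (.node (615,331,3) (.node (1989,634,3) (.node (2179,1893,3) .nil .nil) .nil) (.node (397,1065,2) .nil .nil)) (.node (1178,477,1) (.node (1807,826,2) .nil .nil) (.node (847,1366,1) .nil .nil))))) (.node (445,43,3) (.node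 (1237,71,0) (.node (702,126,3) (.node (227,247,1) (.node (1693,531,1) (.node (1426,1489,2) .nil .nil) .nil) (.node (1221,908,1) .nil .nil)) (.node (140,386,2) (.node (1949,704,2) .nil .nil) (.node (2106,1157,2) .nil .nil))) (.node (877,187,0) (.node (874,311,2) (.node (1145,606,2) (.node (704,1787,1) .nil .nil) .nil) (.node (1571,1037,2) .nil .nil)) (.node (1439,455,1) (.node (538,802,2) .nil .nil) (.node (1990,1318,0) .nil .nil)))) (.node (1494,98,1) (.node (305,155,2) (.node (1803,278,0) (.node (1332,567,2) (.node (639,1621,1) .nil .nil) .nil) (.node (373,968,3) .nil .nil)) (.node (6,421,2) (.node (1203,750,3) .nil .nil) (.node (486,1216,3) .nil .nil))) (.node (657,216,2) (.node (1501,350,2) (.node (794,656,2) (.node (149,2047,3) .nil .nil) .nil) (.node (572,1087,3) .nil .nil)) (.node (2100,497,1) (.node (1021,855,3) .nil .nil) (.node (654,1407,0) .nil .nil))))))) (.node (78,7,1) (.node (2104,13,1) (.node (97,26,2) (.node (2238,53,0) (.node (1682,109,1) (.node (1369,227,2) (.node (699,510,3) (.node (1274,1430,0) .nil .nil)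 .nil) (.node (1934,874,0) .nil .nil)) (.node (274,363,1) (.node (891,672,3) .nil .nil) (.node (1538,1108,2) .nil .nil))) (.node (384,168,2) (.node (55,289,3) (.node (2298,582,3) (.node (933,1685,2) .nil .nil) .nil) (.node (726,993,3) .nil .nil)) (.node (1662,433,2) (.node (187,770,1) .nil .nil) (.node (1427,1262,3) .nil .nil)))) (.node (511,81,3) (.node (371,138,1) (.node (196,258,1) (.node (2228,542,3) (.node (792,1522,3) .nil .nil) .nil) (.node (1457,931,3) .nil .nil)) (.node (1839,398,3) (.node (1836,725,0) .nil .nil) (.node (349,1179,1) .nil .nil))) (.node (993,198,3) (.node (137,327,2) (.node (1048,629,3) (.node (138,1861,2) .nil .nil) .nil) (.node (1198,1057,2) .nil .nil)) (.node (2232,471,2) (.node (745,821,2) .nil .nil) (.node (1042,1353,1) .nil .nil))))) (.node (1079,39,0) (.node (2037,67,3) (.node (1873,122,3) (.node (1217,242,0) (.node (2065,527,0) (.node (869,1479,2) .nil .nil) .nil) (.node (1422,899,2) .nil .nil)) (.node (323,382,1) (.node (26,698,3) .nil .nil) (.node (931,1148,3) .nil .nil))) (.node (1359,184,2)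 (.node (774,307,0) (.node (942,603,1) (.node (1797,1760,2) .nil .nil) .nil) (.node (1139,1031,1) .nil .nil)) (.node (2287,451,2) (.node (107,794,3) .nil .nil) (.node (1559,1306,0) .nil .nil)))) (.node (253,95,2) (.node (1180,151,2) (.node (2214,273,0) (.node (2058,563,3) (.node (1114,1605,1) .nil .nil) .nil) (.node (695,962,3) .nil .nil)) (.node (2229,416,2) (.node (776,744,0) .nil .nil) (.node (86,1211,0) .nil .nil))) (.node (1565,212,1) (.node (667,344,3) (.node (1855,651,2) (.node (449,1997,2) .nil .nil) .nil) (.node (172,1081,3) .nil .nil)) (.node (421,492,2) (.node (2072,850,0) .nil .nil) (.node (576,1400,3) .nil .nil)))))) (.node (1958,19,3) (.node (971,33,2) (.node (1142,59,3) (.node (1620,115,3) (.node (2202,234,2) (.node (1362,518,3) (.node (1893,1465,3) .nil .nil) .nil) (.node (717,886,1) .nil .nil)) (.node (1116,372,0) (.node (1199,684,3) .nil .nil) (.node (369,1125,3) .nil .nil))) (.node (1335,175,3) (.node (1827,299,2) (.node (171,592,3) (.node (1326,1718,3) .nil .nil) .nil) (.node (976,1015,3) .nil .nil)) (.node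 (2006,443,3) (.node (1876,780,3) .nil .nil) (.node (1478,1286,2) .nil .nil)))) (.node (820,88,3) (.node (668,144,3) (.node (2237,265,1) (.node (2076,553,2) (.node (1832,1560,3) .nil .nil) .nil) (.node (1885,947,3) .nil .nil)) (.node (1141,406,2) (.node (1841,733,1) .nil .nil) (.node (1438,1193,2) .nil .nil))) (.node (1683,205,0) (.node (979,336,3) (.node (1785,638,2) (.node (1848,1921,1) .nil .nil) .nil) (.node (2259,1071,3) .nil .nil)) (.node (70,482,0) (.node (1213,833,2) .nil .nil) (.node (1055,1376,3) .nil .nil))))) (.node (558,46,3) (.node (2235,74,0) (.node (1025,129,3) (.node (1095,250,3) (.node (1695,534,3) (.node (767,1503,1) .nil .nil) .nil) (.node (1298,915,1) .nil .nil)) (.node (201,391,2) (.node (1789,711,3) .nil .nil) (.node (410,1164,0) .nil .nil))) (.node (1777,190,0) (.node (549,316,3) (.node (2010,612,0) (.node (1066,1812,3) .nil .nil) .nil) (.node (1618,1043,3) .nil .nil)) (.node (887,459,2) (.node (1737,806,3) .nil .nil) (.node (1981,1326,3) .nil .nil)))) (.node (14,100,3) (.node (430,159,3) (.node (1525,280,3)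 (.node (1955,572,1) (.node (661,1640,3) .nil .nil) .nil) (.node (1352,975,3) .nil .nil)) (.node (1245,425,2) (.node (1868,759,3) .nil .nil) (.node (1732,1234,2) .nil .nil))) (.node (473,219,1) (.node (129,355,1) (.node (1730,662,3) (.node (764,2116,2) .nil .nil) .nil) (.node (2110,1093,2) .nil .nil)) (.node (1060,500,2) (.node (625,860,3) .nil .nil) (.node (1649,1414,2) .nil .nil)))))))) (.node (1311,3,0) (.node (13,5,3) (.node (1089,11,3) (.node (1928,23,3) (.node (2118,51,3) (.node (286,107,0) (.node (1574,225,3) (.node (1323,507,2) (.node (793,1427,3) .nil .nil) .nil) (.node (1820,870,2) .nil .nil)) (.node (1418,360,1) (.node (1061,671,1) .nil .nil) (.node (1339,1105,2) .nil .nil))) (.node (2045,165,2) (.node (1965,287,0) (.node (280,581,1) (.node (844,1677,1) .nil .nil) .nil) (.node (454,988,1) .nil .nil)) (.node (1503,431,3) (.node (722,768,3) .nil .nil) (.node (122,1252,2) .nil .nil)))) (.node (914,79,0) (.node (2068,136,3) (.node (1895,255,0) (.node (1303,541,0) (.node (973,1519,2) .nil .nil) .nil) (.node (554,927,3)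 .nil .nil)) (.node (203,397,2) (.node (1292,721,1) .nil .nil) (.node (2285,1177,0) .nil .nil))) (.node (1717,196,0) (.node (1922,324,0) (.node (1357,626,3) (.node (1399,1853,0) .nil .nil) .nil) (.node (1105,1053,1) .nil .nil)) (.node (1458,468,1) (.node (950,819,0) .nil .nil) (.node (2061,1349,2) .nil .nil))))) (.node (199,37,3) (.node (2066,66,0) (.node (2219,121,1) (.node (766,240,3) (.node (1479,524,3) (.node (799,1475,2) .nil .nil) .nil) (.node (1102,897,2) .nil .nil)) (.node (524,380,2) (.node (1110,696,0) .nil .nil) (.node (459,1141,3) .nil .nil))) (.node (1734,182,3) (.node (1310,305,3) (.node (947,601,2) (.node (2081,1753,2) .nil .nil) .nil) (.node (1026,1028,1) .nil .nil)) (.node (855,449,3) (.node (1490,792,1) .nil .nil) (.node (1596,1303,1) .nil .nil)))) (.node (1606,92,3) (.node (168,150,0) (.node (217,269,3) (.node (1900,559,2) (.node (108,1601,3) .nil .nil) .nil) (.node (37,960,3) .nil .nil)) (.node (587,414,2) (.node (913,739,3) .nil .nil) (.node (1093,1202,2) .nil .nil))) (.node (144,210,3) (.node (1054,343,1)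 (.node (313,649,3) (.node (642,1973,2) .nil .nil) .nil) (.node (712,1080,1) .nil .nil)) (.node (694,487,3) (.node (1290,847,0) .nil .nil) (.node (1549,1391,1) .nil .nil)))))) (.node (1767,18,2) (.node (1910,31,0) (.node (1488,58,2) (.node (322,113,0) (.node (1666,232,3) (.node (725,517,1) (.node (178,1455,3) .nil .nil) .nil) (.node (1801,882,1) .nil .nil)) (.node (759,369,1) (.node (1365,683,1) .nil .nil) (.node (1103,1119,3) .nil .nil))) (.node (1689,174,2) (.node (1668,296,2) (.node (47,590,1) (.node (1416,1709,1) .nil .nil) .nil) (.node (1342,1011,2) .nil .nil)) (.node (894,441,0) (.node (1527,778,1) .nil .nil) (.node (783,1279,2) .nil .nil)))) (.node (1489,87,2) (.node (50,143,2) (.node (2020,263,0) (.node (841,551,2) (.node (12,1549,3) .nil .nil) .nil) (.node (2153,938,3) .nil .nil)) (.node (2088,404,2) (.node (2070,730,3) .nil .nil) (.node (1151,1190,1) .nil .nil))) (.node (696,203,1) (.node (1393,334,2) (.node (1908,636,2) (.node (674,1908,2) .nil .nil) .nil) (.node (2274,1068,1) .nil .nil)) (.node (1586,478,2) (.node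 (2162,828,3) .nil .nil) (.node (1867,1371,3) .nil .nil))))) (.node (734,45,1) (.node (1712,72,3) (.node (858,128,2) (.node (1926,248,3) (.node (1903,533,2) (.node (32,1494,1) .nil .nil) .nil) (.node (715,910,2) .nil .nil)) (.node (424,389,2) (.node (566,708,3) .nil .nil) (.node (2085,1160,3) .nil .nil))) (.node (1608,188,3) (.node (304,314,2) (.node (2254,610,0) (.node (714,1802,2) .nil .nil) .nil) (.node (1428,1040,2) .nil .nil)) (.node (204,456,3) (.node (1279,805,0) .nil .nil) (.node (1726,1323,1) .nil .nil)))) (.node (1687,99,2) (.node (394,157,3) (.node (1367,279,2) (.node (1473,570,2) (.node (927,1627,2) .nil .nil) .nil) (.node (1805,973,2) .nil .nil)) (.node (1872,423,0) (.node (1354,754,2) .nil .nil) (.node (482,1226,0) .nil .nil))) (.node (949,217,3) (.node (1465,352,0) (.node (2073,658,3) (.node (1611,2086,3) .nil .nil) .nil) (.node (250,1090,2) .nil .nil)) (.node (1031,498,3) (.node (487,858,0) .nil .nil) (.node (647,1409,3) .nil .nil))))))) (.node (392,8,3) (.node (2171,14,2) (.node (782,28,1) (.node (1984,55,1)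 (.node (1504,110,2) (.node (1161,229,2) (.node (710,513,0) (.node (1155,1446,2) .nil .nil) .nil) (.node (977,876,0) .nil .nil)) (.node (912,365,0) (.node (1507,676,3) .nil .nil) (.node (506,1112,2) .nil .nil))) (.node (471,170,2) (.node (156,292,2) (.node (1792,585,1) (.node (892,1694,2) .nil .nil) .nil) (.node (1564,995,3) .nil .nil)) (.node (1641,436,2) (.node (1723,774,2) .nil .nil) (.node (1278,1269,0) .nil .nil)))) (.node (1128,84,0) (.node (2029,139,3) (.node (1935,259,2) (.node (1417,545,3) (.node (483,1528,3) .nil .nil) .nil) (.node (758,933,3) .nil .nil)) (.node (1299,400,3) (.node (1235,727,2) .nil .nil) (.node (457,1181,2) .nil .nil))) (.node (938,200,0) (.node (239,330,0) (.node (987,632,1) (.node (1452,1879,0) .nil .nil) .nil) (.node (340,1061,3) .nil .nil)) (.node (5,473,3) (.node (1776,823,3) .nil .nil) (.node (1843,1357,2) .nil .nil))))) (.node (277,41,2) (.node (613,69,0) (.node (3,124,3) (.node (2296,244,2) (.node (2257,528,2) (.node (377,1484,0) .nil .nil) .nil) (.node (1575,903,0) .nil .nil)) (.node (575,383,2)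 (.node (1906,701,3) .nil .nil) (.node (1999,1152,3) .nil .nil))) (.node (849,185,3) (.node (889,310,0) (.node (1587,604,2) (.node (223,1774,3) .nil .nil) .nil) (.node (1150,1035,1) .nil .nil)) (.node (1952,453,2) (.node (1936,798,0) .nil .nil) (.node (1529,1312,1) .nil .nil)))) (.node (1959,96,3) (.node (288,152,3) (.node (585,275,1) (.node (666,566,0) (.node (721,1610,3) .nil .nil) .nil) (.node (403,966,0) .nil .nil)) (.node (2189,419,2) (.node (508,747,1) .nil .nil) (.node (2109,1214,3) .nil .nil))) (.node (1226,213,3) (.node (530,348,0) (.node (43,653,3) (.node (1552,2032,2) .nil .nil) .nil) (.node (121,1084,2) .nil .nil)) (.node (658,495,0) (.node (641,853,2) .nil .nil) (.node (2125,1403,1) .nil .nil)))))) (.node (1300,21,0) (.node (860,34,3) (.node (451,61,3) (.node (640,117,2) (.node (2027,235,3) (.node (1118,521,2) (.node (98,1467,2) .nil .nil) .nil) (.node (1356,888,3) .nil .nil)) (.node (261,375,2) (.node (2031,689,0) .nil .nil) (.node (1553,1131,2) .nil .nil))) (.node (1709,178,3) (.node (1929,300,3) (.node (618,595,3)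 (.node (1523,1723,3) .nil .nil) .nil) (.node (464,1018,0) .nil .nil)) (.node (620,445,2) (.node (1175,785,2) .nil .nil) (.node (128,1294,0) .nil .nil)))) (.node (429,90,0) (.node (781,146,0) (.node (1469,267,0) (.node (2205,554,3) (.node (795,1568,0) .nil .nil) .nil) (.node (1660,952,1) .nil .nil)) (.node (180,408,2) (.node (191,735,0) .nil .nil) (.node (1372,1196,1) .nil .nil))) (.node (251,207,2) (.node (157,340,1) (.node (1970,643,1) (.node (1181,1942,3) .nil .nil) .nil) (.node (1819,1074,2) .nil .nil)) (.node (990,484,1) (.node (1563,837,2) .nil .nil) (.node (1442,1380,2) .nil .nil))))) (.node (57,48,3) (.node (862,76,2) (.node (1394,132,0) (.node (1704,252,2) (.node (612,536,2) (.node (150,1506,2) .nil .nil) .nil) (.node (2187,920,2) .nil .nil)) (.node (28,393,1) (.node (1764,715,2) .nil .nil) (.node (1800,1167,3) .nil .nil))) (.node (1978,192,3) (.node (532,318,3) (.node (85,617,2) (.node (1518,1821,2) .nil .nil) .nil) (.node (828,1047,1) .nil .nil)) (.node (944,461,3) (.node (637,812,1) .nil .nil) (.node (1637,1334,1)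 .nil .nil)))) (.node (965,103,3) (.node (2078,161,3) (.node (104,283,2) (.node (2198,575,2) (.node (268,1647,3) .nil .nil) .nil) (.node (1626,979,2) .nil .nil)) (.node (1373,428,3) (.node (2093,761,3) .nil .nil) (.node (2123,1243,2) .nil .nil))) (.node (1580,221,1) (.node (731,356,3) (.node (1722,667,1) (.node (1240,2130,3) .nil .nil) .nil) (.node (1083,1097,3) .nil .nil)) (.node (878,502,2) (.node (504,865,1) .nil .nil) (.node (385,1419,0) .nil .nil)))))))))

/-- Part of `treeO2`. -/
noncomputable def treeO2_l_r : Arr (ℕ × ℕ × ℕ) :=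
  (.node (609,1,1) (.node (1864,2,2) (.node (2260,5,0) (.node (865,11,1) (.node (83,23,0) (.node (1289,51,0) (.node (283,106,2) (.node (709,224,2) (.node (1295,506,1) (.node (1267,1426,3) .nil .nil) .nil) (.node (391,868,1) .nil .nil)) (.node (1545,358,3) (.node (1466,669,3) .nil .nil) (.node (1117,1104,1) .nil .nil))) (.node (380,164,3) (.node (1931,286,2) (.node (2127,579,2) (.node (1474,1673,2) .nil .nil) .nil) (.node (1905,983,3) .nil .nil)) (.node (1374,431,1) (.node (1656,767,3) .nil .nil) (.node (1883,1250,3) .nil .nil)))) (.node (1904,78,2) (.node (393,135,3) (.node (58,254,2) (.node (626,540,2) (.node (214,1518,0) .nil .nil) .nil) (.node (488,924,1) .nil .nil)) (.node (980,395,0) (.node (343,719,1) .nil .nil) (.node (338,1176,2) .nil .nil))) (.node (1508,195,1) (.node (49,322,1) (.node (1582,625,2) (.node (595,1845,2) .nil .nil) .nil) (.node (703,1052,1) .nil .nil)) (.node (623,464,3) (.node (564,817,1) .nil .nil) (.node (294,1345,3) .nil .nil))))) (.node (30,36,3) (.node (1889,65,2) (.node (584,120,1) (.node (843,239,3)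 (.node (1382,524,1) (.node (501,1474,2) .nil .nil) .nil) (.node (690,894,2) .nil .nil)) (.node (574,379,2) (.node (571,694,3) .nil .nil) (.node (1756,1140,1) .nil .nil))) (.node (27,182,1) (.node (1548,304,3) (.node (1024,600,0) (.node (102,1740,2) .nil .nil) .nil) (.node (1064,1025,3) .nil .nil)) (.node (1684,448,0) (.node (2146,789,2) .nil .nil) (.node (1524,1302,0) .nil .nil)))) (.node (673,92,0) (.node (1572,149,2) (.node (915,269,0) (.node (2025,558,2) (.node (1835,1590,1) .nil .nil) .nil) (.node (2264,959,2) .nil .nil)) (.node (472,413,3) (.node (810,738,3) .nil .nil) (.node (2158,1201,0) .nil .nil))) (.node (523,210,1) (.node (871,342,0) (.node (25,649,0) (.node (1415,1963,0) .nil .nil) .nil) (.node (1366,1078,0) .nil .nil)) (.node (1624,487,0) (.node (452,846,2) .nil .nil) (.node (1720,1389,2) .nil .nil)))))) (.node (358,17,3) (.node (2194,30,1) (.node (1257,57,3) (.node (588,112,2) (.node (67,232,1) (.node (1830,516,1) (.node (2282,1454,3) .nil .nil) .nil) (.node (1320,881,0) .nil .nil)) (.node (1486,368,2) (.node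 (1461,681,0) .nil .nil) (.node (1601,1118,2) .nil .nil))) (.node (1957,173,2) (.node (2126,295,3) (.node (1230,589,0) (.node (924,1699,3) .nil .nil) .nil) (.node (525,1009,1) .nil .nil)) (.node (1410,440,0) (.node (1212,777,2) .nil .nil) (.node (519,1278,0) .nil .nil)))) (.node (1542,86,2) (.node (1263,142,2) (.node (2301,262,1) (.node (857,550,1) (.node (2023,1545,1) .nil .nil) .nil) (.node (1125,937,2) .nil .nil)) (.node (2206,402,3) (.node (2231,729,3) .nil .nil) (.node (1628,1188,1) .nil .nil))) (.node (378,202,2) (.node (864,333,3) (.node (1845,635,3) (.node (431,1897,1) .nil .nil) .nil) (.node (1918,1066,0) .nil .nil)) (.node (669,477,3) (.node (1340,828,0) .nil .nil) (.node (2145,1367,3) .nil .nil))))) (.node (329,44,2) (.node (1844,71,3) (.node (1159,127,3) (.node (1980,247,3) (.node (318,532,2) (.node (88,1493,0) .nil .nil) .nil) (.node (1651,909,2) .nil .nil)) (.node (555,387,3) (.node (2096,706,2) .nil .nil) (.node (1991,1159,1) .nil .nil))) (.node (1044,188,1) (.node (1670,312,2) (.node (1053,609,2) (.node (1097,1796,2)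 .nil .nil) .nil) (.node (749,1038,2) .nil .nil)) (.node (1019,456,0) (.node (964,803,0) .nil .nil) (.node (212,1320,3) .nil .nil)))) (.node (1225,98,3) (.node (1111,156,3) (.node (1043,278,3) (.node (1408,568,2) (.node (870,1626,1) .nil .nil) .nil) (.node (437,972,2) .nil .nil)) (.node (1793,422,2) (.node (645,751,2) .nil .nil) (.node (804,1219,1) .nil .nil))) (.node (2099,217,0) (.node (919,351,2) (.node (2094,657,1) (.node (2014,2073,2) .nil .nil) .nil) (.node (39,1089,3) .nil .nil)) (.node (423,497,3) (.node (1069,856,3) .nil .nil) (.node (1157,1409,1) .nil .nil))))))) (.node (1685,7,3) (.node (434,13,3) (.node (415,27,1) (.node (1739,53,3) (.node (2265,109,3) (.node (1287,228,1) (.node (496,512,0) (.node (2148,1437,0) .nil .nil) .nil) (.node (2043,874,3) .nil .nil)) (.node (1078,364,2) (.node (802,675,2) .nil .nil) (.node (342,1109,3) .nil .nil))) (.node (243,169,0) (.node (341,291,2) (.node (1877,583,3) (.node (2196,1688,0) .nil .nil) .nil) (.node (1119,995,1) .nil .nil)) (.node (1258,435,1) (.node (1228,773,0) .nil .nil)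 (.node (505,1266,3) .nil .nil)))) (.node (2142,83,2) (.node (302,139,0) (.node (1875,258,3) (.node (1401,545,1) (.node (2091,1524,3) .nil .nil) .nil) (.node (1838,932,3) .nil .nil)) (.node (1983,399,2) (.node (755,726,3) .nil .nil) (.node (95,1180,3) .nil .nil))) (.node (258,199,2) (.node (1209,328,0) (.node (1284,630,3) (.node (300,1865,1) .nil .nil) .nil) (.node (920,1059,1) .nil .nil)) (.node (54,472,3) (.node (1898,822,3) .nil .nil) (.node (1448,1354,0) .nil .nil))))) (.node (533,39,3) (.node (2252,68,2) (.node (1667,123,2) (.node (1860,242,3) (.node (2210,527,3) (.node (1939,1481,1) .nil .nil) .nil) (.node (542,902,2) .nil .nil)) (.node (59,382,3) (.node (1891,700,2) .nil .nil) (.node (630,1150,1) .nil .nil))) (.node (1005,185,1) (.node (1506,308,2) (.node (775,603,3) (.node (1471,1765,1) .nil .nil) .nil) (.node (1627,1032,3) .nil .nil)) (.node (1260,452,0) (.node (179,796,1) .nil .nil) (.node (1196,1308,3) .nil .nil)))) (.node (346,96,0) (.node (591,152,1) (.node (565,274,1) (.node (2160,564,2) (.node (1174,1610,1) .nil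 .nil) .nil) (.node (1197,965,0) .nil .nil)) (.node (1968,417,3) (.node (739,746,2) .nil .nil) (.node (509,1213,3) .nil .nil))) (.node (1348,212,3) (.node (784,346,2) (.node (1940,653,0) (.node (1283,2021,0) .nil .nil) .nil) (.node (339,1082,2) .nil .nil)) (.node (1077,493,3) (.node (2211,850,3) .nil .nil) (.node (2197,1401,3) .nil .nil)))))) (.node (1017,20,2) (.node (1534,34,0) (.node (2204,61,1) (.node (789,116,2) (.node (1953,235,1) (.node (1073,520,1) (.node (1916,1466,3) .nil .nil) .nil) (.node (1308,887,3) .nil .nil)) (.node (2272,374,0) (.node (838,687,0) .nil .nil) (.node (498,1127,2) .nil .nil))) (.node (1870,177,1) (.node (69,300,0) (.node (608,593,2) (.node (868,1719,2) .nil .nil) .nil) (.node (1058,1017,1) .nil .nil)) (.node (1746,444,3) (.node (112,783,1) .nil .nil) (.node (1629,1291,2) .nil .nil)))) (.node (1143,89,2) (.node (909,145,2) (.node (936,266,2) (.node (1389,554,0) (.node (1120,1566,1) .nil .nil) .nil) (.node (1862,949,2) .nil .nil)) (.node (880,407,1) (.node (1595,734,2) .nil .nil) (.node (948,1194,1)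 .nil .nil))) (.node (598,205,3) (.node (1721,339,2) (.node (272,640,3) (.node (2300,1925,1) .nil .nil) .nil) (.node (1946,1073,2) .nil .nil)) (.node (1911,482,3) (.node (1678,836,3) .nil .nil) (.node (685,1378,0) .nil .nil))))) (.node (2215,48,0) (.node (1435,75,3) (.node (527,131,2) (.node (881,251,2) (.node (500,535,3) (.node (19,1504,2) .nil .nil) .nil) (.node (605,918,2) .nil .nil)) (.node (352,392,1) (.node (1755,712,3) .nil .nil) (.node (2154,1165,2) .nil .nil))) (.node (863,191,2) (.node (422,317,3) (.node (381,615,3) (.node (697,1819,3) .nil .nil) .nil) (.node (1059,1045,2) .nil .nil)) (.node (1780,460,2) (.node (53,810,3) .nil .nil) (.node (569,1330,3) .nil .nil)))) (.node (1705,102,2) (.node (269,161,0) (.node (966,282,1) (.node (91,573,0) (.node (110,1646,2) .nil .nil) .nil) (.node (1123,977,1) .nil .nil)) (.node (1605,426,0) (.node (1825,761,1) .nil .nil) (.node (1690,1238,3) .nil .nil))) (.node (1522,220,0) (.node (1817,355,3) (.node (2203,664,2) (.node (100,2122,3) .nil .nil) .nil) (.node (757,1096,2) .nil .nil))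 (.node (691,501,0) (.node (469,861,2) .nil .nil) (.node (1319,1417,3) .nil .nil)))))))) (.node (2114,3,3) (.node (1812,6,2) (.node (517,12,2) (.node (2284,25,2) (.node (2026,52,2) (.node (2201,108,2) (.node (1107,226,3) (.node (2038,509,2) (.node (1633,1429,1) .nil .nil) .nil) (.node (1967,873,1) .nil .nil)) (.node (216,361,2) (.node (1615,671,3) .nil .nil) (.node (1536,1107,3) .nil .nil))) (.node (2001,167,1) (.node (1833,288,2) (.node (1711,581,3) (.node (1472,1678,1) .nil .nil) .nil) (.node (785,989,2) .nil .nil)) (.node (741,432,2) (.node (1642,769,2) .nil .nil) (.node (1986,1257,3) .nil .nil)))) (.node (134,80,2) (.node (2019,137,2) (.node (285,257,0) (.node (1907,542,1) (.node (1481,1520,3) .nil .nil) .nil) (.node (650,930,3) .nil .nil)) (.node (1171,398,0) (.node (1858,723,0) .nil .nil) (.node (578,1178,1) .nil .nil))) (.node (230,196,3) (.node (2036,324,3) (.node (1370,628,2) (.node (347,1859,3) .nil .nil) .nil) (.node (882,1056,2) .nil .nil)) (.node (160,470,1) (.node (363,820,1) .nil .nil) (.node (1411,1350,3) .nil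 .nil))))) (.node (195,38,2) (.node (1742,67,1) (.node (376,121,3) (.node (1361,241,2) (.node (2267,526,1) (.node (314,1477,3) .nil .nil) .nil) (.node (706,898,0) .nil .nil)) (.node (142,381,2) (.node (541,697,1) .nil .nil) (.node (1316,1146,0) .nil .nil))) (.node (463,183,2) (.node (1398,306,2) (.node (1168,602,1) (.node (546,1757,2) .nil .nil) .nil) (.node (1622,1028,3) .nil .nil)) (.node (1541,450,2) (.node (2236,793,1) .nil .nil) (.node (1364,1305,1) .nil .nil)))) (.node (1516,94,1) (.node (1381,150,3) (.node (333,272,2) (.node (2221,562,3) (.node (132,1604,0) .nil .nil) .nil) (.node (1172,962,1) .nil .nil)) (.node (289,415,2) (.node (720,741,3) .nil .nil) (.node (1782,1206,1) .nil .nil))) (.node (1013,211,2) (.node (1646,344,0) (.node (355,650,3) (.node (540,1976,3) .nil .nil) .nil) (.node (1004,1080,3) .nil .nil)) (.node (200,490,3) (.node (2172,847,3) .nil .nil) (.node (1770,1398,2) .nil .nil)))))) (.node (228,19,1) (.node (2047,31,3) (.node (772,59,1) (.node (292,114,2) (.node (79,233,2) (.node (974,517,3) (.node (1533,1457,1)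 .nil .nil) .nil) (.node (2191,883,3) .nil .nil)) (.node (1754,370,2) (.node (432,684,0) .nil .nil) (.node (2177,1120,3) .nil .nil))) (.node (1554,175,1) (.node (337,298,3) (.node (918,591,3) (.node (2186,1714,1) .nil .nil) .nil) (.node (1566,1014,1) .nil .nil)) (.node (2119,442,2) (.node (1273,779,3) .nil .nil) (.node (926,1283,3) .nil .nil)))) (.node (1000,88,1) (.node (1556,144,0) (.node (2270,263,3) (.node (2276,552,3) (.node (531,1557,3) .nil .nil) .nil) (.node (370,946,0) .nil .nil)) (.node (711,405,3) (.node (1810,731,3) .nil .nil) (.node (707,1192,0) .nil .nil))) (.node (90,204,2) (.node (1297,335,1) (.node (87,637,0) (.node (779,1914,1) .nil .nil) .nil) (.node (2168,1069,3) .nil .nil)) (.node (1085,479,3) (.node (74,830,2) .nil .nil) (.node (960,1374,2) .nil .nil))))) (.node (2050,46,0) (.node (10,73,2) (.node (801,129,1) (.node (1871,250,0) (.node (66,534,1) (.node (1009,1496,2) .nil .nil) .nil) (.node (803,912,2) .nil .nil)) (.node (959,390,0) (.node (570,709,3) .nil .nil) (.node (2113,1161,3) .nil .nil))) (.node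 (859,189,2) (.node (1113,315,3) (.node (1715,611,2) (.node (1557,1809,0) .nil .nil) .nil) (.node (492,1042,3) .nil .nil)) (.node (205,458,1) (.node (1784,805,3) .nil .nil) (.node (1632,1325,1) .nil .nil)))) (.node (2286,100,0) (.node (1096,159,0) (.node (1325,280,1) (.node (2208,571,2) (.node (350,1633,3) .nil .nil) .nil) (.node (1519,974,3) .nil .nil)) (.node (1482,424,2) (.node (852,755,2) .nil .nil) (.node (493,1230,3) .nil .nil))) (.node (686,218,2) (.node (735,353,3) (.node (173,661,2) (.node (2,2106,0) .nil .nil) .nil) (.node (467,1092,3) .nil .nil)) (.node (831,499,2) (.node (1783,859,3) .nil .nil) (.node (1655,1411,2) .nil .nil))))))) (.node (2239,9,2) (.node (1137,15,0) (.node (1065,28,3) (.node (1462,56,2) (.node (485,111,1) (.node (1639,230,0) (.node (1476,514,3) (.node (1865,1449,3) .nil .nil) .nil) (.node (616,877,1) .nil .nil)) (.node (529,366,1) (.node (921,678,1) .nil .nil) (.node (440,1115,2) .nil .nil))) (.node (361,171,1) (.node (636,293,1) (.node (1700,586,3) (.node (1012,1697,2) .nil .nil) .nil) (.node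 (1402,1000,3) .nil .nil)) (.node (1467,437,3) (.node (1671,775,2) .nil .nil) (.node (1148,1273,0) .nil .nil)))) (.node (2016,85,1) (.node (1505,141,0) (.node (176,260,2) (.node (1544,547,3) (.node (628,1538,0) .nil .nil) .nil) (.node (589,935,2) .nil .nil)) (.node (2263,401,2) (.node (101,728,1) .nil .nil) (.node (1014,1184,0) .nil .nil))) (.node (1038,201,0) (.node (2057,331,1) (.node (1154,633,3) (.node (1076,1887,2) .nil .nil) .nil) (.node (190,1062,2) .nil .nil)) (.node (131,476,0) (.node (1966,824,2) .nil .nil) (.node (2147,1364,3) .nil .nil))))) (.node (1688,42,3) (.node (169,70,2) (.node (1842,125,2) (.node (1160,246,0) (.node (1763,529,2) (.node (1322,1487,0) .nil .nil) .nil) (.node (1436,904,1) .nil .nil)) (.node (638,385,1) (.node (1179,703,0) .nil .nil) (.node (2155,1156,2) .nil .nil))) (.node (1218,186,2) (.node (1532,310,3) (.node (1349,605,1) (.node (76,1775,3) .nil .nil) .nil) (.node (984,1036,3) .nil .nil)) (.node (103,454,0) (.node (2041,798,3) .nil .nil) (.node (983,1317,0) .nil .nil)))) (.node (1821,97,2)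 (.node (521,153,2) (.node (299,276,3) (.node (1550,566,3) (.node (114,1613,2) .nil .nil) .nil) (.node (577,967,2) .nil .nil)) (.node (344,420,3) (.node (113,748,0) .nil .nil) (.node (552,1215,2) .nil .nil))) (.node (1286,215,1) (.node (819,349,3) (.node (1127,655,3) (.node (1288,2041,2) .nil .nil) .nil) (.node (560,1086,3) .nil .nil)) (.node (1543,496,1) (.node (1852,854,3) .nil .nil) (.node (999,1404,3) .nil .nil)))))) (.node (2084,21,3) (.node (816,35,2) (.node (2244,62,2) (.node (2220,118,0) (.node (1796,236,2) (.node (716,522,0) (.node (1192,1468,0) .nil .nil) .nil) (.node (1336,890,2) .nil .nil)) (.node (231,376,1) (.node (224,690,3) .nil .nil) (.node (656,1133,3) .nil .nil))) (.node (2149,180,2) (.node (854,302,3) (.node (2246,597,1) (.node (1499,1728,1) .nil .nil) .nil) (.node (1204,1022,3) .nil .nil)) (.node (586,446,3) (.node (1140,786,1) .nil .nil) (.node (1101,1299,3) .nil .nil)))) (.node (1265,90,3) (.node (1454,146,3) (.node (826,267,3) (.node (167,556,2) (.node (688,1579,2) .nil .nil) .nil) (.node (723,954,0)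 .nil .nil)) (.node (2107,409,3) (.node (1363,735,3) .nil .nil) (.node (958,1198,1) .nil .nil))) (.node (1600,208,3) (.node (1766,340,3) (.node (1960,644,0) (.node (1686,1947,2) .nil .nil) .nil) (.node (2077,1075,3) .nil .nil)) (.node (1186,485,3) (.node (1610,840,1) .nil .nil) (.node (1880,1384,0) .nil .nil))))) (.node (309,49,3) (.node (753,77,1) (.node (2183,132,3) (.node (68,253,1) (.node (307,537,0) (.node (399,1513,2) .nil .nil) .nil) (.node (2218,921,3) .nil .nil)) (.node (1724,393,3) (.node (22,716,2) .nil .nil) (.node (1881,1170,1) .nil .nil))) (.node (2185,193,2) (.node (92,320,2) (.node (2083,622,2) (.node (38,1833,3) .nil .nil) .nil) (.node (856,1049,2) .nil .nil)) (.node (96,463,2) (.node (262,812,3) .nil .nil) (.node (2090,1337,2) .nil .nil)))) (.node (311,104,3) (.node (402,163,2) (.node (73,284,2) (.node (1270,576,3) (.node (1253,1658,2) .nil .nil) .nil) (.node (1126,980,1) .nil .nil)) (.node (879,429,2) (.node (988,763,2) .nil .nil) (.node (2009,1245,2) .nil .nil))) (.node (1778,222,0) (.node (1220,357,2) (.node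 (2105,668,0) (.node (1590,2179,2) .nil .nil) .nil) (.node (876,1099,2) .nil .nil)) (.node (1831,504,2) (.node (106,865,3) .nil .nil) (.node (1701,1420,3) .nil .nil)))))))))

/-- Part of `treeO2`. -/
noncomputable def treeO2_l : Arr (ℕ × ℕ × ℕ) :=
  .node (366,0,0) treeO2_l_l treeO2_l_r

/-- Part of `treeO2`. -/
noncomputable def treeO2_r_l : Arr (ℕ × ℕ × ℕ) :=
  (.node (1963,0,3) (.node (2255,2,0) (.node (2024,4,3) (.node (2131,10,2) (.node (2176,22,3) (.node (1378,50,3) (.node (141,105,3) (.node (978,224,1) (.node (800,505,3) (.node (1269,1425,2) .nil .nil) .nil) (.node (2213,867,0) .nil .nil)) (.node (1631,358,2) (.node (1383,669,1) .nil .nil) (.node (791,1103,0) .nil .nil))) (.node (547,164,2) (.node (382,285,3) (.node (1950,579,1) (.node (1584,1671,3) .nil .nil) .nil) (.node (1791,983,2) .nil .nil)) (.node (1645,430,3) (.node (705,767,2) .nil .nil) (.node (1971,1249,3) .nil .nil)))) (.node (17,78,1) (.node (475,135,2) (.node (991,254,0) (.node (518,539,2) (.node (2035,1517,2) .nil .nil) .nil) (.node (2273,923,0) .nil .nil))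 (.node (237,394,3) (.node (951,718,0) .nil .nil) (.node (148,1175,1) .nil .nil))) (.node (2015,194,2) (.node (229,321,3) (.node (2133,623,3) (.node (528,1843,2) .nil .nil) .nil) (.node (975,1051,3) .nil .nil)) (.node (635,464,2) (.node (561,816,3) .nil .nil) (.node (1449,1344,2) .nil .nil))))) (.node (16,36,2) (.node (354,64,2) (.node (65,119,3) (.node (2173,238,2) (.node (1377,523,3) (.node (567,1473,0) .nil .nil) .nil) (.node (796,894,1) .nil .nil)) (.node (1086,378,0) (.node (981,693,3) .nil .nil) (.node (777,1136,2) .nil .nil))) (.node (1956,181,3) (.node (1485,304,2) (.node (535,599,2) (.node (1158,1736,2) .nil .nil) .nil) (.node (1453,1024,3) .nil .nil)) (.node (2064,447,3) (.node (2074,789,0) .nil .nil) (.node (192,1301,3) .nil .nil)))) (.node (1477,91,3) (.node (1480,148,2) (.node (1224,268,3) (.node (1786,558,1) (.node (1324,1586,1) .nil .nil) .nil) (.node (170,958,1) .nil .nil)) (.node (441,413,2) (.node (1407,737,2) .nil .nil) (.node (644,1200,2) .nil .nil))) (.node (652,209,3) (.node (719,341,3) (.node (264,647,1)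 (.node (1129,1957,3) .nil .nil) .nil) (.node (72,1077,0) .nil .nil)) (.node (1420,486,3) (.node (356,845,3) .nil .nil) (.node (145,1387,3) .nil .nil)))))) (.node (583,17,2) (.node (396,29,3) (.node (1593,57,2) (.node (2051,112,0) (.node (1718,231,3) (.node (680,515,3) (.node (2046,1451,3) .nil .nil) .nil) (.node (1969,879,3) .nil .nil)) (.node (1982,367,0) (.node (1603,680,3) .nil .nil) (.node (520,1118,0) .nil .nil))) (.node (1214,173,0) (.node (1281,294,3) (.node (271,588,3) (.node (848,1699,2) .nil .nil) .nil) (.node (1122,1002,2) .nil .nil)) (.node (649,438,3) (.node (2087,777,0) .nil .nil) (.node (1034,1276,0) .nil .nil)))) (.node (670,86,1) (.node (1028,142,1) (.node (462,261,3) (.node (683,548,3) (.node (418,1544,3) .nil .nil) .nil) (.node (398,936,3) .nil .nil)) (.node (2297,402,2) (.node (2141,729,2) .nil .nil) (.node (161,1186,3) .nil .nil))) (.node (2021,202,1) (.node (995,333,1) (.node (1189,635,0) (.node (1699,1894,1) .nil .nil) .nil) (.node (379,1065,3) .nil .nil)) (.node (1460,477,2) (.node (1847,827,2) .nil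 .nil) (.node (946,1366,2) .nil .nil))))) (.node (2056,44,1) (.node (1743,71,2) (.node (655,127,2) (.node (1942,247,2) (.node (2092,531,2) (.node (617,1490,0) .nil .nil) .nil) (.node (743,908,3) .nil .nil)) (.node (2042,387,0) (.node (1710,706,1) .nil .nil) (.node (2289,1157,3) .nil .nil))) (.node (1470,187,3) (.node (998,311,3) (.node (822,606,3) (.node (904,1796,1) .nil .nil) .nil) (.node (890,1037,3) .nil .nil)) (.node (1261,455,3) (.node (602,802,3) .nil .nil) (.node (930,1320,0) .nil .nil)))) (.node (1537,98,2) (.node (1640,156,2) (.node (1314,278,2) (.node (953,567,3) (.node (2032,1623,2) .nil .nil) .nil) (.node (1899,969,3) .nil .nil)) (.node (162,421,3) (.node (1502,751,0) .nil .nil) (.node (1027,1218,2) .nil .nil))) (.node (1241,216,3) (.node (730,351,0) (.node (1056,656,3) (.node (778,2054,2) .nil .nil) .nil) (.node (130,1089,2) .nil .nil)) (.node (447,497,2) (.node (815,856,1) .nil .nil) (.node (1609,1408,2) .nil .nil))))))) (.node (1708,7,2) (.node (622,13,2) (.node (275,26,3) (.node (1890,53,2) (.node (2022,109,2)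 (.node (750,227,3) (.node (736,511,1) (.node (116,1435,0) .nil .nil) .nil) (.node (2102,874,2) .nil .nil)) (.node (1691,363,2) (.node (1104,673,2) .nil .nil) (.node (417,1109,2) .nil .nil))) (.node (599,168,3) (.node (1779,290,3) (.node (1813,583,2) (.node (1500,1687,1) .nil .nil) .nil) (.node (510,994,0) .nil .nil)) (.node (1006,433,3) (.node (573,772,2) .nil .nil) (.node (780,1263,0) .nil .nil)))) (.node (420,82,1) (.node (194,138,2) (.node (1882,258,2) (.node (1262,543,2) (.node (427,1523,1) .nil .nil) .nil) (.node (1676,932,2) .nil .nil)) (.node (1211,399,0) (.node (1625,726,0) .nil .nil) (.node (80,1179,2) .nil .nil))) (.node (442,199,1) (.node (257,327,3) (.node (957,630,2) (.node (317,1863,2) .nil .nil) .nil) (.node (1131,1057,3) .nil .nil)) (.node (2209,472,0) (.node (1735,822,2) .nil .nil) (.node (1539,1353,3) .nil .nil))))) (.node (345,39,2) (.node (2013,68,0) (.node (265,123,1) (.node (1681,242,2) (.node (2144,527,2) (.node (1612,1479,3) .nil .nil) .nil) (.node (490,900,0) .nil .nil)) (.node (202,382,2) (.node (480,699,1)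 .nil .nil) (.node (1551,1149,1) .nil .nil))) (.node (1351,184,3) (.node (659,308,1) (.node (701,603,2) (.node (1068,1764,2) .nil .nil) .nil) (.node (747,1032,0) .nil .nil)) (.node (2248,451,3) (.node (1894,795,0) .nil .nil) (.node (1133,1308,2) .nil .nil)))) (.node (312,95,3) (.node (899,151,3) (.node (63,273,3) (.node (1750,564,1) (.node (2277,1608,3) .nil .nil) .nil) (.node (1604,964,1) .nil .nil)) (.node (362,417,0) (.node (1405,744,2) .nil .nil) (.node (1744,1212,1) .nil .nil))) (.node (1423,212,2) (.node (825,346,1) (.node (1954,652,3) (.node (754,2019,3) .nil .nil) .nil) (.node (34,1082,0) .nil .nil)) (.node (1156,493,2) (.node (2138,850,2) .nil .nil) (.node (2079,1401,2) .nil .nil)))))) (.node (1568,20,1) (.node (1492,33,3) (.node (325,60,3) (.node (835,116,0) (.node (2291,234,3) (.node (1856,519,0) (.node (319,1466,1) .nil .nil) .nil) (.node (153,887,0) .nil .nil)) (.node (967,373,3) (.node (1353,686,2) .nil .nil) (.node (2030,1127,1) .nil .nil))) (.node (400,176,0) (.node (1976,299,3) (.node (2292,593,0) (.node (1210,1719,1)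 .nil .nil) .nil) (.node (1132,1016,2) .nil .nil)) (.node (1736,444,2) (.node (905,781,0) .nil .nil) (.node (807,1286,3) .nil .nil)))) (.node (963,89,1) (.node (1607,145,1) (.node (453,265,2) (.node (2188,553,3) (.node (1134,1561,2) .nil .nil) .nil) (.node (1938,948,1) .nil .nil)) (.node (1302,406,3) (.node (2003,733,2) .nil .nil) (.node (1432,1193,3) .nil .nil))) (.node (590,205,2) (.node (189,337,0) (.node (215,640,2) (.node (1208,1923,0) .nil .nil) .nil) (.node (1974,1073,0) .nil .nil)) (.node (1809,482,2) (.node (1177,835,0) .nil .nil) (.node (1387,1377,1) .nil .nil))))) (.node (335,47,0) (.node (1256,75,2) (.node (48,130,0) (.node (1456,251,1) (.node (1099,535,0) (.node (619,1504,1) .nil .nil) .nil) (.node (439,917,3) .nil .nil)) (.node (263,391,3) (.node (61,712,1) .nil .nil) (.node (2256,1164,3) .nil .nil))) (.node (1409,191,1) (.node (2095,317,1) (.node (2217,615,1) (.node (1546,1819,2) .nil .nil) .nil) (.node (1446,1045,1) .nil .nil)) (.node (1183,459,3) (.node (267,809,1) .nil .nil) (.node (2184,1328,2) .nil .nil))))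 (.node (81,102,1) (.node (9,160,0) (.node (1447,281,3) (.node (2028,572,3) (.node (1714,1646,0) .nil .nil) .nil) (.node (1434,976,0) .nil .nil)) (.node (1243,425,3) (.node (2039,760,3) .nil .nil) (.node (1774,1238,2) .nil .nil))) (.node (181,219,3) (.node (1915,355,2) (.node (1403,663,0) (.node (1015,2117,1) .nil .nil) .nil) (.node (324,1095,2) .nil .nil)) (.node (1109,500,3) (.node (2132,861,1) .nil .nil) (.node (548,1416,0) .nil .nil)))))))) (.node (2279,3,2) (.node (1272,6,0) (.node (624,12,0) (.node (1679,25,1) (.node (1857,52,1) (.node (634,108,0) (.node (1851,226,0) (.node (677,507,3) (.node (479,1428,0) .nil .nil) .nil) (.node (163,872,2) .nil .nil)) (.node (2222,361,0) (.node (681,671,2) .nil .nil) (.node (1459,1105,3) .nil .nil))) (.node (1677,166,0) (.node (298,288,1) (.node (1725,581,2) (.node (1268,1677,2) .nil .nil) .nil) (.node (136,988,3) .nil .nil)) (.node (941,432,1) (.node (1164,769,1) .nil .nil) (.node (653,1254,2) .nil .nil)))) (.node (407,80,1) (.node (1921,137,1) (.node (1823,256,2) (.node (2130,541,3)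 (.node (846,1520,0) .nil .nil) .nil) (.node (1170,930,2) .nil .nil)) (.node (293,397,3) (.node (1790,722,2) .nil .nil) (.node (20,1177,3) .nil .nil))) (.node (222,196,2) (.node (2052,324,2) (.node (1138,628,1) (.node (1824,1854,0) .nil .nil) .nil) (.node (1207,1055,1) .nil .nil)) (.node (1247,468,3) (.node (177,819,3) .nil .nil) (.node (770,1350,0) .nil .nil))))) (.node (607,38,1) (.node (2224,66,3) (.node (601,121,2) (.node (1577,241,1) (.node (1517,525,2) (.node (1201,1475,3) .nil .nil) .nil) (.node (1115,897,3) .nil .nil)) (.node (1713,381,0) (.node (450,696,3) .nil .nil) (.node (1992,1142,1) .nil .nil))) (.node (2271,183,1) (.node (886,306,0) (.node (1236,601,3) (.node (1075,1756,0) .nil .nil) .nil) (.node (1318,1028,2) .nil .nil)) (.node (152,450,0) (.node (1167,792,3) .nil .nil) (.node (1806,1304,0) .nil .nil)))) (.node (845,93,0) (.node (1579,150,2) (.node (1675,271,2) (.node (2071,562,0) (.node (276,1602,3) .nil .nil) .nil) (.node (4,961,3) .nil .nil)) (.node (416,414,3) (.node (1136,741,2) .nil .nil) (.node (627,1203,2)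 .nil .nil))) (.node (1419,211,0) (.node (1057,343,2) (.node (631,650,2) (.node (2086,1974,0) .nil .nil) .nil) (.node (1046,1080,2) .nil .nil)) (.node (752,489,2) (.node (1994,847,2) .nil .nil) (.node (873,1394,2) .nil .nil)))))) (.node (1878,18,3) (.node (2108,31,2) (.node (1087,58,3) (.node (357,114,1) (.node (621,233,1) (.node (1598,517,2) (.node (11,1456,3) .nil .nil) .nil) (.node (2121,882,3) .nil .nil)) (.node (1018,369,2) (.node (1431,683,3) .nil .nil) (.node (1396,1120,0) .nil .nil))) (.node (1703,174,3) (.node (1753,296,3) (.node (1030,591,2) (.node (679,1713,0) .nil .nil) .nil) (.node (969,1011,3) .nil .nil)) (.node (633,442,0) (.node (929,778,2) .nil .nil) (.node (1052,1283,2) .nil .nil)))) (.node (1232,87,3) (.node (206,143,3) (.node (2054,263,2) (.node (1345,551,3) (.node (818,1553,1) .nil .nil) .nil) (.node (1919,941,2) .nil .nil)) (.node (1576,405,2) (.node (1850,731,2) .nil .nil) (.node (1037,1191,2) .nil .nil))) (.node (908,203,3) (.node (1337,334,3) (.node (1937,636,3) (.node (1379,1912,0) .nil .nil) .nil)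 (.node (1338,1069,0) .nil .nil)) (.node (687,478,3) (.node (2230,829,3) .nil .nil) (.node (788,1372,2) .nil .nil))))) (.node (786,45,2) (.node (1733,73,0) (.node (1088,128,3) (.node (1698,249,0) (.node (1925,533,3) (.node (1599,1496,1) .nil .nil) .nil) (.node (2167,911,0) .nil .nil)) (.node (603,389,3) (.node (426,709,2) .nil .nil) (.node (2005,1161,2) .nil .nil))) (.node (738,189,0) (.node (1602,315,2) (.node (208,611,1) (.node (1094,1804,2) .nil .nil) .nil) (.node (2128,1042,1) .nil .nil)) (.node (1892,457,0) (.node (1874,805,2) .nil .nil) (.node (2156,1323,2) .nil .nil)))) (.node (1762,99,3) (.node (2200,158,1) (.node (733,279,3) (.node (1697,571,0) (.node (651,1627,3) .nil .nil) .nil) (.node (833,974,0) .nil .nil)) (.node (1081,423,3) (.node (748,754,3) .nil .nil) (.node (1331,1229,3) .nil .nil))) (.node (1313,218,1) (.node (1266,353,2) (.node (606,661,1) (.node (226,2104,2) .nil .nil) .nil) (.node (390,1092,2) .nil .nil)) (.node (1514,499,1) (.node (1826,859,2) .nil .nil) (.node (1184,1410,1) .nil .nil))))))) (.node (1294,9,0)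 (.node (2012,14,3) (.node (1594,28,2) (.node (2261,55,2) (.node (923,110,3) (.node (811,229,3) (.node (1112,514,2) (.node (2103,1448,2) .nil .nil) .nil) (.node (241,876,2) .nil .nil)) (.node (197,365,3) (.node (1761,677,0) .nil .nil) (.node (1035,1113,3) .nil .nil))) (.node (364,170,3) (.node (21,292,3) (.node (1727,586,2) (.node (997,1696,1) .nil .nil) .nil) (.node (147,1000,0) .nil .nil)) (.node (1616,436,3) (.node (287,775,0) .nil .nil) (.node (1070,1272,2) .nil .nil)))) (.node (425,84,3) (.node (604,140,0) (.node (372,260,1) (.node (1526,546,3) (.node (278,1535,3) .nil .nil) .nil) (.node (611,935,0) .nil .nil)) (.node (310,401,0) (.node (1206,727,3) .nil .nil) (.node (629,1183,2) .nil .nil))) (.node (188,200,3) (.node (387,330,3) (.node (534,633,0) (.node (1425,1886,1) .nil .nil) .nil) (.node (395,1062,1) .nil .nil)) (.node (2233,475,0) (.node (56,824,1) .nil .nil) (.node (409,1359,1) .nil .nil))))) (.node (1945,42,2) (.node (581,70,1) (.node (94,125,1) (.node (383,245,2) (.node (2234,528,3) (.node (1669,1486,3) .nil .nil)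 .nil) (.node (756,903,3) .nil .nil)) (.node (374,383,3) (.node (1846,702,3) .nil .nil) (.node (851,1154,1) .nil .nil))) (.node (1251,186,1) (.node (1016,310,2) (.node (842,604,3) (.node (551,1775,1) .nil .nil) .nil) (.node (2111,1036,0) .nil .nil)) (.node (1716,453,3) (.node (2150,798,2) .nil .nil) (.node (928,1315,3) .nil .nil)))) (.node (233,97,1) (.node (1147,153,0) (.node (77,276,2) (.node (1430,566,2) (.node (1135,1611,1) .nil .nil) .nil) (.node (242,967,0) .nil .nil)) (.node (495,420,2) (.node (89,747,2) .nil .nil) (.node (2299,1215,0) .nil .nil))) (.node (2181,214,0) (.node (1239,349,2) (.node (1205,654,0) (.node (817,2041,1) .nil .nil) .nil) (.node (1828,1085,2) .nil .nil)) (.node (797,495,2) (.node (133,854,1) .nil .nil) (.node (2174,1404,0) .nil .nil)))))) (.node (2302,21,2) (.node (662,35,1) (.node (1293,62,0) (.node (553,117,3) (.node (2253,236,0) (.node (1084,521,3) (.node (46,1467,3) .nil .nil) .nil) (.node (1334,889,2) .nil .nil)) (.node (139,375,3) (.node (1007,690,0) .nil .nil) (.node (1592,1131,3) .nil .nil)))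 (.node (1749,179,1) (.node (1063,302,2) (.node (557,596,3) (.node (2241,1726,2) .nil .nil) .nil) (.node (1307,1021,0) .nil .nil)) (.node (428,445,3) (.node (773,785,3) .nil .nil) (.node (455,1295,0) .nil .nil)))) (.node (1463,90,2) (.node (906,146,2) (.node (1443,267,2) (.node (2290,555,0) (.node (1238,1572,2) .nil .nil) .nil) (.node (1433,952,2) .nil .nil)) (.node (1995,409,2) (.node (1521,735,2) .nil .nil) (.node (787,1196,2) .nil .nil))) (.node (1169,208,2) (.node (1849,340,2) (.node (2195,643,2) (.node (955,1944,2) .nil .nil) .nil) (.node (2151,1075,2) .nil .nil)) (.node (536,485,0) (.node (1371,838,0) .nil .nil) (.node (1384,1382,1) .nil .nil))))) (.node (593,49,1) (.node (742,76,3) (.node (2034,132,2) (.node (1977,252,3) (.node (331,536,3) (.node (515,1509,3) .nil .nil) .nil) (.node (2250,920,3) .nil .nil)) (.node (1884,393,2) (.node (412,716,1) .nil .nil) (.node (1391,1169,3) .nil .nil))) (.node (260,193,0) (.node (24,319,0) (.node (1914,620,3) (.node (875,1822,0) .nil .nil) .nil) (.node (1050,1047,3) .nil .nil)) (.node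 (458,463,1) (.node (119,812,2) .nil .nil) (.node (1344,1334,3) .nil .nil)))) (.node (15,104,0) (.node (2060,162,3) (.node (42,283,3) (.node (1091,576,2) (.node (839,1655,1) .nil .nil) .nil) (.node (744,979,3) .nil .nil)) (.node (183,429,0) (.node (1040,763,1) .nil .nil) (.node (2017,1243,3) .nil .nil))) (.node (895,221,2) (.node (812,357,1) (.node (2190,667,2) (.node (2242,2168,3) .nil .nil) .nil) (.node (900,1099,1) .nil .nil)) (.node (213,503,3) (.node (238,865,2) .nil .nil) (.node (1973,1420,2) .nil .nil)))))))))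

/-- Part of `treeO2`. -/
noncomputable def treeO2_r_r : Arr (ℕ × ℕ × ℕ) :=
  (.node (125,1,2) (.node (1729,2,3) (.node (126,5,2) (.node (1520,11,2) (.node (1757,23,2) (.node (1987,51,2) (.node (123,106,3) (.node (861,225,2) (.node (1510,506,3) (.node (1487,1427,0) .nil .nil) .nil) (.node (1948,869,2) .nil .nil)) (.node (219,359,0) (.node (2122,670,0) .nil .nil) (.node (1041,1104,2) .nil .nil))) (.node (404,165,0) (.node (1902,286,3) (.node (1306,580,0) (.node (460,1674,0) .nil .nil) .nil) (.node (1375,984,0) .nil .nil)) (.node (646,431,2) (.node (1659,768,0) .nil .nil) (.node (75,1251,1) .nil .nil)))) (.node (1719,78,3) (.node (270,136,0) (.node (109,254,3) (.node (411,540,3) (.node (1424,1519,1) .nil .nil) .nil) (.node (336,925,1) .nil .nil)) (.node (165,396,2) (.node (166,719,2) .nil .nil) (.node (326,1176,3) .nil .nil))) (.node (1219,195,2) (.node (1745,322,3) (.node (916,625,3) (.node (245,1847,3) .nil .nil) .nil) (.node (1002,1052,3) .nil .nil)) (.node (1644,467,3) (.node (2116,818,2) .nil .nil) (.node (1887,1347,0)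 .nil .nil))))) (.node (922,37,0) (.node (1913,65,3) (.node (135,120,2) (.node (829,240,2) (.node (1630,524,2) (.node (1513,1475,1) .nil .nil) .nil) (.node (1146,894,3) .nil .nil)) (.node (2004,380,1) (.node (550,695,1) .nil .nil) (.node (2304,1140,3) .nil .nil))) (.node (1840,182,2) (.node (1011,305,2) (.node (497,601,0) (.node (348,1751,3) .nil .nil) .nil) (.node (1008,1026,1) .nil .nil)) (.node (1653,449,2) (.node (2212,789,3) .nil .nil) (.node (837,1302,3) .nil .nil)))) (.node (1301,92,2) (.node (1440,149,3) (.node (234,269,2) (.node (2169,558,3) (.node (543,1595,3) .nil .nil) .nil) (.node (2280,959,3) .nil .nil)) (.node (2283,414,1) (.node (692,739,2) .nil .nil) (.node (1647,1202,1) .nil .nil))) (.node (93,210,2) (.node (1437,342,3) (.node (115,649,2) (.node (1163,1968,3) .nil .nil) .nil) (.node (2166,1079,2) .nil .nil)) (.node (1022,487,2) (.node (610,846,3) .nil .nil) (.node (494,1390,0) .nil .nil)))))) (.node (1271,18,0) (.node (419,30,3) (.node (866,58,1) (.node (562,112,3) (.node (1808,232,2) (.node (2136,516,3) (.node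 (972,1455,0) .nil .nil) .nil) (.node (2069,881,2) .nil .nil)) (.node (700,368,3) (.node (1020,682,1) .nil .nil) (.node (1464,1119,2) .nil .nil))) (.node (1811,173,3) (.node (1896,296,0) (.node (1814,589,3) (.node (1264,1705,2) .nil .nil) .nil) (.node (143,1009,3) .nil .nil)) (.node (1291,440,2) (.node (917,777,3) .nil .nil) (.node (1530,1279,1) .nil .nil)))) (.node (537,87,0) (.node (456,143,1) (.node (367,262,2) (.node (832,550,2) (.node (962,1546,2) .nil .nil) .nil) (.node (1388,937,3) .nil .nil)) (.node (1752,404,1) (.node (2161,730,2) .nil .nil) (.node (1619,1188,2) .nil .nil))) (.node (563,202,3) (.node (117,334,0) (.node (35,636,1) (.node (446,1903,1) .nil .nil) .nil) (.node (2226,1066,2) .nil .nil)) (.node (1173,478,1) (.node (2269,828,2) .nil .nil) (.node (1062,1370,3) .nil .nil))))) (.node (594,44,3) (.node (282,72,1) (.node (872,128,1) (.node (1751,248,2) (.node (31,532,3) (.node (1920,1493,3) .nil .nil) .nil) (.node (896,909,3) .nil .nil)) (.node (1692,389,0) (.node (2062,707,3) .nil .nil) (.node (1392,1160,0) .nil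 .nil))) (.node (1249,188,2) (.node (484,314,1) (.node (1244,609,3) (.node (155,1801,2) .nil .nil) .nil) (.node (2120,1039,0) .nil .nil)) (.node (62,456,2) (.node (2240,804,3) .nil .nil) (.node (2159,1322,3) .nil .nil)))) (.node (184,99,1) (.node (254,157,0) (.node (1153,279,1) (.node (1621,570,1) (.node (1658,1626,2) .nil .nil) .nil) (.node (99,973,1) .nil .nil)) (.node (1886,422,3) (.node (1234,754,1) .nil .nil) (.node (643,1222,3) .nil .nil))) (.node (1346,217,2) (.node (1597,351,3) (.node (2089,658,2) (.node (884,2083,0) .nil .nil) .nil) (.node (388,1090,1) .nil .nil)) (.node (1859,498,0) (.node (1421,857,2) .nil .nil) (.node (768,1409,2) .nil .nil))))))) (.node (321,8,2) (.node (290,14,0) (.node (232,27,2) (.node (632,54,0) (.node (675,110,1) (.node (684,228,2) (.node (1149,512,2) (.node (836,1443,3) .nil .nil) .nil) (.node (1033,875,0) .nil .nil)) (.node (898,364,3) (.node (1176,676,2) .nil .nil) (.node (1347,1110,0) .nil .nil))) (.node (386,169,3) (.node (2281,292,0) (.node (1400,584,0) (.node (1092,1690,3) .nil .nil)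 .nil) (.node (1001,995,2) .nil .nil)) (.node (1484,435,2) (.node (1794,773,3) .nil .nil) (.node (174,1268,2) .nil .nil)))) (.node (2053,83,3) (.node (2249,139,2) (.node (281,259,1) (.node (1558,545,2) (.node (470,1528,2) .nil .nil) .nil) (.node (1569,933,0) .nil .nil)) (.node (1652,400,1) (.node (1468,727,1) .nil .nil) (.node (249,1181,0) .nil .nil))) (.node (158,199,3) (.node (1822,329,2) (.node (992,631,1) (.node (44,1868,3) .nil .nil) .nil) (.node (814,1060,3) .nil .nil)) (.node (84,473,2) (.node (1242,823,0) .nil .nil) (.node (1591,1356,1) .nil .nil))))) (.node (522,41,1) (.node (2275,68,3) (.node (2266,124,0) (.node (1837,244,1) (.node (1924,528,1) (.node (961,1482,2) .nil .nil) .nil) (.node (476,902,3) .nil .nil)) (.node (580,383,0) (.node (1853,701,2) .nil .nil) (.node (2135,1152,2) .nil .nil))) (.node (1573,185,2) (.node (1483,309,3) (.node (1444,604,0) (.node (2278,1772,2) .nil .nil) .nil) (.node (2140,1034,0) .nil .nil)) (.node (1798,452,3) (.node (1879,796,2) .nil .nil) (.node (1080,1310,2) .nil .nil)))) (.node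 (1702,96,2) (.node (151,152,2) (.node (315,274,2) (.node (1834,565,1) (.node (1560,1610,2) .nil .nil) .nil) (.node (1927,965,2) .nil .nil)) (.node (1909,419,1) (.node (850,746,3) .nil .nil) (.node (2000,1214,2) .nil .nil))) (.node (443,213,0) (.node (1509,347,3) (.node (146,653,2) (.node (1748,2024,0) .nil .nil) .nil) (.node (592,1084,1) .nil .nil)) (.node (1588,494,0) (.node (1661,852,0) .nil .nil) (.node (1747,1402,0) .nil .nil)))))) (.node (1312,20,3) (.node (968,34,2) (.node (433,61,2) (.node (1455,116,3) (.node (2011,235,2) (.node (1385,520,2) (.node (1947,1467,0) .nil .nil) .nil) (.node (1648,888,1) .nil .nil)) (.node (474,375,1) (.node (1657,688,2) .nil .nil) (.node (468,1129,3) .nil .nil))) (.node (2303,177,2) (.node (1765,300,2) (.node (332,593,3) (.node (939,1722,1) .nil .nil) .nil) (.node (1368,1017,2) .nil .nil)) (.node (1098,445,0) (.node (1512,785,0) .nil .nil) (.node (1623,1293,2) .nil .nil)))) (.node (790,89,3) (.node (1350,145,3) (.node (1581,266,3) (.node (1993,554,2) (.node (1638,1566,3) .nil .nil) .nil)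 (.node (1341,950,0) .nil .nil)) (.node (932,407,2) (.node (1315,734,3) .nil .nil) (.node (824,1194,3) .nil .nil))) (.node (559,207,1) (.node (1901,339,3) (.node (2199,642,2) (.node (664,1936,1) .nil .nil) .nil) (.node (248,1074,1) .nil .nil)) (.node (1788,483,3) (.node (1643,837,1) .nil .nil) (.node (1195,1379,3) .nil .nil))))) (.node (120,48,2) (.node (1555,76,0) (.node (516,131,3) (.node (1280,251,3) (.node (1988,536,1) (.node (365,1506,1) .nil .nil) .nil) (.node (444,919,2) .nil .nil)) (.node (8,392,3) (.node (1617,713,1) .nil .nil) (.node (1222,1167,0) .nil .nil))) (.node (1944,192,2) (.node (600,318,2) (.node (259,616,1) (.node (671,1820,3) .nil .nil) .nil) (.node (1535,1046,3) .nil .nil)) (.node (718,461,2) (.node (82,811,3) .nil .nil) (.node (907,1332,0) .nil .nil)))) (.node (1360,103,2) (.node (2143,161,2) (.node (1951,283,0) (.node (1815,573,2) (.node (225,1646,3) .nil .nil) .nil) (.node (1227,978,2) .nil .nil)) (.node (1635,428,2) (.node (2080,761,2) .nil .nil) (.node (1395,1239,0) .nil .nil))) (.node (883,220,3)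 (.node (1304,356,2) (.node (1795,665,2) (.node (596,2129,3) .nil .nil) .nil) (.node (1376,1096,3) .nil .nil)) (.node (985,502,1) (.node (1985,862,1) .nil .nil) (.node (2139,1418,3) .nil .nil)))))))) (.node (1975,4,1) (.node (1772,6,3) (.node (368,12,3) (.node (328,26,0) (.node (2175,52,3) (.node (1998,108,3) (.node (1185,227,1) (.node (2192,509,3) (.node (1309,1429,3) .nil .nil) .nil) (.node (2165,873,2) .nil .nil)) (.node (51,361,3) (.node (1511,672,0) .nil .nil) (.node (798,1108,1) .nil .nil))) (.node (526,167,2) (.node (154,289,2) (.node (2170,582,2) (.node (1680,1682,2) .nil .nil) .nil) (.node (1613,992,2) .nil .nil)) (.node (2134,433,0) (.node (762,769,3) .nil .nil) (.node (1941,1259,3) .nil .nil)))) (.node (1067,81,0) (.node (2247,137,3) (.node (1706,257,3) (.node (2157,542,2) (.node (1450,1522,0) .nil .nil) .nil) (.node (1386,931,1) .nil .nil)) (.node (1799,398,2) (.node (834,724,1) .nil .nil) (.node (193,1178,2) .nil .nil))) (.node (1190,198,2) (.node (503,326,2) (.node (1664,629,2) (.node (1979,1860,3) .nil .nil)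 .nil) (.node (1090,1056,3) .nil .nil)) (.node (1741,470,2) (.node (1414,821,1) .nil .nil) (.node (1254,1352,1) .nil .nil))))) (.node (320,38,3) (.node (2018,67,2) (.node (1191,122,0) (.node (1397,241,3) (.node (408,526,3) (.node (663,1479,0) .nil .nil) .nil) (.node (935,899,1) .nil .nil)) (.node (255,381,3) (.node (40,697,2) .nil .nil) (.node (1051,1147,0) .nil .nil))) (.node (118,184,0) (.node (1493,306,3) (.node (676,602,3) (.node (436,1759,2) .nil .nil) .nil) (.node (2059,1029,0) .nil .nil)) (.node (1390,450,3) (.node (989,794,0) .nil .nil) (.node (1032,1305,2) .nil .nil)))) (.node (1561,94,2) (.node (761,151,1) (.node (556,272,3) (.node (2258,563,2) (.node (1296,1604,3) .nil .nil) .nil) (.node (1248,962,2) .nil .nil)) (.node (303,415,3) (.node (853,742,3) .nil .nil) (.node (1760,1210,3) .nil .nil))) (.node (830,211,3) (.node (1515,344,2) (.node (1182,651,0) (.node (737,1994,3) .nil .nil) .nil) (.node (273,1081,2) .nil .nil)) (.node (1578,491,1) (.node (499,849,2) .nil .nil) (.node (2180,1399,3) .nil .nil)))))) (.node (1943,19,2)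 (.node (1124,32,0) (.node (1188,59,2) (.node (1333,115,2) (.node (297,233,3) (.node (823,518,2) (.node (406,1458,3) .nil .nil) .nil) (.node (954,884,3) .nil .nil)) (.node (1740,370,3) (.node (1495,684,2) .nil .nil) (.node (545,1125,2) .nil .nil))) (.node (1259,175,2) (.node (236,299,1) (.node (502,592,1) (.node (448,1716,3) .nil .nil) .nil) (.node (1441,1014,2) .nil .nil)) (.node (1997,442,3) (.node (198,780,1) .nil .nil) (.node (925,1286,1) .nil .nil)))) (.node (1049,88,2) (.node (885,144,2) (.node (1674,264,0) (.node (1787,553,1) (.node (1738,1560,2) .nil .nil) .nil) (.node (1897,946,3) .nil .nil)) (.node (221,406,0) (.node (1317,732,0) .nil .nil) (.node (1634,1192,3) .nil .nil))) (.node (185,204,3) (.node (1540,336,2) (.node (308,638,1) (.node (2007,1918,0) .nil .nil) .nil) (.node (2164,1071,2) .nil .nil)) (.node (1121,480,1) (.node (247,830,3) .nil .nil) (.node (1775,1376,0) .nil .nil))))) (.node (582,46,2) (.node (244,73,3) (.node (840,129,2) (.node (760,250,2) (.node (1802,534,2) (.node (1202,1498,2) .nil .nil) .nil)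 (.node (1888,914,0) .nil .nil)) (.node (52,391,0) (.node (1216,711,0) .nil .nil) (.node (808,1162,1) .nil .nil))) (.node (1547,189,3) (.node (2033,316,0) (.node (1804,611,3) (.node (740,1809,3) .nil .nil) .nil) (.node (1233,1043,2) .nil .nil)) (.node (1861,458,2) (.node (18,806,1) .nil .nil) (.node (1029,1325,2) .nil .nil)))) (.node (124,100,2) (.node (597,159,2) (.node (1194,280,2) (.node (2295,571,3) (.node (1962,1635,2) .nil .nil) .nil) (.node (903,975,2) .nil .nil)) (.node (1072,424,3) (.node (182,756,0) .nil .nil) (.node (1355,1232,3) .nil .nil))) (.node (1497,218,3) (.node (994,354,1) (.node (2225,662,0) (.node (1445,2114,2) .nil .nil) .nil) (.node (1932,1093,0) .nil .nil)) (.node (1231,499,3) (.node (41,860,0) .nil .nil) (.node (211,1412,0) .nil .nil))))))) (.node (2178,9,3) (.node (2044,16,1) (.node (256,29,0) (.node (708,56,3) (.node (29,111,2) (.node (2243,231,0) (.node (1246,515,1) (.node (1406,1450,0) .nil .nil) .nil) (.node (316,877,3) .nil .nil)) (.node (301,366,2) (.node (1223,678,2) .nil .nil) (.node (1996,1116,1)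 .nil .nil))) (.node (164,171,2) (.node (105,293,2) (.node (2182,587,2) (.node (940,1697,3) .nil .nil) .nil) (.node (1003,1001,3) .nil .nil)) (.node (1229,438,1) (.node (1707,775,3) .nil .nil) (.node (413,1275,0) .nil .nil)))) (.node (334,85,2) (.node (1255,141,2) (.node (33,260,3) (.node (1636,548,0) (.node (2207,1538,2) .nil .nil) .nil) (.node (360,935,3) .nil .nil)) (.node (2008,401,3) (.node (1869,728,2) .nil .nil) (.node (186,1184,3) .nil .nil))) (.node (512,201,2) (.node (544,331,2) (.node (2129,634,2) (.node (698,1890,2) .nil .nil) .nil) (.node (252,1062,3) .nil .nil)) (.node (769,476,2) (.node (306,825,3) .nil .nil) (.node (2193,1365,3) .nil .nil))))) (.node (1152,43,0) (.node (284,70,3) (.node (1429,126,2) (.node (1773,246,3) (.node (1912,529,3) (.node (2245,1488,2) .nil .nil) .nil) (.node (1650,907,2) .nil .nil)) (.node (207,385,2) (.node (23,704,1) .nil .nil) (.node (2227,1156,3) .nil .nil))) (.node (689,186,3) (.node (678,311,1) (.node (1531,605,3) (.node (279,1781,2) .nil .nil) .nil) (.node (943,1037,1) .nil .nil))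 (.node (1275,454,2) (.node (1672,802,0) .nil .nil) (.node (45,1317,2) .nil .nil)))) (.node (1961,97,3) (.node (507,153,3) (.node (1964,277,0) (.node (729,567,1) (.node (60,1613,3) .nil .nil) .nil) (.node (401,968,2) .nil .nil)) (.node (986,421,0) (.node (945,750,2) .nil .nil) (.node (491,1216,2) .nil .nil))) (.node (1614,215,2) (.node (897,350,1) (.node (888,656,1) (.node (2082,2045,2) .nil .nil) .nil) (.node (478,1087,2) .nil .nil)) (.node (1282,496,3) (.node (1276,855,2) .nil .nil) (.node (1585,1406,0) .nil .nil)))))) (.node (1863,22,1) (.node (910,35,3) (.node (2112,62,3) (.node (64,118,3) (.node (1731,236,3) (.node (1039,522,2) (.node (1972,1469,2) .nil .nil) .nil) (.node (693,890,3) .nil .nil)) (.node (1930,377,2) (.node (806,692,2) .nil .nil) (.node (805,1134,2) .nil .nil))) (.node (2251,180,3) (.node (1071,303,2) (.node (465,597,2) (.node (1277,1728,2) .nil .nil) .nil) (.node (809,1023,0) .nil .nil)) (.node (1923,447,0) (.node (665,787,0) .nil .nil) (.node (952,1300,1) .nil .nil)))) (.node (1329,91,1) (.node (1528,147,0)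 (.node (1451,268,1) (.node (901,557,2) (.node (682,1579,3) .nil .nil) .nil) (.node (1475,955,1) .nil .nil)) (.node (2293,411,3) (.node (1047,736,1) .nil .nil) (.node (970,1199,3) .nil .nil))) (.node (1570,209,0) (.node (1252,341,1) (.node (1665,644,3) (.node (1589,1953,2) .nil .nil) .nil) (.node (2288,1076,2) .nil .nil)) (.node (1328,486,1) (.node (771,843,1) .nil .nil) (.node (713,1385,0) .nil .nil))))) (.node (1567,50,1) (.node (1330,77,2) (.node (2097,134,1) (.node (1866,253,2) (.node (2055,537,2) (.node (1250,1514,1) .nil .nil) .nil) (.node (1010,922,2) .nil .nil)) (.node (389,394,1) (.node (240,716,3) .nil .nil) (.node (1305,1173,2) .nil .nil))) (.node (2067,193,3) (.node (218,320,3) (.node (1781,623,1) (.node (405,1835,2) .nil .nil) .nil) (.node (1854,1050,0) .nil .nil)) (.node (209,463,3) (.node (36,813,3) .nil .nil) (.node (7,1342,1) .nil .nil)))) (.node (481,105,1) (.node (579,163,3) (.node (71,284,3) (.node (375,577,0) (.node (727,1659,3) .nil .nil) .nil) (.node (765,981,1) .nil .nil)) (.node (1343,429,3) (.node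 (1654,764,2) .nil .nil) (.node (1694,1246,1) .nil .nil))) (.node (1562,222,2) (.node (1045,357,3) (.node (902,668,2) (.node (1130,2199,3) .nil .nil) .nil) (.node (763,1100,2) .nil .nil)) (.node (1023,505,1) (.node (614,866,0) .nil .nil) (.node (2137,1424,1) .nil .nil)))))))))

/-- Part of `treeO2`. -/
noncomputable def treeO2_r : Arr (ℕ × ℕ × ℕ) :=
  .node (246,0,1) treeO2_r_l treeO2_r_r

/-- An orbit, with a spanning tree. -/
noncomputable def treeO2 : Arr (ℕ × ℕ × ℕ) :=
  .node (1,0,0) treeO2_l treeO2_r

/-- The size of an orbit. -/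
def treeDSize : ℕ :=
  1024

/-- Part of `treeD`. -/
noncomputable def treeD_l : Arr (ℕ × ℕ × ℕ) :=
  (.node (2320,0,0) (.node (2639,1,1) (.node (2308,3,1) (.node (3321,8,1) (.node (2472,18,1) (.node (3140,39,0) (.node (2551,80,1) (.node (2398,167,1) (.node (2397,364,1) (.node (2694,1005,1) .nil .nil) .nil) (.node (2690,594,1) .nil .nil)) (.node (2527,263,1) (.node (3105,467,1) .nil .nil) (.node (2829,754,1) .nil .nil))) (.node (2356,122,1) (.node (2497,213,1) (.node (2440,417,1) .nil .nil) (.node (3084,671,0) .nil .nil)) (.node (3077,313,0) (.node (3211,530,0) .nil .nil) (.node (2499,844,0) .nil .nil)))) (.node (3233,60,1) (.node (3302,102,0) (.node (2851,191,1) (.node (2906,390,1) .nil .nil) (.node (3234,637,1) .nil .nil)) (.node (2812,289,0) (.node (3093,498,1) .nil .nil) (.node (2908,796,1) .nil .nil))) (.node (2559,145,1) (.node (2857,238,1) (.node (2633,442,1) .nil .nil) (.node (2327,707,0) .nil .nil)) (.node (2682,340,0) (.node (2368,559,1) .nil .nil) (.node (2766,914,1) .nil .nil))))) (.node (2508,28,1) (.node (2647,49,1)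 (.node (2684,91,1) (.node (2673,180,0) (.node (2438,377,1) .nil .nil) (.node (3305,615,0) .nil .nil)) (.node (2473,276,1) (.node (3070,482,1) .nil .nil) (.node (3146,781,1) .nil .nil))) (.node (2776,134,0) (.node (2803,225,1) (.node (3043,430,0) .nil .nil) (.node (2609,692,1) .nil .nil)) (.node (2826,328,1) (.node (2588,544,1) .nil .nil) (.node (3033,885,1) .nil .nil)))) (.node (3274,70,1) (.node (2478,111,1) (.node (2325,202,1) (.node (3293,404,1) .nil .nil) (.node (2390,657,0) .nil .nil)) (.node (3016,302,0) (.node (2463,514,1) .nil .nil) (.node (3061,819,0) .nil .nil))) (.node (2460,155,0) (.node (2712,249,1) (.node (2965,455,1) .nil .nil) (.node (3106,723,1) .nil .nil)) (.node (2775,351,0) (.node (2321,576,1) .nil .nil) (.node (2644,965,1) .nil .nil)))))) (.node (2743,13,1) (.node (3164,23,1) (.node (2948,44,1) (.node (2552,86,0) (.node (3141,174,1) (.node (2794,370,0) .nil .nil) (.node (3242,602,1) .nil .nil)) (.node (3128,269,1) (.node (2955,472,1) .nil .nil) (.node (2708,764,1) .nil .nil))) (.node (2762,128,0) (.node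 (3040,218,0) (.node (3094,423,1) .nil .nil) (.node (3038,683,1) .nil .nil)) (.node (3123,319,1) (.node (2307,536,1) .nil .nil) (.node (2696,865,1) .nil .nil)))) (.node (2606,65,0) (.node (2646,107,0) (.node (2760,196,1) (.node (2950,395,1) .nil .nil) (.node (2901,649,1) .nil .nil)) (.node (2780,295,1) (.node (2891,507,1) .nil .nil) (.node (2352,808,1) .nil .nil))) (.node (3214,150,1) (.node (2853,244,1) (.node (3304,449,1) .nil .nil) (.node (2807,716,1) .nil .nil)) (.node (2772,346,0) (.node (3235,566,1) .nil .nil) (.node (3239,927,1) .nil .nil))))) (.node (3096,34,0) (.node (2758,55,1) (.node (3015,96,1) (.node (2451,185,0) (.node (3052,383,1) .nil .nil) (.node (2484,624,1) .nil .nil)) (.node (2983,283,1) (.node (2764,492,0) .nil .nil) (.node (2476,791,0) .nil .nil))) (.node (3011,139,1) (.node (2754,231,1) (.node (2323,436,1) .nil .nil) (.node (3297,699,1) .nil .nil)) (.node (2941,335,0) (.node (3195,553,0) .nil .nil) (.node (2362,897,0) .nil .nil)))) (.node (2832,76,0) (.node (2723,117,1) (.node (2339,208,1) (.node (2801,412,0)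 .nil .nil) (.node (2367,665,0) .nil .nil)) (.node (2660,308,1) (.node (3252,521,1) .nil .nil) (.node (2406,830,1) .nil .nil))) (.node (2389,161,0) (.node (2662,256,1) (.node (2427,462,1) .nil .nil) (.node (2569,740,1) .nil .nil)) (.node (3049,357,1) (.node (2379,587,1) .nil .nil) (.node (2833,986,1) .nil .nil))))))) (.node (3133,6,1) (.node (3108,11,0) (.node (2788,21,0) (.node (2987,41,1) (.node (3163,83,1) (.node (3138,171,1) (.node (2656,367,1) .nil .nil) (.node (2322,599,0) .nil .nil)) (.node (2528,267,0) (.node (3103,470,0) .nil .nil) (.node (3067,760,1) .nil .nil))) (.node (2907,125,1) (.node (3117,215,1) (.node (2718,420,1) .nil .nil) (.node (2691,678,1) .nil .nil)) (.node (2977,316,1) (.node (2326,532,1) .nil .nil) (.node (2626,857,1) .nil .nil)))) (.node (2954,62,1) (.node (3240,104,1) (.node (2328,194,1) (.node (2886,392,1) .nil .nil) (.node (2988,644,1) .nil .nil)) (.node (2713,293,0) (.node (2940,504,1) .nil .nil) (.node (2932,802,1) .nil .nil))) (.node (3213,148,0) (.node (2863,242,0) (.node (2641,445,0) .nil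 .nil) (.node (2547,712,1) .nil .nil)) (.node (2410,342,1) (.node (2798,564,1) .nil .nil) (.node (2573,918,0) .nil .nil))))) (.node (2496,31,0) (.node (2820,53,0) (.node (2913,94,0) (.node (2746,182,1) (.node (2548,380,0) .nil .nil) (.node (3147,620,1) .nil .nil)) (.node (3194,281,0) (.node (2455,488,1) .nil .nil) (.node (2986,785,1) .nil .nil))) (.node (2938,136,1) (.node (3250,228,0) (.node (2840,432,1) .nil .nil) (.node (2928,695,1) .nil .nil)) (.node (2884,331,1) (.node (2479,549,1) .nil .nil) (.node (2729,891,1) .nil .nil)))) (.node (3299,73,0) (.node (2974,114,1) (.node (2619,205,1) (.node (3285,407,1) .nil .nil) (.node (2688,660,1) .nil .nil)) (.node (2996,304,1) (.node (2592,518,1) .nil .nil) (.node (2761,823,1) .nil .nil))) (.node (2818,158,0) (.node (3206,253,0) (.node (2550,460,1) .nil .nil) (.node (3130,732,0) .nil .nil)) (.node (2543,354,1) (.node (3303,581,0) .nil .nil) (.node (2317,973,1) .nil .nil)))))) (.node (2854,16,0) (.node (3173,26,0) (.node (2516,47,0) (.node (2994,89,0) (.node (2505,176,1) (.node (2839,374,0)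 .nil .nil) (.node (2578,607,1) .nil .nil)) (.node (3090,273,0) (.node (3036,476,1) .nil .nil) (.node (2991,774,1) .nil .nil))) (.node (3139,131,0) (.node (2715,220,1) (.node (2462,427,0) .nil .nil) (.node (2905,688,1) .nil .nil)) (.node (3145,325,1) (.node (2778,539,1) .nil .nil) (.node (2603,874,1) .nil .nil)))) (.node (3035,67,1) (.node (2314,109,1) (.node (3087,200,0) (.node (2675,401,0) .nil .nil) (.node (3236,652,0) .nil .nil)) (.node (2439,298,1) (.node (3267,511,1) .nil .nil) (.node (2509,813,1) .nil .nil))) (.node (2755,152,1) (.node (2827,247,1) (.node (3023,452,0) .nil .nil) (.node (2864,719,1) .nil .nil)) (.node (3100,348,0) (.node (2549,573,0) .nil .nil) (.node (2555,944,0) .nil .nil))))) (.node (2489,36,1) (.node (3329,57,1) (.node (2437,99,1) (.node (2402,188,0) (.node (2599,387,1) .nil .nil) (.node (3175,631,1) .nil .nil)) (.node (2773,287,0) (.node (3324,495,1) .nil .nil) (.node (2577,794,0) .nil .nil))) (.node (3059,143,0) (.node (2878,235,1) (.node (3056,439,0) .nil .nil) (.node (2483,703,1) .nil .nil)) (.node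 (2756,337,1) (.node (3111,557,0) .nil .nil) (.node (2595,907,0) .nil .nil)))) (.node (3013,78,1) (.node (2359,120,0) (.node (2805,211,0) (.node (3222,415,1) .nil .nil) (.node (3196,668,0) .nil .nil)) (.node (3074,310,1) (.node (2348,526,1) .nil .nil) (.node (2902,835,1) .nil .nil))) (.node (3124,164,1) (.node (2464,260,1) (.node (2925,465,0) .nil .nil) (.node (3022,745,1) .nil .nil)) (.node (2404,361,1) (.node (2431,592,0) .nil .nil) (.node (3273,990,0) .nil .nil)))))))) (.node (2405,2,1) (.node (2415,5,0) (.node (2790,10,0) (.node (3322,20,0) (.node (2979,40,1) (.node (3319,82,0) (.node (2862,169,1) (.node (3180,365,1) .nil .nil) (.node (2345,597,0) .nil .nil)) (.node (3116,265,0) (.node (2707,468,1) .nil .nil) (.node (2378,758,1) .nil .nil))) (.node (2341,123,1) (.node (3151,214,1) (.node (2674,419,1) .nil .nil) (.node (2802,675,0) .nil .nil)) (.node (3144,314,1) (.node (3185,531,1) .nil .nil) (.node (2810,850,1) .nil .nil)))) (.node (3046,61,1) (.node (2350,103,1) (.node (2931,193,1) (.node (2312,391,1) .nil .nil) (.node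 (2648,640,1) .nil .nil)) (.node (3136,291,1) (.node (2670,503,0) .nil .nil) (.node (2957,799,1) .nil .nil))) (.node (2999,146,1) (.node (3224,240,0) (.node (2926,443,1) .nil .nil) (.node (3247,708,0) .nil .nil)) (.node (2434,341,1) (.node (2730,561,1) .nil .nil) (.node (2685,917,0) .nil .nil))))) (.node (3312,29,1) (.node (2930,52,0) (.node (2984,92,1) (.node (3083,181,1) (.node (2598,378,1) .nil .nil) (.node (2699,619,1) .nil .nil)) (.node (3069,279,1) (.node (2342,487,1) .nil .nil) (.node (3253,784,0) .nil .nil))) (.node (2409,135,1) (.node (3104,226,1) (.node (2503,431,1) .nil .nil) (.node (2318,693,1) .nil .nil)) (.node (2787,330,1) (.node (2745,547,0) .nil .nil) (.node (2490,887,1) .nil .nil)))) (.node (2825,71,1) (.node (2702,113,0) (.node (2375,204,1) (.node (3294,406,1) .nil .nil) (.node (2447,659,0) .nil .nil)) (.node (2841,303,1) (.node (2815,516,1) .nil .nil) (.node (2880,821,1) .nil .nil))) (.node (3066,157,0) (.node (2654,251,1) (.node (2512,458,1) .nil .nil) (.node (2433,726,0) .nil .nil)) (.node (2738,352,1)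 (.node (2450,578,1) .nil .nil) (.node (3078,969,0) .nil .nil)))))) (.node (3323,15,0) (.node (2842,24,1) (.node (3313,45,1) (.node (2872,87,0) (.node (3125,175,1) (.node (2613,372,1) .nil .nil) (.node (2726,604,0) .nil .nil)) (.node (2558,271,1) (.node (2866,475,0) .nil .nil) (.node (3039,771,1) .nil .nil))) (.node (2416,129,1) (.node (2553,219,1) (.node (3200,425,0) .nil .nil) (.node (2316,686,1) .nil .nil)) (.node (2334,322,1) (.node (2757,538,0) .nil .nil) (.node (3102,871,1) .nil .nil)))) (.node (3110,66,1) (.node (2811,108,0) (.node (3272,198,0) (.node (3171,398,1) .nil .nil) (.node (2400,650,1) .nil .nil)) (.node (3176,297,1) (.node (2457,510,1) .nil .nil) (.node (3153,812,0) .nil .nil))) (.node (3221,151,1) (.node (2669,245,1) (.node (2909,450,1) .nil .nil) (.node (2539,718,1) .nil .nil)) (.node (2769,347,0) (.node (3150,570,1) .nil .nil) (.node (2407,931,1) .nil .nil))))) (.node (2422,35,1) (.node (2620,56,1) (.node (2915,98,1) (.node (3170,186,1) (.node (2392,385,1) .nil .nil) (.node (2720,628,1) .nil .nil)) (.node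 (3156,286,0) (.node (2383,493,1) .nil .nil) (.node (2791,792,1) .nil .nil))) (.node (2370,141,0) (.node (3220,233,0) (.node (2567,438,0) .nil .nil) (.node (2809,700,1) .nil .nil)) (.node (2995,336,1) (.node (2782,554,1) .nil .nil) (.node (3047,900,1) .nil .nil)))) (.node (3218,77,0) (.node (2442,118,1) (.node (3101,209,1) (.node (2661,413,1) .nil .nil) (.node (2628,666,1) .nil .nil)) (.node (2500,309,1) (.node (2600,525,1) .nil .nil) (.node (3072,833,1) .nil .nil))) (.node (2590,162,1) (.node (3099,258,1) (.node (2885,463,1) .nil .nil) (.node (2980,743,1) .nil .nil)) (.node (3255,359,1) (.node (2779,589,0) .nil .nil) (.node (2529,988,1) .nil .nil))))))) (.node (2897,7,1) (.node (2923,12,1) (.node (2332,22,1) (.node (3091,42,1) (.node (2667,84,1) (.node (2804,173,0) (.node (2441,368,1) .nil .nil) (.node (2468,600,1) .nil .nil)) (.node (2616,268,0) (.node (3201,471,1) .nil .nil) (.node (2975,762,1) .nil .nil))) (.node (2542,127,0) (.node (3002,216,1) (.node (3309,422,1) .nil .nil) (.node (2449,681,0) .nil .nil)) (.node (2498,318,0)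 (.node (2658,535,0) .nil .nil) (.node (2353,863,1) .nil .nil)))) (.node (2912,64,0) (.node (2924,105,1) (.node (2847,195,1) (.node (2331,393,1) .nil .nil) (.node (2445,647,1) .nil .nil)) (.node (2714,294,1) (.node (2493,506,1) .nil .nil) (.node (2452,805,0) .nil .nil))) (.node (2972,149,1) (.node (3051,243,1) (.node (3166,446,1) .nil .nil) (.node (2861,715,0) .nil .nil)) (.node (3183,344,0) (.node (2706,565,1) .nil .nil) (.node (3292,921,1) .nil .nil))))) (.node (2698,32,1) (.node (2538,54,0) (.node (3219,95,0) (.node (3032,183,1) (.node (3060,382,0) .nil .nil) (.node (2587,623,0) .nil .nil)) (.node (3265,282,0) (.node (2759,490,1) .nil .nil) (.node (3058,789,1) .nil .nil))) (.node (3241,138,0) (.node (2585,229,0) (.node (2394,434,1) .nil .nil) (.node (2783,698,1) .nil .nil)) (.node (3226,334,0) (.node (2576,551,0) .nil .nil) (.node (3275,893,1) .nil .nil)))) (.node (2967,74,0) (.node (3065,116,0) (.node (2424,206,1) (.node (2631,409,1) .nil .nil) (.node (2596,662,1) .nil .nil)) (.node (2470,306,1) (.node (2580,520,1) .nil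 .nil) (.node (2890,828,0) .nil .nil))) (.node (3264,159,1) (.node (3162,254,1) (.node (2856,461,1) .nil .nil) (.node (2882,733,0) .nil .nil)) (.node (2964,356,0) (.node (2828,583,1) .nil .nil) (.node (2666,985,0) .nil .nil)))))) (.node (3260,17,1) (.node (2413,27,1) (.node (3232,48,1) (.node (2369,90,1) (.node (2579,179,0) (.node (2800,375,1) .nil .nil) (.node (2617,610,0) .nil .nil)) (.node (2893,275,0) (.node (2562,478,0) .nil .nil) (.node (2492,776,1) .nil .nil))) (.node (2848,132,1) (.node (2534,223,0) (.node (2860,428,1) .nil .nil) (.node (2966,691,0) .nil .nil)) (.node (3205,326,1) (.node (2732,543,0) .nil .nil) (.node (2911,882,1) .nil .nil)))) (.node (3082,69,0) (.node (2939,110,1) (.node (2417,201,0) (.node (3135,402,1) .nil .nil) (.node (2943,654,1) .nil .nil)) (.node (3287,300,1) (.node (3188,513,0) .nil .nil) (.node (2976,816,1) .nil .nil))) (.node (3073,153,1) (.node (2806,248,1) (.node (3229,454,1) .nil .nil) (.node (2513,722,0) .nil .nil)) (.node (3004,350,0) (.node (2465,575,0) .nil .nil) (.node (3113,955,1)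 .nil .nil))))) (.node (3315,37,1) (.node (2481,59,0) (.node (2678,100,1) (.node (2610,189,0) (.node (3189,388,1) .nil .nil) (.node (3000,634,0) .nil .nil)) (.node (2453,288,0) (.node (3018,497,1) .nil .nil) (.node (2554,795,1) .nil .nil))) (.node (2785,144,1) (.node (2677,237,0) (.node (2524,441,0) .nil .nil) (.node (3192,705,0) .nil .nil)) (.node (2671,338,1) (.node (2740,558,1) .nil .nil) (.node (2361,909,1) .nil .nil)))) (.node (2372,79,1) (.node (3005,121,1) (.node (2920,212,0) (.node (2541,416,1) .nil .nil) (.node (3003,669,1) .nil .nil)) (.node (3014,311,1) (.node (2992,529,0) .nil .nil) (.node (2727,843,0) .nil .nil))) (.node (3207,165,1) (.node (2623,262,0) (.node (3223,466,1) .nil .nil) (.node (2443,753,0) .nil .nil)) (.node (2692,363,0) (.node (2526,593,0) .nil .nil) (.node (2997,1003,1) .nil .nil)))))))))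

/-- Part of `treeD`. -/
noncomputable def treeD_r : Arr (ℕ × ℕ × ℕ) :=
  (.node (2981,0,1) (.node (2602,2,0) (.node (2532,4,1) (.node (2777,9,1) (.node (2575,19,1) (.node (2734,39,1) (.node (2877,81,1) (.node (3184,168,0) (.node (2945,365,0) .nil .nil) (.node (2719,595,0) .nil .nil)) (.node (2869,264,1) (.node (2681,468,0) .nil .nil) (.node (3282,755,1) .nil .nil))) (.node (2634,123,0) (.node (2525,214,0) (.node (2365,418,0) .nil .nil) (.node (3262,673,1) .nil .nil)) (.node (3122,313,1) (.node (3081,530,1) .nil .nil) (.node (2697,849,1) .nil .nil)))) (.node (3314,61,0) (.node (2432,102,1) (.node (2444,192,1) (.node (3121,391,0) .nil .nil) (.node (2716,639,1) .nil .nil)) (.node (2917,289,1) (.node (2894,500,1) .nil .nil) (.node (2649,797,1) .nil .nil))) (.node (2491,146,0) (.node (2591,239,1) (.node (3098,443,0) .nil .nil) (.node (2355,707,1) .nil .nil)) (.node (2421,340,1) (.node (3246,560,1) .nil .nil) (.node (3031,916,1) .nil .nil))))) (.node (3276,29,0) (.node (2985,50,1) (.node (2998,92,0) (.node (3311,180,1) (.node (3161,378,0)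 .nil .nil) (.node (3278,618,1) .nil .nil)) (.node (3327,278,0) (.node (3029,485,1) .nil .nil) (.node (2446,782,1) .nil .nil))) (.node (2429,134,1) (.node (2899,226,0) (.node (2430,430,1) .nil .nil) (.node (2971,693,0) .nil .nil)) (.node (2544,329,0) (.node (2313,545,0) .nil .nil) (.node (3012,886,1) .nil .nil)))) (.node (2570,71,0) (.node (2970,112,1) (.node (3167,203,1) (.node (2636,405,1) .nil .nil) (.node (2650,658,1) .nil .nil)) (.node (3268,302,1) (.node (3028,515,0) .nil .nil) (.node (2530,819,1) .nil .nil))) (.node (3225,156,1) (.node (2480,250,1) (.node (2360,458,0) .nil .nil) (.node (2568,725,1) .nil .nil)) (.node (2781,351,1) (.node (3068,577,0) .nil .nil) (.node (2830,967,0) .nil .nil)))))) (.node (2653,14,1) (.node (3027,24,0) (.node (2412,45,0) (.node (2589,86,1) (.node (2486,175,0) (.node (2337,372,0) .nil .nil) (.node (2643,603,1) .nil .nil)) (.node (2747,270,1) (.node (2621,473,0) .nil .nil) (.node (3055,770,0) .nil .nil))) (.node (3095,128,1) (.node (3204,218,1) (.node (3048,424,1) .nil .nil) (.node (2896,686,0)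 .nil .nil)) (.node (3158,321,0) (.node (2347,537,0) .nil .nil) (.node (3245,868,0) .nil .nil)))) (.node (3085,65,1) (.node (3193,107,1) (.node (2990,197,1) (.node (2343,397,1) .nil .nil) (.node (3270,650,0) .nil .nil)) (.node (2594,296,0) (.node (2767,508,1) .nil .nil) (.node (2922,811,1) .nil .nil))) (.node (2640,151,0) (.node (3280,245,0) (.node (2510,450,0) .nil .nil) (.node (2744,718,0) .nil .nil)) (.node (2879,346,1) (.node (3057,569,0) .nil .nil) (.node (3217,930,1) .nil .nil))))) (.node (2461,34,1) (.node (2436,56,0) (.node (2399,97,1) (.node (3243,185,1) (.node (2391,384,1) .nil .nil) (.node (2520,625,0) .nil .nil)) (.node (2335,284,1) (.node (2993,492,1) .nil .nil) (.node (2536,791,1) .nil .nil))) (.node (2571,140,1) (.node (3190,232,1) (.node (2494,437,0) .nil .nil) (.node (2664,700,0) .nil .nil)) (.node (3026,335,1) (.node (2910,553,1) .nil .nil) (.node (3041,899,1) .nil .nil)))) (.node (2380,76,1) (.node (2973,118,0) (.node (2411,209,0) (.node (3181,412,1) .nil .nil) (.node (2753,665,1) .nil .nil)) (.node (2425,309,0)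 (.node (3017,524,1) .nil .nil) (.node (3269,832,0) .nil .nil))) (.node (2793,161,1) (.node (3165,257,1) (.node (2693,463,0) .nil .nil) (.node (3296,743,0) .nil .nil)) (.node (2770,359,0) (.node (2883,588,1) .nil .nil) (.node (3198,988,0) .nil .nil))))))) (.node (2309,7,0) (.node (3320,11,1) (.node (2823,21,1) (.node (2519,42,0) (.node (2572,84,0) (.node (2642,172,1) (.node (2488,368,0) .nil .nil) (.node (3062,599,1) .nil .nil)) (.node (2393,267,1) (.node (2459,470,1) .nil .nil) (.node (2338,762,0) .nil .nil))) (.node (3230,126,1) (.node (2949,216,0) (.node (2844,421,1) .nil .nil) (.node (2749,679,0) .nil .nil)) (.node (2627,317,1) (.node (3295,533,1) .nil .nil) (.node (3256,861,1) .nil .nil)))) (.node (2556,63,1) (.node (3134,105,0) (.node (2733,195,0) (.node (2535,393,0) .nil .nil) (.node (2564,647,0) .nil .nil)) (.node (3097,293,1) (.node (3271,505,0) .nil .nil) (.node (2865,803,1) .nil .nil))) (.node (3266,148,1) (.node (2586,242,1) (.node (2507,446,0) .nil .nil) (.node (3286,713,1) .nil .nil)) (.node (2918,343,1) (.node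 (3025,565,0) .nil .nil) (.node (2635,918,1) .nil .nil))))) (.node (2813,31,1) (.node (2952,53,1) (.node (3212,94,1) (.node (2900,183,0) (.node (2717,380,1) .nil .nil) (.node (3306,622,1) .nil .nil)) (.node (2934,281,1) (.node (2680,489,1) .nil .nil) (.node (3154,787,0) .nil .nil))) (.node (2799,137,1) (.node (3063,228,1) (.node (2741,433,1) .nil .nil) (.node (2531,696,1) .nil .nil)) (.node (3071,333,1) (.node (2724,550,1) .nil .nil) (.node (2903,892,0) .nil .nil)))) (.node (2686,73,1) (.node (3044,115,1) (.node (3157,206,0) (.node (2737,408,1) .nil .nil) (.node (3132,662,0) .nil .nil)) (.node (2364,305,0) (.node (3024,519,1) .nil .nil) (.node (2944,825,1) .nil .nil))) (.node (2474,158,1) (.node (2336,253,1) (.node (3215,461,0) .nil .nil) (.node (3020,732,1) .nil .nil)) (.node (3075,355,1) (.node (3086,583,0) .nil .nil) (.node (2467,977,0) .nil .nil)))))) (.node (2710,16,1) (.node (3119,26,1) (.node (2695,47,1) (.node (2824,89,1) (.node (3007,178,1) (.node (3050,375,0) .nil .nil) (.node (2469,608,1) .nil .nil)) (.node (2330,273,1)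 (.node (3284,477,1) .nil .nil) (.node (3290,775,0) .nil .nil))) (.node (2868,131,1) (.node (2624,221,1) (.node (3021,427,1) .nil .nil) (.node (2523,690,1) .nil .nil)) (.node (2672,326,0) (.node (2936,542,1) .nil .nil) (.node (3131,879,0) .nil .nil)))) (.node (2933,68,1) (.node (2601,110,0) (.node (2852,200,1) (.node (2859,401,1) .nil .nil) (.node (3160,653,1) .nil .nil)) (.node (2771,300,0) (.node (2657,512,1) .nil .nil) (.node (2700,814,0) .nil .nil))) (.node (2796,153,0) (.node (2927,248,0) (.node (3064,452,1) .nil .nil) (.node (2517,720,1) .nil .nil)) (.node (2874,349,1) (.node (2774,574,1) .nil .nil) (.node (2625,945,1) .nil .nil))))) (.node (2333,37,0) (.node (2618,58,1) (.node (2533,100,0) (.node (2958,188,1) (.node (2346,388,0) .nil .nil) (.node (3179,633,1) .nil .nil)) (.node (2919,287,1) (.node (3172,496,1) .nil .nil) (.node (3199,795,0) .nil .nil))) (.node (2366,143,1) (.node (3076,236,1) (.node (2904,439,1) .nil .nil) (.node (3155,704,1) .nil .nil)) (.node (3283,338,0) (.node (3107,557,1) .nil .nil) (.node (3174,908,1)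 .nil .nil)))) (.node (3034,79,0) (.node (2403,120,1) (.node (2963,211,1) (.node (2795,416,0) .nil .nil) (.node (2748,668,1) .nil .nil)) (.node (2387,311,0) (.node (3054,527,1) .nil .nil) (.node (2982,838,1) .nil .nil))) (.node (2786,165,0) (.node (2540,261,1) (.node (2876,465,1) .nil .nil) (.node (2728,750,1) .nil .nil)) (.node (2873,362,1) (.node (2817,592,1) .nil .nil) (.node (3216,999,1) .nil .nil)))))))) (.node (3010,3,0) (.node (2929,5,1) (.node (2765,10,1) (.node (3088,20,1) (.node (2709,41,0) (.node (2418,82,1) (.node (2315,171,0) (.node (3009,366,1) .nil .nil) (.node (2665,598,1) .nil .nil)) (.node (2324,266,1) (.node (3186,469,1) .nil .nil) (.node (2363,759,0) .nil .nil))) (.node (3129,124,1) (.node (2638,215,0) (.node (3089,420,0) .nil .nil) (.node (2354,676,1) .nil .nil)) (.node (2518,315,1) (.node (2834,532,0) .nil .nil) (.node (3249,854,1) .nil .nil)))) (.node (3053,62,0) (.node (3092,104,0) (.node (3120,194,0) (.node (2892,392,0) .nil .nil) (.node (3178,642,0) .nil .nil)) (.node (2374,292,1) (.node (3159,503,1)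 .nil .nil) (.node (2310,800,1) .nil .nil))) (.node (2725,147,1) (.node (2485,240,1) (.node (3006,444,1) .nil .nil) (.node (2956,711,1) .nil .nil)) (.node (3182,342,0) (.node (3237,563,0) .nil .nil) (.node (2561,917,1) .nil .nil))))) (.node (2947,30,1) (.node (3318,52,1) (.node (2466,93,1) (.node (3316,182,0) (.node (3209,379,1) .nil .nil) (.node (2687,620,0) .nil .nil)) (.node (3291,280,0) (.node (2768,488,0) .nil .nil) (.node (2736,784,1) .nil .nil))) (.node (2969,136,0) (.node (3248,227,1) (.node (3263,432,0) .nil .nil) (.node (3279,695,0) .nil .nil)) (.node (2837,331,0) (.node (2521,547,1) .nil .nil) (.node (2583,888,1) .nil .nil)))) (.node (3203,72,1) (.node (3202,114,0) (.node (2711,205,0) (.node (2608,407,0) .nil .nil) (.node (2935,659,1) .nil .nil)) (.node (3142,304,0) (.node (2822,518,0) .nil .nil) (.node (2514,822,0) .nil .nil))) (.node (2784,157,1) (.node (2916,252,1) (.node (3208,459,1) .nil .nil) (.node (2454,729,1) .nil .nil)) (.node (2448,353,1) (.node (2475,580,1) .nil .nil) (.node (2504,971,1) .nil .nil))))))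 (.node (3197,15,1) (.node (2511,25,1) (.node (2593,46,1) (.node (3289,88,1) (.node (2581,176,0) (.node (2836,373,1) .nil .nil) (.node (2679,606,1) .nil .nil)) (.node (3310,272,0) (.node (3254,475,1) .nil .nil) (.node (2655,773,1) .nil .nil))) (.node (3037,130,1) (.node (2382,220,0) (.node (3169,425,1) .nil .nil) (.node (2395,687,1) .nil .nil)) (.node (2376,323,1) (.node (2821,538,1) .nil .nil) (.node (2831,873,1) .nil .nil)))) (.node (2597,67,0) (.node (2423,108,1) (.node (2495,198,1) (.node (2792,400,1) .nil .nil) (.node (2319,651,1) .nil .nil)) (.node (2471,298,0) (.node (2349,511,0) .nil .nil) (.node (2344,812,1) .nil .nil))) (.node (2340,152,0) (.node (2420,246,1) (.node (2582,451,0) .nil .nil) (.node (2968,719,0) .nil .nil)) (.node (2477,347,1) (.node (3228,571,0) .nil .nil) (.node (3277,942,0) .nil .nil))))) (.node (2705,36,0) (.node (2428,57,0) (.node (2565,99,0) (.node (3281,187,1) (.node (2867,386,1) .nil .nil) (.node (2951,630,1) .nil .nil)) (.node (2408,286,1) (.node (2537,494,0) .nil .nil) (.node (2838,793,0) .nil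 .nil))) (.node (2645,142,1) (.node (2850,233,1) (.node (3127,438,1) .nil .nil) (.node (2942,702,0) .nil .nil)) (.node (3080,337,0) (.node (3019,556,1) .nil .nil) (.node (2357,901,1) .nil .nil)))) (.node (2607,77,1) (.node (2703,119,1) (.node (2563,210,1) (.node (3177,414,1) .nil .nil) (.node (3325,667,0) .nil .nil)) (.node (2888,310,0) (.node (2937,526,0) .nil .nil) (.node (2385,834,0) .nil .nil))) (.node (3288,163,0) (.node (3152,259,1) (.node (2622,464,1) .nil .nil) (.node (2683,744,1) .nil .nil)) (.node (3042,361,0) (.node (2386,590,1) .nil .nil) (.node (2377,989,0) .nil .nil))))))) (.node (2557,8,0) (.node (2751,13,0) (.node (2889,23,0) (.node (3126,44,0) (.node (2855,85,1) (.node (3001,173,1) (.node (2704,369,1) .nil .nil) (.node (3118,602,0) .nil .nil)) (.node (3301,268,1) (.node (2652,472,0) .nil .nil) (.node (2731,763,1) .nil .nil))) (.node (3259,127,1) (.node (3045,217,1) (.node (2858,423,0) .nil .nil) (.node (3251,682,1) .nil .nil)) (.node (2895,318,1) (.node (2881,535,1) .nil .nil) (.node (2384,864,0) .nil .nil))))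 (.node (3308,64,1) (.node (2914,106,1) (.node (3231,196,0) (.node (2752,394,1) .nil .nil) (.node (2898,648,1) .nil .nil)) (.node (2871,295,0) (.node (2414,507,0) .nil .nil) (.node (2722,807,0) .nil .nil))) (.node (2961,150,0) (.node (2482,244,0) (.node (3115,448,0) .nil .nil) (.node (2946,715,1) .nil .nil)) (.node (2426,344,1) (.node (2381,566,0) .nil .nil) (.node (2870,924,1) .nil .nil))))) (.node (2546,33,1) (.node (2545,54,1) (.node (2566,95,1) (.node (3317,184,1) (.node (2502,382,1) .nil .nil) (.node (2843,623,1) .nil .nil)) (.node (2612,282,1) (.node (3109,491,1) .nil .nil) (.node (2953,790,1) .nil .nil))) (.node (2501,138,1) (.node (3191,230,1) (.node (2921,435,1) .nil .nil) (.node (2396,699,0) .nil .nil)) (.node (3079,334,1) (.node (2419,552,1) .nil .nil) (.node (2311,895,1) .nil .nil)))) (.node (2584,74,1) (.node (3326,116,1) (.node (2742,207,1) (.node (2358,411,1) .nil .nil) (.node (2506,663,1) .nil .nil)) (.node (2960,307,1) (.node (3008,521,0) .nil .nil) (.node (2614,829,0) .nil .nil))) (.node (2615,160,1) (.node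 (2721,255,1) (.node (2458,462,0) .nil .nil) (.node (2371,735,0) .nil .nil)) (.node (2663,357,0) (.node (3143,584,1) .nil .nil) (.node (2373,985,1) .nil .nil)))))) (.node (2875,18,0) (.node (2849,28,0) (.node (3298,49,0) (.node (3328,91,0) (.node (2351,179,1) (.node (2814,376,1) .nil .nil) (.node (3210,614,1) .nil .nil)) (.node (2846,275,1) (.node (2835,480,1) .nil .nil) (.node (2676,780,1) .nil .nil))) (.node (3148,133,1) (.node (3227,224,1) (.node (3244,429,0) .nil .nil) (.node (2630,692,0) .nil .nil)) (.node (2435,327,1) (.node (2887,543,1) .nil .nil) (.node (2632,884,0) .nil .nil)))) (.node (2989,69,1) (.node (3257,111,0) (.node (2637,201,1) (.node (2816,404,0) .nil .nil) (.node (2819,656,1) .nil .nil)) (.node (2668,301,1) (.node (2750,513,1) .nil .nil) (.node (3261,818,1) .nil .nil))) (.node (2388,154,1) (.node (2962,249,0) (.node (3114,455,0) .nil .nil) (.node (2487,723,0) .nil .nil)) (.node (2560,350,1) (.node (2574,575,1) .nil .nil) (.node (2401,965,0) .nil .nil))))) (.node (2659,38,1) (.node (2735,59,1) (.node (2701,101,1)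 (.node (3149,190,1) (.node (3300,390,0) .nil .nil) (.node (2763,636,0) .nil .nil)) (.node (2329,288,1) (.node (2456,498,0) .nil .nil) (.node (3187,796,0) .nil .nil))) (.node (2605,145,0) (.node (2611,237,1) (.node (3168,441,1) .nil .nil) (.node (2629,705,1) .nil .nil)) (.node (2959,339,1) (.node (3238,559,0) .nil .nil) (.node (3258,911,1) .nil .nil)))) (.node (2604,80,0) (.node (2978,122,0) (.node (2522,212,1) (.node (3112,417,0) .nil .nil) (.node (2789,670,1) .nil .nil)) (.node (2515,312,1) (.node (2808,529,1) .nil .nil) (.node (2651,843,1) .nil .nil))) (.node (2797,166,0) (.node (2689,262,1) (.node (2739,467,0) .nil .nil) (.node (3030,753,1) .nil .nil)) (.node (2845,363,1) (.node (3307,593,1) .nil .nil) (.node (3137,1005,0) .nil .nil)))))))))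

/-- An orbit, with a spanning tree. -/
noncomputable def treeD : Arr (ℕ × ℕ × ℕ) :=
  .node (2306,0,0) treeD_l treeD_r

/-- The size of an orbit. -/
def treeESize : ℕ :=
  20

/-- An orbit, with a spanning tree. -/
noncomputable def treeE : Arr (ℕ × ℕ × ℕ) :=
  (.node (3378,0,0) (.node (3565,0,0) (.node (3491,1,0) (.node (3401,3,0) (.node (3631,8,1) .nil .nil) .nil) (.node (3690,5,1) (.node (3865,13,0) .nil .nil) .nil)) (.node (3707,2,0) (.node (3804,4,1) (.node (3555,11,1) .nil .nil) .nil) (.node (3783,6,1) .nil .nil))) (.node (3695,0,1) (.node (3971,1,1) (.node (3384,4,0) (.node (3822,9,1) .nil .nil) .nil) (.node (3763,6,0) .nil .nil)) (.node (3860,2,1) (.node (3431,5,0) (.node (3575,12,1) .nil .nil) .nil) (.node (3946,7,0) .nil .nil))))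

/-- The size of an orbit. -/
def treeP10Size : ℕ :=
  10

/-- An orbit, with a spanning tree. -/
noncomputable def treeP10 : Arr (ℕ × ℕ × ℕ) :=
  (.node (3330,0,0) (.node (4046,0,1) (.node (4045,1,1) (.node (4042,4,0) .nil .nil) .nil) (.node (4044,3,0) (.node (3843,6,1) .nil .nil) .nil)) (.node (4047,1,0) (.node (4043,2,1) (.node (4041,6,0) .nil .nil) .nil) (.node (3976,3,1) .nil .nil)))

/-- The size of an orbit. -/
def treeP80Size : ℕ :=
  80

/-- An orbit, with a spanning tree. -/
noncomputable def treeP80 : Arr (ℕ × ℕ × ℕ) :=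
  (.node (3844,0,0) (.node (3924,0,1) (.node (3903,1,1) (.node (3934,4,0) (.node (3879,9,1) (.node (3937,21,0) (.node (3913,47,1) .nil .nil) .nil) (.node (3902,34,0) (.node (4053,77,1) .nil .nil) .nil)) (.node (3914,15,0) (.node (4052,28,1) (.node (3926,58,0) .nil .nil) .nil) (.node (4048,40,1) .nil .nil))) (.node (4050,6,1) (.node (3920,12,1) (.node (3917,25,0) (.node (3975,51,1) .nil .nil) .nil) (.node (3908,36,1) .nil .nil)) (.node (4058,18,1) (.node (3930,31,1) (.node (3938,64,1) .nil .nil) .nil) (.node (3895,43,0) .nil .nil)))) (.node (3928,3,0) (.node (3935,5,1) (.node (3877,11,1) (.node (3891,22,0) (.node (3897,50,1) .nil .nil) .nil) (.node (3940,35,1) .nil .nil)) (.node (3878,16,1) (.node (3932,29,1) (.node (4055,60,1) .nil .nil) .nil) (.node (3901,41,1) .nil .nil))) (.node (3909,8,1) (.node (3898,13,1) (.node (4056,27,0) (.node (3936,54,0) .nil .nil) .nil) (.node (3929,38,1) .nil .nil)) (.node (3887,19,1) (.node (4051,32,1) (.node (3890,69,1) .nil .nil) .nil) (.node (3892,45,1) .nil .nil))))) (.node (3885,1,0) (.node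 (3893,2,1) (.node (3974,4,1) (.node (4049,11,0) (.node (3922,21,1) (.node (4057,48,0) .nil .nil) .nil) (.node (4059,34,1) .nil .nil)) (.node (4054,15,1) (.node (3912,29,0) (.node (3919,58,1) .nil .nil) .nil) (.node (3907,41,0) .nil .nil))) (.node (3900,7,1) (.node (3884,13,0) (.node (3886,25,1) (.node (3896,53,0) .nil .nil) .nil) (.node (3904,38,0) .nil .nil)) (.node (3889,19,0) (.node (3881,32,0) (.node (3911,65,1) .nil .nil) .nil) (.node (3880,43,1) .nil .nil)))) (.node (3921,3,1) (.node (3882,6,0) (.node (3925,12,0) (.node (3939,22,1) (.node (3931,51,0) .nil .nil) .nil) (.node (3923,36,0) .nil .nil)) (.node (3918,17,0) (.node (3933,30,0) (.node (3915,61,0) .nil .nil) .nil) (.node (3899,42,1) .nil .nil))) (.node (3906,9,0) (.node (3916,14,1) (.node (3927,27,1) (.node (3973,56,1) .nil .nil) .nil) (.node (3905,39,1) .nil .nil)) (.node (3894,20,1) (.node (3883,33,1) (.node (3888,72,1) .nil .nil) .nil) (.node (3910,46,0) .nil .nil))))))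

/-- The size of an orbit. -/
def treeP640Size : ℕ :=
  640

/-- Part of `treeP640`. -/
noncomputable def treeP640_l : Arr (ℕ × ℕ × ℕ) :=
  (.node (3724,0,0) (.node (3648,1,1) (.node (3981,3,1) (.node (3594,9,1) (.node (3474,19,1) (.node (3643,41,1) (.node (3605,81,0) (.node (3834,176,1) (.node (3481,408,1) .nil .nil) .nil) (.node (3776,277,1) (.node (3386,630,1) .nil .nil) .nil)) (.node (3658,125,1) (.node (4001,225,0) (.node (3608,504,0) .nil .nil) .nil) (.node (3391,338,0) .nil .nil))) (.node (3421,61,1) (.node (3762,103,1) (.node (3684,201,1) (.node (3676,450,1) .nil .nil) .nil) (.node (3400,302,1) .nil .nil)) (.node (3874,150,0) (.node (3587,250,1) (.node (3431,551,1) .nil .nil) .nil) (.node (3456,371,0) .nil .nil)))) (.node (3990,30,1) (.node (3373,52,0) (.node (3424,93,0) (.node (3681,186,1) (.node (3823,429,1) .nil .nil) .nil) (.node (4015,290,1) .nil .nil)) (.node (3721,137,0) (.node (3783,237,0) (.node (3597,534,0) .nil .nil) .nil) (.node (3672,353,1) .nil .nil))) (.node (3701,71,1) (.node (3567,113,1) (.node (3516,213,1)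 (.node (3668,473,1) .nil .nil) .nil) (.node (3429,321,1) .nil .nil)) (.node (3678,161,0) (.node (3573,261,1) (.node (3613,576,0) .nil .nil) .nil) (.node (3689,392,0) .nil .nil))))) (.node (3665,14,0) (.node (3998,25,1) (.node (3752,46,1) (.node (3691,86,1) (.node (3784,181,1) (.node (3581,419,1) .nil .nil) .nil) (.node (3716,284,0) .nil .nil)) (.node (3360,131,0) (.node (3817,230,1) (.node (3805,517,1) .nil .nil) .nil) (.node (3514,344,1) .nil .nil))) (.node (4030,66,1) (.node (3520,108,1) (.node (3378,208,0) (.node (3944,459,1) .nil .nil) .nil) (.node (3702,313,1) .nil .nil)) (.node (3652,156,0) (.node (3647,255,1) (.node (3380,562,1) .nil .nil) .nil) (.node (3432,382,1) .nil .nil)))) (.node (3786,35,1) (.node (3851,57,0) (.node (3503,98,0) (.node (3418,193,1) (.node (3819,438,0) .nil .nil) .nil) (.node (3822,297,1) .nil .nil)) (.node (3398,143,1) (.node (3499,242,0) (.node (3525,539,1) .nil .nil) .nil) (.node (3853,363,1) .nil .nil))) (.node (3641,76,1) (.node (3505,119,1) (.node (3651,219,0) (.node (3749,492,1) .nil .nil)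 .nil) (.node (3870,331,0) .nil .nil)) (.node (3942,169,0) (.node (3865,270,1) (.node (3464,604,0) .nil .nil) .nil) (.node (3644,401,1) .nil .nil)))))) (.node (3523,6,1) (.node (3660,11,1) (.node (3402,22,0) (.node (3570,44,0) (.node (3735,84,1) (.node (3420,178,1) (.node (3593,412,1) .nil .nil) .nil) (.node (3943,281,0) .nil .nil)) (.node (3661,128,0) (.node (4021,228,1) (.node (3872,513,0) .nil .nil) .nil) (.node (3788,341,1) .nil .nil))) (.node (3634,64,0) (.node (3384,106,0) (.node (3706,204,1) (.node (3985,456,0) .nil .nil) .nil) (.node (3764,305,1) .nil .nil)) (.node (3548,152,1) (.node (3618,253,0) (.node (3654,555,0) .nil .nil) .nil) (.node (4020,376,1) .nil .nil)))) (.node (4017,32,1) (.node (3393,54,1) (.node (3389,95,1) (.node (3363,189,1) (.node (3949,434,0) .nil .nil) .nil) (.node (4005,293,1) .nil .nil)) (.node (3673,141,0) (.node (3850,239,1) (.node (3723,537,0) .nil .nil) .nil) (.node (3444,357,0) .nil .nil))) (.node (3955,74,0) (.node (3833,116,1) (.node (3855,216,0) (.node (3837,485,0) .nil .nil) .nil) (.node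 (3542,325,0) .nil .nil)) (.node (3353,164,0) (.node (3831,267,1) (.node (4022,594,1) .nil .nil) .nil) (.node (3556,396,1) .nil .nil))))) (.node (3343,16,1) (.node (3772,27,1) (.node (3607,49,0) (.node (3448,89,1) (.node (3969,184,0) (.node (3579,423,0) .nil .nil) .nil) (.node (3565,287,0) .nil .nil)) (.node (3994,134,1) (.node (3960,233,1) (.node (3455,528,0) .nil .nil) .nil) (.node (3496,348,1) .nil .nil))) (.node (3734,69,0) (.node (3580,111,0) (.node (3468,210,1) (.node (3531,466,1) .nil .nil) .nil) (.node (3663,317,1) .nil .nil)) (.node (3731,158,1) (.node (3687,258,1) (.node (3630,567,1) .nil .nil) .nil) (.node (3564,385,0) .nil .nil)))) (.node (3790,38,1) (.node (3839,59,1) (.node (3423,101,0) (.node (3543,198,1) (.node (3399,446,0) .nil .nil) .nil) (.node (3484,299,1) .nil .nil)) (.node (3534,146,1) (.node (3744,247,1) (.node (3541,543,0) .nil .nil) .nil) (.node (3707,367,0) .nil .nil))) (.node (3799,78,1) (.node (3656,122,1) (.node (3616,222,1) (.node (3694,499,0) .nil .nil) .nil) (.node (3588,334,0) .nil .nil)) (.node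 (4009,172,0) (.node (3947,274,0) (.node (3649,614,1) .nil .nil) .nil) (.node (3596,405,0) .nil .nil))))))) (.node (3558,2,1) (.node (3692,5,0) (.node (3814,10,1) (.node (3725,21,0) (.node (3409,43,0) (.node (3743,82,1) (.node (3961,177,1) (.node (3972,410,1) .nil .nil) .nil) (.node (3686,279,1) .nil .nil)) (.node (3442,126,1) (.node (3859,226,1) (.node (3374,505,1) .nil .nil) .nil) (.node (3941,339,0) .nil .nil))) (.node (3510,63,0) (.node (3539,104,1) (.node (3413,203,1) (.node (3653,453,0) .nil .nil) .nil) (.node (3427,304,0) .nil .nil)) (.node (4000,151,1) (.node (3739,252,0) (.node (3697,553,1) .nil .nil) .nil) (.node (3509,372,1) .nil .nil)))) (.node (3489,31,1) (.node (3483,53,1) (.node (3829,94,1) (.node (3604,188,0) (.node (3339,431,1) .nil .nil) .nil) (.node (3459,291,1) .nil .nil)) (.node (3730,139,1) (.node (3979,238,0) (.node (3348,536,0) .nil .nil) .nil) (.node (3638,354,1) .nil .nil))) (.node (3450,73,0) (.node (3463,114,1) (.node (3768,215,0) (.node (3385,483,1) .nil .nil) .nil) (.node (3436,323,1) .nil .nil))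 (.node (3390,162,1) (.node (3992,264,0) (.node (3755,581,1) .nil .nil) .nil) (.node (3369,394,1) .nil .nil))))) (.node (3472,15,0) (.node (3497,26,1) (.node (3842,47,1) (.node (3345,88,1) (.node (3624,183,0) (.node (3715,420,1) .nil .nil) .nil) (.node (3864,285,0) .nil .nil)) (.node (3476,132,1) (.node (3971,232,0) (.node (4018,524,1) .nil .nil) .nil) (.node (3350,347,0) .nil .nil))) (.node (3845,68,0) (.node (3849,109,1) (.node (3337,209,0) (.node (3554,463,0) .nil .nil) .nil) (.node (3482,315,0) .nil .nil)) (.node (3639,157,0) (.node (3862,257,0) (.node (3571,566,0) .nil .nil) .nil) (.node (3746,383,1) .nil .nil)))) (.node (3954,36,1) (.node (3958,58,1) (.node (3465,99,1) (.node (3854,195,1) (.node (3332,444,1) .nil .nil) .nil) (.node (4033,298,1) .nil .nil)) (.node (3454,145,0) (.node (4028,245,0) (.node (4026,541,1) .nil .nil) .nil) (.node (3619,365,0) .nil .nil))) (.node (3498,77,1) (.node (3632,121,0) (.node (3806,221,0) (.node (3492,494,1) .nil .nil) .nil) (.node (3726,333,0) .nil .nil)) (.node (3747,170,0) (.node (3826,272,1)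 (.node (3559,609,0) .nil .nil) .nil) (.node (4006,403,0) .nil .nil)))))) (.node (3841,8,0) (.node (3334,12,1) (.node (3545,23,1) (.node (3357,45,1) (.node (3986,85,1) (.node (3425,180,0) (.node (3774,418,0) .nil .nil) .nil) (.node (3682,283,0) .nil .nil)) (.node (3349,129,0) (.node (3675,229,1) (.node (3988,514,1) .nil .nil) .nil) (.node (3532,343,1) .nil .nil))) (.node (3758,65,1) (.node (3535,107,1) (.node (3598,206,1) (.node (3615,457,1) .nil .nil) .nil) (.node (3371,308,0) .nil .nil)) (.node (3657,153,1) (.node (3836,254,1) (.node (3551,560,0) .nil .nil) .nil) (.node (3447,379,1) .nil .nil)))) (.node (3546,34,0) (.node (3645,55,1) (.node (3416,96,1) (.node (3876,190,1) (.node (3493,436,0) .nil .nil) .nil) (.node (3462,294,1) .nil .nil)) (.node (3555,142,0) (.node (3792,241,0) (.node (3696,538,0) .nil .nil) .nil) (.node (3397,362,1) .nil .nil))) (.node (3983,75,1) (.node (3861,118,1) (.node (3623,217,1) (.node (3452,486,1) .nil .nil) .nil) (.node (3671,327,1) .nil .nil)) (.node (4038,167,1) (.node (3995,269,0) (.node (4025,599,1)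 .nil .nil) .nil) (.node (3410,399,1) .nil .nil))))) (.node (3946,18,1) (.node (3846,29,0) (.node (3627,50,1) (.node (3552,91,1) (.node (3996,185,1) (.node (3550,426,1) .nil .nil) .nil) (.node (3354,288,1) .nil .nil)) (.node (3406,136,0) (.node (3333,235,1) (.node (3528,529,1) .nil .nil) .nil) (.node (3811,352,0) .nil .nil))) (.node (3712,70,1) (.node (3346,112,0) (.node (3852,212,0) (.node (3518,469,1) .nil .nil) .nil) (.node (3403,319,1) .nil .nil)) (.node (3382,159,1) (.node (3502,259,1) (.node (3987,571,1) .nil .nil) .nil) (.node (3948,388,1) .nil .nil)))) (.node (3968,40,1) (.node (3757,60,1) (.node (3522,102,1) (.node (3965,200,1) (.node (3517,447,1) .nil .nil) .nil) (.node (3830,301,1) .nil .nil)) (.node (3376,148,1) (.node (3729,248,1) (.node (3964,546,0) .nil .nil) .nil) (.node (3766,369,1) .nil .nil))) (.node (3491,80,0) (.node (3813,124,0) (.node (3437,224,0) (.node (3959,502,0) .nil .nil) .nil) (.node (3500,336,0) .nil .nil)) (.node (3479,173,1) (.node (3574,275,1) (.node (4012,619,1) .nil .nil) .nil) (.node (4019,406,1)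 .nil .nil))))))))

/-- Part of `treeP640`. -/
noncomputable def treeP640_r : Arr (ℕ × ℕ × ℕ) :=
  (.node (3759,0,1) (.node (3422,2,0) (.node (3449,4,1) (.node (3950,10,0) (.node (3575,20,1) (.node (3495,42,1) (.node (3524,81,1) (.node (3601,177,0) (.node (3801,409,1) .nil .nil) .nil) (.node (3703,278,1) .nil .nil)) (.node (3993,126,0) (.node (3338,225,1) (.node (3475,504,1) .nil .nil) .nil) (.node (3787,338,1) .nil .nil))) (.node (4024,62,1) (.node (3480,104,0) (.node (4008,203,0) (.node (3388,451,0) .nil .nil) .nil) (.node (3637,303,0) .nil .nil)) (.node (3815,150,1) (.node (3435,251,1) (.node (3426,552,1) .nil .nil) .nil) (.node (3812,371,1) .nil .nil)))) (.node (3592,31,0) (.node (3629,52,1) (.node (3557,93,1) (.node (3982,187,1) (.node (3832,430,1) .nil .nil) .nil) (.node (3584,291,0) .nil .nil)) (.node (3810,138,1) (.node (3621,237,1) (.node (3610,534,1) .nil .nil) .nil) (.node (3809,354,0) .nil .nil))) (.node (3722,72,1) (.node (3344,114,0) (.node (3820,214,1) (.node (3674,475,1) .nil .nil) .nil) (.node (4011,322,1)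 .nil .nil)) (.node (3797,162,0) (.node (3381,263,0) (.node (3666,576,1) .nil .nil) .nil) (.node (3412,394,0) .nil .nil))))) (.node (3977,14,1) (.node (3583,26,0) (.node (3989,47,0) (.node (3775,87,1) (.node (3978,182,1) (.node (4037,420,0) .nil .nil) .nil) (.node (3568,284,1) .nil .nil)) (.node (3560,131,1) (.node (3708,231,1) (.node (3827,518,1) .nil .nil) .nil) (.node (3984,346,1) .nil .nil))) (.node (3617,67,1) (.node (3578,109,0) (.node (3356,208,1) (.node (3753,462,0) .nil .nil) .nil) (.node (3433,314,1) .nil .nil)) (.node (3871,156,1) (.node (3553,256,1) (.node (3733,565,1) .nil .nil) .nil) (.node (3405,383,0) .nil .nil)))) (.node (3700,36,0) (.node (3366,57,1) (.node (3595,98,1) (.node (3732,194,1) (.node (3740,440,1) .nil .nil) .nil) (.node (3538,298,0) .nil .nil)) (.node (3956,144,1) (.node (3467,244,1) (.node (3549,540,1) .nil .nil) .nil) (.node (3336,364,1) .nil .nil))) (.node (3494,77,0) (.node (3867,120,1) (.node (3840,220,1) (.node (3858,493,0) .nil .nil) .nil) (.node (3727,331,1) .nil .nil)) (.node (3341,169,1)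 (.node (3544,271,0) (.node (3779,606,1) .nil .nil) .nil) (.node (3490,402,1) .nil .nil)))))) (.node (3738,7,1) (.node (3361,12,0) (.node (3582,22,1) (.node (3945,44,1) (.node (3508,85,0) (.node (3458,179,0) (.node (3453,413,0) .nil .nil) .nil) (.node (3591,282,0) .nil .nil)) (.node (3690,128,1) (.node (3536,229,0) (.node (3395,513,1) .nil .nil) .nil) (.node (3683,342,0) .nil .nil))) (.node (3860,64,1) (.node (3745,106,1) (.node (3677,205,1) (.node (3796,456,1) .nil .nil) .nil) (.node (4027,306,1) .nil .nil)) (.node (3600,153,0) (.node (4039,253,1) (.node (3720,556,1) .nil .nil) .nil) (.node (3576,378,0) .nil .nil)))) (.node (3807,33,1) (.node (3379,55,0) (.node (4023,96,0) (.node (3529,190,0) (.node (4004,435,1) .nil .nil) .nil) (.node (3394,294,0) .nil .nil)) (.node (3953,141,1) (.node (3485,240,1) (.node (3821,537,1) .nil .nil) .nil) (.node (4034,359,1) .nil .nil))) (.node (3445,74,1) (.node (3756,117,1) (.node (3803,216,1) (.node (3780,485,1) .nil .nil) .nil) (.node (3628,325,1) .nil .nil)) (.node (3642,167,0) (.node (3798,268,0)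 (.node (4036,597,1) .nil .nil) .nil) (.node (3741,398,0) .nil .nil))))) (.node (3440,17,0) (.node (3688,28,1) (.node (3521,49,1) (.node (3477,90,1) (.node (3367,184,1) (.node (3471,424,1) .nil .nil) .nil) (.node (3572,287,1) .nil .nil)) (.node (3620,135,1) (.node (3506,234,1) (.node (3808,528,1) .nil .nil) .nil) (.node (3469,351,0) .nil .nil))) (.node (3443,69,1) (.node (4010,111,1) (.node (3547,211,1) (.node (3767,469,0) .nil .nil) .nil) (.node (3825,318,0) .nil .nil)) (.node (3419,159,0) (.node (3761,259,0) (.node (3970,570,1) .nil .nil) .nil) (.node (3782,386,0) .nil .nil)))) (.node (3404,39,1) (.node (3777,60,0) (.node (3533,101,1) (.node (3340,199,1) (.node (3763,446,1) .nil .nil) .nil) (.node (3650,300,1) .nil .nil)) (.node (3791,147,0) (.node (3719,248,0) (.node (3602,543,1) .nil .nil) .nil) (.node (4002,367,1) .nil .nil))) (.node (3439,79,1) (.node (3486,123,1) (.node (3401,223,1) (.node (3824,501,1) .nil .nil) .nil) (.node (4014,334,1) .nil .nil)) (.node (3347,172,1) (.node (3802,275,0) (.node (3358,616,0) .nil .nil)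 .nil) (.node (3625,406,0) .nil .nil))))))) (.node (3513,3,0) (.node (3848,5,1) (.node (3662,11,0) (.node (3679,21,1) (.node (3646,43,1) (.node (3793,83,0) (.node (3438,178,0) (.node (3606,411,0) .nil .nil) .nil) (.node (3383,280,1) .nil .nil)) (.node (4031,127,1) (.node (3670,227,0) (.node (3659,511,1) .nil .nil) .nil) (.node (3603,340,0) .nil .nil))) (.node (3626,63,1) (.node (3368,105,1) (.node (3501,204,0) (.node (3873,454,1) .nil .nil) .nil) (.node (3407,304,1) .nil .nil)) (.node (3461,152,0) (.node (3377,252,1) (.node (3795,554,0) .nil .nil) .nil) (.node (3957,375,0) .nil .nil)))) (.node (3713,32,0) (.node (3966,54,0) (.node (3760,95,0) (.node (3857,188,1) (.node (3375,432,1) .nil .nil) .nil) (.node (3540,292,0) .nil .nil)) (.node (3612,140,0) (.node (3789,238,1) (.node (3704,536,1) .nil .nil) .nil) (.node (3577,355,1) .nil .nil))) (.node (3718,73,1) (.node (3816,115,1) (.node (3478,215,1) (.node (3997,484,1) .nil .nil) .nil) (.node (3847,324,1) .nil .nil)) (.node (3622,163,1) (.node (3515,266,1) (.node (3804,590,0) .nil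 .nil) .nil) (.node (3710,396,0) .nil .nil))))) (.node (3705,15,1) (.node (3717,27,0) (.node (3856,48,1) (.node (3866,89,0) (.node (3537,183,1) (.node (3771,422,1) .nil .nil) .nil) (.node (3748,285,1) .nil .nil)) (.node (3737,133,1) (.node (3754,232,1) (.node (3488,527,1) .nil .nil) .nil) (.node (3364,347,1) .nil .nil))) (.node (3781,68,1) (.node (3411,110,1) (.node (3655,209,1) (.node (3370,464,1) .nil .nil) .nil) (.node (3769,316,0) .nil .nil)) (.node (3611,157,1) (.node (3365,257,1) (.node (3415,567,0) .nil .nil) .nil) (.node (3586,384,0) .nil .nil)))) (.node (3680,37,0) (.node (3392,59,0) (.node (3952,100,0) (.node (3473,196,1) (.node (3562,445,1) .nil .nil) .nil) (.node (3590,299,0) .nil .nil)) (.node (3751,145,1) (.node (3695,246,0) (.node (3785,542,1) .nil .nil) .nil) (.node (4003,365,1) .nil .nil))) (.node (3828,78,0) (.node (3609,121,1) (.node (3742,222,0) (.node (3685,496,1) .nil .nil) .nil) (.node (3711,333,1) .nil .nil)) (.node (3698,171,1) (.node (3714,273,1) (.node (4029,611,1) .nil .nil) .nil) (.node (3778,404,1)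 .nil .nil)))))) (.node (3527,8,1) (.node (3770,13,1) (.node (3991,24,0) (.node (3335,46,0) (.node (3599,86,0) (.node (3962,181,0) (.node (3396,419,0) .nil .nil) .nil) (.node (3999,283,1) .nil .nil)) (.node (3362,129,1) (.node (3408,230,0) (.node (3667,515,1) .nil .nil) .nil) (.node (3589,344,0) .nil .nil))) (.node (3507,66,0) (.node (3835,108,0) (.node (3794,207,1) (.node (3633,459,0) .nil .nil) .nil) (.node (3446,312,0) .nil .nil)) (.node (3773,154,1) (.node (3457,255,0) (.node (3585,560,1) .nil .nil) .nil) (.node (4013,381,1) .nil .nil)))) (.node (3863,34,1) (.node (3466,56,1) (.node (3963,97,1) (.node (3818,193,0) (.node (3460,436,1) .nil .nil) .nil) (.node (3504,296,1) .nil .nil)) (.node (4032,142,1) (.node (3566,241,1) (.node (3563,538,1) .nil .nil) .nil) (.node (3569,363,0) .nil .nil))) (.node (3640,76,0) (.node (3519,119,0) (.node (3669,218,1) (.node (3709,488,1) .nil .nil) .nil) (.node (3428,330,1) .nil .nil)) (.node (3561,168,1) (.node (3441,269,1) (.node (4016,603,1) .nil .nil) .nil) (.node (3869,400,1) .nil .nil)))))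 (.node (3526,19,0) (.node (3728,29,1) (.node (3451,51,1) (.node (3693,92,1) (.node (3487,186,0) (.node (3530,427,0) .nil .nil) .nil) (.node (3351,289,1) .nil .nil)) (.node (3750,136,1) (.node (3470,236,1) (.node (3372,530,1) .nil .nil) .nil) (.node (3417,352,1) .nil .nil))) (.node (3414,71,0) (.node (3838,112,1) (.node (3359,212,1) (.node (3635,470,1) .nil .nil) .nil) (.node (3951,321,0) .nil .nil)) (.node (3980,160,1) (.node (3800,260,1) (.node (3512,572,1) .nil .nil) .nil) (.node (3699,389,1) .nil .nil)))) (.node (3631,41,0) (.node (3875,61,0) (.node (4035,103,0) (.node (3614,201,0) (.node (3387,448,0) .nil .nil) .nil) (.node (3736,302,0) .nil .nil)) (.node (3352,149,1) (.node (3355,249,1) (.node (3342,546,1) .nil .nil) .nil) (.node (3636,370,1) .nil .nil))) (.node (4007,80,1) (.node (3664,124,1) (.node (3434,224,1) (.node (3430,502,1) .nil .nil) .nil) (.node (3765,337,1) .nil .nil)) (.node (4040,175,1) (.node (3967,277,0) (.node (3868,620,0) .nil .nil) .nil) (.node (3511,407,1) .nil .nil))))))))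

/-- An orbit, with a spanning tree. -/
noncomputable def treeP640 : Arr (ℕ × ℕ × ℕ) :=
  .node (3331,0,0) treeP640_l treeP640_r

/-- The size of an orbit. -/
def treeC1_0Size : ℕ :=
  780

/-- Part of `treeC1_0`. -/
noncomputable def treeC1_0_l : Arr (ℕ × ℕ × ℕ) :=
  (.node (4058,0,0) (.node (2427,0,2) (.node (3324,1,2) (.node (3758,3,2) (.node (3614,8,1) (.node (3919,17,1) (.node (2598,37,0) (.node (3279,80,2) (.node (3129,208,0) .nil .nil) (.node (2756,543,0) .nil .nil)) (.node (2421,133,3) (.node (2560,302,3) .nil .nil) .nil)) (.node (3008,58,1) (.node (3304,103,3) (.node (2436,250,3) .nil .nil) .nil) (.node (3014,167,0) (.node (3992,387,1) .nil .nil) .nil))) (.node (3666,26,3) (.node (2774,47,2) (.node (3037,91,1) (.node (3805,226,3) .nil .nil) .nil) (.node (3904,148,2) (.node (2594,344,2) .nil .nil) .nil)) (.node (3346,68,3) (.node (2999,120,0) (.node (2352,272,1) .nil .nil) .nil) (.node (2761,185,2) (.node (3084,457,1) .nil .nil) .nil)))) (.node (3192,13,0) (.node (2943,22,0) (.node (3225,41,3) (.node (3325,85,1) (.node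 (3068,218,2) .nil .nil) .nil) (.node (3564,139,1) (.node (3389,316,3) .nil .nil) .nil)) (.node (3489,63,2) (.node (2338,112,0) (.node (3454,259,2) .nil .nil) .nil) (.node (3058,175,0) (.node (3774,406,0) .nil .nil) .nil))) (.node (2734,31,0) (.node (3055,52,3) (.node (2950,97,3) (.node (3464,235,0) .nil .nil) .nil) (.node (3993,157,1) (.node (2458,368,0) .nil .nil) .nil)) (.node (3290,74,2) (.node (2980,128,0) (.node (3374,287,2) .nil .nil) .nil) (.node (3944,196,0) (.node (3973,485,2) .nil .nil) .nil))))) (.node (2988,6,1) (.node (3897,10,3) (.node (3870,19,1) (.node (3287,39,3) (.node (3121,83,0) (.node (2432,212,0) .nil .nil) (.node (3745,599,0) .nil .nil)) (.node (2419,137,0) (.node (2979,311,2) .nil .nil) .nil)) (.node (3708,60,2) (.node (2919,108,2) (.node (2358,257,0) .nil .nil) .nil) (.node (2797,170,3) (.node (2933,396,3) .nil .nil) .nil))) (.node (3964,28,3) (.node (2629,50,3) (.node (3414,94,0) (.node (2742,231,2) .nil .nil) .nil) (.node (3163,152,1) (.node (2664,353,3) .nil .nil) .nil)) (.node (4033,71,1) (.node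 (3147,124,1) (.node (2456,277,3) .nil .nil) .nil) (.node (2332,192,3) (.node (2815,467,0) .nil .nil) .nil)))) (.node (3064,15,0) (.node (3485,24,2) (.node (2754,44,1) (.node (2688,87,3) (.node (3421,222,1) .nil .nil) .nil) (.node (3270,142,2) (.node (2485,329,0) .nil .nil) .nil)) (.node (3065,66,1) (.node (3740,116,3) (.node (2834,268,2) .nil .nil) .nil) (.node (3976,181,1) (.node (3497,433,0) .nil .nil) .nil))) (.node (3160,34,2) (.node (3712,55,2) (.node (3948,100,2) (.node (3243,240,1) .nil .nil) .nil) (.node (2537,161,2) (.node (3431,376,3) .nil .nil) .nil)) (.node (3048,76,3) (.node (2958,131,0) (.node (2573,296,2) .nil .nil) .nil) (.node (2683,204,3) (.node (3594,501,1) .nil .nil) .nil)))))) (.node (4036,2,2) (.node (3555,4,3) (.node (2374,9,3) (.node (3725,18,1) (.node (3746,38,1) (.node (3076,81,2) (.node (2529,210,0) .nil .nil) (.node (2850,556,1) .nil .nil)) (.node (3916,136,0) (.node (3736,306,0) .nil .nil) .nil)) (.node (3571,59,2) (.node (2786,105,0) (.node (3174,254,2) .nil .nil) .nil) (.node (3313,169,1) (.node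 (2942,392,1) .nil .nil) .nil))) (.node (2397,27,3) (.node (2862,49,1) (.node (3570,93,0) (.node (3255,228,1) .nil .nil) .nil) (.node (2925,150,3) (.node (2909,348,1) .nil .nil) .nil)) (.node (2437,70,1) (.node (3922,122,1) (.node (2504,276,2) .nil .nil) .nil) (.node (2724,190,1) (.node (2538,462,1) .nil .nil) .nil)))) (.node (2548,14,0) (.node (3400,23,1) (.node (2951,42,3) (.node (3811,86,3) (.node (2342,220,1) .nil .nil) .nil) (.node (3277,140,2) (.node (3309,321,2) .nil .nil) .nil)) (.node (3394,64,3) (.node (3816,114,0) (.node (3027,263,2) .nil .nil) .nil) (.node (2422,177,1) (.node (3542,415,2) .nil .nil) .nil))) (.node (3365,33,0) (.node (3379,54,1) (.node (2823,99,0) (.node (2355,237,1) .nil .nil) .nil) (.node (2803,159,0) (.node (2857,373,2) .nil .nil) .nil)) (.node (2772,75,2) (.node (3506,130,0) (.node (2647,291,1) .nil .nil) .nil) (.node (3912,202,0) (.node (3577,489,3) .nil .nil) .nil))))) (.node (2544,7,1) (.node (3171,11,3) (.node (3772,20,2) (.node (3628,40,3) (.node (3859,84,1) (.node (4010,214,3) .nil .nil)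 (.node (3337,676,0) .nil .nil)) (.node (2545,138,1) (.node (3152,313,3) .nil .nil) .nil)) (.node (2587,61,3) (.node (3244,110,1) (.node (3988,258,1) .nil .nil) .nil) (.node (2832,173,0) (.node (3208,402,1) .nil .nil) .nil))) (.node (3184,30,0) (.node (3261,51,3) (.node (3886,95,1) (.node (2391,233,0) .nil .nil) .nil) (.node (3849,154,2) (.node (2718,361,1) .nil .nil) .nil)) (.node (2330,72,3) (.node (2619,126,0) (.node (3953,285,0) .nil .nil) .nil) (.node (3568,194,2) (.node (3653,477,3) .nil .nil) .nil)))) (.node (3660,16,0) (.node (3748,25,3) (.node (3617,45,3) (.node (3652,89,1) (.node (2454,224,1) .nil .nil) .nil) (.node (2816,144,3) (.node (3977,331,1) .nil .nil) .nil)) (.node (2660,67,2) (.node (3513,118,1) (.node (2777,270,3) .nil .nil) .nil) (.node (2747,183,1) (.node (3941,445,1) .nil .nil) .nil))) (.node (2555,36,0) (.node (3493,56,3) (.node (3522,102,0) (.node (3275,244,3) .nil .nil) .nil) (.node (2640,164,0) (.node (3675,381,3) .nil .nil) .nil)) (.node (2720,78,0) (.node (2465,132,1) (.node (2570,299,1) .nil .nil)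 .nil) (.node (2941,206,2) (.node (3031,511,3) .nil .nil) .nil))))))) (.node (2367,1,0) (.node (2851,2,0) (.node (2703,4,0) (.node (3362,9,1) (.node (3036,17,3) (.node (4050,37,3) (.node (3882,81,0) (.node (3145,209,1) .nil .nil) (.node (3813,547,1) .nil .nil)) (.node (3732,134,1) (.node (3308,305,0) .nil .nil) .nil)) (.node (2859,59,0) (.node (2567,104,2) (.node (3796,252,2) .nil .nil) .nil) (.node (3580,168,1) (.node (3456,389,3) .nil .nil) .nil))) (.node (3972,27,1) (.node (3554,48,2) (.node (3586,92,0) (.node (2949,227,3) .nil .nil) .nil) (.node (2484,149,3) (.node (3017,347,2) .nil .nil) .nil)) (.node (2855,69,1) (.node (2957,121,1) (.node (3015,275,1) .nil .nil) .nil) (.node (2903,186,3) (.node (2771,461,3) .nil .nil) .nil)))) (.node (2325,13,2) (.node (3759,22,2) (.node (3265,42,1) (.node (2424,86,0) (.node (3128,219,1) .nil .nil) .nil) (.node (3457,140,0) (.node (3419,320,0) .nil .nil) .nil)) (.node (3742,64,0) (.node (2727,113,1) (.node (3806,262,2) .nil .nil) .nil) (.node (2907,176,2) (.node (3863,408,0) .nil .nil)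 .nil))) (.node (3156,32,0) (.node (3917,53,2) (.node (2895,98,2) (.node (4025,236,3) .nil .nil) .nil) (.node (3722,158,0) (.node (3003,369,3) .nil .nil) .nil)) (.node (3775,75,0) (.node (4032,129,1) (.node (3599,288,3) .nil .nil) .nil) (.node (3834,197,1) (.node (3323,487,1) .nil .nil) .nil))))) (.node (3383,6,3) (.node (2329,11,1) (.node (3989,20,0) (.node (4037,40,1) (.node (2509,83,3) (.node (2891,213,1) .nil .nil) (.node (3446,660,2) .nil .nil)) (.node (3611,137,2) (.node (2853,313,0) .nil .nil) .nil)) (.node (2976,61,0) (.node (2723,109,1) (.node (2808,257,3) .nil .nil) .nil) (.node (3122,171,1) (.node (3986,397,3) .nil .nil) .nil))) (.node (3853,29,1) (.node (2828,51,1) (.node (3622,94,3) (.node (2805,232,2) .nil .nil) .nil) (.node (3282,154,0) (.node (3825,356,1) .nil .nil) .nil)) (.node (3604,71,3) (.node (3259,125,0) (.node (3718,280,2) .nil .nil) .nil) (.node (3828,193,3) (.node (3201,469,2) .nil .nil) .nil)))) (.node (2459,15,2) (.node (2801,25,0) (.node (3857,44,3) (.node (2905,88,1) (.node (2899,222,3) .nil .nil)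 .nil) (.node (2557,144,0) (.node (3847,329,3) .nil .nil) .nil)) (.node (3951,66,3) (.node (2789,117,1) (.node (2984,269,0) .nil .nil) .nil) (.node (3872,182,1) (.node (3839,435,3) .nil .nil) .nil))) (.node (3496,35,0) (.node (3106,56,0) (.node (3968,101,0) (.node (3881,242,2) .nil .nil) .nil) (.node (3267,162,2) (.node (2378,378,3) .nil .nil) .nil)) (.node (3709,77,2) (.node (3680,131,2) (.node (3418,298,0) .nil .nil) .nil) (.node (3231,205,3) (.node (2552,509,0) .nil .nil) .nil)))))) (.node (2974,3,0) (.node (3111,5,1) (.node (3879,10,1) (.node (2751,18,3) (.node (2347,39,0) (.node (3507,82,0) (.node (2439,210,2) .nil .nil) (.node (2364,566,2) .nil .nil)) (.node (2962,136,2) (.node (2936,310,0) .nil .nil) .nil)) (.node (2597,60,0) (.node (2932,106,1) (.node (3914,255,2) .nil .nil) .nil) (.node (3787,170,0) (.node (3025,394,3) .nil .nil) .nil))) (.node (2705,28,1) (.node (2399,49,3) (.node (4031,93,2) (.node (3771,230,2) .nil .nil) .nil) (.node (3190,151,3) (.node (3504,351,0) .nil .nil) .nil)) (.node (3491,70,3) (.node (3444,123,1)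 (.node (4011,277,0) .nil .nil) .nil) (.node (3321,192,0) (.node (3500,466,1) .nil .nil) .nil)))) (.node (2401,14,2) (.node (3223,23,3) (.node (3860,43,3) (.node (4046,87,1) (.node (3019,221,3) .nil .nil) .nil) (.node (3958,142,0) (.node (2793,326,3) .nil .nil) .nil)) (.node (2343,65,1) (.node (3626,115,1) (.node (2443,266,1) .nil .nil) .nil) (.node (3920,178,0) (.node (2898,427,1) .nil .nil) .nil))) (.node (2612,33,3) (.node (2969,55,0) (.node (3721,100,0) (.node (3281,238,0) .nil .nil) .nil) (.node (3545,160,1) (.node (3359,375,1) .nil .nil) .nil)) (.node (3943,76,1) (.node (3514,130,2) (.node (2852,293,3) .nil .nil) .nil) (.node (2476,204,0) (.node (2451,494,1) .nil .nil) .nil))))) (.node (3910,7,3) (.node (3182,12,1) (.node (3821,21,1) (.node (3124,41,1) (.node (3888,84,3) (.node (2888,216,3) .nil .nil) .nil) (.node (2838,138,3) (.node (3230,314,2) .nil .nil) .nil)) (.node (3101,62,3) (.node (3217,111,1) (.node (2657,258,3) .nil .nil) .nil) (.node (3455,174,1) (.node (2585,405,0) .nil .nil) .nil))) (.node (3285,30,2) (.node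 (2846,52,1) (.node (3053,96,2) (.node (3399,234,0) .nil .nil) .nil) (.node (3913,156,0) (.node (2467,362,0) .nil .nil) .nil)) (.node (3776,73,2) (.node (3503,127,1) (.node (3728,286,1) .nil .nil) .nil) (.node (3197,195,1) (.node (2995,482,1) .nil .nil) .nil)))) (.node (3909,16,3) (.node (2945,26,1) (.node (3029,46,3) (.node (3852,90,1) (.node (2505,225,2) .nil .nil) .nil) (.node (3510,146,3) (.node (3557,332,3) .nil .nil) .nil)) (.node (3382,68,0) (.node (2835,118,3) (.node (2492,271,1) .nil .nil) .nil) (.node (3480,184,1) (.node (2500,453,2) .nil .nil) .nil))) (.node (3713,36,2) (.node (3278,57,2) (.node (2511,102,2) (.node (3250,249,3) .nil .nil) .nil) (.node (3074,164,2) (.node (3499,384,3) .nil .nil) .nil)) (.node (3657,79,3) (.node (3891,133,0) (.node (3534,301,0) .nil .nil) .nil) (.node (2879,207,2) (.node (3927,532,0) .nil .nil) .nil))))))))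

/-- Part of `treeC1_0`. -/
noncomputable def treeC1_0_r : Arr (ℕ × ℕ × ℕ) :=
  (.node (3236,0,1) (.node (3032,0,3) (.node (2813,1,3) (.node (3113,3,3) (.node (2845,8,3) (.node (2847,17,2) (.node (2549,37,2) (.node (3249,80,3) (.node (4028,208,1) .nil .nil) (.node (3107,543,1) .nil .nil)) (.node (3306,134,0) (.node (2632,303,3) .nil .nil) .nil)) (.node (2535,58,3) (.node (2930,104,0) (.node (3312,252,1) .nil .nil) .nil) (.node (2738,167,1) (.node (3672,389,2) .nil .nil) .nil))) (.node (2682,27,0) (.node (3620,48,1) (.node (3443,91,3) (.node (3314,227,0) .nil .nil) .nil) (.node (3273,149,0) (.node (2766,347,1) .nil .nil) .nil)) (.node (3578,69,0) (.node (2430,120,1) (.node (3310,274,0) .nil .nil) .nil) (.node (3582,185,3) (.node (3720,460,3) .nil .nil) .nil)))) (.node (3052,13,1) (.node (2782,22,1) (.node (2902,42,0) (.node (2336,85,3) (.node (3378,218,3) .nil .nil) .nil) (.node (2875,139,3) (.node (3781,318,3) .nil .nil) .nil)) (.node (3606,63,3) (.node (2776,112,3) (.node (3643,261,0) .nil .nil) .nil) (.node (4013,175,1)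 (.node (3609,406,1) .nil .nil) .nil))) (.node (3767,31,3) (.node (3288,53,0) (.node (2968,98,0) (.node (3551,236,2) .nil .nil) .nil) (.node (3585,157,3) (.node (3724,368,2) .nil .nil) .nil)) (.node (2490,74,3) (.node (2944,129,0) (.node (3659,288,0) .nil .nil) .nil) (.node (2961,197,0) (.node (3887,485,3) .nil .nil) .nil))))) (.node (2676,6,2) (.node (4034,11,0) (.node (3315,19,3) (.node (3907,40,0) (.node (3807,83,2) (.node (3850,212,2) .nil .nil) (.node (3114,624,1) .nil .nil)) (.node (2655,137,1) (.node (3437,312,0) .nil .nil) .nil)) (.node (3166,60,3) (.node (3895,109,0) (.node (2711,257,2) .nil .nil) .nil) (.node (3815,171,0) (.node (3871,397,1) .nil .nil) .nil))) (.node (3790,29,0) (.node (3229,51,0) (.node (3194,94,1) (.node (3753,231,3) .nil .nil) .nil) (.node (2356,153,1) (.node (3133,355,3) .nil .nil) .nil)) (.node (4051,71,2) (.node (3186,124,3) (.node (3139,280,1) .nil .nil) .nil) (.node (3623,193,2) (.node (2934,467,3) .nil .nil) .nil)))) (.node (2677,15,1) (.node (3826,24,3) (.node (2952,44,2) (.node (2354,88,0)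 (.node (3757,222,2) .nil .nil) .nil) (.node (3023,143,0) (.node (3434,329,1) .nil .nil) .nil)) (.node (3381,66,2) (.node (3631,117,0) (.node (2956,268,3) .nil .nil) .nil) (.node (3788,181,3) (.node (2622,434,3) .nil .nil) .nil))) (.node (3253,34,3) (.node (2810,55,3) (.node (2965,100,3) (.node (3137,242,1) .nil .nil) .nil) (.node (3726,162,0) (.node (3867,378,1) .nil .nil) .nil)) (.node (3085,77,1) (.node (2681,131,1) (.node (3730,296,3) .nil .nil) .nil) (.node (3091,205,1) (.node (2558,503,3) .nil .nil) .nil)))))) (.node (3627,2,3) (.node (2583,5,0) (.node (3258,10,0) (.node (3327,18,2) (.node (3234,38,2) (.node (3940,81,3) (.node (3779,210,1) .nil .nil) (.node (2464,565,3) .nil .nil)) (.node (2690,136,1) (.node (3090,307,0) .nil .nil) .nil)) (.node (2737,59,3) (.node (3819,106,0) (.node (2611,255,0) .nil .nil) .nil) (.node (2840,169,3) (.node (2973,392,2) .nil .nil) .nil))) (.node (2639,28,0) (.node (3168,49,2) (.node (3674,93,1) (.node (3999,230,0) .nil .nil) .nil) (.node (4044,151,0) (.node (2985,349,1) .nil .nil) .nil))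 (.node (2513,70,2) (.node (3218,122,3) (.node (3562,276,3) .nil .nil) .nil) (.node (3149,191,1) (.node (2533,465,1) .nil .nil) .nil)))) (.node (3785,14,1) (.node (3033,23,2) (.node (2807,43,1) (.node (3246,87,0) (.node (3143,220,3) .nil .nil) .nil) (.node (3793,141,0) (.node (3342,324,0) .nil .nil) .nil)) (.node (3595,65,0) (.node (2955,114,3) (.node (2447,266,0) .nil .nil) .nil) (.node (3795,177,2) (.node (3583,423,1) .nil .nil) .nil))) (.node (2531,33,1) (.node (3263,54,3) (.node (3153,99,1) (.node (3987,237,2) .nil .nil) .nil) (.node (2591,159,2) (.node (2453,373,3) .nil .nil) .nil)) (.node (4000,76,0) (.node (3889,130,1) (.node (3189,293,2) .nil .nil) .nil) (.node (2528,202,1) (.node (3283,491,3) .nil .nil) .nil))))) (.node (3200,7,2) (.node (3333,12,0) (.node (2400,21,0) (.node (3242,41,0) (.node (3975,84,2) (.node (3556,215,2) .nil .nil) .nil) (.node (3172,138,2) (.node (3449,314,0) .nil .nil) .nil)) (.node (2915,62,1) (.node (2706,111,0) (.node (2429,258,2) .nil .nil) .nil) (.node (4005,173,3) (.node (3099,403,1) .nil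 .nil) .nil))) (.node (2740,30,1) (.node (3296,52,0) (.node (3280,96,0) (.node (3524,233,3) .nil .nil) .nil) (.node (3442,155,3) (.node (2668,361,3) .nil .nil) .nil)) (.node (2946,73,0) (.node (3621,127,0) (.node (4052,285,3) .nil .nil) .nil) (.node (3686,194,3) (.node (3694,479,0) .nil .nil) .nil)))) (.node (3180,16,1) (.node (3603,26,0) (.node (3161,46,1) (.node (3034,89,2) (.node (3629,225,1) .nil .nil) .nil) (.node (2873,146,2) (.node (3408,331,2) .nil .nil) .nil)) (.node (2377,67,3) (.node (2609,118,2) (.node (3625,271,0) .nil .nil) .nil) (.node (3563,183,3) (.node (2824,447,3) .nil .nil) .nil))) (.node (2506,36,1) (.node (3800,57,0) (.node (3792,102,1) (.node (2539,246,3) .nil .nil) .nil) (.node (2975,164,1) (.node (3705,383,1) .nil .nil) .nil)) (.node (3066,78,2) (.node (3206,132,2) (.node (3801,300,1) .nil .nil) .nil) (.node (3769,206,3) (.node (3833,521,3) .nil .nil) .nil))))))) (.node (3734,1,1) (.node (3245,2,1) (.node (3698,4,1) (.node (3591,9,2) (.node (3575,18,0) (.node (3007,38,0) (.node (3204,81,1) (.node (3658,209,3)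 .nil .nil) (.node (2327,552,3) .nil .nil)) (.node (3060,135,1) (.node (3238,305,3) .nil .nil) .nil)) (.node (3926,59,1) (.node (3845,104,3) (.node (2896,253,0) .nil .nil) .nil) (.node (3762,169,0) (.node (3777,390,0) .nil .nil) .nil))) (.node (3831,27,2) (.node (3929,49,0) (.node (4008,92,3) (.node (3070,228,0) .nil .nil) .nil) (.node (3162,150,0) (.node (4053,348,0) .nil .nil) .nil)) (.node (2602,69,3) (.node (3232,121,3) (.node (3132,276,1) .nil .nil) .nil) (.node (3468,187,0) (.node (3735,462,0) .nil .nil) .nil)))) (.node (2334,13,3) (.node (2522,22,3) (.node (3954,42,2) (.node (2954,86,2) (.node (3284,219,3) .nil .nil) .nil) (.node (2814,140,1) (.node (2679,321,1) .nil .nil) .nil)) (.node (2477,64,1) (.node (3752,113,2) (.node (3700,263,1) .nil .nil) .nil) (.node (2643,176,3) (.node (2938,412,1) .nil .nil) .nil))) (.node (3120,32,1) (.node (3203,53,3) (.node (3527,98,3) (.node (3764,237,0) .nil .nil) .nil) (.node (3763,158,3) (.node (3138,370,3) .nil .nil) .nil)) (.node (3893,75,1) (.node (3116,129,3) (.node (3618,290,1)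 .nil .nil) .nil) (.node (3363,200,1) (.node (3494,489,0) .nil .nil) .nil))))) (.node (2990,7,0) (.node (3661,11,2) (.node (2811,20,1) (.node (4014,40,2) (.node (3963,84,0) (.node (3469,214,1) .nil .nil) (.node (3402,664,3) .nil .nil)) (.node (3266,138,0) (.node (2878,313,1) .nil .nil) .nil)) (.node (3684,61,1) (.node (3630,109,3) (.node (3035,258,0) .nil .nil) .nil) (.node (3838,172,3) (.node (3481,400,3) .nil .nil) .nil))) (.node (2798,29,3) (.node (3707,51,2) (.node (3633,95,0) (.node (3985,232,3) .nil .nil) .nil) (.node (3049,154,1) (.node (2728,359,2) .nil .nil) .nil)) (.node (2516,72,1) (.node (2998,125,1) (.node (3300,284,0) .nil .nil) .nil) (.node (3009,194,0) (.node (2937,472,3) .nil .nil) .nil)))) (.node (3175,15,3) (.node (2792,25,1) (.node (2519,45,2) (.node (3212,89,0) (.node (3028,223,1) .nil .nil) .nil) (.node (3716,144,2) (.node (2722,330,0) .nil .nil) .nil)) (.node (2666,67,0) (.node (4022,117,3) (.node (3704,270,2) .nil .nil) .nil) (.node (4057,183,0) (.node (2445,443,2) .nil .nil) .nil))) (.node (3982,35,1)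 (.node (4039,56,1) (.node (2599,101,2) (.node (3637,244,2) .nil .nil) .nil) (.node (2997,162,3) (.node (3519,379,0) .nil .nil) .nil)) (.node (2897,77,3) (.node (3947,132,0) (.node (3810,298,2) .nil .nil) .nil) (.node (2385,206,1) (.node (2778,511,0) .nil .nil) .nil)))))) (.node (3209,3,1) (.node (2922,6,0) (.node (2449,10,2) (.node (3701,19,0) (.node (2848,39,1) (.node (3729,82,1) (.node (2695,211,1) .nil .nil) (.node (2521,573,3) .nil .nil)) (.node (2769,136,3) (.node (3459,310,3) .nil .nil) .nil)) (.node (2388,60,1) (.node (3254,107,3) (.node (2799,255,3) .nil .nil) .nil) (.node (2344,170,1) (.node (2684,395,0) .nil .nil) .nil))) (.node (2947,28,2) (.node (4035,50,1) (.node (4043,93,3) (.node (3981,230,3) .nil .nil) .nil) (.node (3179,152,0) (.node (2375,351,2) .nil .nil) .nil)) (.node (2515,71,0) (.node (3928,123,3) (.node (2499,277,1) .nil .nil) .nil) (.node (3038,192,1) (.node (2868,466,3) .nil .nil) .nil)))) (.node (2371,14,3) (.node (2553,24,1) (.node (3835,44,0) (.node (2993,87,2) (.node (4024,222,0) .nil .nil) .nil)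 (.node (3135,142,1) (.node (2726,328,0) .nil .nil) .nil)) (.node (2562,66,0) (.node (3789,115,3) (.node (3896,266,3) .nil .nil) .nil) (.node (3047,178,1) (.node (3581,431,3) .nil .nil) .nil))) (.node (3747,34,0) (.node (3883,55,1) (.node (3710,100,1) (.node (3574,238,1) .nil .nil) .nil) (.node (3521,160,3) (.node (3297,376,1) .nil .nil) .nil)) (.node (3702,76,2) (.node (2604,130,3) (.node (3040,295,1) .nil .nil) .nil) (.node (3349,204,1) (.node (3492,496,3) .nil .nil) .nil))))) (.node (2755,8,0) (.node (2775,12,3) (.node (2806,21,2) (.node (3056,41,2) (.node (3873,85,0) (.node (2886,218,1) .nil .nil) .nil) (.node (3205,139,0) (.node (3532,316,0) .nil .nil) .nil)) (.node (3979,63,1) (.node (3955,111,2) (.node (3576,259,1) .nil .nil) .nil) (.node (3403,174,2) (.node (3780,405,2) .nil .nil) .nil))) (.node (2991,30,3) (.node (3260,52,2) (.node (3936,97,2) (.node (3641,234,2) .nil .nil) .nil) (.node (3946,157,0) (.node (3069,363,3) .nil .nil) .nil)) (.node (3840,73,3) (.node (3645,127,2) (.node (3292,287,0) .nil .nil) .nil) (.node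 (3719,195,3) (.node (3018,483,1) .nil .nil) .nil)))) (.node (2438,17,0) (.node (3154,26,2) (.node (3239,47,0) (.node (3846,90,3) (.node (2603,226,0) .nil .nil) .nil) (.node (2525,147,3) (.node (3961,333,1) .nil .nil) .nil)) (.node (3398,68,2) (.node (3706,119,2) (.node (3042,272,0) .nil .nil) .nil) (.node (2809,185,1) (.node (2743,454,0) .nil .nil) .nil))) (.node (2469,36,3) (.node (2900,57,3) (.node (3224,103,1) (.node (3317,250,0) .nil .nil) .nil) (.node (2876,165,3) (.node (3515,387,0) .nil .nil) .nil)) (.node (3013,80,1) (.node (3995,133,1) (.node (3892,302,0) .nil .nil) .nil) (.node (3501,207,3) (.node (3354,539,2) .nil .nil) .nil))))))))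

/-- An orbit, with a spanning tree. -/
noncomputable def treeC1_0 : Arr (ℕ × ℕ × ℕ) :=
  .node (2323,0,0) treeC1_0_l treeC1_0_r

/-- The size of an orbit. -/
def treeC1_1Size : ℕ :=
  975

/-- Part of `treeC1_1`. -/
noncomputable def treeC1_1_l : Arr (ℕ × ℕ × ℕ) :=
  (.node (3319,0,0) (.node (2373,0,2) (.node (2450,1,2) (.node (3268,3,2) (.node (3949,7,3) (.node (3750,17,0) (.node (3900,36,0) (.node (3607,77,0) (.node (2423,183,2) .nil .nil) (.node (2781,335,3) .nil .nil)) (.node (3681,127,1) (.node (3477,246,2) .nil .nil) (.node (3144,500,3) .nil .nil))) (.node (3523,56,2) (.node (2446,100,1) (.node (3377,215,0) .nil .nil) (.node (2420,404,1) .nil .nil)) (.node (3711,155,1) (.node (2685,289,3) .nil .nil) (.node (3639,659,3) .nil .nil)))) (.node (2872,26,3) (.node (3656,46,0) (.node (3677,90,2) (.node (3428,198,1) .nil .nil) (.node (3274,367,1) .nil .nil)) (.node (3824,140,2) (.node (2618,268,1) .nil .nil) (.node (3550,554,3) .nil .nil))) (.node (2576,67,2) (.node (3187,112,2) (.node (2672,228,1) .nil .nil) (.node (2989,444,1)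 .nil .nil)) (.node (3799,169,1) (.node (2363,307,1) .nil .nil) .nil)))) (.node (3411,12,3) (.node (3303,22,0) (.node (2337,41,0) (.node (3950,82,0) (.node (2479,190,0) .nil .nil) (.node (3655,352,3) .nil .nil)) (.node (2906,133,0) (.node (3830,260,3) .nil .nil) (.node (2517,519,1) .nil .nil))) (.node (2309,61,2) (.node (2820,106,1) (.node (3869,221,3) .nil .nil) (.node (2534,421,3) .nil .nil)) (.node (3331,162,3) (.node (3498,299,2) .nil .nil) .nil))) (.node (3086,31,0) (.node (2482,50,3) (.node (3079,95,3) (.node (2498,206,2) .nil .nil) (.node (4042,384,0) .nil .nil)) (.node (2431,149,0) (.node (3864,280,0) .nil .nil) (.node (3307,609,3) .nil .nil))) (.node (2752,72,1) (.node (2854,120,3) (.node (3169,236,3) .nil .nil) (.node (2661,471,3) .nil .nil)) (.node (2398,176,2) (.node (2654,321,1) .nil .nil) .nil))))) (.node (2322,5,3) (.node (3535,10,1) (.node (4054,19,1) (.node (2959,38,3) (.node (3723,79,3) (.node (3875,186,1) .nil .nil) (.node (3340,344,0) .nil .nil)) (.node (2543,131,0) (.node (3634,254,1) .nil .nil) (.node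 (2350,508,1) .nil .nil))) (.node (2757,58,3) (.node (2489,103,3) (.node (3782,218,0) .nil .nil) (.node (3673,412,1) .nil .nil)) (.node (3932,158,1) (.node (2473,293,3) .nil .nil) (.node (3691,709,1) .nil .nil)))) (.node (3854,29,0) (.node (2866,48,2) (.node (3908,93,2) (.node (2478,202,3) .nil .nil) (.node (2689,376,1) .nil .nil)) (.node (2892,144,0) (.node (3482,272,3) .nil .nil) (.node (2693,590,2) .nil .nil))) (.node (3474,70,0) (.node (3364,116,1) (.node (3104,231,3) .nil .nil) (.node (3530,456,1) .nil .nil)) (.node (3045,173,2) (.node (3841,315,1) .nil .nil) .nil)))) (.node (3078,14,3) (.node (3367,24,2) (.node (2390,43,3) (.node (3791,87,0) (.node (2745,193,1) .nil .nil) (.node (2678,361,3) .nil .nil)) (.node (3770,137,3) (.node (3452,264,1) .nil .nil) (.node (3866,534,0) .nil .nil))) (.node (3030,64,2) (.node (3739,109,0) (.node (2593,225,1) .nil .nil) (.node (3441,433,1) .nil .nil)) (.node (2413,166,0) (.node (2645,303,1) .nil .nil) .nil))) (.node (3667,33,1) (.node (2841,53,1) (.node (2861,98,0) (.node (3679,211,2)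 .nil .nil) (.node (3933,391,3) .nil .nil)) (.node (3251,152,1) (.node (2580,285,1) .nil .nil) (.node (3559,624,0) .nil .nil))) (.node (3257,74,1) (.node (3486,123,1) (.node (2588,241,0) .nil .nil) (.node (2614,485,0) .nil .nil)) (.node (3547,180,1) (.node (2572,329,1) .nil .nil) .nil)))))) (.node (2716,2,2) (.node (2719,4,3) (.node (3579,9,1) (.node (2889,18,1) (.node (3765,37,0) (.node (3615,78,0) (.node (2559,184,3) .nil .nil) (.node (2468,338,3) .nil .nil)) (.node (2710,129,0) (.node (2821,248,1) .nil .nil) (.node (3569,506,0) .nil .nil))) (.node (3552,57,3) (.node (4015,101,2) (.node (3531,216,3) .nil .nil) (.node (2729,407,1) .nil .nil)) (.node (3350,157,0) (.node (2785,292,2) .nil .nil) (.node (3516,673,3) .nil .nil)))) (.node (3490,28,0) (.node (2550,47,0) (.node (3299,92,0) (.node (2971,200,2) .nil .nil) (.node (2788,375,0) .nil .nil)) (.node (2448,143,0) (.node (3654,269,3) .nil .nil) (.node (3415,568,0) .nil .nil))) (.node (3462,68,2) (.node (3269,114,2) (.node (3237,230,0) .nil .nil) (.node (3067,450,1) .nil .nil))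 (.node (3447,171,0) (.node (3509,311,2) .nil .nil) .nil)))) (.node (2759,13,3) (.node (3392,23,1) (.node (2540,42,2) (.node (3210,83,3) (.node (2760,191,2) .nil .nil) (.node (2691,356,3) .nil .nil)) (.node (2725,134,3) (.node (3010,262,2) .nil .nil) (.node (3181,526,3) .nil .nil))) (.node (2736,63,2) (.node (3165,107,3) (.node (3021,223,0) .nil .nil) (.node (3541,430,2) .nil .nil)) (.node (2669,164,3) (.node (3573,301,2) .nil .nil) .nil))) (.node (2702,32,1) (.node (2686,52,0) (.node (2610,96,3) (.node (3339,209,0) .nil .nil) (.node (3051,388,2) .nil .nil)) (.node (2715,150,1) (.node (3505,283,1) .nil .nil) (.node (4023,616,0) .nil .nil))) (.node (2656,73,1) (.node (3818,122,0) (.node (3990,240,0) .nil .nil) (.node (3295,479,0) .nil .nil)) (.node (2733,178,1) (.node (3642,325,2) .nil .nil) .nil))))) (.node (3476,6,3) (.node (2428,11,2) (.node (3602,21,0) (.node (3100,40,0) (.node (2732,81,0) (.node (3011,188,1) .nil .nil) (.node (2749,348,3) .nil .nil)) (.node (3002,132,0) (.node (3155,257,3) .nil .nil) (.node (3899,513,2)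 .nil .nil))) (.node (3397,60,2) (.node (3089,105,1) (.node (3829,219,1) .nil .nil) (.node (4006,414,2) .nil .nil)) (.node (2512,160,1) (.node (2457,297,0) .nil .nil) (.node (3731,749,0) .nil .nil)))) (.node (3151,30,0) (.node (3616,49,3) (.node (2601,94,2) (.node (3856,205,2) .nil .nil) (.node (3341,380,1) .nil .nil)) (.node (3202,146,3) (.node (2926,274,1) .nil .nil) (.node (3072,599,2) .nil .nil))) (.node (3528,71,0) (.node (2370,119,0) (.node (3931,234,0) .nil .nil) (.node (2554,461,0) .nil .nil)) (.node (3804,175,0) (.node (2579,316,3) .nil .nil) .nil)))) (.node (3123,15,3) (.node (3520,25,3) (.node (3934,45,0) (.node (3006,89,2) (.node (3865,196,0) .nil .nil) (.node (3619,364,2) .nil .nil)) (.node (2887,139,1) (.node (2804,265,1) .nil .nil) (.node (4040,545,0) .nil .nil))) (.node (3450,65,3) (.node (2607,110,3) (.node (3211,227,0) .nil .nil) (.node (3885,439,0) .nil .nil)) (.node (2416,167,2) (.node (3227,305,3) .nil .nil) .nil))) (.node (3546,34,3) (.node (2590,54,3) (.node (3248,99,1) (.node (2507,213,0) .nil .nil)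 (.node (3458,396,0) .nil .nil)) (.node (3588,153,2) (.node (2714,287,3) .nil .nil) (.node (2340,639,1) .nil .nil))) (.node (3784,75,2) (.node (3404,125,0) (.node (3298,244,2) .nil .nil) (.node (3483,491,0) .nil .nil)) (.node (3262,181,1) (.node (3391,333,0) .nil .nil) .nil))))))) (.node (3727,1,0) (.node (3022,2,0) (.node (3540,4,0) (.node (2574,8,3) (.node (2441,17,2) (.node (3884,36,2) (.node (3405,77,2) (.node (2493,184,1) .nil .nil) (.node (3081,338,0) .nil .nil)) (.node (3794,128,0) (.node (2770,247,0) .nil .nil) (.node (3715,504,3) .nil .nil))) (.node (3075,57,0) (.node (3098,100,3) (.node (3472,216,0) .nil .nil) (.node (4041,406,2) .nil .nil)) (.node (2494,155,3) (.node (2730,291,1) .nil .nil) (.node (2671,668,0) .nil .nil)))) (.node (2566,27,1) (.node (2372,46,2) (.node (2359,91,0) (.node (2452,199,1) .nil .nil) (.node (3479,372,1) .nil .nil)) (.node (3395,141,3) (.node (3741,268,3) .nil .nil) (.node (3703,558,0) .nil .nil))) (.node (2731,68,0) (.node (2412,113,3) (.node (3695,229,1) .nil .nil) (.node (2765,449,0)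 .nil .nil)) (.node (4047,170,0) (.node (3077,309,3) .nil .nil) .nil)))) (.node (2578,13,1) (.node (3597,22,2) (.node (2849,42,0) (.node (3433,83,0) (.node (2791,191,0) .nil .nil) (.node (2748,354,1) .nil .nil)) (.node (3942,134,0) (.node (2481,261,1) .nil .nil) (.node (3344,523,2) .nil .nil))) (.node (2313,62,1) (.node (2708,107,0) (.node (3214,222,2) .nil .nil) (.node (2860,425,3) .nil .nil)) (.node (3291,163,2) (.node (2596,300,3) .nil .nil) .nil))) (.node (3020,31,3) (.node (2353,51,1) (.node (2817,96,1) (.node (3683,208,2) .nil .nil) (.node (2389,385,3) .nil .nil)) (.node (3921,149,3) (.node (2822,281,1) .nil .nil) (.node (3589,614,0) .nil .nil))) (.node (2634,72,3) (.node (3898,121,2) (.node (3837,237,3) .nil .nil) (.node (3797,476,0) .nil .nil)) (.node (3176,177,0) (.node (3855,323,2) .nil .nil) .nil))))) (.node (2307,6,1) (.node (2819,10,3) (.node (2471,20,1) (.node (3592,39,2) (.node (2615,80,1) (.node (3584,187,1) .nil .nil) (.node (2894,346,0) .nil .nil)) (.node (2844,131,2) (.node (3868,256,3) .nil .nil) (.node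 (2704,512,0) .nil .nil))) (.node (3430,59,3) (.node (3744,104,2) (.node (2750,218,2) .nil .nil) (.node (3320,414,0) .nil .nil)) (.node (3945,159,3) (.node (3188,295,2) .nil .nil) (.node (4003,740,0) .nil .nil)))) (.node (3640,29,2) (.node (3478,49,1) (.node (2483,94,0) (.node (3971,204,1) .nil .nil) (.node (3361,379,3) .nil .nil)) (.node (3756,145,2) (.node (4009,273,2) .nil .nil) (.node (3412,597,0) .nil .nil))) (.node (4045,70,2) (.node (2994,118,1) (.node (2646,233,1) .nil .nil) (.node (2923,459,3) .nil .nil)) (.node (2321,174,2) (.node (3475,316,0) .nil .nil) .nil)))) (.node (2571,15,1) (.node (2318,25,1) (.node (2800,44,1) (.node (3092,87,2) (.node (2556,195,0) .nil .nil) (.node (3004,362,1) .nil .nil)) (.node (3426,138,3) (.node (2836,264,3) .nil .nil) (.node (3173,542,2) .nil .nil))) (.node (3938,65,1) (.node (3755,109,3) (.node (3286,226,1) .nil .nil) (.node (3848,435,2) .nil .nil)) (.node (2874,166,2) (.node (3663,304,2) .nil .nil) .nil))) (.node (3697,34,1) (.node (4038,53,3) (.node (3252,98,3) (.node (2417,212,1)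 .nil .nil) (.node (2487,393,1) .nil .nil)) (.node (2480,153,0) (.node (3024,286,2) .nil .nil) (.node (3164,628,2) .nil .nil))) (.node (2575,75,0) (.node (2963,124,1) (.node (2867,241,3) .nil .nil) (.node (3761,489,1) .nil .nil)) (.node (2694,180,3) (.node (2644,331,2) .nil .nil) .nil)))))) (.node (3978,3,0) (.node (3140,5,1) (.node (2833,9,3) (.node (3836,18,3) (.node (2510,38,1) (.node (2310,78,3) (.node (2339,185,1) .nil .nil) (.node (3233,342,0) .nil .nil)) (.node (2403,129,3) (.node (2606,250,2) .nil .nil) (.node (3517,506,2) .nil .nil))) (.node (4001,58,1) (.node (2767,103,0) (.node (3073,217,1) .nil .nil) (.node (3103,411,0) .nil .nil)) (.node (4002,157,3) (.node (2518,293,1) .nil .nil) (.node (3345,687,1) .nil .nil)))) (.node (3624,28,2) (.node (2404,48,0) (.node (2967,92,2) (.node (3876,202,0) .nil .nil) (.node (3001,375,3) .nil .nil)) (.node (3600,143,2) (.node (2839,271,3) .nil .nil) (.node (3682,581,3) .nil .nil))) (.node (3566,69,1) (.node (2935,115,2) (.node (2893,231,0) .nil .nil) (.node (2379,452,1) .nil .nil))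 (.node (2633,172,1) (.node (3676,312,1) .nil .nil) .nil)))) (.node (3228,14,1) (.node (3590,24,0) (.node (3387,43,1) (.node (3465,85,2) (.node (3221,192,0) .nil .nil) (.node (2701,359,1) .nil .nil)) (.node (2425,136,3) (.node (3518,263,1) .nil .nil) (.node (2351,531,3) .nil .nil))) (.node (3057,64,0) (.node (2908,108,2) (.node (3406,224,0) .nil .nil) (.node (2626,432,0) .nil .nil)) (.node (2978,165,1) (.node (3902,302,2) .nil .nil) .nil))) (.node (3102,32,3) (.node (2966,52,2) (.node (3488,97,2) (.node (3823,210,0) .nil .nil) (.node (3768,391,1) .nil .nil)) (.node (2779,150,3) (.node (2768,284,0) .nil .nil) (.node (2592,619,2) .nil .nil))) (.node (3678,73,3) (.node (3041,122,3) (.node (3062,240,2) .nil .nil) (.node (2673,480,1) .nil .nil)) (.node (3105,179,1) (.node (3384,327,1) .nil .nil) .nil))))) (.node (3063,7,1) (.node (2917,12,0) (.node (3429,21,2) (.node (2333,40,2) (.node (3080,81,2) (.node (3484,189,1) .nil .nil) (.node (3159,351,2) .nil .nil)) (.node (4027,132,2) (.node (3083,259,0) .nil .nil) (.node (4004,516,3)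 .nil .nil))) (.node (2600,61,0) (.node (3924,105,3) (.node (3473,221,0) .nil .nil) (.node (3651,416,2) .nil .nil)) (.node (3737,161,3) (.node (3596,298,0) .nil .nil) (.node (3401,781,1) .nil .nil)))) (.node (2901,30,2) (.node (2503,50,1) (.node (2474,95,0) (.node (3692,206,0) .nil .nil) (.node (3751,382,3) .nil .nil)) (.node (2712,147,2) (.node (3271,276,3) .nil .nil) (.node (2829,603,1) .nil .nil))) (.node (2662,71,2) (.node (2455,120,0) (.node (3097,235,2) .nil .nil) (.node (3247,470,1) .nil .nil)) (.node (2871,175,3) (.node (2904,319,3) .nil .nil) .nil)))) (.node (3148,16,1) (.node (3059,26,1) (.node (3348,45,2) (.node (2381,90,0) (.node (2630,197,0) .nil .nil) (.node (3170,366,1) .nil .nil)) (.node (2331,140,0) (.node (3935,267,1) .nil .nil) (.node (3714,545,2) .nil .nil))) (.node (3648,67,0) (.node (2697,111,3) (.node (2636,227,3) .nil .nil) (.node (3336,440,1) .nil .nil)) (.node (3435,168,1) (.node (3508,306,2) .nil .nil) .nil))) (.node (3388,35,2) (.node (2383,55,1) (.node (3016,99,3) (.node (3984,214,1) .nil .nil)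 (.node (2651,396,3) .nil .nil)) (.node (3222,154,1) (.node (2523,289,0) .nil .nil) (.node (2863,650,0) .nil .nil))) (.node (3141,76,1) (.node (2924,125,3) (.node (3044,245,3) .nil .nil) (.node (3851,498,0) .nil .nil)) (.node (2762,182,0) (.node (3925,334,0) .nil .nil) .nil))))))))

/-- Part of `treeC1_1`. -/
noncomputable def treeC1_1_r : Arr (ℕ × ℕ × ℕ) :=
  (.node (3353,0,1) (.node (2940,0,3) (.node (3088,1,3) (.node (2402,3,3) (.node (3923,8,0) (.node (4020,17,1) (.node (3118,36,1) (.node (3880,77,1) (.node (2625,184,0) .nil .nil) (.node (2830,337,0) .nil .nil)) (.node (2623,127,3) (.node (3820,246,3) .nil .nil) (.node (3445,504,1) .nil .nil))) (.node (2802,56,3) (.node (2508,100,2) (.node (2561,215,1) .nil .nil) (.node (2659,405,1) .nil .nil)) (.node (2434,155,2) (.node (2357,290,3) .nil .nil) (.node (2520,664,0) .nil .nil)))) (.node (2692,27,0) (.node (3183,46,1) (.node (3453,90,3) (.node (3901,198,3) .nil .nil) (.node (2818,370,3) .nil .nil)) (.node (2921,141,1) (.node (2883,268,2) .nil .nil) (.node (2411,557,1) .nil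 .nil))) (.node (3749,67,3) (.node (2858,113,0) (.node (3376,228,3) .nil .nil) (.node (3241,446,0) .nil .nil)) (.node (3668,169,3) (.node (3432,308,0) .nil .nil) .nil)))) (.node (3983,13,0) (.node (3046,22,1) (.node (2497,41,1) (.node (2407,82,1) (.node (2699,190,1) .nil .nil) (.node (2721,354,0) .nil .nil)) (.node (4059,133,3) (.node (3537,261,0) .nil .nil) (.node (3347,520,0) .nil .nil))) (.node (3467,62,0) (.node (2780,106,3) (.node (3512,222,0) .nil .nil) (.node (2530,424,1) .nil .nil)) (.node (3082,163,1) (.node (3858,299,3) .nil .nil) .nil))) (.node (2717,31,1) (.node (3567,51,0) (.node (2864,96,0) (.node (2584,208,0) .nil .nil) (.node (2658,385,1) .nil .nil)) (.node (2910,149,1) (.node (2627,280,2) .nil .nil) (.node (3548,610,2) .nil .nil))) (.node (3461,72,2) (.node (2713,121,1) (.node (2842,237,0) .nil .nil) (.node (3409,474,3) .nil .nil)) (.node (3142,176,3) (.node (2341,323,1) .nil .nil) .nil))))) (.node (3240,6,0) (.node (3635,10,2) (.node (2563,20,0) (.node (2753,39,0) (.node (3109,80,0) (.node (3071,186,2) .nil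 .nil) (.node (3525,345,3) .nil .nil)) (.node (2617,131,1) (.node (3808,255,1) .nil .nil) (.node (3502,511,1) .nil .nil))) (.node (2616,59,1) (.node (3305,104,0) (.node (3558,218,1) .nil .nil) (.node (2783,413,0) .nil .nil)) (.node (2741,159,1) (.node (3334,295,0) .nil .nil) (.node (2568,710,0) .nil .nil)))) (.node (3158,29,1) (.node (3536,48,3) (.node (3126,93,3) (.node (2939,203,1) .nil .nil) (.node (3495,378,1) .nil .nil)) (.node (2856,144,2) (.node (3997,273,0) .nil .nil) (.node (3812,593,3) .nil .nil))) (.node (2986,70,1) (.node (3220,116,3) (.node (3136,232,3) .nil .nil) (.node (3316,458,1) .nil .nil)) (.node (3371,174,0) (.node (2536,315,3) .nil .nil) .nil)))) (.node (3213,15,0) (.node (2394,24,3) (.node (3125,44,0) (.node (3918,87,1) (.node (3969,194,3) .nil .nil) (.node (3264,362,0) .nil .nil)) (.node (2348,138,1) (.node (2415,264,2) .nil .nil) (.node (3965,536,3) .nil .nil))) (.node (2870,65,0) (.node (2641,109,2) (.node (3613,225,2) .nil .nil) (.node (3957,434,1) .nil .nil)) (.node (3843,166,1) (.node (2649,303,3)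 .nil .nil) .nil))) (.node (3416,33,3) (.node (2675,53,2) (.node (3693,98,1) (.node (4019,211,3) .nil .nil) (.node (3911,392,0) .nil .nil)) (.node (2977,152,2) (.node (3005,286,1) .nil .nil) (.node (2393,624,2) .nil .nil))) (.node (3368,74,2) (.node (2635,123,3) (.node (2418,241,1) .nil .nil) (.node (4021,485,1) .nil .nil)) (.node (3196,180,2) (.node (3043,329,2) .nil .nil) .nil)))))) (.node (2395,2,3) (.node (2589,5,0) (.node (3451,9,2) (.node (3360,18,2) (.node (2349,37,1) (.node (3905,78,1) (.node (2680,185,0) .nil .nil) (.node (2501,341,3) .nil .nil)) (.node (2475,129,1) (.node (2433,248,2) .nil .nil) (.node (3754,506,1) .nil .nil))) (.node (2406,58,0) (.node (3593,102,1) (.node (2314,217,0) .nil .nil) (.node (3134,408,2) .nil .nil)) (.node (3539,157,2) (.node (3386,293,0) .nil .nil) (.node (2541,684,1) .nil .nil)))) (.node (2409,28,1) (.node (2308,47,3) (.node (2311,92,1) (.node (2316,201,1) .nil .nil) (.node (2542,375,2) .nil .nil)) (.node (3766,143,1) (.node (3533,271,1) .nil .nil) (.node (3157,574,3) .nil .nil))) (.node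 (2931,68,3) (.node (2709,114,3) (.node (2470,230,3) .nil .nil) (.node (3235,450,3) .nil .nil)) (.node (3647,172,0) (.node (3526,312,0) .nil .nil) .nil)))) (.node (3487,14,0) (.node (2514,23,3) (.node (3117,43,0) (.node (3939,84,3) (.node (3803,191,3) .nil .nil) (.node (3338,357,0) .nil .nil)) (.node (3420,136,2) (.node (3436,262,3) .nil .nil) (.node (2884,527,0) .nil .nil))) (.node (2440,63,3) (.node (2569,108,1) (.node (3012,223,2) .nil .nil) (.node (3372,430,3) .nil .nil)) (.node (3410,165,0) (.node (3448,302,0) .nil .nil) .nil))) (.node (3054,32,2) (.node (3061,52,1) (.node (3827,97,1) (.node (3817,209,1) .nil .nil) (.node (2392,388,3) .nil .nil)) (.node (2843,150,2) (.node (2345,283,3) .nil .nil) (.node (2812,617,1) .nil .nil))) (.node (3688,73,2) (.node (3608,122,1) (.node (3328,240,1) .nil .nil) (.node (3375,480,0) .nil .nil)) (.node (3809,178,3) (.node (3956,326,2) .nil .nil) .nil))))) (.node (3357,7,0) (.node (2674,11,3) (.node (3549,21,1) (.node (3960,40,1) (.node (3326,81,1) (.node (4030,188,2) .nil .nil) (.node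 (3980,349,0) .nil .nil)) (.node (4049,132,1) (.node (3460,258,3) .nil .nil) (.node (2912,514,3) .nil .nil))) (.node (3970,60,3) (.node (3199,105,2) (.node (3351,220,1) .nil .nil) (.node (3685,415,2) .nil .nil)) (.node (2628,161,2) (.node (3786,297,2) .nil .nil) (.node (3178,762,3) .nil .nil)))) (.node (2613,30,1) (.node (3689,50,0) (.node (2317,94,3) (.node (2652,205,3) .nil .nil) (.node (2918,380,3) .nil .nil)) (.node (3000,147,1) (.node (3110,276,0) .nil .nil) (.node (2547,600,1) .nil .nil))) (.node (3463,71,1) (.node (3903,119,1) (.node (2825,235,1) .nil .nil) (.node (2621,468,0) .nil .nil)) (.node (3665,175,1) (.node (3115,318,3) .nil .nil) .nil)))) (.node (2914,16,0) (.node (2826,26,0) (.node (2972,45,1) (.node (3638,89,3) (.node (3050,196,2) .nil .nil) (.node (3438,365,1) .nil .nil)) (.node (3332,139,3) (.node (3662,266,3) .nil .nil) (.node (2885,545,1) .nil .nil))) (.node (3127,66,1) (.node (3112,111,1) (.node (2368,227,1) .nil .nil) (.node (3738,439,3) .nil .nil)) (.node (2758,167,3) (.node (3974,306,1) .nil .nil)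 .nil))) (.node (2953,35,0) (.node (2796,55,0) (.node (2983,99,2) (.node (2650,213,3) .nil .nil) (.node (2496,396,2) .nil .nil)) (.node (2346,154,0) (.node (3094,288,3) .nil .nil) (.node (4016,648,1) .nil .nil))) (.node (3959,75,3) (.node (2410,125,2) (.node (2913,245,1) .nil .nil) (.node (2739,493,0) .nil .nil)) (.node (2773,181,3) (.node (3207,333,1) .nil .nil) .nil))))))) (.node (2794,1,1) (.node (3150,2,1) (.node (2746,4,1) (.node (3276,9,0) (.node (3906,17,3) (.node (2387,36,3) (.node (3717,77,3) (.node (3894,184,2) .nil .nil) (.node (2595,338,2) .nil .nil)) (.node (2581,128,1) (.node (2376,247,2) .nil .nil) (.node (3393,505,1) .nil .nil))) (.node (3407,57,1) (.node (2335,101,0) (.node (3355,216,1) .nil .nil) (.node (3369,407,0) .nil .nil)) (.node (3439,156,3) (.node (2920,292,0) .nil .nil) (.node (3798,670,3) .nil .nil)))) (.node (3424,27,3) (.node (2320,46,3) (.node (2380,91,3) (.node (2653,199,3) .nil .nil) (.node (3598,374,2) .nil .nil)) (.node (2326,142,0) (.node (3108,269,1) .nil .nil) (.node (2624,560,3) .nil .nil)))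 (.node (2362,68,1) (.node (3962,114,0) (.node (2880,229,2) .nil .nil) (.node (2992,450,0) .nil .nil)) (.node (3191,170,1) (.node (3877,310,3) .nil .nil) .nil)))) (.node (3322,13,2) (.node (2460,22,3) (.node (3396,42,1) (.node (3413,83,2) (.node (3294,191,1) .nil .nil) (.node (2486,354,3) .nil .nil)) (.node (2790,134,1) (.node (3669,262,1) .nil .nil) (.node (2444,525,0) .nil .nil))) (.node (2744,63,1) (.node (3373,107,2) (.node (2366,222,3) .nil .nil) (.node (3471,430,1) .nil .nil)) (.node (2620,163,3) (.node (3302,301,1) .nil .nil) .nil))) (.node (2582,32,0) (.node (3690,51,3) (.node (3587,96,2) (.node (3343,208,3) .nil .nil) (.node (2670,386,3) .nil .nil)) (.node (2928,150,0) (.node (3096,281,3) .nil .nil) (.node (2795,614,2) .nil .nil))) (.node (2648,73,0) (.node (2532,121,3) (.node (2665,239,2) .nil .nil) (.node (3095,478,3) .nil .nil)) (.node (3561,177,1) (.node (3930,324,0) .nil .nil) .nil))))) (.node (4007,6,2) (.node (3352,11,1) (.node (3390,20,2) (.node (3093,39,3) (.node (2435,80,3) (.node (3649,188,0) .nil .nil)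 (.node (3131,348,2) .nil .nil)) (.node (2637,131,3) (.node (2324,257,0) .nil .nil) (.node (3874,513,1) .nil .nil))) (.node (2881,60,1) (.node (3167,105,0) (.node (3543,218,3) .nil .nil) (.node (2414,414,1) .nil .nil)) (.node (2491,160,0) (.node (2328,296,1) .nil .nil) (.node (2882,746,0) .nil .nil)))) (.node (2426,29,3) (.node (3565,49,2) (.node (2526,94,1) (.node (3937,205,1) .nil .nil) (.node (2405,380,0) .nil .nil)) (.node (2408,145,3) (.node (3610,273,3) .nil .nil) (.node (2369,599,0) .nil .nil))) (.node (3650,70,3) (.node (3687,118,2) (.node (4026,233,2) .nil .nil) (.node (3644,460,1) .nil .nil)) (.node (3195,174,3) (.node (3039,316,1) .nil .nil) .nil)))) (.node (2865,15,2) (.node (3356,25,2) (.node (3216,44,3) (.node (4055,87,3) (.node (3087,195,3) .nil .nil) (.node (4048,362,2) .nil .nil)) (.node (3890,139,0) (.node (3544,265,0) .nil .nil) (.node (3994,544,3) .nil .nil))) (.node (3783,65,2) (.node (3185,110,1) (.node (3832,226,3) .nil .nil) (.node (3632,438,1) .nil .nil)) (.node (3696,167,0) (.node (2877,305,1) .nil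 .nil) .nil))) (.node (4056,34,2) (.node (3844,54,1) (.node (3219,99,0) (.node (3601,212,3) .nil .nil) (.node (2463,395,2) .nil .nil)) (.node (3293,153,1) (.node (2386,287,1) .nil .nil) (.node (3862,631,3) .nil .nil))) (.node (2700,75,1) (.node (3671,124,3) (.node (2696,243,2) .nil .nil) (.node (3215,489,2) .nil .nil)) (.node (3366,181,0) (.node (2382,332,1) .nil .nil) .nil)))))) (.node (3529,3,1) (.node (3272,5,2) (.node (3664,10,0) (.node (2948,19,0) (.node (2667,38,2) (.node (2546,79,0) (.node (2987,185,3) .nil .nil) (.node (2837,343,0) .nil .nil)) (.node (3330,130,1) (.node (3370,253,2) .nil .nil) (.node (2707,506,3) .nil .nil))) (.node (3130,58,2) (.node (3423,103,2) (.node (2698,217,2) .nil .nil) (.node (3553,411,3) .nil .nil)) (.node (3743,158,0) (.node (3636,293,2) .nil .nil) (.node (3996,688,2) .nil .nil)))) (.node (3966,28,3) (.node (2763,48,1) (.node (2605,92,3) (.node (2461,202,2) .nil .nil) (.node (2502,376,0) .nil .nil)) (.node (3119,143,3) (.node (2642,272,1) .nil .nil) (.node (2764,589,2) .nil .nil))) (.node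 (4012,69,3) (.node (3760,115,3) (.node (3417,231,2) .nil .nil) (.node (2784,454,0) .nil .nil)) (.node (3778,172,2) (.node (2551,314,3) .nil .nil) .nil)))) (.node (3226,14,2) (.node (3861,24,1) (.node (3026,43,2) (.node (2384,86,3) (.node (2687,192,3) .nil .nil) (.node (2360,359,2) .nil .nil)) (.node (2565,137,0) (.node (3198,264,0) .nil .nil) (.node (2663,532,3) .nil .nil))) (.node (3670,64,1) (.node (2466,108,3) (.node (4017,224,3) .nil .nil) (.node (2442,433,0) .nil .nil)) (.node (3301,165,3) (.node (3146,302,3) .nil .nil) .nil))) (.node (4029,33,0) (.node (2315,52,3) (.node (3802,97,3) (.node (3998,210,1) .nil .nil) (.node (4018,391,2) .nil .nil)) (.node (2929,151,3) (.node (2462,284,3) .nil .nil) (.node (3733,621,2) .nil .nil))) (.node (2890,74,0) (.node (2527,123,0) (.node (3335,240,3) .nil .nil) (.node (2524,482,1) .nil .nil)) (.node (2608,179,3) (.node (3318,329,0) .nil .nil) .nil))))) (.node (3385,7,2) (.node (3427,12,1) (.node (3511,21,3) (.node (3311,40,3) (.node (2319,81,3) (.node (3612,189,3) .nil .nil) (.node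 (3289,352,0) .nil .nil)) (.node (3699,132,3) (.node (3560,260,0) .nil .nil) (.node (3991,517,3) .nil .nil))) (.node (3773,61,1) (.node (2869,106,0) (.node (2960,221,2) .nil .nil) (.node (3915,418,1) .nil .nil)) (.node (2488,162,0) (.node (2312,298,3) .nil .nil) (.node (3952,851,3) .nil .nil)))) (.node (2365,30,3) (.node (2306,50,2) (.node (2396,95,1) (.node (3177,206,1) .nil .nil) (.node (3358,383,1) .nil .nil)) (.node (2827,148,0) (.node (3466,278,1) .nil .nil) (.node (2964,608,1) .nil .nil))) (.node (2638,71,3) (.node (3329,120,1) (.node (2911,236,2) .nil .nil) (.node (2996,471,0) .nil .nil)) (.node (3538,176,0) (.node (2735,321,0) .nil .nil) .nil)))) (.node (2927,16,3) (.node (2981,26,2) (.node (3842,45,3) (.node (3425,90,1) (.node (2577,197,1) .nil .nil) (.node (2472,367,0) .nil .nil)) (.node (2361,140,1) (.node (3814,268,0) .nil .nil) (.node (3256,553,2) .nil .nil))) (.node (2982,67,1) (.node (2631,112,1) (.node (3440,228,0) .nil .nil) (.node (2586,442,2) .nil .nil)) (.node (3422,168,3) (.node (3605,307,0) .nil .nil)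 .nil))) (.node (3822,35,3) (.node (2916,56,0) (.node (3967,100,0) (.node (3380,214,3) .nil .nil) (.node (3193,397,3) .nil .nil)) (.node (2495,155,0) (.node (2970,289,2) .nil .nil) (.node (2831,655,1) .nil .nil))) (.node (2787,76,2) (.node (3646,126,0) (.node (3572,246,0) .nil .nil) (.node (3878,499,3) .nil .nil)) (.node (2564,182,1) (.node (3470,334,2) .nil .nil) .nil))))))))

/-- An orbit, with a spanning tree. -/
noncomputable def treeC1_1 : Arr (ℕ × ℕ × ℕ) :=
  .node (2305,0,0) treeC1_1_l treeC1_1_r

/-- The size of an orbit. -/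
def treeC2_0Size : ℕ :=
  78

/-- An orbit, with a spanning tree. -/
noncomputable def treeC2_0 : Arr (ℕ × ℕ × ℕ) :=
  (.node (304,0,0) (.node (2181,0,0) (.node (2118,0,2) (.node (633,1,2) (.node (2068,3,3) (.node (2134,9,1) (.node (629,25,1) .nil .nil) .nil) (.node (412,16,2) .nil .nil)) (.node (1605,6,1) (.node (2064,13,0) (.node (2194,33,1) .nil .nil) .nil) (.node (1331,20,2) .nil .nil))) (.node (1534,2,3) (.node (2237,5,1) (.node (1273,11,1) (.node (2304,29,0) .nil .nil) .nil) (.node (1832,19,0) .nil .nil)) (.node (2296,7,1) (.node (1258,15,0) (.node (622,40,0) .nil .nil) .nil) (.node (1651,22,3) .nil .nil)))) (.node (2024,1,0) (.node (1441,2,1) (.node (1963,4,1) (.node (1403,10,2) (.node (1572,27,0) .nil .nil) .nil) (.node (1569,18,0) .nil .nil)) (.node (2243,6,3) (.node (639,14,1) (.node (2062,37,0) .nil .nil) .nil) (.node (410,21,3) .nil .nil))) (.node (2301,3,1) (.node (1338,5,3) (.node (2287,12,0) (.node (2114,31,2) .nil .nil) .nil) (.node (627,19,3) .nil .nil)) (.node (1591,8,1) (.node (2142,15,3) (.node (1662,46,0)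 .nil .nil) .nil) (.node (1621,24,1) .nil .nil))))) (.node (1888,0,1) (.node (1638,0,3) (.node (1912,1,3) (.node (2198,4,0) (.node (2075,10,0) (.node (1322,25,3) .nil .nil) .nil) (.node (308,17,1) .nil .nil)) (.node (2286,6,2) (.node (1664,13,1) (.node (2205,35,0) .nil .nil) .nil) (.node (1812,20,3) .nil .nil))) (.node (2080,3,0) (.node (1384,5,2) (.node (1251,11,3) (.node (1278,30,3) .nil .nil) .nil) (.node (1408,19,1) .nil .nil)) (.node (2293,7,3) (.node (2189,15,1) (.node (2009,44,1) .nil .nil) .nil) (.node (1528,23,3) .nil .nil)))) (.node (1642,1,1) (.node (624,2,2) (.node (1976,4,3) (.node (1874,10,3) (.node (2207,27,3) .nil .nil) .nil) (.node (1911,18,1) .nil .nil)) (.node (1299,7,0) (.node (1316,14,3) (.node (1394,37,1) .nil .nil) .nil) (.node (2127,22,1) .nil .nil))) (.node (2071,3,2) (.node (1454,6,0) (.node (1380,12,1) (.node (1290,32,1) .nil .nil) .nil) (.node (1656,20,1) .nil .nil)) (.node (1617,8,3) (.node (1386,16,1) .nil .nil) (.node (2125,24,2) .nil .nil))))))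

/-- The size of an orbit. -/
def treeC2_1Size : ℕ :=
  300

/-- An orbit, with a spanning tree. -/
noncomputable def treeC2_1 : Arr (ℕ × ℕ × ℕ) :=
  (.node (37,0,0) (.node (477,0,0) (.node (1075,0,2) (.node (1752,1,2) (.node (1118,3,2) (.node (793,7,3) (.node (1050,16,3) (.node (506,40,2) (.node (492,120,2) .nil .nil) .nil) (.node (805,72,2) .nil .nil)) (.node (890,26,3) (.node (1034,53,2) (.node (1565,165,2) .nil .nil) .nil) (.node (541,90,2) .nil .nil))) (.node (1144,12,1) (.node (2035,22,0) (.node (405,47,2) (.node (392,138,2) .nil .nil) .nil) (.node (1011,80,3) .nil .nil)) (.node (406,33,0) (.node (369,61,0) .nil .nil) (.node (840,103,2) .nil .nil)))) (.node (172,5,3) (.node (816,10,0) (.node (293,19,0) (.node (623,45,0) (.node (534,128,0) .nil .nil) .nil) (.node (1393,77,2) .nil .nil)) (.node (2033,29,2) (.node (429,57,0) (.node (2303,200,3) .nil .nil) .nil) (.node (1567,96,3) .nil .nil))) (.node (1065,14,2) (.node (2041,24,1) (.node (1683,50,2) (.node (117,154,1) .nil .nil) .nil) (.node (1333,84,1) .nil .nil)) (.node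 (2295,36,3) (.node (46,66,3) .nil .nil) (.node (1087,113,0) .nil .nil))))) (.node (391,2,2) (.node (661,4,3) (.node (621,9,0) (.node (2038,17,3) (.node (811,43,0) (.node (375,124,0) .nil .nil) .nil) (.node (1327,75,0) .nil .nil)) (.node (48,28,1) (.node (889,55,0) (.node (771,193,2) .nil .nil) .nil) (.node (845,93,2) .nil .nil))) (.node (1138,13,2) (.node (1134,23,0) (.node (1717,48,3) (.node (1548,145,3) .nil .nil) .nil) (.node (464,82,0) .nil .nil)) (.node (1098,35,1) (.node (664,63,1) .nil .nil) (.node (387,109,3) .nil .nil)))) (.node (606,6,3) (.node (1114,11,0) (.node (1047,20,3) (.node (1142,46,1) (.node (326,132,1) .nil .nil) .nil) (.node (393,79,2) .nil .nil)) (.node (2029,31,3) (.node (72,59,0) (.node (426,227,0) .nil .nil) .nil) (.node (1001,99,1) .nil .nil))) (.node (2148,15,2) (.node (1106,25,3) (.node (529,52,0) (.node (2112,159,0) .nil .nil) .nil) (.node (468,87,2) .nil .nil)) (.node (1069,38,0) (.node (667,70,0) .nil .nil) (.node (1553,117,2) .nil .nil)))))) (.node (1149,1,0) (.node (1759,2,0) (.node (797,4,0)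 (.node (1319,8,1) (.node (2107,17,1) (.node (1055,41,2) (.node (1321,121,2) .nil .nil) .nil) (.node (508,73,0) .nil .nil)) (.node (1739,27,3) (.node (718,54,1) (.node (439,167,3) .nil .nil) .nil) (.node (596,92,3) .nil .nil))) (.node (538,13,0) (.node (372,22,2) (.node (1018,48,0) (.node (1129,144,1) .nil .nil) .nil) (.node (1578,81,2) .nil .nil)) (.node (486,34,0) (.node (1044,62,1) .nil .nil) (.node (59,106,3) .nil .nil)))) (.node (1337,6,1) (.node (2103,10,2) (.node (166,20,0) (.node (885,45,3) (.node (2083,131,2) .nil .nil) .nil) (.node (1092,78,1) .nil .nil)) (.node (2037,30,2) (.node (235,58,0) (.node (1077,213,0) .nil .nil) .nil) (.node (507,97,1) .nil .nil))) (.node (296,15,0) (.node (1677,24,3) (.node (49,51,1) (.node (1089,155,1) .nil .nil) .nil) (.node (598,85,0) .nil .nil)) (.node (785,37,1) (.node (2077,68,3) .nil .nil) (.node (2146,113,3) .nil .nil))))) (.node (1145,3,0) (.node (467,5,1) (.node (416,9,2) (.node (324,18,2) (.node (335,43,3) (.node (2277,125,1) .nil .nil) .nil) (.node (2268,76,2) .nil .nil)) (.node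 (620,28,3) (.node (843,56,0) (.node (290,197,1) .nil .nil) .nil) (.node (628,95,3) .nil .nil))) (.node (121,14,0) (.node (1611,23,3) (.node (39,49,1) (.node (482,149,3) .nil .nil) .nil) (.node (139,83,1) .nil .nil)) (.node (168,36,0) (.node (853,65,2) .nil .nil) (.node (780,111,3) .nil .nil)))) (.node (908,7,1) (.node (1045,11,3) (.node (1099,21,1) (.node (834,46,3) (.node (1344,135,2) .nil .nil) .nil) (.node (422,80,1) .nil .nil)) (.node (399,32,2) (.node (1068,60,1) .nil .nil) (.node (2045,101,0) .nil .nil))) (.node (390,16,0) (.node (2269,26,1) (.node (2097,53,0) (.node (374,161,0) .nil .nil) .nil) (.node (915,88,2) .nil .nil)) (.node (838,39,3) (.node (944,71,1) .nil .nil) (.node (386,120,0) .nil .nil))))))) (.node (2044,0,1) (.node (2057,0,3) (.node (1543,1,3) (.node (463,3,3) (.node (2061,8,0) (.node (433,17,0) (.node (1152,40,3) (.node (582,120,3) .nil .nil) .nil) (.node (850,72,3) .nil .nil)) (.node (2058,27,0) (.node (473,53,3) (.node (897,167,2) .nil .nil) .nil) (.node (134,91,0) .nil .nil))) (.node (2070,12,3) (.node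 (1750,22,1) (.node (698,47,3) (.node (442,139,2) .nil .nil) .nil) (.node (2153,81,1) .nil .nil)) (.node (1556,33,2) (.node (2054,61,1) .nil .nil) (.node (848,105,2) .nil .nil)))) (.node (630,6,0) (.node (1616,10,1) (.node (634,19,1) (.node (590,45,1) (.node (2055,131,1) .nil .nil) .nil) (.node (446,78,0) .nil .nil)) (.node (471,30,0) (.node (1053,57,1) (.node (2172,211,0) .nil .nil) .nil) (.node (402,97,0) .nil .nil))) (.node (436,14,3) (.node (481,24,2) (.node (400,51,0) (.node (570,154,3) .nil .nil) .nil) (.node (533,84,3) .nil .nil)) (.node (512,37,0) (.node (2092,67,1) .nil .nil) (.node (1757,113,1) .nil .nil))))) (.node (71,2,3) (.node (2065,5,0) (.node (342,9,1) (.node (798,18,1) (.node (713,43,1) (.node (413,124,3) .nil .nil) .nil) (.node (607,75,1) .nil .nil)) (.node (893,28,2) (.node (1315,55,2) (.node (2152,195,2) .nil .nil) .nil) (.node (176,94,3) .nil .nil))) (.node (221,13,3) (.node (62,23,1) (.node (459,49,0) (.node (329,149,1) .nil .nil) .nil) (.node (1613,82,3) .nil .nil)) (.node (763,35,2) (.node (679,64,0)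 .nil .nil) (.node (847,110,1) .nil .nil)))) (.node (212,7,0) (.node (1317,11,2) (.node (2156,21,0) (.node (1335,46,2) (.node (860,134,0) .nil .nil) .nil) (.node (614,80,0) .nil .nil)) (.node (815,32,0) (.node (435,59,2) .nil .nil) (.node (401,100,3) .nil .nil))) (.node (583,15,3) (.node (1627,26,0) (.node (394,52,3) (.node (950,160,1) .nil .nil) .nil) (.node (2063,88,1) .nil .nil)) (.node (886,38,1) (.node (1385,70,3) .nil .nil) (.node (113,119,3) .nil .nil)))))) (.node (319,1,1) (.node (1600,2,1) (.node (2273,4,1) (.node (789,8,3) (.node (1072,17,2) (.node (2074,41,3) (.node (1342,123,2) .nil .nil) .nil) (.node (2046,74,2) .nil .nil)) (.node (619,28,0) (.node (671,54,2) (.node (775,184,2) .nil .nil) .nil) (.node (2052,93,0) .nil .nil))) (.node (549,13,1) (.node (1594,22,3) (.node (2163,48,1) (.node (921,144,3) .nil .nil) .nil) (.node (2106,81,3) .nil .nil)) (.node (2006,34,1) (.node (724,62,2) .nil .nil) (.node (2294,108,3) .nil .nil)))) (.node (1332,6,2) (.node (1558,10,3) (.node (778,20,1) (.node (2051,46,0) (.node (754,132,0)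 .nil .nil) .nil) (.node (591,78,2) .nil .nil)) (.node (1081,30,3) (.node (601,58,3) (.node (807,214,2) .nil .nil) .nil) (.node (448,97,3) .nil .nil))) (.node (123,15,1) (.node (786,25,2) (.node (248,51,3) (.node (1051,157,2) .nil .nil) .nil) (.node (1041,86,3) .nil .nil)) (.node (1110,37,3) (.node (1027,69,2) .nil .nil) (.node (787,114,2) .nil .nil))))) (.node (496,3,1) (.node (640,5,2) (.node (445,9,3) (.node (2099,18,3) (.node (542,44,0) (.node (341,126,2) .nil .nil) .nil) (.node (799,76,3) .nil .nil)) (.node (1379,29,1) (.node (1148,56,1) (.node (417,199,2) .nil .nil) .nil) (.node (888,96,0) .nil .nil))) (.node (1561,14,1) (.node (2001,24,0) (.node (612,49,3) (.node (56,150,1) .nil .nil) .nil) (.node (609,84,0) .nil .nil)) (.node (933,36,2) (.node (613,66,2) .nil .nil) (.node (960,112,2) .nil .nil)))) (.node (1325,7,2) (.node (461,12,0) (.node (993,21,2) (.node (1140,47,1) (.node (806,137,1) .nil .nil) .nil) (.node (2302,80,2) .nil .nil)) (.node (857,32,3) (.node (700,60,3) .nil .nil) (.node (837,102,3) .nil .nil))) (.node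 (597,16,1) (.node (1598,26,2) (.node (2007,53,1) (.node (594,161,2) .nil .nil) .nil) (.node (1404,89,0) .nil .nil)) (.node (602,40,0) (.node (2159,72,0) .nil .nil) (.node (389,120,1) .nil .nil))))))))

/-- The size of an orbit. -/
def treeC2_2Size : ℕ :=
  300

/-- An orbit, with a spanning tree. -/
noncomputable def treeC2_2 : Arr (ℕ × ℕ × ℕ) :=
  (.node (91,0,0) (.node (1516,0,0) (.node (1506,0,2) (.node (149,1,2) (.node (1255,3,3) (.node (1848,9,1) (.node (1969,19,0) (.node (988,42,0) (.node (1504,121,2) .nil .nil) .nil) (.node (152,70,3) .nil .nil)) (.node (2280,31,2) (.node (2190,55,2) (.node (2228,175,2) .nil .nil) .nil) (.node (1266,96,0) .nil .nil))) (.node (1200,13,3) (.node (1602,25,2) (.node (674,48,3) (.node (1198,140,0) .nil .nil) .nil) (.node (1967,85,3) .nil .nil)) (.node (1593,37,1) (.node (1979,62,2) .nil .nil) (.node (2177,107,3) .nil .nil)))) (.node (1538,6,2) (.node (1844,11,3) (.node (1007,22,2) (.node (1459,46,0) (.node (1263,130,0) .nil .nil) .nil) (.node (532,77,3) .nil .nil)) (.node (1839,34,2) (.node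 (1244,58,3) (.node (766,214,2) .nil .nil) .nil) (.node (1641,99,3) .nil .nil))) (.node (1977,16,2) (.node (1860,27,3) (.node (1192,52,1) (.node (286,151,2) .nil .nil) .nil) (.node (1356,91,1) .nil .nil)) (.node (193,39,3) (.node (696,66,1) .nil .nil) (.node (970,112,0) .nil .nil))))) (.node (1276,2,3) (.node (1296,5,1) (.node (759,10,2) (.node (1347,20,1) (.node (1764,43,3) (.node (1738,126,3) .nil .nil) .nil) (.node (1472,73,0) .nil .nil)) (.node (1272,33,2) (.node (1898,57,1) (.node (1891,190,3) .nil .nil) .nil) (.node (1583,98,0) .nil .nil))) (.node (1253,15,0) (.node (1637,26,2) (.node (1010,49,3) (.node (980,143,3) .nil .nil) .nil) (.node (1524,88,0) .nil .nil)) (.node (1975,38,2) (.node (709,64,2) .nil .nil) (.node (1267,109,3) .nil .nil)))) (.node (1458,7,3) (.node (1362,12,3) (.node (1411,24,1) (.node (1712,47,1) (.node (1926,135,0) .nil .nil) .nil) (.node (1794,79,3) .nil .nil)) (.node (247,35,3) (.node (1630,60,3) (.node (1231,259,1) .nil .nil) .nil) (.node (488,102,3) .nil .nil))) (.node (1821,17,2) (.node (2236,29,0)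 (.node (1846,54,0) (.node (1932,163,1) .nil .nil) .nil) (.node (204,94,3) .nil .nil)) (.node (469,41,0) (.node (1996,68,1) .nil .nil) (.node (1410,115,0) .nil .nil)))))) (.node (1207,1,0) (.node (281,2,0) (.node (1939,4,1) (.node (539,10,0) (.node (804,19,3) (.node (1220,42,3) (.node (2154,125,1) .nil .nil) .nil) (.node (1982,71,1) .nil .nil)) (.node (236,32,0) (.node (1190,56,1) (.node (706,179,3) .nil .nil) .nil) (.node (131,97,2) .nil .nil))) (.node (142,14,2) (.node (1311,26,0) (.node (725,49,1) (.node (1921,142,1) .nil .nil) .nil) (.node (2215,87,1) .nil .nil)) (.node (1032,37,3) (.node (1875,64,0) .nil .nil) (.node (1268,109,0) .nil .nil)))) (.node (2247,7,0) (.node (1883,12,1) (.node (1889,23,0) (.node (1489,46,3) (.node (1930,133,0) .nil .nil) .nil) (.node (1905,79,0) .nil .nil)) (.node (1372,35,0) (.node (1348,59,2) (.node (742,235,1) .nil .nil) .nil) (.node (1261,101,3) .nil .nil))) (.node (1000,17,0) (.node (1549,28,2) (.node (1361,53,0) (.node (2249,156,0) .nil .nil) .nil) (.node (2192,93,1) .nil .nil)) (.node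 (2136,40,2) (.node (1931,67,1) .nil .nil) (.node (1962,112,3) .nil .nil))))) (.node (1471,3,1) (.node (291,5,3) (.node (1239,11,0) (.node (1897,20,3) (.node (1513,44,3) (.node (2242,127,3) .nil .nil) .nil) (.node (961,74,2) .nil .nil)) (.node (1816,34,0) (.node (1589,58,0) (.node (1288,198,0) .nil .nil) .nil) (.node (1452,99,0) .nil .nil))) (.node (160,15,3) (.node (1824,27,0) (.node (1004,51,2) (.node (1882,146,1) .nil .nil) .nil) (.node (288,90,1) .nil .nil)) (.node (1795,39,0) (.node (1870,65,1) .nil .nil) (.node (1956,110,2) .nil .nil)))) (.node (201,8,3) (.node (271,13,1) (.node (1908,25,0) (.node (552,48,1) (.node (2027,136,2) .nil .nil) .nil) (.node (1037,81,3) .nil .nil)) (.node (1868,36,3) (.node (1902,61,2) .nil .nil) (.node (283,105,0) .nil .nil))) (.node (1201,18,0) (.node (884,30,2) (.node (1951,54,2) (.node (1245,167,1) .nil .nil) .nil) (.node (749,95,2) .nil .nil)) (.node (895,41,2) (.node (1491,69,1) .nil .nil) (.node (1800,118,2) .nil .nil))))))) (.node (1770,0,1) (.node (1606,0,3) (.node (1894,1,3) (.node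 (262,4,0) (.node (1970,9,3) (.node (2252,19,2) (.node (1124,42,1) (.node (1646,122,0) .nil .nil) .nil) (.node (2032,71,0) .nil .nil)) (.node (1455,31,3) (.node (1368,55,3) (.node (2098,177,1) .nil .nil) .nil) (.node (1357,97,0) .nil .nil))) (.node (259,14,0) (.node (1417,25,3) (.node (1256,49,0) (.node (1557,142,0) .nil .nil) .nil) (.node (2004,86,2) .nil .nil)) (.node (1978,37,2) (.node (1968,63,2) .nil .nil) (.node (2211,108,1) .nil .nil)))) (.node (1422,6,3) (.node (2235,12,0) (.node (213,22,3) (.node (1355,46,2) (.node (1205,131,0) .nil .nil) .nil) (.node (2244,78,0) .nil .nil)) (.node (1954,34,3) (.node (2238,59,1) (.node (1224,220,1) .nil .nil) .nil) (.node (1349,101,0) .nil .nil))) (.node (1127,16,3) (.node (1943,28,1) (.node (92,52,2) (.node (1568,151,3) .nil .nil) .nil) (.node (745,93,0) .nil .nil)) (.node (2111,40,0) (.node (2255,67,0) .nil .nil) (.node (1024,112,2) .nil .nil))))) (.node (1249,3,0) (.node (1460,5,2) (.node (1280,10,3) (.node (1826,20,2) (.node (1916,44,0) (.node (2272,127,0) .nil .nil) .nil) (.node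 (1772,74,0) .nil .nil)) (.node (2093,33,3) (.node (266,57,2) (.node (1522,193,0) .nil .nil) .nil) (.node (2086,98,2) .nil .nil))) (.node (1375,15,1) (.node (1678,26,3) (.node (1519,50,3) (.node (571,145,1) .nil .nil) .nil) (.node (1720,89,3) .nil .nil)) (.node (155,38,3) (.node (1203,64,3) .nil .nil) (.node (1639,110,1) .nil .nil)))) (.node (1836,8,0) (.node (1019,13,0) (.node (1446,24,3) (.node (1234,48,0) (.node (2173,136,1) .nil .nil) .nil) (.node (363,80,1) .nil .nil)) (.node (743,36,0) (.node (2248,61,1) .nil .nil) (.node (1947,104,0) .nil .nil))) (.node (1984,17,3) (.node (2250,29,3) (.node (313,54,1) (.node (1896,166,3) .nil .nil) .nil) (.node (1227,95,1) .nil .nil)) (.node (220,41,1) (.node (1271,68,3) .nil .nil) (.node (1814,117,2) .nil .nil)))))) (.node (1515,1,1) (.node (996,2,2) (.node (2133,4,3) (.node (1536,10,1) (.node (1918,20,0) (.node (1863,43,1) (.node (2141,125,3) .nil .nil) .nil) (.node (2240,72,1) .nil .nil)) (.node (1768,32,1) (.node (1934,57,0) (.node (1880,183,2) .nil .nil) .nil) (.node (1510,97,3)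 .nil .nil))) (.node (1468,14,3) (.node (2265,26,1) (.node (2253,49,2) (.node (1508,142,3) .nil .nil) .nil) (.node (364,87,3) .nil .nil)) (.node (1830,38,0) (.node (1935,64,1) .nil .nil) (.node (2137,109,1) .nil .nil)))) (.node (1923,7,2) (.node (1993,12,2) (.node (2226,23,2) (.node (1016,47,0) (.node (1899,134,0) .nil .nil) .nil) (.node (1259,79,2) .nil .nil)) (.node (318,35,2) (.node (1592,59,3) (.node (2026,244,0) .nil .nil) .nil) (.node (1614,102,0) .nil .nil))) (.node (1900,17,1) (.node (1500,28,3) (.node (2151,53,1) (.node (2182,159,2) .nil .nil) .nil) (.node (1964,93,3) .nil .nil)) (.node (1707,40,3) (.node (1864,67,3) .nil .nil) (.node (316,114,0) .nil .nil))))) (.node (1999,3,2) (.node (1920,6,0) (.node (1973,11,1) (.node (1470,22,1) (.node (1371,45,0) (.node (1447,129,0) .nil .nil) .nil) (.node (1532,76,3) .nil .nil)) (.node (1262,34,1) (.node (2276,58,2) (.node (198,209,1) .nil .nil) .nil) (.node (1699,99,1) .nil .nil))) (.node (2251,16,0) (.node (1796,27,1) (.node (1464,51,3) (.node (1998,148,0) .nil .nil) .nil)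 (.node (694,91,0) .nil .nil)) (.node (1704,39,1) (.node (1866,66,0) .nil .nil) (.node (1270,111,2) .nil .nil)))) (.node (2220,9,0) (.node (1847,13,2) (.node (1505,25,1) (.node (1903,48,2) (.node (810,139,3) .nil .nil) .nil) (.node (1684,82,0) .nil .nil)) (.node (1304,37,0) (.node (1904,62,0) .nil .nil) (.node (1865,106,3) .nil .nil))) (.node (1929,18,1) (.node (1928,30,3) (.node (2224,55,0) (.node (1980,170,1) .nil .nil) .nil) (.node (1901,95,3) .nil .nil)) (.node (1914,41,3) (.node (1862,70,2) .nil .nil) (.node (2166,119,3) .nil .nil))))))))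

/-- The size of an orbit. -/
def treeC2_3Size : ℕ :=
  650

/-- Part of `treeC2_3`. -/
noncomputable def treeC2_3_l : Arr (ℕ × ℕ × ℕ) :=
  (.node (710,0,0) (.node (1833,0,2) (.node (783,1,2) (.node (1727,3,2) (.node (5,7,3) (.node (370,16,3) (.node (69,37,0) (.node (966,86,3) (.node (1204,232,0) .nil .nil) .nil) (.node (660,144,1) (.node (208,451,0) .nil .nil) .nil)) (.node (770,59,0) (.node (852,112,3) (.node (873,298,0) .nil .nil) .nil) (.node (923,183,3) .nil .nil))) (.node (438,26,3) (.node (1461,47,3) (.node (58,99,1) (.node (186,263,2) .nil .nil) .nil) (.node (243,165,1) .nil .nil)) (.node (1895,71,3) (.node (795,127,3) (.node (949,351,3) .nil .nil) .nil) (.node (1497,200,2) .nil .nil)))) (.node (323,12,1) (.node (1108,21,3) (.node (559,43,1) (.node (912,93,0) (.node (642,245,3) .nil .nil) .nil) (.node (1762,154,0) .nil .nil)) (.node (1879,66,0) (.node (33,121,3) (.node (1713,315,3) .nil .nil) .nil) (.node (1248,190,1) .nil .nil))) (.node (1091,31,3) (.node (2139,54,1) (.node (1100,105,1) (.node (11,283,3) .nil .nil)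 .nil) (.node (1063,176,1) .nil .nil)) (.node (920,79,3) (.node (562,135,3) (.node (1209,381,2) .nil .nil) .nil) (.node (161,212,2) .nil .nil))))) (.node (449,5,3) (.node (1987,10,0) (.node (1737,19,1) (.node (22,40,0) (.node (989,90,1) (.node (2164,238,0) .nil .nil) .nil) (.node (150,147,3) (.node (145,521,1) .nil .nil) .nil)) (.node (361,61,3) (.node (1545,118,0) (.node (903,305,0) .nil .nil) .nil) (.node (824,187,1) .nil .nil))) (.node (338,29,0) (.node (67,50,3) (.node (647,102,1) (.node (687,271,2) .nil .nil) .nil) (.node (1647,170,1) .nil .nil)) (.node (1961,75,0) (.node (30,133,0) (.node (1496,364,2) .nil .nil) .nil) (.node (1838,206,0) .nil .nil)))) (.node (1776,14,2) (.node (252,24,2) (.node (720,45,3) (.node (65,96,0) (.node (1740,254,1) .nil .nil) .nil) (.node (1021,160,2) .nil .nil)) (.node (560,69,0) (.node (1415,125,1) (.node (774,337,2) .nil .nil) .nil) (.node (1469,195,0) .nil .nil))) (.node (475,34,1) (.node (164,57,0) (.node (237,109,1) (.node (1252,292,2) .nil .nil) .nil) (.node (595,179,1) .nil .nil)) (.node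 (752,82,1) (.node (197,140,0) (.node (985,417,0) .nil .nil) .nil) (.node (1544,221,3) .nil .nil)))))) (.node (230,2,2) (.node (2090,4,3) (.node (52,9,0) (.node (1986,17,3) (.node (8,39,0) (.node (1028,88,1) (.node (744,236,2) .nil .nil) .nil) (.node (1689,146,2) (.node (1424,465,3) .nil .nil) .nil)) (.node (111,60,1) (.node (1413,116,0) (.node (1586,302,2) .nil .nil) .nil) (.node (756,185,1) .nil .nil))) (.node (122,28,0) (.node (175,49,0) (.node (1161,101,0) (.node (101,268,2) .nil .nil) .nil) (.node (70,166,2) .nil .nil)) (.node (864,73,0) (.node (2131,130,2) (.node (1235,359,3) .nil .nil) .nil) (.node (1992,202,3) .nil .nil)))) (.node (1665,13,2) (.node (2221,23,0) (.node (1359,44,2) (.node (1632,94,1) (.node (877,249,3) .nil .nil) .nil) (.node (498,156,2) .nil .nil)) (.node (1501,67,1) (.node (2012,123,1) (.node (14,327,0) .nil .nil) .nil) (.node (1040,192,1) .nil .nil))) (.node (353,32,3) (.node (1291,55,1) (.node (185,107,2) (.node (93,289,0) .nil .nil) .nil) (.node (241,178,0) .nil .nil)) (.node (916,81,1) (.node (551,137,0)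 (.node (714,401,3) .nil .nil) .nil) (.node (2036,215,0) .nil .nil))))) (.node (1197,6,3) (.node (38,11,1) (.node (1105,20,2) (.node (516,41,3) (.node (1423,92,0) (.node (457,243,2) .nil .nil) .nil) (.node (103,151,0) .nil .nil)) (.node (1706,64,2) (.node (1038,119,3) (.node (1950,312,0) .nil .nil) .nil) (.node (663,188,2) .nil .nil))) (.node (325,30,2) (.node (1714,52,1) (.node (910,103,2) (.node (1774,275,0) .nil .nil) .nil) (.node (120,173,0) .nil .nil)) (.node (981,77,3) (.node (141,134,0) (.node (409,369,3) .nil .nil) .nil) (.node (116,209,1) .nil .nil)))) (.node (2087,15,2) (.node (1448,25,3) (.node (1164,46,3) (.node (1031,97,1) (.node (1539,259,0) .nil .nil) .nil) (.node (1745,162,1) .nil .nil)) (.node (1184,70,1) (.node (832,126,3) (.node (511,345,3) .nil .nil) .nil) (.node (36,197,2) .nil .nil))) (.node (659,36,0) (.node (1058,58,0) (.node (178,110,3) (.node (357,295,3) .nil .nil) .nil) (.node (1154,182,3) .nil .nil)) (.node (952,83,2) (.node (1715,141,1) (.node (578,431,1) .nil .nil) .nil) (.node (545,225,3) .nil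 .nil))))))) (.node (125,1,0) (.node (649,2,0) (.node (655,4,0) (.node (44,8,1) (.node (1351,17,1) (.node (940,37,2) (.node (572,87,3) (.node (1478,234,0) .nil .nil) .nil) (.node (10,145,1) (.node (1679,458,0) .nil .nil) .nil)) (.node (336,59,2) (.node (441,114,0) (.node (272,299,1) .nil .nil) .nil) (.node (849,184,2) .nil .nil))) (.node (98,27,1) (.node (86,48,1) (.node (1676,100,0) (.node (200,266,3) .nil .nil) .nil) (.node (301,166,0) .nil .nil)) (.node (203,72,1) (.node (1857,128,2) (.node (108,354,3) .nil .nil) .nil) (.node (1799,201,2) .nil .nil)))) (.node (760,13,0) (.node (869,22,2) (.node (31,43,3) (.node (1910,93,3) (.node (2084,249,1) .nil .nil) .nil) (.node (654,155,1) .nil .nil)) (.node (935,66,3) (.node (1667,122,1) (.node (360,320,0) .nil .nil) .nil) (.node (26,191,0) .nil .nil))) (.node (561,32,1) (.node (1701,54,3) (.node (50,106,3) (.node (64,286,3) .nil .nil) .nil) (.node (202,177,0) .nil .nil)) (.node (1666,80,2) (.node (689,136,2) (.node (1946,390,1) .nil .nil) .nil) (.node (205,213,2) .nil .nil))))) (.node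 (528,6,1) (.node (362,10,2) (.node (1082,20,0) (.node (17,40,3) (.node (958,90,3) (.node (587,242,2) .nil .nil) .nil) (.node (683,149,2) (.node (1070,546,3) .nil .nil) .nil)) (.node (1183,62,2) (.node (340,119,0) (.node (579,308,3) .nil .nil) .nil) (.node (373,188,0) .nil .nil))) (.node (997,29,2) (.node (861,51,2) (.node (1716,103,0) (.node (51,273,3) .nil .nil) .nil) (.node (1085,172,1) .nil .nil)) (.node (1196,75,2) (.node (929,133,2) (.node (1765,365,2) .nil .nil) .nil) (.node (1113,207,0) .nil .nil)))) (.node (800,15,0) (.node (153,25,1) (.node (158,46,1) (.node (657,96,3) (.node (500,255,1) .nil .nil) .nil) (.node (927,161,2) .nil .nil)) (.node (1834,69,3) (.node (12,125,3) (.node (819,344,0) .nil .nil) .nil) (.node (1801,195,2) .nil .nil))) (.node (2021,35,2) (.node (167,57,2) (.node (1531,110,1) (.node (25,293,2) .nil .nil) .nil) (.node (1502,181,0) .nil .nil)) (.node (790,83,0) (.node (547,140,3) (.node (228,428,0) .nil .nil) .nil) (.node (229,223,0) .nil .nil)))))) (.node (7,3,0) (.node (344,5,1) (.node (670,9,2)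 (.node (1223,18,3) (.node (901,39,2) (.node (2180,89,3) (.node (423,237,0) .nil .nil) .nil) (.node (1465,147,1) (.node (1488,495,0) .nil .nil) .nil)) (.node (367,61,1) (.node (181,117,0) (.node (1817,303,0) .nil .nil) .nil) (.node (1088,185,3) .nil .nil))) (.node (1211,28,2) (.node (586,50,1) (.node (550,101,2) (.node (1805,269,0) .nil .nil) .nil) (.node (148,168,3) .nil .nil)) (.node (931,74,1) (.node (328,132,0) (.node (695,361,2) .nil .nil) .nil) (.node (525,204,0) .nil .nil)))) (.node (1669,14,0) (.node (1756,23,3) (.node (334,45,0) (.node (1180,94,3) (.node (1892,250,2) .nil .nil) .nil) (.node (1122,159,3) .nil .nil)) (.node (1131,68,2) (.node (693,124,3) (.node (871,332,2) .nil .nil) .nil) (.node (2239,193,3) .nil .nil))) (.node (1366,33,2) (.node (57,56,1) (.node (736,108,1) (.node (1628,290,1) .nil .nil) .nil) (.node (1277,178,3) .nil .nil)) (.node (493,81,3) (.node (346,138,3) (.node (1635,404,2) .nil .nil) .nil) (.node (1033,220,2) .nil .nil))))) (.node (1163,7,1) (.node (965,11,3) (.node (45,21,1) (.node (106,42,3)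 (.node (2188,92,2) (.node (188,244,1) .nil .nil) .nil) (.node (34,152,2) .nil .nil)) (.node (735,65,0) (.node (1121,121,1) (.node (226,313,3) .nil .nil) .nil) (.node (738,189,1) .nil .nil))) (.node (265,31,0) (.node (1853,53,2) (.node (648,104,0) (.node (1819,281,1) .nil .nil) .nil) (.node (1431,173,3) .nil .nil)) (.node (859,78,3) (.node (182,135,0) (.node (1668,374,3) .nil .nil) .nil) (.node (480,210,2) .nil .nil)))) (.node (21,16,0) (.node (1160,26,1) (.node (490,47,1) (.node (15,98,1) (.node (327,260,3) .nil .nil) .nil) (.node (462,163,3) .nil .nil)) (.node (332,71,0) (.node (924,127,1) (.node (2170,349,2) .nil .nil) .nil) (.node (844,198,2) .nil .nil))) (.node (1035,36,2) (.node (977,58,2) (.node (1685,112,1) (.node (276,297,1) .nil .nil) .nil) (.node (16,183,1) .nil .nil)) (.node (169,84,3) (.node (88,142,2) (.node (112,433,3) .nil .nil) .nil) (.node (40,229,2) .nil .nil))))))))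

/-- Part of `treeC2_3`. -/
noncomputable def treeC2_3_r : Arr (ℕ × ℕ × ℕ) :=
  (.node (343,0,1) (.node (330,0,3) (.node (349,1,3) (.node (681,3,3) (.node (27,8,0) (.node (941,17,0) (.node (245,37,1) (.node (1153,87,2) (.node (1820,233,1) .nil .nil) .nil) (.node (1178,144,2) (.node (934,452,1) .nil .nil) .nil)) (.node (1286,59,1) (.node (682,113,3) (.node (430,298,1) .nil .nil) .nil) (.node (776,184,0) .nil .nil))) (.node (1116,27,0) (.node (1427,48,0) (.node (1725,99,2) (.node (126,264,1) .nil .nil) .nil) (.node (900,165,3) .nil .nil)) (.node (274,72,0) (.node (322,128,1) (.node (261,353,3) .nil .nil) .nil) (.node (765,200,3) .nil .nil)))) (.node (1013,12,3) (.node (567,22,0) (.node (1909,43,2) (.node (942,93,2) (.node (1381,246,3) .nil .nil) .nil) (.node (546,154,3) .nil .nil)) (.node (1479,66,1) (.node (13,122,0) (.node (1798,316,2) .nil .nil) .nil) (.node (1789,190,3) .nil .nil))) (.node (1217,32,0) (.node (1414,54,2) (.node (1843,106,0) (.node (251,286,1) .nil .nil) .nil) (.node (214,176,3) .nil .nil)) (.node (1680,80,0)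 (.node (347,136,0) (.node (643,388,0) .nil .nil) .nil) (.node (355,213,0) .nil .nil))))) (.node (768,6,0) (.node (666,10,1) (.node (730,19,3) (.node (209,40,2) (.node (277,90,2) (.node (183,241,0) .nil .nil) .nil) (.node (593,148,3) (.node (905,537,0) .nil .nil) .nil)) (.node (174,62,1) (.node (565,118,3) (.node (1419,306,1) .nil .nil) .nil) (.node (1869,187,3) .nil .nil))) (.node (489,29,1) (.node (151,51,0) (.node (569,102,3) (.node (1837,272,2) .nil .nil) .nil) (.node (651,171,2) .nil .nil)) (.node (721,75,1) (.node (109,133,1) (.node (1434,364,3) .nil .nil) .nil) (.node (1890,206,2) .nil .nil)))) (.node (684,14,3) (.node (1257,24,3) (.node (943,46,0) (.node (914,96,1) (.node (99,254,2) .nil .nil) .nil) (.node (899,161,0) .nil .nil)) (.node (177,69,1) (.node (1871,125,2) (.node (453,343,1) .nil .nil) .nil) (.node (673,195,1) .nil .nil))) (.node (957,35,1) (.node (990,57,1) (.node (1974,109,2) (.node (35,292,3) .nil .nil) .nil) (.node (773,180,2) .nil .nil)) (.node (371,82,3) (.node (19,140,1) (.node (1842,426,0) .nil .nil)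 .nil) (.node (83,222,1) .nil .nil)))))) (.node (650,2,3) (.node (1451,5,0) (.node (919,9,1) (.node (24,18,1) (.node (863,39,1) (.node (1687,89,2) (.node (411,236,3) .nil .nil) .nil) (.node (1228,147,0) (.node (1784,486,1) .nil .nil) .nil)) (.node (555,60,3) (.node (1507,116,3) (.node (917,302,3) .nil .nil) .nil) (.node (179,185,2) .nil .nil))) (.node (925,28,1) (.node (1155,49,3) (.node (1309,101,1) (.node (191,268,3) .nil .nil) .nil) (.node (1709,168,2) .nil .nil)) (.node (704,73,2) (.node (333,130,3) (.node (1202,360,0) .nil .nil) .nil) (.node (190,203,0) .nil .nil)))) (.node (829,13,3) (.node (1674,23,1) (.node (365,44,3) (.node (939,94,2) (.node (1493,250,0) .nil .nil) .nil) (.node (110,157,2) .nil .nil)) (.node (715,68,1) (.node (644,124,2) (.node (1416,328,0) .nil .nil) .nil) (.node (1722,192,3) .nil .nil))) (.node (1240,33,0) (.node (2259,55,2) (.node (733,107,3) (.node (80,289,3) .nil .nil) .nil) (.node (703,178,2) .nil .nil)) (.node (351,81,2) (.node (491,137,3) (.node (89,403,2) .nil .nil) .nil) (.node (1577,220,1)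 .nil .nil))))) (.node (1825,7,0) (.node (1733,11,2) (.node (28,20,3) (.node (43,42,1) (.node (855,92,1) (.node (1436,243,3) .nil .nil) .nil) (.node (922,151,3) .nil .nil)) (.node (195,64,3) (.node (1747,120,2) (.node (1182,312,2) .nil .nil) .nil) (.node (1006,189,0) .nil .nil))) (.node (1881,30,3) (.node (424,53,1) (.node (784,103,3) (.node (1179,281,0) .nil .nil) .nil) (.node (1230,173,1) .nil .nil)) (.node (95,78,2) (.node (510,134,1) (.node (3,370,3) .nil .nil) .nil) (.node (54,210,0) .nil .nil)))) (.node (159,15,3) (.node (156,26,0) (.node (428,47,0) (.node (2210,97,2) (.node (1103,259,1) .nil .nil) .nil) (.node (1690,162,3) .nil .nil)) (.node (2167,70,2) (.node (20,127,0) (.node (652,346,1) .nil .nil) .nil) (.node (1294,197,3) .nil .nil))) (.node (443,36,1) (.node (1067,58,1) (.node (691,111,0) (.node (1495,296,3) .nil .nil) .nil) (.node (1130,183,0) .nil .nil)) (.node (77,84,0) (.node (926,141,3) (.node (976,433,0) .nil .nil) .nil) (.node (1494,228,2) .nil .nil))))))) (.node (1083,1,1) (.node (476,2,1) (.node (842,4,1)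 (.node (431,8,3) (.node (1039,17,2) (.node (173,38,0) (.node (2258,88,0) (.node (2091,234,3) .nil .nil) .nil) (.node (1517,145,3) (.node (1766,463,0) .nil .nil) .nil)) (.node (1813,59,3) (.node (194,114,3) (.node (1171,301,2) .nil .nil) .nil) (.node (519,185,0) .nil .nil))) (.node (128,27,3) (.node (1302,48,3) (.node (75,100,1) (.node (115,267,1) .nil .nil) .nil) (.node (132,166,1) .nil .nil)) (.node (1420,72,3) (.node (9,128,3) (.node (1175,359,0) .nil .nil) .nil) (.node (936,202,2) .nil .nil)))) (.node (701,13,1) (.node (748,22,3) (.node (946,44,0) (.node (23,94,0) (.node (1512,249,2) .nil .nil) .nil) (.node (906,156,0) .nil .nil)) (.node (1732,67,0) (.node (902,122,3) (.node (82,326,1) .nil .nil) .nil) (.node (1730,191,3) .nil .nil))) (.node (1521,32,2) (.node (1719,55,0) (.node (711,107,0) (.node (1373,287,2) .nil .nil) .nil) (.node (114,177,3) .nil .nil)) (.node (983,81,0) (.node (1123,136,3) (.node (217,393,0) .nil .nil) .nil) (.node (685,213,3) .nil .nil))))) (.node (1773,6,2) (.node (746,10,3) (.node (41,20,1) (.node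 (1681,41,1) (.node (239,91,1) (.node (100,243,0) .nil .nil) .nil) (.node (63,150,1) .nil .nil)) (.node (913,63,0) (.node (708,119,2) (.node (1786,311,2) .nil .nil) .nil) (.node (1604,188,1) .nil .nil))) (.node (1670,29,3) (.node (699,51,3) (.node (1754,103,1) (.node (1128,274,2) .nil .nil) .nil) (.node (1761,172,2) .nil .nil)) (.node (321,76,1) (.node (951,133,3) (.node (1274,366,2) .nil .nil) .nil) (.node (668,209,0) .nil .nil)))) (.node (1547,15,1) (.node (716,25,2) (.node (928,46,2) (.node (1166,97,0) (.node (898,258,0) .nil .nil) .nil) (.node (911,162,0) .nil .nil)) (.node (955,70,0) (.node (732,126,1) (.node (144,345,1) .nil .nil) .nil) (.node (233,196,1) .nil .nil))) (.node (705,35,3) (.node (1718,57,3) (.node (1779,110,2) (.node (260,294,0) .nil .nil) .nil) (.node (2241,181,3) .nil .nil)) (.node (305,83,1) (.node (909,141,0) (.node (974,428,2) .nil .nil) .nil) (.node (474,223,3) .nil .nil)))))) (.node (945,3,1) (.node (1698,5,2) (.node (331,9,3) (.node (1775,19,0) (.node (665,39,3) (.node (90,90,0) (.node (2034,237,3)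 .nil .nil) .nil) (.node (964,147,2) (.node (907,502,3) .nil .nil) .nil)) (.node (1682,61,2) (.node (1938,117,1) (.node (1734,304,2) .nil .nil) .nil) (.node (2171,187,0) .nil .nil))) (.node (6,28,3) (.node (1096,50,2) (.node (225,102,0) (.node (1133,270,1) .nil .nil) .nil) (.node (959,169,1) .nil .nil)) (.node (750,74,3) (.node (376,132,1) (.node (548,363,1) .nil .nil) .nil) (.node (1580,204,3) .nil .nil)))) (.node (839,14,1) (.node (1498,24,0) (.node (18,45,1) (.node (1849,95,3) (.node (227,251,2) .nil .nil) .nil) (.node (234,160,1) .nil .nil)) (.node (2214,68,3) (.node (953,125,0) (.node (1243,335,0) .nil .nil) .nil) (.node (219,194,3) .nil .nil))) (.node (726,34,0) (.node (1483,56,3) (.node (73,108,3) (.node (553,291,2) .nil .nil) .nil) (.node (781,179,0) .nil .nil)) (.node (1942,82,0) (.node (419,139,3) (.node (1132,413,0) .nil .nil) .nil) (.node (42,221,2) .nil .nil))))) (.node (1194,7,2) (.node (1520,12,0) (.node (851,21,2) (.node (1405,43,0) (.node (739,92,3) (.node (1298,244,3) .nil .nil) .nil) (.node (60,153,1) .nil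 .nil)) (.node (421,65,2) (.node (55,121,2) (.node (835,314,2) .nil .nil) .nil) (.node (187,189,2) .nil .nil))) (.node (163,31,1) (.node (675,53,3) (.node (53,104,1) (.node (904,282,0) .nil .nil) .nil) (.node (1036,174,1) .nil .nil)) (.node (971,79,0) (.node (1818,135,2) (.node (1463,375,2) .nil .nil) .nil) (.node (434,211,1) .nil .nil)))) (.node (432,16,1) (.node (1199,26,2) (.node (47,47,2) (.node (104,99,0) (.node (779,262,1) .nil .nil) .nil) (.node (731,164,3) .nil .nil)) (.node (918,71,1) (.node (1893,127,2) (.node (246,351,0) .nil .nil) .nil) (.node (741,199,0) .nil .nil))) (.node (1989,36,3) (.node (1721,58,3) (.node (646,112,2) (.node (791,297,2) .nil .nil) .nil) (.node (279,183,2) .nil .nil)) (.node (61,85,1) (.node (1859,143,3) (.node (136,449,2) .nil .nil) .nil) (.node (2217,231,2) .nil .nil))))))))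

/-- An orbit, with a spanning tree. -/
noncomputable def treeC2_3 : Arr (ℕ × ℕ × ℕ) :=
  .node (2,0,0) treeC2_3_l treeC2_3_r

/-- The size of an orbit. -/
def treeC2_4Size : ℕ :=
  975

/-- Part of `treeC2_4`. -/
noncomputable def treeC2_4_l : Arr (ℕ × ℕ × ℕ) :=
  (.node (1492,0,0) (.node (1057,0,2) (.node (1303,1,2) (.node (1697,3,2) (.node (937,7,3) (.node (1226,16,3) (.node (2222,36,2) (.node (821,77,1) (.node (1402,179,2) .nil .nil) (.node (385,324,2) .nil .nil)) (.node (1672,127,0) (.node (388,244,0) .nil .nil) (.node (2030,474,1) .nil .nil))) (.node (1254,57,0) (.node (1126,100,1) (.node (289,209,3) .nil .nil) (.node (2168,390,0) .nil .nil)) (.node (497,152,2) (.node (320,283,1) .nil .nil) (.node (522,661,0) .nil .nil)))) (.node (2016,26,2) (.node (1625,47,1) (.node (1400,89,3) (.node (1354,193,3) .nil .nil) (.node (1412,350,1) .nil .nil)) (.node (1275,138,1) (.node (1066,263,1) .nil .nil) (.node (2271,548,0) .nil .nil))) (.node (1877,68,1) (.node (1306,113,1) (.node (882,224,0) .nil .nil) (.node (1466,428,1) .nil .nil))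 (.node (2020,165,3) (.node (887,300,0) .nil .nil) .nil)))) (.node (2161,12,1) (.node (1933,21,1) (.node (1499,42,1) (.node (1260,83,1) (.node (1399,187,3) .nil .nil) (.node (415,336,1) .nil .nil)) (.node (206,131,3) (.node (1212,252,1) .nil .nil) (.node (483,505,3) .nil .nil))) (.node (337,62,2) (.node (1187,106,0) (.node (2234,216,1) .nil .nil) (.node (1305,407,3) .nil .nil)) (.node (2257,159,3) (.node (566,293,3) .nil .nil) .nil))) (.node (1482,31,0) (.node (761,51,3) (.node (1735,95,0) (.node (740,201,1) .nil .nil) (.node (2186,367,2) .nil .nil)) (.node (729,144,1) (.node (1445,272,2) .nil .nil) (.node (1760,598,1) .nil .nil))) (.node (1168,73,0) (.node (154,120,1) (.node (1822,236,2) .nil .nil) (.node (1247,451,0) .nil .nil)) (.node (658,172,1) (.node (339,311,0) .nil .nil) .nil))))) (.node (258,5,3) (.node (1167,10,0) (.node (1953,19,0) (.node (577,39,2) (.node (1831,80,0) (.node (1695,183,3) .nil .nil) (.node (1608,331,0) .nil .nil)) (.node (119,129,2) (.node (1778,248,0) .nil .nil) (.node (604,485,0) .nil .nil))) (.node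 (1555,59,1) (.node (2216,103,0) (.node (460,213,2) .nil .nil) (.node (105,395,1) .nil .nil)) (.node (2081,156,0) (.node (1654,289,3) .nil .nil) (.node (1581,706,3) .nil .nil)))) (.node (97,28,3) (.node (396,49,3) (.node (1008,92,1) (.node (1705,197,0) .nil .nil) (.node (894,357,3) .nil .nil)) (.node (505,141,0) (.node (520,267,2) .nil .nil) (.node (1971,574,0) .nil .nil))) (.node (2284,70,3) (.node (1781,117,1) (.node (494,228,3) .nil .nil) (.node (1861,443,1) .nil .nil)) (.node (253,169,1) (.node (384,305,3) .nil .nil) .nil)))) (.node (2040,14,2) (.node (1858,23,3) (.node (1214,45,0) (.node (2094,85,2) (.node (1691,191,1) .nil .nil) (.node (2267,344,1) .nil .nil)) (.node (2023,134,3) (.node (825,255,3) .nil .nil) (.node (1185,523,3) .nil .nil))) (.node (517,65,2) (.node (1147,109,3) (.node (1449,219,1) .nil .nil) (.node (495,412,3) .nil .nil)) (.node (2053,162,2) (.node (1026,296,1) .nil .nil) .nil))) (.node (1330,34,0) (.node (1056,54,1) (.node (540,97,3) (.node (196,206,1) .nil .nil) (.node (81,380,0) .nil .nil)) (.node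 (223,149,0) (.node (2213,276,3) .nil .nil) (.node (524,616,2) .nil .nil))) (.node (231,75,1) (.node (85,123,0) (.node (297,239,1) .nil .nil) (.node (1823,461,3) .nil .nil)) (.node (2169,175,3) (.node (1797,317,0) .nil .nil) .nil)))))) (.node (584,2,2) (.node (1310,4,3) (.node (1025,9,0) (.node (862,17,3) (.node (1526,38,0) (.node (1584,78,2) (.node (1390,181,1) .nil .nil) (.node (127,328,0) .nil .nil)) (.node (874,128,1) (.node (210,245,3) .nil .nil) (.node (2049,476,2) .nil .nil))) (.node (1924,58,0) (.node (2231,102,0) (.node (1313,211,3) .nil .nil) (.node (1432,392,1) .nil .nil)) (.node (880,154,1) (.node (87,287,0) .nil .nil) (.node (879,679,0) .nil .nil)))) (.node (727,27,3) (.node (1991,48,1) (.node (1949,91,1) (.node (1186,196,0) .nil .nil) (.node (1907,355,1) .nil .nil)) (.node (1048,140,0) (.node (728,266,1) .nil .nil) (.node (1692,561,1) .nil .nil))) (.node (2162,69,2) (.node (1590,115,1) (.node (878,226,3) .nil .nil) (.node (984,433,0) .nil .nil)) (.node (1484,166,3) (.node (1438,302,1) .nil .nil) .nil)))) (.node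 (796,13,2) (.node (2147,22,2) (.node (307,43,3) (.node (992,84,1) (.node (458,189,1) .nil .nil) (.node (1287,340,3) .nil .nil)) (.node (2174,133,1) (.node (747,253,3) .nil .nil) (.node (1329,517,1) .nil .nil))) (.node (1855,64,2) (.node (502,107,3) (.node (2119,217,2) .nil .nil) (.node (275,409,3) .nil .nil)) (.node (1595,161,0) (.node (1137,295,0) .nil .nil) .nil))) (.node (603,32,2) (.node (883,53,0) (.node (1358,96,3) (.node (224,203,3) .nil .nil) (.node (32,374,0) .nil .nil)) (.node (1511,147,0) (.node (1661,275,1) .nil .nil) (.node (2140,609,3) .nil .nil))) (.node (1937,74,1) (.node (1644,121,3) (.node (1064,237,3) .nil .nil) (.node (1174,458,2) .nil .nil)) (.node (995,174,0) (.node (892,313,2) .nil .nil) .nil))))) (.node (509,6,3) (.node (1003,11,1) (.node (1490,20,1) (.node (1159,41,0) (.node (846,82,0) (.node (2138,186,0) .nil .nil) (.node (827,333,1) .nil .nil)) (.node (979,130,3) (.node (451,250,0) .nil .nil) (.node (2066,494,2) .nil .nil))) (.node (963,60,3) (.node (1872,104,1) (.node (2176,215,0) .nil .nil) (.node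 (2115,400,0) .nil .nil)) (.node (1005,158,1) (.node (1312,290,3) .nil .nil) (.node (1851,743,1) .nil .nil)))) (.node (1845,29,3) (.node (1570,50,3) (.node (2300,93,2) (.node (1944,199,1) .nil .nil) (.node (1743,363,2) .nil .nil)) (.node (146,142,3) (.node (1238,271,0) .nil .nil) (.node (2219,589,1) .nil .nil))) (.node (1265,71,3) (.node (1293,119,0) (.node (1453,231,1) .nil .nil) (.node (723,448,2) .nil .nil)) (.node (1233,170,2) (.node (2202,308,3) .nil .nil) .nil)))) (.node (1560,15,2) (.node (1474,25,2) (.node (1078,46,1) (.node (1216,87,1) (.node (192,192,3) .nil .nil) (.node (84,347,1) .nil .nil)) (.node (1215,137,0) (.node (1648,260,0) .nil .nil) (.node (1444,537,0) .nil .nil))) (.node (1806,66,3) (.node (1610,111,3) (.node (2196,221,3) .nil .nil) (.node (456,420,0) .nil .nil)) (.node (1746,163,2) (.node (1429,298,2) .nil .nil) .nil))) (.node (2010,35,2) (.node (1189,55,3) (.node (1640,99,0) (.node (1671,208,0) .nil .nil) (.node (1282,385,2) .nil .nil)) (.node (1442,150,2) (.node (444,279,2) .nil .nil) (.node (1983,632,3)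 .nil .nil))) (.node (1618,76,1) (.node (1941,124,1) (.node (107,240,3) .nil .nil) (.node (2143,467,1) .nil .nil)) (.node (359,177,0) (.node (1382,323,1) .nil .nil) .nil))))))) (.node (1777,1,0) (.node (1481,2,0) (.node (1792,4,0) (.node (1840,8,1) (.node (1599,17,1) (.node (2008,37,0) (.node (1748,78,0) (.node (1659,180,1) .nil .nil) (.node (645,326,3) .nil .nil)) (.node (1125,127,2) (.node (611,244,2) .nil .nil) (.node (865,474,3) .nil .nil))) (.node (1873,57,2) (.node (211,101,1) (.node (2285,210,1) .nil .nil) (.node (2200,391,3) .nil .nil)) (.node (722,153,3) (.node (2116,284,3) .nil .nil) (.node (1994,665,1) .nil .nil)))) (.node (2122,27,0) (.node (1029,47,3) (.node (1588,90,1) (.node (826,194,3) .nil .nil) (.node (425,353,0) .nil .nil)) (.node (2291,139,2) (.node (751,265,1) .nil .nil) (.node (284,551,0) .nil .nil))) (.node (2187,68,3) (.node (1571,114,0) (.node (1218,225,1) .nil .nil) (.node (2261,430,2) .nil .nil)) (.node (29,166,1) (.node (1151,301,2) .nil .nil) .nil)))) (.node (1387,13,0) (.node (1120,22,0) (.node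 (2126,43,0) (.node (1343,83,3) (.node (2145,188,2) .nil .nil) (.node (2185,337,2) .nil .nil)) (.node (896,132,2) (.node (1802,253,0) .nil .nil) (.node (1636,514,1) .nil .nil))) (.node (1997,63,3) (.node (1624,107,0) (.node (499,217,0) .nil .nil) (.node (1206,408,1) .nil .nil)) (.node (558,160,2) (.node (813,294,2) .nil .nil) .nil))) (.node (828,32,0) (.node (686,52,1) (.node (68,95,3) (.node (802,202,3) .nil .nil) (.node (656,371,0) .nil .nil)) (.node (398,146,1) (.node (2117,274,3) .nil .nil) (.node (1552,605,1) .nil .nil))) (.node (1095,73,3) (.node (1804,121,0) (.node (2113,237,0) .nil .nil) (.node (1607,453,1) .nil .nil)) (.node (574,172,3) (.node (2022,312,3) .nil .nil) .nil))))) (.node (267,6,1) (.node (418,10,2) (.node (466,19,3) (.node (250,40,0) (.node (1080,81,0) (.node (1885,185,2) .nil .nil) (.node (1388,332,1) .nil .nil)) (.node (1378,130,0) (.node (762,249,0) .nil .nil) (.node (1995,489,0) .nil .nil))) (.node (1693,59,3) (.node (518,103,3) (.node (1527,214,2) .nil .nil) (.node (314,397,3) .nil .nil)) (.node (1232,157,1)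 (.node (1965,290,1) .nil .nil) (.node (378,724,3) .nil .nil)))) (.node (1350,29,1) (.node (1530,50,1) (.node (600,93,0) (.node (1295,197,3) .nil .nil) (.node (1213,359,1) .nil .nil)) (.node (680,141,3) (.node (287,270,0) .nil .nil) (.node (1119,583,3) .nil .nil))) (.node (2165,71,1) (.node (975,118,0) (.node (381,229,1) .nil .nil) (.node (2018,445,1) .nil .nil)) (.node (515,169,3) (.node (568,308,0) .nil .nil) .nil)))) (.node (311,15,0) (.node (2274,24,1) (.node (1708,45,3) (.node (309,86,1) (.node (1629,191,3) .nil .nil) (.node (589,346,3) .nil .nil)) (.node (1884,136,0) (.node (1117,259,0) .nil .nil) (.node (1529,527,0) .nil .nil))) (.node (300,66,1) (.node (1575,111,0) (.node (2017,221,1) .nil .nil) (.node (812,417,2) .nil .nil)) (.node (1780,163,0) (.node (1854,297,2) .nil .nil) .nil))) (.node (938,34,3) (.node (1785,55,0) (.node (1107,98,1) (.node (1856,206,3) .nil .nil) (.node (537,383,3) .nil .nil)) (.node (2109,149,3) (.node (232,278,1) .nil .nil) (.node (2120,623,2) .nil .nil))) (.node (1487,75,3) (.node (788,123,3)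 (.node (1339,239,3) .nil .nil) (.node (867,464,2) .nil .nil)) (.node (2014,176,2) (.node (631,320,0) .nil .nil) .nil)))))) (.node (758,3,0) (.node (1208,5,1) (.node (531,9,2) (.node (1246,18,2) (.node (641,39,0) (.node (147,79,1) (.node (1940,182,1) .nil .nil) (.node (1807,329,0) .nil .nil)) (.node (78,129,0) (.node (637,246,3) .nil .nil) (.node (523,478,2) .nil .nil))) (.node (2129,58,3) (.node (2002,102,2) (.node (2149,212,3) .nil .nil) (.node (1022,393,1) .nil .nil)) (.node (2297,155,0) (.node (222,288,2) .nil .nil) (.node (2102,694,1) .nil .nil)))) (.node (688,28,1) (.node (379,49,0) (.node (1850,91,3) (.node (678,196,2) .nil .nil) (.node (1945,355,3) .nil .nil)) (.node (407,140,2) (.node (2288,266,3) .nil .nil) (.node (2298,568,3) .nil .nil))) (.node (585,70,0) (.node (1959,116,1) (.node (1966,227,3) .nil .nil) (.node (414,437,0) .nil .nil)) (.node (1736,167,3) (.node (1086,303,2) .nil .nil) .nil)))) (.node (1749,14,0) (.node (1509,23,0) (.node (856,44,1) (.node (2076,85,0) (.node (1623,190,0) .nil .nil) (.node (397,341,3)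 .nil .nil)) (.node (1440,134,0) (.node (801,254,2) .nil .nil) (.node (1377,520,3) .nil .nil))) (.node (2050,65,0) (.node (1702,108,3) (.node (1352,218,2) .nil .nil) (.node (312,410,3) .nil .nil)) (.node (472,162,0) (.node (1688,295,2) .nil .nil) .nil))) (.node (310,33,0) (.node (2015,53,2) (.node (1686,97,1) (.node (1972,205,1) .nil .nil) (.node (841,377,0) .nil .nil)) (.node (1758,148,2) (.node (2225,275,3) .nil .nil) (.node (1653,612,2) .nil .nil))) (.node (1922,74,3) (.node (2039,122,2) (.node (503,238,3) .nil .nil) (.node (777,460,2) .nil .nil)) (.node (831,174,3) (.node (2108,315,2) .nil .nil) .nil))))) (.node (2085,7,1) (.node (1090,11,3) (.node (130,20,3) (.node (677,41,2) (.node (1829,82,3) (.node (2179,186,2) .nil .nil) (.node (573,335,0) .nil .nil)) (.node (285,131,1) (.node (1985,251,2) .nil .nil) (.node (1696,497,1) .nil .nil))) (.node (2270,61,3) (.node (514,105,0) (.node (162,215,2) .nil .nil) (.node (1170,403,3) .nil .nil)) (.node (1059,159,0) (.node (2110,291,2) .nil .nil) (.node (2299,780,2) .nil .nil))))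 (.node (2233,30,2) (.node (836,51,1) (.node (932,94,0) (.node (1710,200,1) .nil .nil) (.node (403,364,1) .nil .nil)) (.node (189,143,1) (.node (2254,271,2) .nil .nil) (.node (1054,594,0) .nil .nil))) (.node (1585,72,2) (.node (1073,119,3) (.node (1634,232,3) .nil .nil) (.node (1787,449,0) .nil .nil)) (.node (1076,171,0) (.node (1219,310,0) .nil .nil) .nil)))) (.node (171,16,0) (.node (1790,26,0) (.node (1550,46,3) (.node (1097,88,3) (.node (1652,193,1) .nil .nil) (.node (2289,348,3) .nil .nil)) (.node (1476,137,3) (.node (1810,261,2) .nil .nil) (.node (972,543,3) .nil .nil))) (.node (1229,67,1) (.node (692,112,3) (.node (1955,222,2) .nil .nil) (.node (1017,425,3) .nil .nil)) (.node (2178,164,3) (.node (1225,299,1) .nil .nil) .nil))) (.node (1439,36,0) (.node (719,56,1) (.node (610,99,3) (.node (769,208,3) .nil .nil) (.node (982,389,0) .nil .nil)) (.node (1619,151,3) (.node (1915,281,0) .nil .nil) (.node (948,640,1) .nil .nil))) (.node (2105,76,3) (.node (1475,126,2) (.node (1102,242,3) .nil .nil) (.node (755,468,3) .nil .nil))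 (.node (2199,178,1) (.node (1809,323,3) .nil .nil) .nil))))))))

/-- Part of `treeC2_4`. -/
noncomputable def treeC2_4_r : Arr (ℕ × ℕ × ℕ) :=
  (.node (1191,0,1) (.node (2245,0,3) (.node (273,1,3) (.node (1724,3,3) (.node (968,8,0) (.node (823,17,0) (.node (2203,36,3) (.node (986,77,3) (.node (792,180,0) .nil .nil) (.node (967,325,2) .nil .nil)) (.node (1193,127,1) (.node (618,244,1) .nil .nil) (.node (1364,474,2) .nil .nil))) (.node (2212,57,1) (.node (1079,100,2) (.node (1285,210,0) .nil .nil) (.node (1783,391,2) .nil .nil)) (.node (1587,153,1) (.node (956,283,2) .nil .nil) (.node (530,662,1) .nil .nil)))) (.node (1398,26,3) (.node (1300,47,2) (.node (1406,90,0) (.node (1236,194,0) .nil .nil) (.node (1365,352,2) .nil .nil)) (.node (2101,139,0) (.node (1425,264,0) .nil .nil) (.node (184,550,3) .nil .nil))) (.node (1952,68,2) (.node (536,113,2) (.node (96,224,3) .nil .nil) (.node (263,428,3) .nil .nil)) (.node (872,166,0) (.node (1012,300,1) .nil .nil) .nil)))) (.node (1841,12,3) (.node (2132,21,2) (.node (358,42,3) (.node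 (278,83,2) (.node (1791,188,0) .nil .nil) (.node (1104,336,2) .nil .nil)) (.node (615,132,0) (.node (140,252,3) .nil .nil) (.node (2282,510,3) .nil .nil))) (.node (1435,63,0) (.node (348,106,2) (.node (1887,216,3) .nil .nil) (.node (1407,408,0) .nil .nil)) (.node (1030,160,1) (.node (527,294,0) .nil .nil) .nil))) (.node (1363,31,3) (.node (969,52,0) (.node (1360,95,1) (.node (2019,202,2) .nil .nil) (.node (216,369,0) .nil .nil)) (.node (580,144,3) (.node (1042,273,3) .nil .nil) (.node (876,603,0) .nil .nil))) (.node (1111,73,1) (.node (1115,120,3) (.node (636,236,3) .nil .nil) (.node (2281,451,1) .nil .nil)) (.node (1401,172,2) (.node (1657,312,1) .nil .nil) .nil))))) (.node (1663,6,0) (.node (1769,10,1) (.node (2003,19,1) (.node (1430,39,3) (.node (717,80,2) (.node (1913,184,1) .nil .nil) (.node (485,331,1) .nil .nil)) (.node (1324,129,3) (.node (1700,248,2) .nil .nil) (.node (2197,487,0) .nil .nil))) (.node (2246,59,2) (.node (1990,103,1) (.node (947,213,3) .nil .nil) (.node (504,396,2) .nil .nil)) (.node (820,156,2) (.node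 (1176,290,0) .nil .nil) (.node (1297,712,0) .nil .nil)))) (.node (2128,29,0) (.node (1396,50,0) (.node (1250,92,3) (.node (868,197,1) .nil .nil) (.node (269,359,0) .nil .nil)) (.node (588,141,1) (.node (366,269,3) .nil .nil) (.node (608,578,1) .nil .nil))) (.node (1450,71,0) (.node (238,117,3) (.node (2028,229,0) .nil .nil) (.node (753,444,3) .nil .nil)) (.node (1742,169,2) (.node (408,306,1) .nil .nil) .nil)))) (.node (1162,14,3) (.node (707,24,0) (.node (962,45,1) (.node (292,85,3) (.node (427,191,2) .nil .nil) (.node (1535,346,2) .nil .nil)) (.node (1675,135,3) (.node (556,256,3) .nil .nil) (.node (803,526,1) .nil .nil))) (.node (2047,66,0) (.node (133,110,3) (.node (207,220,2) .nil .nil) (.node (1308,415,1) .nil .nil)) (.node (1867,162,3) (.node (1456,296,3) .nil .nil) .nil))) (.node (2229,34,1) (.node (2227,54,2) (.node (356,98,0) (.node (605,206,2) .nil .nil) (.node (1084,383,2) .nil .nil)) (.node (1960,149,1) (.node (617,278,0) .nil .nil) (.node (256,617,2) .nil .nil))) (.node (954,75,2) (.node (455,123,2) (.node (2266,239,2)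 .nil .nil) (.node (1650,462,0) .nil .nil)) (.node (1835,176,1) (.node (1649,319,0) .nil .nil) .nil)))))) (.node (1241,2,3) (.node (1917,5,0) (.node (930,9,1) (.node (124,18,1) (.node (1279,38,1) (.node (294,78,3) (.node (1323,181,3) .nil .nil) (.node (599,328,2) .nil .nil)) (.node (1703,128,3) (.node (1409,246,2) .nil .nil) (.node (2124,476,3) .nil .nil))) (.node (2193,58,1) (.node (2072,102,1) (.node (1574,212,1) .nil .nil) (.node (218,392,3) .nil .nil)) (.node (447,154,2) (.node (1326,287,3) .nil .nil) (.node (1518,680,0) .nil .nil)))) (.node (1811,28,0) (.node (450,48,3) (.node (1169,91,2) (.node (1370,196,1) .nil .nil) (.node (2144,355,2) .nil .nil)) (.node (170,140,1) (.node (1477,266,2) .nil .nil) (.node (1009,562,2) .nil .nil))) (.node (1620,69,3) (.node (1767,115,3) (.node (1264,227,1) .nil .nil) (.node (2079,435,0) .nil .nil)) (.node (870,167,1) (.node (1582,302,3) .nil .nil) .nil)))) (.node (1307,13,3) (.node (1741,22,3) (.node (1109,44,0) (.node (1221,84,3) (.node (2005,189,3) .nil .nil) (.node (1269,341,0) .nil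 .nil)) (.node (1060,133,2) (.node (1658,254,1) .nil .nil) (.node (1523,517,3) .nil .nil))) (.node (1071,64,3) (.node (891,108,2) (.node (2155,218,1) .nil .nil) (.node (257,410,1) .nil .nil)) (.node (2218,161,3) (.node (268,295,1) .nil .nil) .nil))) (.node (280,32,3) (.node (2160,53,1) (.node (74,97,0) (.node (557,204,1) .nil .nil) (.node (830,374,3) .nil .nil)) (.node (1723,147,1) (.node (2089,275,2) .nil .nil) (.node (2278,612,0) .nil .nil))) (.node (2158,74,2) (.node (1503,122,1) (.node (352,238,1) .nil .nil) (.node (1369,459,2) .nil .nil)) (.node (767,174,1) (.node (1023,314,2) .nil .nil) .nil))))) (.node (1925,7,0) (.node (1803,11,2) (.node (2208,20,2) (.node (2275,41,1) (.node (1551,82,1) (.node (2011,186,1) .nil .nil) (.node (987,334,1) .nil .nil)) (.node (1391,131,0) (.node (2104,250,1) .nil .nil) (.node (2209,496,1) .nil .nil))) (.node (1101,61,2) (.node (479,104,2) (.node (1793,215,1) .nil .nil) (.node (2060,402,3) .nil .nil)) (.node (1554,158,2) (.node (1141,291,0) .nil .nil) (.node (2095,779,3) .nil .nil)))) (.node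 (2135,30,1) (.node (143,51,0) (.node (1146,93,3) (.node (1755,199,3) .nil .nil) (.node (2123,364,0) .nil .nil)) (.node (757,143,0) (.node (1626,271,1) .nil .nil) (.node (1603,591,1) .nil .nil))) (.node (1242,72,0) (.node (1546,119,2) (.node (2059,232,2) .nil .nil) (.node (199,448,3) .nil .nil)) (.node (465,170,3) (.node (1753,309,2) .nil .nil) .nil)))) (.node (581,15,3) (.node (254,25,3) (.node (420,46,2) (.node (66,87,3) (.node (626,193,0) .nil .nil) (.node (2067,348,1) .nil .nil)) (.node (1015,137,1) (.node (1020,260,1) .nil .nil) (.node (1143,541,0) .nil .nil))) (.node (1014,67,0) (.node (1237,112,0) (.node (712,222,0) .nil .nil) (.node (1346,421,2) .nil .nil)) (.node (653,164,0) (.node (1744,299,0) .nil .nil) .nil))) (.node (1094,35,3) (.node (978,56,0) (.node (697,99,1) (.node (1763,208,2) .nil .nil) (.node (2082,388,1) .nil .nil)) (.node (1437,151,2) (.node (2230,279,3) .nil .nil) (.node (2260,636,2) .nil .nil))) (.node (440,76,2) (.node (734,124,3) (.node (2096,242,0) .nil .nil) (.node (794,468,0) .nil .nil)) (.node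 (543,177,1) (.node (1093,323,2) .nil .nil) .nil))))))) (.node (1919,1,1) (.node (1376,2,1) (.node (1981,4,1) (.node (1631,8,3) (.node (2290,17,2) (.node (1074,37,1) (.node (1596,78,1) (.node (2043,180,2) .nil .nil) (.node (264,327,3) .nil .nil)) (.node (672,128,0) (.node (1457,245,1) .nil .nil) (.node (395,476,1) .nil .nil))) (.node (818,57,3) (.node (1540,101,2) (.node (1573,210,2) .nil .nil) (.node (2279,392,0) .nil .nil)) (.node (973,154,0) (.node (2262,285,1) .nil .nil) (.node (1367,674,0) .nil .nil)))) (.node (345,27,1) (.node (1876,48,0) (.node (854,91,0) (.node (1283,195,1) .nil .nil) (.node (2292,353,1) .nil .nil)) (.node (782,139,3) (.node (1353,265,2) .nil .nil) (.node (1936,559,0) .nil .nil))) (.node (1289,69,1) (.node (2013,115,0) (.node (1135,226,1) .nil .nil) (.node (554,432,3) .nil .nil)) (.node (94,166,2) (.node (575,302,0) .nil .nil) .nil)))) (.node (215,13,1) (.node (2048,22,1) (.node (2031,43,2) (.node (1150,84,0) (.node (354,188,3) .nil .nil) (.node (1563,338,3) .nil .nil)) (.node (638,132,3) (.node (737,253,1)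 .nil .nil) (.node (1878,515,2) .nil .nil))) (.node (1615,64,1) (.node (1157,107,1) (.node (2263,217,1) .nil .nil) (.node (102,409,1) .nil .nil)) (.node (1052,160,3) (.node (1645,294,3) .nil .nil) .nil))) (.node (1643,32,1) (.node (676,52,3) (.node (1195,96,0) (.node (1443,203,1) .nil .nil) (.node (1729,371,1) .nil .nil)) (.node (404,146,2) (.node (1320,275,0) .nil .nil) (.node (1948,609,2) .nil .nil))) (.node (2088,74,0) (.node (1711,121,1) (.node (2000,237,2) .nil .nil) (.node (1533,457,3) .nil .nil)) (.node (2157,173,1) (.node (809,313,0) .nil .nil) .nil))))) (.node (2264,6,2) (.node (1418,10,3) (.node (1622,20,0) (.node (564,40,3) (.node (76,81,1) (.node (994,185,3) .nil .nil) (.node (1301,332,2) .nil .nil)) (.node (157,130,1) (.node (368,249,1) .nil .nil) (.node (690,491,2) .nil .nil))) (.node (454,60,1) (.node (1726,104,0) (.node (1751,214,3) .nil .nil) (.node (1728,398,1) .nil .nil)) (.node (1210,158,0) (.node (1284,290,2) .nil .nil) (.node (521,726,0) .nil .nil)))) (.node (2042,29,2) (.node (1927,50,2) (.node (1318,93,1)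 (.node (1112,198,3) .nil .nil) (.node (1421,361,3) .nil .nil)) (.node (1957,142,0) (.node (383,270,3) .nil .nil) (.node (437,584,0) .nil .nil))) (.node (2121,71,2) (.node (662,118,2) (.node (1328,230,2) .nil .nil) (.node (1828,447,2) .nil .nil)) (.node (1426,170,1) (.node (2195,308,2) .nil .nil) .nil)))) (.node (501,15,1) (.node (1383,24,3) (.node (772,46,0) (.node (270,86,3) (.node (808,192,0) .nil .nil) (.node (1002,347,0) .nil .nil)) (.node (2256,136,1) (.node (1559,259,2) .nil .nil) (.node (452,535,1) .nil .nil))) (.node (2056,66,2) (.node (255,111,1) (.node (244,221,2) .nil .nil) (.node (1988,418,1) .nil .nil)) (.node (1389,163,1) (.node (1525,297,3) .nil .nil) .nil))) (.node (1771,35,1) (.node (1292,55,1) (.node (1467,98,2) (.node (1673,207,2) .nil .nil) (.node (1566,384,1) .nil .nil)) (.node (1486,150,0) (.node (1576,278,3) .nil .nil) (.node (2069,626,1) .nil .nil))) (.node (295,76,0) (.node (79,124,0) (.node (1815,240,0) .nil .nil) (.node (1172,466,0) .nil .nil)) (.node (1514,176,3) (.node (1633,321,3) .nil .nil) .nil))))))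 (.node (2223,3,1) (.node (1314,5,2) (.node (1473,9,3) (.node (298,18,3) (.node (2175,39,1) (.node (249,79,3) (.node (1139,183,2) .nil .nil) (.node (1158,330,1) .nil .nil)) (.node (526,129,1) (.node (1906,247,2) .nil .nil) (.node (1043,479,3) .nil .nil))) (.node (1334,59,0) (.node (2025,102,3) (.node (137,213,0) .nil .nil) (.node (1433,394,1) .nil .nil)) (.node (2283,155,3) (.node (1660,289,0) .nil .nil) (.node (858,702,3) .nil .nil)))) (.node (817,28,2) (.node (592,49,1) (.node (1392,92,0) (.node (315,196,3) .nil .nil) (.node (1655,357,2) .nil .nil)) (.node (1173,140,3) (.node (764,267,1) .nil .nil) (.node (1485,572,3) .nil .nil))) (.node (822,70,1) (.node (1541,117,0) (.node (991,228,1) .nil .nil) (.node (632,437,2) .nil .nil)) (.node (1852,168,3) (.node (470,304,3) .nil .nil) .nil)))) (.node (299,14,1) (.node (999,23,1) (.node (625,44,2) (.node (303,85,1) (.node (2184,191,0) .nil .nil) (.node (138,342,1) .nil .nil)) (.node (1188,134,1) (.node (1395,255,0) .nil .nil) (.node (1612,522,3) .nil .nil))) (.node (2100,65,1) (.node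 (563,109,2) (.node (382,219,0) .nil .nil) (.node (1062,411,2) .nil .nil)) (.node (1061,162,1) (.node (282,295,3) .nil .nil) .nil))) (.node (635,33,2) (.node (881,53,3) (.node (350,97,2) (.node (478,206,0) .nil .nil) (.node (487,378,0) .nil .nil)) (.node (1462,148,3) (.node (240,276,0) .nil .nil) (.node (306,613,3) .nil .nil))) (.node (165,75,0) (.node (1177,122,3) (.node (1564,239,0) .nil .nil) (.node (2183,461,1) .nil .nil)) (.node (535,175,0) (.node (1480,315,3) .nil .nil) .nil))))) (.node (1281,7,2) (.node (2150,12,0) (.node (2232,21,0) (.node (2130,41,3) (.node (1886,83,0) (.node (242,187,1) .nil .nil) (.node (2078,335,3) .nil .nil)) (.node (1046,131,2) (.node (1601,251,3) .nil .nil) (.node (576,505,2) .nil .nil))) (.node (1808,62,1) (.node (484,105,2) (.node (2204,216,0) .nil .nil) (.node (1609,406,3) .nil .nil)) (.node (1788,159,1) (.node (1562,292,3) .nil .nil) (.node (135,784,1) .nil .nil)))) (.node (1694,30,3) (.node (1341,51,2) (.node (317,94,3) (.node (302,200,3) .nil .nil) (.node (513,365,0) .nil .nil)) (.node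 (1156,144,0) (.node (1782,272,1) .nil .nil) (.node (2073,595,0) .nil .nil))) (.node (669,72,3) (.node (118,120,0) (.node (1222,236,1) .nil .nil) (.node (2206,450,0) .nil .nil)) (.node (616,172,0) (.node (998,310,2) .nil .nil) .nil)))) (.node (1542,16,1) (.node (1958,26,1) (.node (1336,47,0) (.node (1827,89,1) (.node (814,193,2) .nil .nil) (.node (377,349,3) .nil .nil)) (.node (1428,138,0) (.node (1165,262,3) .nil .nil) (.node (1731,544,2) .nil .nil))) (.node (1579,68,0) (.node (1537,113,0) (.node (1397,223,0) .nil .nil) (.node (1049,426,0) .nil .nil)) (.node (875,165,1) (.node (1181,299,3) .nil .nil) .nil))) (.node (1340,36,1) (.node (544,56,3) (.node (866,100,0) (.node (1374,209,1) .nil .nil) (.node (380,389,3) .nil .nil)) (.node (1136,152,1) (.node (833,283,0) .nil .nil) (.node (1345,658,2) .nil .nil))) (.node (1597,77,0) (.node (129,126,3) (.node (2191,243,2) .nil .nil) (.node (2201,474,0) .nil .nil)) (.node (180,179,1) (.node (702,324,0) .nil .nil) .nil))))))))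

/-- An orbit, with a spanning tree. -/
noncomputable def treeC2_4 : Arr (ℕ × ℕ × ℕ) :=
  .node (4,0,0) treeC2_4_l treeC2_4_r

/-- The size of an orbit. -/
def treeGood0_0Size : ℕ :=
  975

/-- Part of `treeGood0_0`. -/
noncomputable def treeGood0_0_l : Arr (ℕ × ℕ × ℕ) :=
  (.node (3319,0,0) (.node (2940,0,2) (.node (3978,2,0) (.node (3357,5,0) (.node (2948,11,0) (.node (3523,23,1) (.node (2709,49,2) (.node (2579,107,2) (.node (2800,242,0) .nil .nil) (.node (3391,434,2) .nil .nil)) (.node (2669,170,0) (.node (2580,326,2) .nil .nil) (.node (3046,582,1) .nil .nil))) (.node (3898,79,1) (.node (2825,137,2) (.node (4002,281,2) .nil .nil) (.node (2928,502,0) .nil .nil)) (.node (2387,205,0) (.node (3445,374,0) .nil .nil) (.node (3478,781,2) .nil .nil)))) (.node (2953,36,1) (.node (2687,64,2) (.node (3384,122,2) (.node (4018,258,0) .nil .nil) (.node (3638,468,0) .nil .nil)) (.node (2661,187,1) (.node (3183,353,0) .nil .nil) (.node (2606,657,2) .nil .nil))) (.node (2474,93,0) (.node (2313,152,2) (.node (3302,304,0) .nil .nil) (.node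 (3880,545,2) .nil .nil)) (.node (2409,224,0) (.node (3196,402,2) .nil .nil) .nil)))) (.node (3086,17,0) (.node (3697,30,0) (.node (3371,58,0) (.node (3508,115,2) (.node (3453,250,0) .nil .nil) (.node (3458,451,2) .nil .nil)) (.node (3693,178,1) (.node (3814,337,2) .nil .nil) (.node (2493,607,0) .nil .nil))) (.node (3990,87,0) (.node (3215,144,1) (.node (3875,292,1) .nil .nil) (.node (2874,518,2) .nil .nil)) (.node (3533,213,2) (.node (3089,387,1) .nil .nil) .nil))) (.node (3934,42,2) (.node (3343,72,2) (.node (4048,130,1) (.node (2887,268,2) .nil .nil) (.node (2566,486,2) .nil .nil)) (.node (2680,197,2) (.node (2363,364,2) .nil .nil) (.node (2501,718,0) .nil .nil))) (.node (3125,100,1) (.node (3411,160,0) (.node (2784,316,0) .nil .nil) (.node (4003,560,2) .nil .nil)) (.node (3616,232,2) (.node (2685,417,2) .nil .nil) .nil))))) (.node (3213,8,0) (.node (3535,14,0) (.node (3970,26,2) (.node (3301,54,2) (.node (2494,111,2) (.node (4041,246,1) .nil .nil) (.node (2650,442,0) .nil .nil)) (.node (3372,174,0) (.node (2717,332,1) .nil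 .nil) (.node (2309,589,2) .nil .nil))) (.node (3473,82,2) (.node (3512,141,1) (.node (2446,286,1) .nil .nil) (.node (2939,509,0) .nil .nil)) (.node (3862,210,2) (.node (3984,381,1) .nil .nil) (.node (2715,809,1) .nil .nil)))) (.node (3592,39,1) (.node (2794,68,2) (.node (3528,126,1) (.node (2821,263,2) .nil .nil) (.node (2431,476,2) .nil .nil)) (.node (2904,191,1) (.node (3083,359,2) .nil .nil) (.node (3207,679,0) .nil .nil))) (.node (3830,96,0) (.node (3169,156,1) (.node (3347,309,0) .nil .nil) (.node (2674,552,2) .nil .nil)) (.node (2696,228,1) (.node (2633,408,2) .nil .nil) .nil)))) (.node (2866,20,1) (.node (3461,33,1) (.node (3809,61,2) (.node (3864,119,0) (.node (2369,254,1) .nil .nil) (.node (2763,459,2) .nil .nil)) (.node (3550,182,0) (.node (3733,345,1) .nil .nil) (.node (2576,631,0) .nil .nil))) (.node (2779,90,0) (.node (3039,148,0) (.node (2861,298,2) .nil .nil) (.node (2733,531,0) .nil .nil)) (.node (2596,219,2) (.node (3952,391,1) .nil .nil) .nil))) (.node (3918,46,0) (.node (3472,76,0) (.node (2621,134,0) (.node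 (3377,277,0) .nil .nil) (.node (3447,495,0) .nil .nil)) (.node (3291,200,2) (.node (3199,368,2) .nil .nil) (.node (2577,741,0) .nil .nil))) (.node (3773,103,1) (.node (2804,164,2) (.node (3676,321,2) .nil .nil) (.node (4012,571,1) .nil .nil)) (.node (2642,236,2) (.node (2820,426,0) .nil .nil) .nil)))))) (.node (2719,3,2) (.node (2574,6,2) (.node (4007,12,2) (.node (2757,24,2) (.node (3784,52,2) (.node (2972,110,0) (.node (3877,243,2) .nil .nil) (.node (3644,436,0) .nil .nil)) (.node (3714,172,1) (.node (3911,330,0) .nil .nil) (.node (3587,586,1) .nil .nil))) (.node (2893,81,0) (.node (4017,139,2) (.node (2906,284,1) .nil .nil) (.node (3425,506,2) .nil .nil)) (.node (2964,208,0) (.node (3247,377,2) .nil .nil) (.node (3164,792,1) .nil .nil)))) (.node (2319,37,2) (.node (3901,66,2) (.node (3667,124,0) (.node (3202,260,1) .nil .nil) (.node (3393,471,0) .nil .nil)) (.node (3193,189,2) (.node (2571,354,2) .nil .nil) (.node (3012,672,0) .nil .nil))) (.node (3436,94,2) (.node (3115,154,2) (.node (2836,307,0) .nil .nil) (.node (3006,550,0)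 .nil .nil)) (.node (3639,226,2) (.node (2361,404,1) .nil .nil) .nil)))) (.node (3102,18,2) (.node (3650,31,2) (.node (2871,59,2) (.node (3340,117,0) (.node (2418,252,2) .nil .nil) (.node (3375,454,2) .nil .nil)) (.node (3761,180,2) (.node (3336,343,1) .nil .nil) (.node (4054,623,0) .nil .nil))) (.node (2867,88,2) (.node (3235,146,1) (.node (3965,294,2) .nil .nil) (.node (2623,526,2) .nil .nil)) (.node (3869,217,0) (.node (2357,389,1) .nil .nil) .nil))) (.node (3165,44,2) (.node (3679,74,1) (.node (3082,132,0) (.node (2556,273,0) .nil .nil) (.node (3894,492,2) .nil .nil)) (.node (3251,199,0) (.node (3075,366,2) .nil .nil) (.node (4042,725,1) .nil .nil))) (.node (3802,102,0) (.node (2426,162,2) (.node (3227,320,1) .nil .nil) (.node (3737,564,1) .nil .nil)) (.node (3405,234,0) (.node (2403,422,2) .nil .nil) .nil))))) (.node (2927,9,2) (.node (3966,15,2) (.node (2440,28,2) (.node (3749,56,0) (.node (3081,114,0) (.node (3369,248,0) .nil .nil) (.node (3682,445,1) .nil .nil)) (.node (3103,175,2) (.node (3558,335,0) .nil .nil) (.node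 (2417,602,2) .nil .nil))) (.node (3465,84,1) (.node (3452,143,0) (.node (3424,289,2) .nil .nil) (.node (2689,514,2) .nil .nil)) (.node (2328,212,1) (.node (3935,385,0) .nil .nil) (.node (3817,850,2) .nil .nil)))) (.node (2983,41,1) (.node (3646,70,2) (.node (2652,128,1) (.node (2541,266,0) .nil .nil) (.node (3341,481,2) .nil .nil)) (.node (3170,195,1) (.node (2917,362,2) .nil .nil) (.node (2314,706,0) .nil .nil))) (.node (3584,98,0) (.node (2730,158,0) (.node (3677,312,0) .nil .nil) (.node (3822,557,1) .nil .nil)) (.node (3959,230,0) (.node (2762,413,2) .nil .nil) .nil)))) (.node (2482,21,2) (.node (2981,34,2) (.node (2791,63,0) (.node (3818,121,0) (.node (3608,256,0) .nil .nil) (.node (2626,461,2) .nil .nil)) (.node (2312,184,2) (.node (3548,350,0) .nil .nil) (.node (2466,648,2) .nil .nil))) (.node (2317,91,2) (.node (3294,149,2) (.node (3648,301,1) .nil .nil) (.node (2503,543,0) .nil .nil)) (.node (2473,221,2) (.node (3334,398,0) .nil .nil) .nil))) (.node (2858,48,0) (.node (2750,77,1) (.node (3573,136,0) (.node (3157,279,1)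 .nil .nil) (.node (2381,498,2) .nil .nil)) (.node (2362,203,0) (.node (2489,370,2) .nil .nil) (.node (2986,759,0) .nil .nil))) (.node (3271,105,2) (.node (2310,168,0) (.node (3298,324,1) .nil .nil) (.node (2411,577,1) .nil .nil)) (.node (2744,239,0) (.node (3836,431,0) .nil .nil) .nil))))))) (.node (2450,1,1) (.node (2402,2,2) (.node (3949,5,2) (.node (2563,12,0) (.node (2406,24,0) (.node (3220,50,2) (.node (3663,109,0) (.node (3127,243,0) .nil .nil) (.node (3612,435,1) .nil .nil)) (.node (3105,171,0) (.node (3427,329,0) .nil .nil) (.node (3158,583,0) .nil .nil))) (.node (3002,80,0) (.node (3406,139,0) (.node (2360,282,1) .nil .nil) (.node (3004,504,2) .nil .nil)) (.node (4006,207,0) (.node (3078,376,2) .nil .nil) (.node (2600,786,0) .nil .nil)))) (.node (2732,37,0) (.node (3050,65,1) (.node (3476,123,1) (.node (3681,259,1) .nil .nil) (.node (2491,469,1) .nil .nil)) (.node (2359,188,2) (.node (2337,354,0) .nil .nil) (.node (2894,660,2) .nil .nil))) (.node (2615,94,0) (.node (2346,153,2) (.node (2372,305,2) .nil .nil) (.node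 (3463,547,0) .nil .nil)) (.node (3544,225,0) (.node (2480,403,2) .nil .nil) .nil)))) (.node (2582,18,0) (.node (3474,31,0) (.node (3195,58,2) (.node (3552,116,1) (.node (3662,251,0) .nil .nil) (.node (2470,453,0) .nil .nil)) (.node (2631,179,2) (.node (3868,339,1) .nil .nil) (.node (2672,614,2) .nil .nil))) (.node (3335,87,2) (.node (2530,145,2) (.node (3141,293,2) .nil .nil) (.node (2842,521,2) .nil .nil)) (.node (3339,215,2) (.node (3159,388,2) .nil .nil) .nil))) (.node (2708,44,0) (.node (4055,73,2) (.node (3395,131,0) (.node (3471,271,2) .nil .nil) (.node (3134,489,0) .nil .nil)) (.node (3257,198,1) (.node (3479,365,1) .nil .nil) (.node (2569,719,0) .nil .nil))) (.node (3890,101,0) (.node (3640,161,2) (.node (3741,318,1) .nil .nil) (.node (3330,561,2) .nil .nil)) (.node (2966,233,1) (.node (2390,421,0) .nil .nil) .nil))))) (.node (3123,8,2) (.node (3490,15,0) (.node (3367,27,2) (.node (2416,55,1) (.node (3000,112,2) (.node (2498,247,1) .nil .nil) (.node (3832,443,2) .nil .nil)) (.node (3537,174,2) (.node (3829,333,2) .nil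 .nil) (.node (2921,593,2) .nil .nil))) (.node (3222,83,2) (.node (2518,142,0) (.node (2487,288,2) .nil .nil) (.node (3388,513,2) .nil .nil)) (.node (3061,211,2) (.node (3605,383,1) .nil .nil) (.node (3396,821,2) .nil .nil)))) (.node (3939,40,2) (.node (4001,70,0) (.node (3905,127,0) (.node (2665,264,1) .nil .nil) (.node (3098,478,0) .nil .nil)) (.node (2463,193,1) (.node (2713,361,2) .nil .nil) (.node (3546,685,2) .nil .nil))) (.node (3487,97,1) (.node (3216,157,0) (.node (2340,311,0) .nil .nil) (.node (2911,554,0) .nil .nil)) (.node (2542,229,1) (.node (3848,410,2) .nil .nil) .nil)))) (.node (3689,21,0) (.node (2890,34,0) (.node (2564,62,1) (.node (3348,119,2) (.node (2935,255,0) .nil .nil) (.node (3470,460,2) .nil .nil)) (.node (2822,183,2) (.node (3530,348,0) .nil .nil) (.node (2971,637,1) .nil .nil))) (.node (2601,90,2) (.node (3097,149,0) (.node (2885,299,2) .nil .nil) (.node (3112,539,2) .nil .nil)) (.node (2413,220,2) (.node (3511,392,2) .nil .nil) .nil))) (.node (4056,47,0) (.node (3531,76,2) (.node (2977,135,0) (.node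 (3754,278,0) .nil .nil) (.node (3366,497,0) .nil .nil)) (.node (2648,202,0) (.node (2767,370,0) .nil .nil) (.node (3073,752,0) .nil .nil))) (.node (3426,104,2) (.node (2913,166,0) (.node (2746,322,1) .nil .nil) (.node (3361,575,0) .nil .nil)) (.node (2461,237,2) (.node (2918,428,0) .nil .nil) .nil)))))) (.node (3272,4,1) (.node (3322,7,1) (.node (3597,13,1) (.node (3430,25,2) (.node (2854,53,2) (.node (2434,110,2) (.node (2572,245,2) .nil .nil) (.node (3109,438,2) .nil .nil)) (.node (2561,173,1) (.node (3067,331,2) .nil .nil) (.node (3191,588,0) .nil .nil))) (.node (3104,81,2) (.node (3095,140,2) (.node (2581,285,2) .nil .nil) (.node (3462,507,2) .nil .nil)) (.node (4059,209,0) (.node (3460,379,1) .nil .nil) (.node (2912,797,0) .nil .nil)))) (.node (3100,38,2) (.node (2653,67,2) (.node (2486,125,2) (.node (2442,262,2) .nil .nil) (.node (2923,474,1) .nil .nil)) (.node (2540,190,1) (.node (3187,359,0) .nil .nil) (.node (3634,676,0) .nil .nil))) (.node (3486,95,1) (.node (3441,155,2) (.node (2662,307,2) .nil .nil) (.node (2707,551,0)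 .nil .nil)) (.node (3005,227,2) (.node (3598,405,1) .nil .nil) .nil)))) (.node (3416,19,2) (.node (2394,32,2) (.node (2398,60,1) (.node (3030,118,0) (.node (3173,253,2) .nil .nil) (.node (2694,457,2) .nil .nil)) (.node (2527,181,1) (.node (2543,344,0) .nil .nil) (.node (3211,627,2) .nil .nil))) (.node (3477,89,1) (.node (2739,147,0) (.node (3560,297,0) .nil .nil) (.node (2671,529,0) .nil .nil)) (.node (2457,218,0) (.node (3518,390,0) .nil .nil) .nil))) (.node (2641,45,1) (.node (3565,75,0) (.node (3071,132,2) (.node (3087,273,2) .nil .nil) (.node (3942,494,0) .nil .nil)) (.node (2382,200,0) (.node (2308,367,2) .nil .nil) (.node (3715,735,2) .nil .nil))) (.node (2425,102,2) (.node (3994,163,2) (.node (3412,321,0) .nil .nil) (.node (2673,569,0) .nil .nil)) (.node (2481,235,1) (.node (2380,423,1) .nil .nil) .nil))))) (.node (2441,10,1) (.node (2901,16,1) (.node (3783,29,1) (.node (3647,57,0) (.node (2468,114,2) (.node (3619,249,0) .nil .nil) (.node (3566,450,0) .nil .nil)) (.node (3329,176,2) (.node (3691,336,0) .nil .nil) (.node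 (2877,604,2) .nil .nil))) (.node (3413,86,1) (.node (3665,143,2) (.node (2370,291,0) .nil .nil) (.node (2908,516,0) .nil .nil)) (.node (3799,213,0) (.node (3668,386,0) .nil .nil) (.node (2731,879,2) .nil .nil)))) (.node (2335,42,0) (.node (2584,72,0) (.node (3505,129,0) (.node (2608,268,0) .nil .nil) (.node (2833,484,0) .nil .nil)) (.node (2795,196,1) (.node (3276,363,1) .nil .nil) (.node (3022,714,0) .nil .nil))) (.node (3654,98,2) (.node (3866,159,0) (.node (3136,313,1) .nil .nil) (.node (3146,558,2) .nil .nil)) (.node (2675,231,2) (.node (2395,416,1) .nil .nil) .nil)))) (.node (3690,22,2) (.node (2872,35,2) (.node (3803,63,2) (.node (3041,121,2) (.node (3664,257,1) .nil .nil) (.node (2339,465,0) .nil .nil)) (.node (2517,185,2) (.node (2729,352,1) .nil .nil) (.node (3843,655,0) .nil .nil))) (.node (2967,92,1) (.node (3144,151,2) (.node (2512,302,1) .nil .nil) (.node (2678,544,2) .nil .nil)) (.node (2843,223,0) (.node (2488,400,2) .nil .nil) .nil))) (.node (3962,49,0) (.node (4027,78,2) (.node (3409,136,2) (.node (3996,280,1)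 .nil .nil) (.node (2435,500,0) .nil .nil)) (.node (3997,204,0) (.node (2780,371,2) .nil .nil) (.node (3991,761,1) .nil .nil))) (.node (2551,106,2) (.node (2630,169,0) (.node (2616,325,0) .nil .nil) (.node (3057,580,2) .nil .nil)) (.node (2507,240,2) (.node (2770,433,0) .nil .nil) .nil))))))))

/-- Part of `treeGood0_0`. -/
noncomputable def treeGood0_0_r : Arr (ℕ × ℕ × ℕ) :=
  (.node (2373,0,1) (.node (3727,1,0) (.node (3268,2,1) (.node (3385,5,1) (.node (3240,11,2) (.node (2802,23,2) (.node (3167,50,1) (.node (2745,108,2) (.node (2625,242,2) .nil .nil) (.node (3885,435,0) .nil .nil)) (.node (3495,170,2) (.node (2670,327,0) .nil .nil) (.node (2614,582,2) .nil .nil))) (.node (2532,79,2) (.node (3797,138,0) (.node (2408,282,0) .nil .nil) (.node (3316,503,2) .nil .nil)) (.node (3607,205,2) (.node (3685,375,2) .nil .nil) (.node (2701,784,0) .nil .nil)))) (.node (3723,36,2) (.node (3865,65,0) (.node (3289,123,0) (.node (2994,258,2) .nil .nil) (.node (2644,469,0) .nil .nil)) (.node (3768,188,0) (.node (2783,353,2) .nil .nil) (.node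 (3117,659,2) .nil .nil))) (.node (3079,93,2) (.node (3751,153,1) (.node (2420,305,0) .nil .nil) (.node (2992,546,0) .nil .nil)) (.node (2649,224,2) (.node (2524,403,0) .nil .nil) .nil)))) (.node (3020,17,2) (.node (2349,30,2) (.node (2321,58,1) (.node (2837,116,0) (.node (2510,250,2) .nil .nil) (.node (3588,452,0) .nil .nil)) (.node (3711,178,2) (.node (4016,338,0) .nil .nil) (.node (3837,613,2) .nil .nil))) (.node (3062,87,1) (.node (2341,144,2) (.node (3233,292,2) .nil .nil) (.node (2638,519,1) .nil .nil)) (.node (3502,214,0) (.node (2350,387,2) .nil .nil) .nil))) (.node (2575,43,2) (.node (3791,73,0) (.node (3649,130,2) (.node (3358,269,2) .nil .nil) (.node (3915,488,0) .nil .nil)) (.node (3214,198,0) (.node (2379,365,0) .nil .nil) (.node (2618,718,1) .nil .nil))) (.node (2839,100,2) (.node (2620,161,1) (.node (2384,317,0) .nil .nil) (.node (3613,561,0) .nil .nil)) (.node (2686,233,0) (.node (3044,419,0) .nil .nil) .nil))))) (.node (2865,8,1) (.node (2514,14,2) (.node (3467,27,0) (.node (3696,55,0) (.node (2752,112,0) (.node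 (3692,247,0) .nil .nil) (.node (3561,443,1) .nil .nil)) (.node (3140,174,1) (.node (2613,332,2) .nil .nil) (.node (2554,591,2) .nil .nil))) (.node (3931,83,0) (.node (2768,141,2) (.node (3874,287,0) .nil .nil) (.node (2827,511,2) .nil .nil)) (.node (3498,211,0) (.node (3569,381,2) .nil .nil) (.node (3488,814,2) .nil .nil)))) (.node (3093,39,2) (.node (3092,69,2) (.node (2982,126,2) (.node (2716,264,0) .nil .nil) (.node (2636,477,0) .nil .nil)) (.node (2818,192,2) (.node (2929,361,1) .nil .nil) (.node (3011,680,2) .nil .nil))) (.node (2578,97,0) (.node (2351,156,2) (.node (3131,310,0) .nil .nil) (.node (2475,553,1) .nil .nil)) (.node (2788,229,0) (.node (2568,410,1) .nil .nil) .nil)))) (.node (3536,20,2) (.node (2634,33,2) (.node (2479,62,0) (.node (2627,119,1) (.node (2444,254,2) .nil .nil) (.node (3328,460,0) .nil .nil)) (.node (3241,182,2) (.node (3635,346,1) .nil .nil) (.node (3360,633,1) .nil .nil))) (.node (2433,90,1) (.node (3765,148,1) (.node (3861,299,1) .nil .nil) (.node (2863,535,2) .nil .nil)) (.node (3059,220,0)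 (.node (3602,392,0) .nil .nil) .nil))) (.node (2607,46,2) (.node (2526,76,1) (.node (2735,134,1) (.node (3350,277,1) .nil .nil) (.node (3579,496,1) .nil .nil)) (.node (3370,201,2) (.node (3924,369,2) .nil .nil) (.node (3971,742,1) .nil .nil))) (.node (3770,103,2) (.node (3529,165,2) (.node (2889,322,0) .nil .nil) (.node (3440,573,2) .nil .nil)) (.node (2635,237,0) (.node (3198,427,1) .nil .nil) .nil)))))) (.node (2589,4,0) (.node (3983,7,0) (.node (3303,13,0) (.node (3118,25,0) (.node (2455,53,0) (.node (3855,110,1) (.node (2383,244,1) .nil .nil) (.node (4023,436,2) .nil .nil)) (.node (2316,172,2) (.node (2651,331,0) .nil .nil) (.node (2610,586,2) .nil .nil))) (.node (3417,81,1) (.node (3688,140,0) (.node (2841,284,2) .nil .nil) (.node (3823,507,0) .nil .nil)) (.node (4021,208,1) (.node (3045,378,2) .nil .nil) (.node (3256,793,0) .nil .nil)))) (.node (3950,38,0) (.node (3262,67,0) (.node (2721,125,0) (.node (2989,261,0) .nil .nil) (.node (2996,473,0) .nil .nil)) (.node (2849,190,0) (.node (3072,356,0) .nil .nil) (.node (2326,674,0)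 .nil .nil))) (.node (2656,95,0) (.node (3482,155,1) (.node (3237,307,1) .nil .nil) (.node (2829,550,2) .nil .nil)) (.node (3632,227,0) (.node (3248,404,2) .nil .nil) .nil)))) (.node (4029,19,0) (.node (3590,32,0) (.node (3538,60,0) (.node (2892,117,2) (.node (2860,253,0) .nil .nil) (.node (3516,456,0) .nil .nil)) (.node (4047,181,0) (.node (2970,343,2) .nil .nil) (.node (2978,623,1) .nil .nil))) (.node (3572,89,0) (.node (2353,146,2) (.node (2366,296,2) .nil .nil) (.node (3094,527,2) .nil .nil)) (.node (3858,217,2) (.node (2796,389,2) .nil .nil) .nil))) (.node (3739,45,0) (.node (4019,74,2) (.node (3945,132,1) (.node (2320,273,1) .nil .nil) (.node (2559,493,2) .nil .nil)) (.node (3386,199,2) (.node (2550,367,0) .nil .nil) (.node (4038,734,2) .nil .nil))) (.node (3420,102,1) (.node (3932,163,0) (.node (2547,320,2) .nil .nil) (.node (3331,564,2) .nil .nil)) (.node (3176,234,2) (.node (3731,423,0) .nil .nil) .nil))))) (.node (3750,10,0) (.node (3151,16,0) (.node (2870,29,0) (.node (3422,56,2) (.node (2595,114,1) (.node (3974,248,2)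 .nil .nil) (.node (2415,446,0) .nil .nil)) (.node (3293,176,1) (.node (3673,335,2) .nil .nil) (.node (2960,603,1) .nil .nil))) (.node (3433,86,0) (.node (3126,143,1) (.node (2749,290,0) .nil .nil) (.node (3998,515,2) .nil .nil)) (.node (2414,212,2) (.node (3428,385,2) .nil .nil) (.node (3345,878,2) .nil .nil)))) (.node (3016,41,2) (.node (2452,71,0) (.node (3318,128,2) (.node (3024,266,2) .nil .nil) (.node (3356,483,0) .nil .nil)) (.node (3589,196,0) (.node (3181,363,0) .nil .nil) (.node (3744,707,2) .nil .nil))) (.node (3021,98,1) (.node (3786,158,2) (.node (2658,313,0) .nil .nil) (.node (3448,558,0) .nil .nil)) (.node (3307,231,1) (.node (2920,414,0) .nil .nil) .nil)))) (.node (3567,22,0) (.node (2826,35,0) (.node (2760,63,1) (.node (3827,121,1) (.node (2702,257,0) .nil .nil) (.node (3407,462,2) .nil .nil)) (.node (2345,185,0) (.node (3517,350,2) .nil .nil) (.node (3559,652,2) .nil .nil))) (.node (3299,92,0) (.node (2628,150,2) (.node (2331,301,2) .nil .nil) (.node (3703,543,2) .nil .nil)) (.node (2963,222,2) (.node (3188,398,1)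 .nil .nil) .nil))) (.node (2412,48,2) (.node (3543,77,2) (.node (3743,136,1) (.node (3642,279,2) .nil .nil) (.node (2324,499,0) .nil .nil)) (.node (3355,203,1) (.node (2869,371,0) .nil .nil) (.node (2781,759,2) .nil .nil))) (.node (3766,106,0) (.node (3096,168,2) (.node (2593,324,2) .nil .nil) (.node (2423,579,2) .nil .nil)) (.node (4049,240,0) (.node (3812,432,2) .nil .nil) .nil))))))) (.node (3088,1,2) (.node (3540,3,0) (.node (3923,6,0) (.node (3390,12,1) (.node (3130,24,1) (.node (3687,52,1) (.node (3876,109,2) (.node (3077,243,1) .nil .nil) (.node (3738,435,2) .nil .nil)) (.node (4040,172,0) (.node (2831,329,1) .nil .nil) (.node (2386,585,2) .nil .nil))) (.node (3699,80,2) (.node (3670,139,1) (.node (3956,283,2) .nil .nil) (.node (3842,505,0) .nil .nil)) (.node (4004,207,1) (.node (3938,377,0) .nil .nil) (.node (3404,791,2) .nil .nil)))) (.node (3080,37,1) (.node (3063,65,2) (.node (3655,123,2) (.node (3439,259,2) .nil .nil) (.node (3824,470,1) .nil .nil)) (.node (3435,189,0) (.node (3311,354,1) .nil .nil) (.node (3844,671,2)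 .nil .nil))) (.node (3010,94,1) (.node (2819,154,0) (.node (3252,306,0) .nil .nil) (.node (2987,548,0) .nil .nil)) (.node (2536,226,0) (.node (2659,404,0) .nil .nil) .nil)))) (.node (3054,18,1) (.node (4045,31,1) (.node (3804,59,0) (.node (3351,116,2) (.node (3841,252,0) .nil .nil) (.node (3148,453,1) .nil .nil)) (.node (3415,180,0) (.node (2700,339,2) .nil .nil) (.node (2812,615,0) .nil .nil))) (.node (2588,88,0) (.node (3483,146,0) (.node (2748,294,0) .nil .nil) (.node (3903,524,2) .nil .nil)) (.node (2410,216,0) (.node (2407,389,0) .nil .nil) .nil))) (.node (3373,44,1) (.node (2741,74,0) (.node (2864,131,2) (.node (3484,272,1) .nil .nil) (.node (3921,490,0) .nil .nil)) (.node (2764,198,2) (.node (3600,365,2) .nil .nil) (.node (4030,723,2) .nil .nil))) (.node (3332,101,2) (.node (3854,162,0) (.node (3526,318,2) .nil .nil) (.node (2698,563,2) .nil .nil)) (.node (2315,233,2) (.node (2712,421,1) .nil .nil) .nil))))) (.node (2914,9,0) (.node (3624,15,1) (.node (2736,28,1) (.node (2758,55,2) (.node (2830,113,0) (.node (2448,247,2)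 .nil .nil) (.node (3520,445,0) .nil .nil)) (.node (2590,175,0) (.node (3274,334,1) .nil .nil) (.node (3305,594,1) .nil .nil))) (.node (2471,84,0) (.node (2617,142,1) (.node (2692,289,0) .nil .nil) (.node (2924,514,0) .nil .nil)) (.node (3547,212,0) (.node (3353,383,2) .nil .nil) (.node (2856,829,0) .nil .nil)))) (.node (3219,41,0) (.node (2637,70,1) (.node (2691,127,2) (.node (2880,264,2) .nil .nil) (.node (2508,479,1) .nil .nil)) (.node (3930,194,2) (.node (3178,362,0) .nil .nil) (.node (2534,690,2) .nil .nil))) (.node (3669,97,2) (.node (2663,157,2) (.node (2882,311,2) .nil .nil) (.node (4020,554,2) .nil .nil)) (.node (3001,229,2) (.node (3344,413,0) .nil .nil) .nil)))) (.node (2306,21,1) (.node (3368,34,1) (.node (3967,62,2) (.node (3364,120,0) (.node (3851,255,2) .nil .nil) (.node (3295,461,0) .nil .nil)) (.node (3596,184,0) (.node (2710,348,2) .nil .nil) (.node (3656,641,0) .nil .nil))) (.node (2483,91,0) (.node (3150,149,1) (.node (3466,301,0) .nil .nil) (.node (2959,541,2) .nil .nil)) (.node (3636,221,1) (.node (2586,396,1)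 .nil .nil) .nil))) (.node (2697,47,2) (.node (3782,77,0) (.node (3856,135,2) (.node (3429,279,0) .nil .nil) (.node (2773,497,2) .nil .nil)) (.node (3678,202,2) (.node (3423,370,1) .nil .nil) (.node (3376,755,0) .nil .nil))) (.node (3110,105,0) (.node (2389,166,2) (.node (3380,322,2) .nil .nil) (.node (2817,576,2) .nil .nil)) (.node (2478,238,2) (.node (2405,430,2) .nil .nil) .nil)))))) (.node (2322,4,2) (.node (2759,7,2) (.node (2460,13,2) (.node (3397,26,1) (.node (3410,54,0) (.node (2495,111,0) (.node (3808,246,0) .nil .nil) (.node (3651,440,2) .nil .nil)) (.node (2624,173,2) (.node (3108,332,0) .nil .nil) (.node (2699,588,2) .nil .nil))) (.node (4026,82,1) (.node (4009,141,0) (.node (2368,286,0) .nil .nil) (.node (2496,508,1) .nil .nil)) (.node (2704,210,1) (.node (3185,379,2) .nil .nil) (.node (3401,803,1) .nil .nil)))) (.node (2753,39,0) (.node (3794,68,0) (.node (3969,126,0) (.node (2765,263,0) .nil .nil) (.node (2462,475,0) .nil .nil)) (.node (3884,190,2) (.node (3925,359,1) .nil .nil) (.node (2318,677,2) .nil .nil)))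 (.node (3671,95,2) (.node (3957,156,0) (.node (3509,308,0) .nil .nil) (.node (2428,552,1) .nil .nil)) (.node (3549,228,0) (.node (3798,407,1) .nil .nil) .nil)))) (.node (2404,20,0) (.node (3392,33,0) (.node (3142,60,2) (.node (3525,118,2) (.node (3387,254,0) .nil .nil) (.node (3899,459,0) .nil .nil)) (.node (3593,181,2) (.node (2844,344,1) .nil .nil) (.node (3051,629,2) .nil .nil))) (.node (3820,89,2) (.node (3937,147,2) (.node (3695,297,1) .nil .nil) (.node (2393,529,2) .nil .nil)) (.node (3960,219,0) (.node (2646,390,2) .nil .nil) .nil))) (.node (3755,45,2) (.node (3601,75,2) (.node (2472,133,0) (.node (2645,276,0) .nil .nil) (.node (2725,494,2) .nil .nil)) (.node (2592,200,1) (.node (3541,368,0) .nil .nil) (.node (3878,738,0) .nil .nil))) (.node (2565,103,0) (.node (2785,164,0) (.node (2502,321,1) .nil .nil) (.node (3717,570,2) .nil .nil)) (.node (3026,235,2) (.node (2693,425,0) .nil .nil) .nil))))) (.node (3906,10,2) (.node (2365,16,2) (.node (3450,29,2) (.node (3778,57,1) (.node (3451,115,0) (.node (3900,249,2) .nil .nil)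 (.node (2931,451,0) .nil .nil)) (.node (3908,177,0) (.node (3438,336,2) .nil .nil) (.node (3286,606,2) .nil .nil))) (.node (3210,86,2) (.node (3756,144,0) (.node (2307,291,1) .nil .nil) (.node (3119,516,1) .nil .nil)) (.node (3432,213,1) (.node (3338,386,1) .nil .nil) (.node (2497,880,1) .nil .nil)))) (.node (4015,42,1) (.node (3683,72,1) (.node (3264,130,0) (.node (2396,268,1) .nil .nil) (.node (2787,486,1) .nil .nil)) (.node (3902,197,0) (.node (2654,363,2) .nil .nil) (.node (3043,716,2) .nil .nil))) (.node (2881,99,2) (.node (3320,159,2) (.node (2714,315,0) .nil .nil) (.node (3553,559,2) .nil .nil)) (.node (2667,232,0) (.node (2523,417,0) .nil .nil) .nil)))) (.node (2916,23,0) (.node (2546,36,0) (.node (3221,64,0) (.node (3980,122,0) (.node (2520,257,2) .nil .nil) (.node (3760,467,0) .nil .nil)) (.node (2311,187,0) (.node (2348,352,2) .nil .nil) (.node (2926,657,1) .nil .nil))) (.node (2605,92,2) (.node (2884,152,0) (.node (3155,303,0) .nil .nil) (.node (3177,545,1) .nil .nil)) (.node (2333,223,2) (.node (3228,401,2) .nil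 .nil) .nil))) (.node (3269,49,1) (.node (3352,79,0) (.node (2790,137,1) (.node (3539,280,2) .nil .nil) (.node (2392,501,0) .nil .nil)) (.node (3610,204,2) (.node (3226,373,2) .nil .nil) (.node (2910,780,1) .nil .nil))) (.node (3475,107,0) (.node (3615,169,1) (.node (2883,325,2) .nil .nil) (.node (3933,582,0) .nil .nil)) (.node (3326,241,1) (.node (2376,433,1) .nil .nil) .nil))))))))

/-- An orbit of a subgroup of index two in a stabiliser. -/
noncomputable def treeGood0_0 : Arr (ℕ × ℕ × ℕ) :=
  .node (2305,0,0) treeGood0_0_l treeGood0_0_r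

/-- The size of an orbit. -/
def treeGood0_1Size : ℕ :=
  300

/-- An orbit of a subgroup of index two in a stabiliser. -/
noncomputable def treeGood0_1 : Arr (ℕ × ℕ × ℕ) :=
  (.node (37,0,0) (.node (477,0,0) (.node (2057,0,2) (.node (1145,2,0) (.node (212,5,0) (.node (293,11,0) (.node (72,24,0) (.node (413,54,1) (.node (1001,149,1) .nil .nil) .nil) (.node (406,91,2) .nil .nil)) (.node (464,38,0) (.node (1393,72,2) (.node (806,210,0) .nil .nil) .nil) (.node (512,113,1) .nil .nil))) (.node (549,17,0) (.node (886,30,2) (.node (614,63,2) (.node (2103,171,1) .nil .nil) .nil) (.node (506,103,1) .nil .nil)) (.node (848,45,1) (.node (799,81,2) .nil .nil) (.node (2001,131,1) .nil .nil)))) (.node (296,8,0) (.node (1134,14,0) (.node (1140,27,0) (.node (492,59,0) (.node (1317,160,2) .nil .nil) .nil) (.node (960,96,2) .nil .nil)) (.node (1616,42,0) (.node (590,78,0) (.node (2046,254,0) .nil .nil) .nil) (.node (2077,121,1) .nil .nil))) (.node (612,20,2) (.node (2295,34,2) (.node (496,67,0) (.node (386,187,2) .nil .nil) .nil) (.node (634,109,0)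 .nil .nil)) (.node (2153,50,0) (.node (1750,87,0) .nil .nil) (.node (944,142,2) .nil .nil))))) (.node (661,3,2) (.node (789,6,2) (.node (1047,12,2) (.node (700,25,2) (.node (607,57,0) (.node (1561,153,2) .nil .nil) .nil) (.node (888,93,2) .nil .nil)) (.node (598,40,0) (.node (2055,74,1) (.node (329,238,0) .nil .nil) .nil) (.node (1739,117,2) .nil .nil))) (.node (857,18,2) (.node (508,33,0) (.node (473,65,2) (.node (664,176,2) .nil .nil) .nil) (.node (2033,105,2) .nil .nil)) (.node (1683,47,1) (.node (468,84,2) .nil .nil) (.node (1332,139,2) .nil .nil)))) (.node (1050,9,2) (.node (620,15,2) (.node (405,29,0) (.node (845,61,1) (.node (416,166,0) .nil .nil) .nil) (.node (2083,99,0) .nil .nil)) (.node (908,43,2) (.node (1600,80,0) (.node (837,285,1) .nil .nil) .nil) (.node (1342,125,0) .nil .nil))) (.node (394,22,2) (.node (671,36,2) (.node (840,70,0) (.node (542,199,2) .nil .nil) .nil) (.node (2159,110,2) .nil .nil)) (.node (2146,52,2) (.node (754,89,0) .nil .nil) (.node (117,146,2) .nil .nil)))))) (.node (1752,1,1) (.node (463,2,2)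 (.node (793,5,2) (.node (166,12,0) (.node (121,24,2) (.node (533,56,1) (.node (417,152,2) .nil .nil) .nil) (.node (481,93,0) .nil .nil)) (.node (853,39,0) (.node (391,73,2) (.node (1379,228,2) .nil .nil) .nil) (.node (1144,114,0) .nil .nil))) (.node (815,18,0) (.node (2156,32,0) (.node (1034,64,2) (.node (448,174,1) .nil .nil) .nil) (.node (834,104,1) .nil .nil)) (.node (2063,46,0) (.node (771,83,1) .nil .nil) (.node (1344,137,0) .nil .nil)))) (.node (583,8,2) (.node (619,15,0) (.node (679,28,0) (.node (439,60,2) (.node (1759,162,1) .nil .nil) .nil) (.node (422,97,1) .nil .nil)) (.node (401,42,2) (.node (2273,78,2) (.node (445,265,2) .nil .nil) .nil) (.node (805,123,0) .nil .nil))) (.node (248,21,2) (.node (713,35,2) (.node (2112,68,2) (.node (2277,196,1) .nil .nil) .nil) (.node (534,110,0) .nil .nil)) (.node (1087,52,0) (.node (2152,88,1) .nil .nil) (.node (921,144,2) .nil .nil))))) (.node (640,4,1) (.node (1138,7,1) (.node (372,13,1) (.node (436,26,1) (.node (39,58,1) (.node (596,158,0) .nil .nil) .nil) (.node (2172,95,0)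 .nil .nil)) (.node (2074,41,0) (.node (2041,76,0) (.node (1548,241,0) .nil .nil) .nil) (.node (482,119,0) .nil .nil))) (.node (459,20,0) (.node (168,34,0) (.node (1321,66,1) (.node (1677,181,1) .nil .nil) .nil) (.node (1077,106,2) .nil .nil)) (.node (606,49,0) (.node (123,86,1) .nil .nil) (.node (628,141,2) .nil .nil)))) (.node (1072,10,1) (.node (2037,16,1) (.node (46,29,2) (.node (890,62,0) (.node (2099,169,2) .nil .nil) .nil) (.node (601,100,0) .nil .nil)) (.node (134,44,2) (.node (798,81,0) .nil .nil) (.node (787,130,0) .nil .nil))) (.node (2269,23,1) (.node (1578,37,1) (.node (915,71,2) (.node (402,202,1) .nil .nil) .nil) (.node (2006,112,2) .nil .nil)) (.node (2007,53,2) (.node (326,90,0) .nil .nil) (.node (2303,148,1) .nil .nil))))))) (.node (1075,0,1) (.node (1149,1,0) (.node (1118,2,1) (.node (1325,5,1) (.node (467,11,2) (.node (435,24,1) (.node (718,55,2) (.node (1065,151,1) .nil .nil) .nil) (.node (374,92,2) .nil .nil)) (.node (1613,38,2) (.node (1567,73,1) (.node (582,223,2) .nil .nil) .nil) (.node (1315,113,2)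 .nil .nil))) (.node (2029,17,2) (.node (1337,31,1) (.node (698,64,0) (.node (541,172,1) .nil .nil) .nil) (.node (1598,104,0) .nil .nil)) (.node (2051,45,2) (.node (775,83,0) .nil .nil) (.node (324,135,0) .nil .nil)))) (.node (2148,8,1) (.node (1611,14,2) (.node (993,27,2) (.node (897,60,1) (.node (1114,161,0) .nil .nil) .nil) (.node (1333,97,0) .nil .nil)) (.node (1404,42,1) (.node (1106,78,1) (.node (811,264,0) .nil .nil) .nil) (.node (1565,122,1) .nil .nil))) (.node (400,21,0) (.node (1327,35,0) (.node (591,67,2) (.node (1092,189,1) .nil .nil) .nil) (.node (621,109,2) .nil .nil)) (.node (387,50,2) (.node (113,87,2) .nil .nil) (.node (1068,143,0) .nil .nil))))) (.node (2065,4,0) (.node (538,7,0) (.node (2035,13,0) (.node (369,26,0) (.node (570,57,2) (.node (1041,157,0) .nil .nil) .nil) (.node (290,94,0) .nil .nil)) (.node (1556,40,2) (.node (597,75,2) (.node (1027,240,1) .nil .nil) .nil) (.node (1757,118,2) .nil .nil))) (.node (486,19,0) (.node (724,33,2) (.node (176,66,0) (.node (507,180,2) .nil .nil) .nil) (.node (2070,106,0)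 .nil .nil)) (.node (602,47,2) (.node (48,86,0) .nil .nil) (.node (630,140,0) .nil .nil)))) (.node (433,10,0) (.node (471,16,0) (.node (613,29,1) (.node (319,61,2) (.node (889,168,1) .nil .nil) .nil) (.node (816,99,1) .nil .nil)) (.node (1142,44,1) (.node (786,80,1) .nil .nil) (.node (1558,126,0) .nil .nil))) (.node (429,23,0) (.node (2092,37,0) (.node (950,70,2) (.node (139,200,0) .nil .nil) .nil) (.node (392,111,2) .nil .nil)) (.node (341,53,0) (.node (667,89,2) .nil .nil) (.node (1089,147,2) .nil .nil)))))) (.node (1543,1,2) (.node (797,3,0) (.node (2061,6,0) (.node (342,12,1) (.node (785,25,0) (.node (1044,56,2) (.node (1055,153,0) .nil .nil) .nil) (.node (1011,93,1) .nil .nil)) (.node (838,39,1) (.node (1045,74,0) (.node (1385,234,0) .nil .nil) .nil) (.node (2058,117,0) .nil .nil))) (.node (399,18,1) (.node (1099,32,2) (.node (2097,65,0) (.node (2107,176,0) .nil .nil) .nil) (.node (2163,105,0) .nil .nil)) (.node (59,46,2) (.node (1553,84,0) .nil .nil) (.node (426,139,0) .nil .nil)))) (.node (390,9,0) (.node (893,15,1)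 (.node (1717,28,1) (.node (2052,61,0) (.node (885,162,2) .nil .nil) .nil) (.node (850,98,0) .nil .nil)) (.node (2045,43,0) (.node (375,79,0) (.node (1110,267,2) .nil .nil) .nil) (.node (235,124,1) .nil .nil))) (.node (529,22,0) (.node (393,36,1) (.node (62,69,1) (.node (1335,198,1) .nil .nil) .nil) (.node (1627,110,1) .nil .nil)) (.node (843,52,1) (.node (623,88,2) .nil .nil) (.node (1051,146,1) .nil .nil))))) (.node (172,4,2) (.node (221,7,2) (.node (1594,13,2) (.node (2054,26,2) (.node (1129,58,2) (.node (1053,160,0) .nil .nil) .nil) (.node (461,95,1) .nil .nil)) (.node (1319,41,2) (.node (1069,76,2) (.node (860,253,2) .nil .nil) .nil) (.node (763,119,2) .nil .nil))) (.node (335,20,1) (.node (933,34,1) (.node (609,66,2) (.node (71,187,0) .nil .nil) .nil) (.node (442,108,1) .nil .nil)) (.node (2294,49,2) (.node (847,86,2) .nil .nil) (.node (807,142,0) .nil .nil)))) (.node (2038,10,2) (.node (1081,16,2) (.node (49,30,0) (.node (594,63,0) (.node (1098,170,1) .nil .nil) .nil) (.node (2302,100,2) .nil .nil)) (.node (1152,45,0)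 (.node (2268,81,1) .nil .nil) (.node (56,130,2) .nil .nil))) (.node (1148,23,2) (.node (2106,37,2) (.node (446,72,0) (.node (778,202,2) .nil .nil) .nil) (.node (389,113,0) .nil .nil)) (.node (780,54,0) (.node (2044,90,2) .nil .nil) (.node (1018,148,2) .nil .nil))))))))

/-- The size of an orbit. -/
def treeGood1_0Size : ℕ :=
  975

/-- Part of `treeGood1_0`. -/
noncomputable def treeGood1_0_l : Arr (ℕ × ℕ × ℕ) :=
  (.node (3371,0,0) (.node (3121,0,2) (.node (2803,2,0) (.node (2746,5,0) (.node (2939,11,0) (.node (3847,23,1) (.node (3445,49,0) (.node (3090,108,0) (.node (4015,249,2) .nil .nil) (.node (2660,433,2) .nil .nil)) (.node (2329,173,2) (.node (3468,330,1) .nil .nil) (.node (2748,607,0) .nil .nil))) (.node (3829,76,1) (.node (3235,140,0) (.node (3882,288,1) .nil .nil) (.node (3159,510,0) .nil .nil)) (.node (3550,209,2) (.node (2865,370,0) .nil .nil) (.node (2607,791,2) .nil .nil)))) (.node (3241,36,0) (.node (3421,62,2) (.node (3482,123,0) (.node (2353,268,2) .nil .nil) (.node (3177,479,1) .nil .nil)) (.node (4049,189,2)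 (.node (3540,351,0) .nil .nil) (.node (3501,666,1) .nil .nil))) (.node (3146,90,1) (.node (2940,154,0) (.node (3969,305,0) .nil .nil) (.node (2712,554,2) .nil .nil)) (.node (3418,230,1) (.node (3695,405,1) .nil .nil) .nil)))) (.node (3503,17,0) (.node (3555,29,1) (.node (3528,56,2) (.node (3128,115,0) (.node (3113,260,0) .nil .nil) (.node (2663,457,2) .nil .nil)) (.node (3574,181,2) (.node (3331,341,2) .nil .nil) (.node (2638,637,0) .nil .nil))) (.node (4011,83,1) (.node (3809,147,1) (.node (2570,297,0) .nil .nil) (.node (3366,525,2) .nil .nil)) (.node (3644,219,2) (.node (2726,385,0) .nil .nil) .nil))) (.node (3630,42,2) (.node (2446,70,0) (.node (3035,130,2) (.node (3463,278,2) .nil .nil) (.node (3680,494,1) .nil .nil)) (.node (2347,199,0) (.node (2767,360,0) .nil .nil) (.node (3832,703,2) .nil .nil))) (.node (2715,99,1) (.node (3773,164,0) (.node (3330,317,1) .nil .nil) (.node (2622,578,1) .nil .nil)) (.node (2496,241,0) (.node (2517,419,0) .nil .nil) .nil))))) (.node (2838,8,0) (.node (2502,14,0) (.node (2455,26,1) (.node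 (3234,53,2) (.node (3407,111,2) (.node (2916,254,2) .nil .nil) (.node (2464,445,2) .nil .nil)) (.node (2599,178,0) (.node (3373,335,2) .nil .nil) (.node (3318,619,1) .nil .nil))) (.node (3897,79,2) (.node (2582,144,0) (.node (3028,292,1) .nil .nil) (.node (3213,518,1) .nil .nil)) (.node (2593,214,0) (.node (3519,377,2) .nil .nil) (.node (3925,829,2) .nil .nil)))) (.node (2904,39,0) (.node (2631,65,2) (.node (2811,127,1) (.node (3858,272,2) .nil .nil) (.node (3577,484,2) .nil .nil)) (.node (4054,195,1) (.node (2750,355,2) .nil .nil) (.node (3016,688,0) .nil .nil))) (.node (2641,95,1) (.node (2339,158,0) (.node (3460,310,1) .nil .nil) (.node (3622,566,2) .nil .nil)) (.node (3887,235,2) (.node (3996,412,0) .nil .nil) .nil)))) (.node (3711,20,1) (.node (3303,33,0) (.node (2312,59,2) (.node (2820,118,0) (.node (3624,264,2) .nil .nil) (.node (3582,468,0) .nil .nil)) (.node (3297,185,0) (.node (2606,345,2) .nil .nil) (.node (3224,657,2) .nil .nil))) (.node (2546,87,0) (.node (2909,150,1) (.node (3987,301,0) .nil .nil) (.node (2869,539,0)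 .nil .nil)) (.node (3991,226,0) (.node (3653,396,2) .nil .nil) .nil))) (.node (2518,45,2) (.node (2328,73,1) (.node (3250,136,0) (.node (3439,283,1) .nil .nil) (.node (3248,502,1) .nil .nil)) (.node (2721,203,0) (.node (3109,366,0) .nil .nil) (.node (3034,737,0) .nil .nil))) (.node (2341,103,2) (.node (3684,169,2) (.node (3476,323,2) .nil .nil) (.node (3879,594,1) .nil .nil)) (.node (2928,245,2) (.node (2604,426,0) .nil .nil) .nil)))))) (.node (2507,3,2) (.node (3561,6,2) (.node (2558,12,2) (.node (2313,24,2) (.node (2680,50,2) (.node (3480,110,0) (.node (3479,252,1) .nil .nil) (.node (3293,437,2) .nil .nil)) (.node (3765,176,2) (.node (3344,333,2) .nil .nil) (.node (3568,613,0) .nil .nil))) (.node (3397,78,1) (.node (3265,142,1) (.node (2961,290,1) .nil .nil) (.node (3774,513,0) .nil .nil)) (.node (2655,212,0) (.node (2342,374,1) .nil .nil) (.node (3386,814,1) .nil .nil)))) (.node (3176,37,1) (.node (2566,64,0) (.node (3553,124,2) (.node (3867,270,0) .nil .nil) (.node (3744,483,0) .nil .nil)) (.node (3214,192,2) (.node (2882,353,0)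 .nil .nil) (.node (2551,672,0) .nil .nil))) (.node (3434,93,2) (.node (4047,155,2) (.node (3812,308,1) .nil .nil) (.node (3210,563,0) .nil .nil)) (.node (2959,233,0) (.node (2698,408,1) .nil .nil) .nil)))) (.node (3663,18,2) (.node (3631,31,1) (.node (3506,58,0) (.node (3447,116,2) (.node (3588,261,2) .nil .nil) (.node (2764,463,0) .nil .nil)) (.node (3706,183,1) (.node (2583,343,1) .nil .nil) (.node (3821,651,2) .nil .nil))) (.node (2440,85,0) (.node (2819,148,2) (.node (2529,299,0) .nil .nil) (.node (3932,534,1) .nil .nil)) (.node (3548,222,1) (.node (2531,393,0) .nil .nil) .nil))) (.node (2538,44,1) (.node (2935,71,2) (.node (3435,133,2) (.node (3656,281,0) .nil .nil) (.node (3280,498,0) .nil .nil)) (.node (2769,200,2) (.node (2837,364,2) .nil .nil) (.node (2736,715,0) .nil .nil))) (.node (2544,101,1) (.node (3598,166,2) (.node (3654,322,0) .nil .nil) (.node (3689,587,1) .nil .nil)) (.node (3922,243,1) (.node (3428,421,1) .nil .nil) .nil))))) (.node (2434,9,2) (.node (2723,15,2) (.node (3263,28,0) (.node (3298,55,0) (.node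 (3252,113,2) (.node (2892,257,1) .nil .nil) (.node (3931,450,2) .nil .nil)) (.node (2858,179,2) (.node (2337,339,0) .nil .nil) (.node (2828,629,0) .nil .nil))) (.node (3962,81,1) (.node (3674,145,2) (.node (3275,294,1) .nil .nil) (.node (3945,521,0) .nil .nil)) (.node (2999,216,0) (.node (4041,382,2) .nil .nil) (.node (3916,853,0) .nil .nil)))) (.node (3125,41,0) (.node (2370,68,1) (.node (2477,128,2) (.node (3327,276,0) .nil .nil) (.node (3209,489,0) .nil .nil)) (.node (4019,197,2) (.node (3043,357,2) .nil .nil) (.node (2398,696,2) .nil .nil))) (.node (3752,98,0) (.node (3633,161,0) (.node (3525,312,1) .nil .nil) (.node (3634,572,0) .nil .nil)) (.node (2856,238,0) (.node (3458,415,0) .nil .nil) .nil)))) (.node (2822,21,2) (.node (3762,34,1) (.node (3538,61,0) (.node (3735,120,0) (.node (2426,266,1) .nil .nil) (.node (3668,471,1) .nil .nil)) (.node (3894,187,2) (.node (2524,347,1) .nil .nil) (.node (2429,660,2) .nil .nil))) (.node (2630,88,1) (.node (4036,152,1) (.node (3952,302,2) .nil .nil) (.node (2457,549,1) .nil .nil))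 (.node (3667,228,0) (.node (3084,402,2) .nil .nil) .nil))) (.node (3824,47,1) (.node (3085,75,0) (.node (3201,138,2) (.node (2741,286,1) .nil .nil) (.node (2697,505,0) .nil .nil)) (.node (2986,206,2) (.node (3054,368,1) .nil .nil) (.node (2948,774,2) .nil .nil))) (.node (3917,106,2) (.node (2949,172,0) (.node (3557,327,2) .nil .nil) (.node (2719,600,0) .nil .nil)) (.node (3691,247,0) (.node (3981,429,2) .nil .nil) .nil))))))) (.node (3329,1,1) (.node (3219,2,2) (.node (2619,5,2) (.node (3272,12,0) (.node (3001,24,0) (.node (3669,49,2) (.node (2673,109,0) (.node (3135,251,0) .nil .nil) (.node (3777,435,0) .nil .nil)) (.node (3895,174,2) (.node (3972,331,0) .nil .nil) (.node (3206,609,0) .nil .nil))) (.node (4023,77,0) (.node (3647,141,2) (.node (2784,289,2) .nil .nil) (.node (3332,512,0) .nil .nil)) (.node (3005,210,2) (.node (2676,373,0) .nil .nil) (.node (3370,806,1) .nil .nil)))) (.node (2905,36,2) (.node (3666,63,1) (.node (4020,123,2) (.node (2470,269,1) .nil .nil) (.node (2633,480,2) .nil .nil)) (.node (2899,190,1) (.node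 (2627,352,0) .nil .nil) (.node (3611,669,0) .nil .nil))) (.node (3186,92,0) (.node (3039,155,0) (.node (2640,306,2) .nil .nil) (.node (3901,559,0) .nil .nil)) (.node (3340,231,0) (.node (2355,407,0) .nil .nil) .nil)))) (.node (2785,18,0) (.node (2555,30,0) (.node (3450,57,1) (.node (2431,115,2) (.node (2881,260,2) .nil .nil) (.node (3406,460,2) .nil .nil)) (.node (3216,182,2) (.node (2454,342,2) .nil .nil) (.node (3312,645,2) .nil .nil))) (.node (3116,84,0) (.node (3842,148,0) (.node (3485,298,0) .nil .nil) (.node (3660,527,0) .nil .nil)) (.node (3749,221,0) (.node (2392,391,1) .nil .nil) .nil))) (.node (3196,43,2) (.node (3082,71,0) (.node (3269,132,0) (.node (3500,280,0) .nil .nil) (.node (3401,496,0) .nil .nil)) (.node (4033,200,0) (.node (2391,360,2) .nil .nil) (.node (3364,713,1) .nil .nil))) (.node (3286,100,0) (.node (2893,166,0) (.node (3222,319,0) .nil .nil) (.node (2876,584,2) .nil .nil)) (.node (3756,241,2) (.node (2781,420,0) .nil .nil) .nil))))) (.node (2927,8,2) (.node (2674,15,0) (.node (2989,27,0) (.node (3158,54,1)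 (.node (3995,112,2) (.node (3380,256,0) .nil .nil) (.node (2975,448,0) .nil .nil)) (.node (2775,178,2) (.node (3936,337,2) .nil .nil) (.node (3834,626,0) .nil .nil))) (.node (3655,80,2) (.node (2572,144,2) (.node (3770,293,0) .nil .nil) (.node (3865,519,2) .nil .nil)) (.node (3604,214,2) (.node (3552,381,1) .nil .nil) (.node (2402,834,0) .nil .nil)))) (.node (3801,40,0) (.node (2965,67,2) (.node (2690,128,0) (.node (3294,274,1) .nil .nil) (.node (3122,487,0) .nil .nil)) (.node (3712,197,0) (.node (3720,357,0) .nil .nil) (.node (2922,692,1) .nil .nil))) (.node (2556,96,2) (.node (3778,158,2) (.node (3632,311,2) .nil .nil) (.node (3086,570,1) .nil .nil)) (.node (3449,236,2) (.node (3153,413,1) .nil .nil) .nil)))) (.node (3088,21,0) (.node (2863,33,2) (.node (2573,60,1) (.node (3427,119,0) (.node (2826,265,2) .nil .nil) (.node (2756,469,0) .nil .nil)) (.node (2612,185,2) (.node (3415,346,2) .nil .nil) (.node (3989,659,0) .nil .nil))) (.node (3703,87,2) (.node (3112,151,2) (.node (2924,301,2) .nil .nil) (.node (2598,546,2) .nil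 .nil)) (.node (3817,226,2) (.node (2782,398,0) .nil .nil) .nil))) (.node (3846,46,2) (.node (3230,74,0) (.node (3218,137,1) (.node (2387,285,2) .nil .nil) (.node (2902,504,0) .nil .nil)) (.node (2486,203,2) (.node (4038,367,2) .nil .nil) (.node (2942,769,1) .nil .nil))) (.node (3746,105,1) (.node (2874,171,0) (.node (3389,324,2) .nil .nil) (.node (3004,598,2) .nil .nil)) (.node (3178,246,1) (.node (3003,426,2) .nil .nil) .nil)))))) (.node (3934,4,1) (.node (2372,7,1) (.node (3374,13,1) (.node (2758,25,2) (.node (2374,52,1) (.node (3256,110,2) (.node (2503,253,2) .nil .nil) (.node (4004,442,2) .nil .nil)) (.node (3400,177,1) (.node (4027,335,0) .nil .nil) (.node (3992,614,1) .nil .nil))) (.node (3701,79,0) (.node (3020,143,0) (.node (2433,291,0) .nil .nil) (.node (2491,516,0) .nil .nil)) (.node (3432,212,2) (.node (2417,377,0) .nil .nil) (.node (3569,820,2) .nil .nil)))) (.node (2847,38,0) (.node (3921,65,0) (.node (2825,125,2) (.node (3180,271,0) .nil .nil) (.node (2914,483,2) .nil .nil)) (.node (3537,194,0) (.node (2778,354,1)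 .nil .nil) (.node (2311,679,0) .nil .nil))) (.node (3249,94,2) (.node (3986,157,0) (.node (3570,309,0) .nil .nil) (.node (2795,564,2) .nil .nil)) (.node (3715,234,1) (.node (4021,410,2) .nil .nil) .nil)))) (.node (3057,19,2) (.node (4029,32,0) (.node (2957,58,2) (.node (3980,117,1) (.node (2751,264,0) .nil .nil) (.node (2428,465,2) .nil .nil)) (.node (3087,184,0) (.node (2966,344,1) .nil .nil) (.node (2929,654,2) .nil .nil))) (.node (4046,85,2) (.node (2972,149,2) (.node (3002,300,1) .nil .nil) (.node (3907,536,2) .nil .nil)) (.node (3805,225,0) (.node (3289,395,0) .nil .nil) .nil))) (.node (3826,45,0) (.node (2877,72,2) (.node (2945,134,2) (.node (3559,281,2) .nil .nil) (.node (2988,501,2) .nil .nil)) (.node (2424,202,0) (.node (2327,365,1) .nil .nil) (.node (3509,723,2) .nil .nil))) (.node (3731,103,0) (.node (2851,167,2) (.node (3982,323,0) .nil .nil) (.node (3188,588,2) .nil .nil)) (.node (2829,245,0) (.node (2994,424,2) .nil .nil) .nil))))) (.node (3776,10,1) (.node (3912,16,1) (.node (3136,28,2) (.node (2480,55,2) (.node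 (2602,114,1) (.node (2860,258,2) .nil .nil) (.node (3108,451,2) .nil .nil)) (.node (3759,180,1) (.node (3299,340,2) .nil .nil) (.node (2547,633,2) .nil .nil))) (.node (2817,82,0) (.node (3145,146,2) (.node (3171,295,0) .nil .nil) (.node (2645,523,0) .nil .nil)) (.node (3967,216,2) (.node (3839,384,0) .nil .nil) (.node (3515,894,2) .nil .nil)))) (.node (3754,41,2) (.node (3797,69,0) (.node (3623,130,0) (.node (3610,277,2) .nil .nil) (.node (3878,490,0) .nil .nil)) (.node (3489,198,1) (.node (2912,359,0) .nil .nil) (.node (2772,700,2) .nil .nil))) (.node (3454,98,2) (.node (3825,162,0) (.node (3629,315,0) .nil .nil) (.node (4056,575,1) .nil .nil)) (.node (3497,239,2) (.node (3387,416,0) .nil .nil) .nil)))) (.node (3567,22,2) (.node (3189,35,0) (.node (3323,62,0) (.node (3379,121,0) (.node (2793,267,2) .nil .nil) (.node (2332,478,1) .nil .nil)) (.node (3730,188,1) (.node (3132,349,2) .nil .nil) (.node (3886,662,2) .nil .nil))) (.node (3536,89,0) (.node (2910,153,1) (.node (3650,304,1) .nil .nil) (.node (3356,552,0) .nil .nil))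 (.node (2815,229,2) (.node (2614,403,2) .nil .nil) .nil))) (.node (2571,48,0) (.node (2378,75,2) (.node (3523,139,1) (.node (3971,287,1) .nil .nil) (.node (2761,506,2) .nil .nil)) (.node (3080,207,1) (.node (3820,369,0) .nil .nil) (.node (3313,786,0) .nil .nil))) (.node (3722,107,1) (.node (3416,173,0) (.node (3733,329,0) .nil .nil) (.node (3245,604,2) .nil .nil)) (.node (2530,248,2) (.node (2514,431,2) .nil .nil) .nil))))))))

/-- Part of `treeGood1_0`. -/
noncomputable def treeGood1_0_r : Arr (ℕ × ℕ × ℕ) :=
  (.node (2774,0,1) (.node (3452,1,0) (.node (3708,2,1) (.node (2685,5,1) (.node (2574,11,2) (.node (3361,23,2) (.node (3457,49,1) (.node (4009,108,1) (.node (3173,250,0) .nil .nil) (.node (2742,434,2) .nil .nil)) (.node (3944,174,0) (.node (3322,330,2) .nil .nil) (.node (3081,608,2) .nil .nil))) (.node (3556,76,2) (.node (2382,140,2) (.node (2731,288,2) .nil .nil) (.node (3512,510,2) .nil .nil)) (.node (3306,210,0) (.node (3779,371,2) .nil .nil) (.node (3928,798,0) .nil .nil)))) (.node (3593,36,1) (.node (2499,63,0)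 (.node (3994,123,1) (.node (2603,269,0) .nil .nil) (.node (3885,479,2) .nil .nil)) (.node (3475,190,0) (.node (3375,351,2) .nil .nil) (.node (2509,668,1) .nil .nil))) (.node (3970,91,2) (.node (3768,154,2) (.node (3190,306,1) .nil .nil) (.node (3050,555,1) .nil .nil)) (.node (3285,230,2) (.node (3687,406,2) .nil .nil) .nil)))) (.node (3226,17,2) (.node (3586,29,2) (.node (3923,57,0) (.node (3192,115,1) (.node (4057,260,1) .nil .nil) (.node (3504,459,0) .nil .nil)) (.node (2498,182,0) (.node (3126,342,0) .nil .nil) (.node (2430,644,0) .nil .nil))) (.node (2542,83,2) (.node (2617,147,2) (.node (2955,297,1) .nil .nil) (.node (3181,526,0) .nil .nil)) (.node (3221,220,0) (.node (2543,387,0) .nil .nil) .nil))) (.node (2485,43,0) (.node (2814,70,2) (.node (3836,131,0) (.node (3473,279,2) .nil .nil) (.node (2926,495,0) .nil .nil)) (.node (3198,199,2) (.node (2779,360,1) .nil .nil) (.node (2568,712,0) .nil .nil))) (.node (3692,99,2) (.node (2442,165,0) (.node (2346,318,2) .nil .nil) (.node (2976,578,2) .nil .nil)) (.node (2707,241,1)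 (.node (2789,419,2) .nil .nil) .nil))))) (.node (2520,8,1) (.node (3521,14,2) (.node (2377,26,2) (.node (2681,54,0) (.node (3988,112,0) (.node (2364,255,0) .nil .nil) (.node (3204,446,0) .nil .nil)) (.node (3785,178,1) (.node (3743,337,0) .nil .nil) (.node (3148,625,2) .nil .nil))) (.node (3068,80,0) (.node (3599,144,1) (.node (3412,292,2) .nil .nil) (.node (2479,519,0) .nil .nil)) (.node (3019,214,1) (.node (3636,379,1) .nil .nil) (.node (3211,830,2) .nil .nil)))) (.node (2449,39,2) (.node (4001,66,2) (.node (2749,127,2) (.node (3639,273,2) .nil .nil) (.node (3769,486,0) .nil .nil)) (.node (3134,196,2) (.node (3845,356,0) .nil .nil) (.node (2453,690,2) .nil .nil))) (.node (3621,95,2) (.node (3854,158,1) (.node (3999,311,1) .nil .nil) (.node (3465,569,0) .nil .nil)) (.node (2367,236,0) (.node (3059,412,2) .nil .nil) .nil)))) (.node (2368,20,2) (.node (2437,33,1) (.node (3815,60,0) (.node (2995,118,2) (.node (3455,265,0) .nil .nil) (.node (3268,468,1) .nil .nil)) (.node (2452,185,1) (.node (3129,346,0) .nil .nil) (.node (2670,658,2)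 .nil .nil))) (.node (3253,87,1) (.node (3102,151,0) (.node (3966,301,1) .nil .nil) (.node (3053,543,2) .nil .nil)) (.node (3876,226,1) (.node (3229,397,1) .nil .nil) .nil))) (.node (3403,46,0) (.node (3097,73,2) (.node (3305,137,0) (.node (3620,285,0) .nil .nil) (.node (2448,503,2) .nil .nil)) (.node (3309,203,1) (.node (2990,367,1) .nil .nil) (.node (3898,742,2) .nil .nil))) (.node (3066,104,2) (.node (2425,170,0) (.node (3544,324,0) .nil .nil) (.node (3368,598,0) .nil .nil)) (.node (3661,246,0) (.node (3601,426,1) .nil .nil) .nil)))))) (.node (2651,4,0) (.node (3840,7,0) (.node (2495,13,0) (.node (3467,25,0) (.node (2702,51,0) (.node (2587,110,1) (.node (3183,252,2) .nil .nil) (.node (3673,441,2) .nil .nil)) (.node (2836,177,0) (.node (3891,334,2) .nil .nil) (.node (2747,613,2) .nil .nil))) (.node (3174,78,2) (.node (2615,142,2) (.node (2950,290,2) .nil .nil) (.node (3052,515,2) .nil .nil)) (.node (3398,212,1) (.node (2422,376,1) .nil .nil) (.node (2901,814,2) .nil .nil)))) (.node (2626,37,2) (.node (2787,64,2) (.node (3075,125,0)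 (.node (2548,270,2) .nil .nil) (.node (3562,483,1) .nil .nil)) (.node (2534,193,0) (.node (4028,353,1) .nil .nil) (.node (3871,676,0) .nil .nil))) (.node (2412,94,0) (.node (2528,156,2) (.node (3365,308,2) .nil .nil) (.node (3875,563,1) .nil .nil)) (.node (2974,234,0) (.node (2898,410,0) .nil .nil) .nil)))) (.node (3851,19,0) (.node (2537,31,2) (.node (2461,58,1) (.node (2354,117,0) (.node (3357,262,2) .nil .nil) (.node (2349,464,1) .nil .nil)) (.node (3436,183,2) (.node (2394,344,0) .nil .nil) (.node (3734,652,1) .nil .nil))) (.node (3740,85,1) (.node (3580,149,0) (.node (2324,300,0) .nil .nil) (.node (3260,535,2) .nil .nil)) (.node (3641,223,1) (.node (3236,393,2) .nil .nil) .nil))) (.node (3517,44,2) (.node (2954,72,0) (.node (3359,134,0) (.node (3350,281,1) .nil .nil) (.node (3545,499,0) .nil .nil)) (.node (3017,201,2) (.node (3926,365,0) .nil .nil) (.node (3488,721,0) .nil .nil))) (.node (3013,102,0) (.node (2760,167,0) (.node (2360,322,2) .nil .nil) (.node (2405,587,2) .nil .nil)) (.node (2512,244,1) (.node (2696,424,0)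 .nil .nil) .nil))))) (.node (2506,10,0) (.node (3998,16,0) (.node (2362,28,1) (.node (3316,55,1) (.node (2889,114,0) (.node (2550,258,0) .nil .nil) (.node (3124,451,0) .nil .nil)) (.node (3310,180,0) (.node (3909,340,0) .nil .nil) (.node (3164,631,2) .nil .nil))) (.node (3239,81,2) (.node (4059,146,0) (.node (2423,294,2) .nil .nil) (.node (2644,521,2) .nil .nil)) (.node (3771,216,1) (.node (3242,383,0) .nil .nil) (.node (2600,892,1) .nil .nil)))) (.node (2823,41,1) (.node (2958,68,2) (.node (3405,129,0) (.node (2419,276,2) .nil .nil) (.node (2979,489,2) .nil .nil)) (.node (3913,198,0) (.node (3438,358,0) .nil .nil) (.node (3462,698,0) .nil .nil))) (.node (4058,98,1) (.node (2692,161,2) (.node (2701,312,2) .nil .nil) (.node (3362,574,2) .nil .nil)) (.node (3147,238,2) (.node (3092,415,2) .nil .nil) .nil)))) (.node (3261,22,0) (.node (2358,34,2) (.node (2768,61,2) (.node (2415,120,1) (.node (3491,266,2) .nil .nil) (.node (3346,476,0) .nil .nil)) (.node (2393,188,0) (.node (3502,349,1) .nil .nil) (.node (3413,662,1) .nil .nil)))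 (.node (2802,88,2) (.node (2745,152,2) (.node (2941,303,0) .nil .nil) (.node (2408,551,2) .nil .nil)) (.node (2816,228,1) (.node (3958,403,1) .nil .nil) .nil))) (.node (4048,47,2) (.node (3911,75,1) (.node (2463,139,0) (.node (3072,287,0) .nil .nil) (.node (3101,505,1) .nil .nil)) (.node (2521,207,0) (.node (2839,368,2) .nil .nil) (.node (2688,777,0) .nil .nil))) (.node (2744,107,0) (.node (3818,172,2) (.node (3831,328,1) .nil .nil) (.node (3892,602,1) .nil .nil)) (.node (2628,247,2) (.node (4000,430,0) .nil .nil) .nil))))))) (.node (2757,1,2) (.node (3626,3,0) (.node (3262,6,0) (.node (3041,12,1) (.node (2469,24,1) (.node (2388,50,1) (.node (3411,109,2) (.node (3823,252,0) .nil .nil) (.node (2533,435,2) .nil .nil)) (.node (3115,175,2) (.node (2585,332,1) .nil .nil) (.node (3617,612,0) .nil .nil))) (.node (2310,77,2) (.node (3441,142,0) (.node (3425,290,0) .nil .nil) (.node (3130,512,2) .nil .nil)) (.node (3565,211,0) (.node (3576,374,0) .nil .nil) (.node (2728,808,0) .nil .nil)))) (.node (3139,37,0) (.node (3694,63,2) (.node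 (3155,124,0) (.node (3870,269,2) .nil .nil) (.node (2968,481,2) .nil .nil)) (.node (3111,190,2) (.node (3638,352,2) .nil .nil) (.node (2800,670,2) .nil .nil))) (.node (2689,93,1) (.node (2647,155,1) (.node (3728,307,2) .nil .nil) (.node (3780,561,1) .nil .nil)) (.node (3493,231,2) (.node (4040,408,0) .nil .nil) .nil)))) (.node (2381,18,1) (.node (2717,30,2) (.node (3335,57,2) (.node (2411,116,0) (.node (2885,261,0) .nil .nil) (.node (3382,462,2) .nil .nil)) (.node (3899,183,0) (.node (3609,343,0) .nil .nil) (.node (3761,646,2) .nil .nil))) (.node (2848,84,2) (.node (2791,148,1) (.node (2465,298,1) .nil .nil) (.node (3063,530,2) .nil .nil)) (.node (2821,222,0) (.node (3848,392,2) .nil .nil) .nil))) (.node (3670,44,0) (.node (3496,71,1) (.node (3133,133,1) (.node (3296,280,2) .nil .nil) (.node (2484,497,2) .nil .nil)) (.node (2827,200,1) (.node (2864,364,0) .nil .nil) (.node (3739,714,2) .nil .nil))) (.node (3742,101,0) (.node (3714,166,1) (.node (3914,320,2) .nil .nil) (.node (2321,585,2) .nil .nil)) (.node (2682,243,0) (.node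 (2409,420,1) .nil .nil) .nil))))) (.node (3766,9,0) (.node (2946,15,1) (.node (2504,27,2) (.node (2335,54,2) (.node (2586,113,0) (.node (3750,256,1) .nil .nil) (.node (3107,449,2) .nil .nil)) (.node (3338,179,0) (.node (2579,338,0) .nil .nil) (.node (3849,627,1) .nil .nil))) (.node (2553,81,0) (.node (3658,145,1) (.node (3470,294,0) .nil .nil) (.node (3857,520,0) .nil .nil)) (.node (3675,215,2) (.node (3904,382,0) .nil .nil) (.node (3348,837,1) .nil .nil)))) (.node (2580,40,2) (.node (2584,68,0) (.node (3578,128,1) (.node (3903,274,2) .nil .nil) (.node (2917,488,1) .nil .nil)) (.node (3975,197,1) (.node (4026,357,1) .nil .nil) (.node (3603,696,0) .nil .nil))) (.node (2427,97,0) (.node (3803,160,2) (.node (2497,312,0) .nil .nil) (.node (3855,571,0) .nil .nil)) (.node (2659,237,2) (.node (3530,414,1) .nil .nil) .nil)))) (.node (3007,21,1) (.node (2526,34,0) (.node (3291,60,2) (.node (2868,119,2) (.node (3837,266,0) .nil .nil) (.node (4007,470,0) .nil .nil)) (.node (3781,187,1) (.node (4034,347,0) .nil .nil) (.node (3202,659,1)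 .nil .nil))) (.node (3314,88,0) (.node (3606,152,0) (.node (3937,302,0) .nil .nil) (.node (2597,549,0) .nil .nil)) (.node (2810,227,2) (.node (2395,401,2) .nil .nil) .nil))) (.node (3700,47,0) (.node (3264,74,2) (.node (2515,137,2) (.node (2729,286,0) .nil .nil) (.node (4043,504,2) .nil .nil)) (.node (3651,204,2) (.node (2923,368,0) .nil .nil) (.node (3984,772,0) .nil .nil))) (.node (3170,105,2) (.node (2884,171,1) (.node (3446,327,1) .nil .nil) (.node (3079,599,2) .nil .nil)) (.node (3067,246,2) (.node (2925,429,0) .nil .nil) .nil)))))) (.node (2635,4,2) (.node (3091,7,2) (.node (2356,13,2) (.node (3841,26,0) (.node (3732,52,2) (.node (2722,111,0) (.node (4002,254,0) .nil .nil) (.node (3584,445,0) .nil .nil)) (.node (2397,177,2) (.node (2807,335,1) .nil .nil) (.node (4053,614,2) .nil .nil))) (.node (3161,79,1) (.node (2759,143,2) (.node (3076,291,2) .nil .nil) (.node (3199,517,0) .nil .nil)) (.node (4037,213,2) (.node (3490,377,1) .nil .nil) (.node (2557,825,0) .nil .nil)))) (.node (3444,38,2) (.node (3474,65,1) (.node (3685,127,0)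 (.node (2982,271,2) .nil .nil) (.node (3077,484,1) .nil .nil)) (.node (3844,194,2) (.node (3534,354,2) .nil .nil) (.node (3682,681,2) .nil .nil))) (.node (2662,95,0) (.node (2577,157,2) (.node (3056,310,0) .nil .nil) (.node (2967,565,0) .nil .nil)) (.node (3810,235,1) (.node (2699,411,0) .nil .nil) .nil)))) (.node (3281,20,0) (.node (3471,32,2) (.node (3343,59,0) (.node (3341,117,2) (.node (3833,264,1) .nil .nil) (.node (2410,467,1) .nil .nil)) (.node (2693,184,2) (.node (3026,345,0) .nil .nil) (.node (2846,656,1) .nil .nil))) (.node (3613,86,0) (.node (2590,150,0) (.node (3679,300,2) .nil .nil) (.node (2609,538,1) .nil .nil)) (.node (2920,225,1) (.node (3896,395,2) .nil .nil) .nil))) (.node (3930,45,1) (.node (2987,73,0) (.node (3947,135,0) (.node (3716,282,0) .nil .nil) (.node (3877,502,0) .nil .nil)) (.node (3456,202,2) (.node (3543,365,2) .nil .nil) (.node (2832,724,2) .nil .nil))) (.node (2371,103,1) (.node (3437,169,0) (.node (3010,323,1) .nil .nil) (.node (3246,589,2) .nil .nil)) (.node (3369,245,1) (.node (2536,425,1)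 .nil .nil) .nil))))) (.node (3258,10,2) (.node (2859,16,2) (.node (3764,29,0) (.node (3933,56,0) (.node (4024,114,2) (.node (2730,259,2) .nil .nil) (.node (2369,455,0) .nil .nil)) (.node (3943,180,2) (.node (3616,341,0) .nil .nil) (.node (3949,635,2) .nil .nil))) (.node (3566,82,2) (.node (3168,147,0) (.node (4018,296,2) .nil .nil) (.node (3324,524,1) .nil .nil)) (.node (4010,218,0) (.node (2450,384,1) .nil .nil) (.node (3300,905,1) .nil .nil)))) (.node (3009,42,1) (.node (2737,69,2) (.node (2992,130,1) (.node (2773,278,0) .nil .nil) (.node (2323,492,0) .nil .nil)) (.node (2400,198,2) (.node (2943,359,1) .nil .nil) (.node (2406,703,0) .nil .nil))) (.node (2435,99,0) (.node (3046,162,2) (.node (2804,316,2) .nil .nil) (.node (3360,578,0) .nil .nil)) (.node (2691,240,0) (.node (2725,416,2) .nil .nil) .nil)))) (.node (2852,23,0) (.node (3191,35,2) (.node (3339,62,1) (.node (2501,122,1) (.node (3648,268,0) .nil .nil) (.node (3208,479,0) .nil .nil)) (.node (2934,189,0) (.node (3481,350,0) .nil .nil) (.node (2350,665,0) .nil .nil)))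 (.node (3596,90,0) (.node (2907,153,2) (.node (2981,304,2) .nil .nil) (.node (3251,553,1) .nil .nil)) (.node (2842,230,0) (.node (2481,405,0) .nil .nil) .nil))) (.node (3889,48,2) (.node (2983,76,0) (.node (3827,139,2) (.node (3789,287,2) .nil .nil) (.node (3793,508,2) .nil .nil)) (.node (3964,207,2) (.node (3957,369,2) .nil .nil) (.node (3117,789,0) .nil .nil))) (.node (3608,107,2) (.node (2855,173,1) (.node (2643,329,2) .nil .nil) (.node (2483,606,0) .nil .nil)) (.node (3738,249,1) (.node (2833,433,1) .nil .nil) .nil))))))))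

/-- An orbit of a subgroup of index two in a stabiliser. -/
noncomputable def treeGood1_0 : Arr (ℕ × ℕ × ℕ) :=
  .node (2306,0,0) treeGood1_0_l treeGood1_0_r

/-- The size of an orbit. -/
def treeGood1_1Size : ℕ :=
  300

/-- An orbit of a subgroup of index two in a stabiliser. -/
noncomputable def treeGood1_1 : Arr (ℕ × ℕ × ℕ) :=
  (.node (1,0,0) (.node (626,0,1) (.node (2119,1,0) (.node (756,2,2) (.node (1218,5,2) (.node (58,11,2) (.node (1837,26,0) (.node (167,54,2) (.node (2117,144,1) .nil .nil) .nil) (.node (1679,90,1) .nil .nil)) (.node (1592,40,1) (.node (1758,71,2) (.node (815,189,0) .nil .nil) .nil) (.node (1252,111,1) .nil .nil))) (.node (251,18,2) (.node (849,32,2) (.node (974,62,2) (.node (414,159,0) .nil .nil) .nil) (.node (1604,99,2) .nil .nil)) (.node (409,47,0) (.node (2060,81,0) .nil .nil) (.node (801,125,2) .nil .nil)))) (.node (738,8,2) (.node (1352,15,2) (.node (164,29,2) (.node (1716,58,1) (.node (606,154,2) .nil .nil) .nil) (.node (834,95,1) .nil .nil)) (.node (651,44,0) (.node (1905,78,0) (.node (783,226,1)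 .nil .nil) .nil) (.node (1264,118,2) .nil .nil))) (.node (200,22,2) (.node (2091,37,0) (.node (55,67,0) (.node (970,173,1) .nil .nil) .nil) (.node (1365,105,0) .nil .nil)) (.node (132,51,1) (.node (2270,85,2) .nil .nil) (.node (1747,136,0) .nil .nil))))) (.node (64,4,0) (.node (208,7,0) (.node (2067,14,0) (.node (2180,28,0) (.node (2131,56,2) (.node (457,151,0) .nil .nil) .nil) (.node (2089,92,0) .nil .nil)) (.node (301,41,2) (.node (1216,75,1) (.node (480,210,1) .nil .nil) .nil) (.node (1192,115,2) .nil .nil))) (.node (818,21,1) (.node (708,35,1) (.node (990,64,2) (.node (1284,167,2) .nil .nil) .nil) (.node (1237,102,1) .nil .nil)) (.node (353,49,0) (.node (553,84,0) .nil .nil) (.node (964,130,1) .nil .nil)))) (.node (837,10,0) (.node (1304,17,0) (.node (1096,31,0) (.node (889,61,0) (.node (61,157,1) .nil .nil) .nil) (.node (2043,97,2) .nil .nil)) (.node (1593,45,2) (.node (1375,79,2) (.node (1825,280,2) .nil .nil) .nil) (.node (1705,123,1) .nil .nil))) (.node (276,24,2) (.node (2163,38,2) (.node (1639,69,2) (.node (620,182,1)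 .nil .nil) .nil) (.node (2177,107,0) .nil .nil)) (.node (150,53,1) (.node (1689,88,0) .nil .nil) (.node (1143,142,2) .nil .nil)))))) (.node (522,1,2) (.node (2282,3,1) (.node (1239,6,1) (.node (691,12,2) (.node (2303,27,0) (.node (981,56,0) (.node (2298,150,0) .nil .nil) .nil) (.node (806,91,0) .nil .nil)) (.node (2241,41,0) (.node (1658,73,2) (.node (1076,197,0) .nil .nil) .nil) (.node (1597,113,1) .nil .nil))) (.node (871,20,2) (.node (865,34,2) (.node (1576,63,1) (.node (16,162,0) .nil .nil) .nil) (.node (1253,100,1) .nil .nil)) (.node (1765,48,0) (.node (648,82,1) .nil .nil) (.node (770,127,2) .nil .nil)))) (.node (925,9,1) (.node (89,16,1) (.node (396,30,1) (.node (93,60,0) (.node (1756,156,0) .nil .nil) .nil) (.node (1652,96,2) .nil .nil)) (.node (320,44,2) (.node (316,78,2) (.node (1978,235,2) .nil .nil) .nil) (.node (327,120,1) .nil .nil))) (.node (1163,23,2) (.node (821,38,0) (.node (1842,69,0) (.node (1348,175,1) .nil .nil) .nil) (.node (1859,106,0) .nil .nil)) (.node (1647,52,2) (.node (406,86,2) .nil .nil) (.node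 (1276,137,2) .nil .nil))))) (.node (82,4,2) (.node (84,8,0) (.node (1635,14,2) (.node (1761,29,0) (.node (411,57,2) (.node (1543,153,2) .nil .nil) .nil) (.node (1570,94,2) .nil .nil)) (.node (859,42,2) (.node (1091,76,0) (.node (1363,215,0) .nil .nil) .nil) (.node (1573,118,0) .nil .nil))) (.node (420,22,0) (.node (1070,36,1) (.node (2058,65,2) (.node (2070,170,2) .nil .nil) .nil) (.node (739,104,0) .nil .nil)) (.node (1058,50,2) (.node (430,84,2) .nil .nil) (.node (2129,131,2) .nil .nil)))) (.node (498,11,0) (.node (42,17,2) (.node (371,32,0) (.node (2278,61,2) (.node (1995,158,0) .nil .nil) .nil) (.node (462,98,1) .nil .nil)) (.node (1878,46,1) (.node (870,80,1) .nil .nil) (.node (632,124,0) .nil .nil))) (.node (1065,25,1) (.node (525,39,2) (.node (858,70,1) (.node (1274,187,0) .nil .nil) .nil) (.node (1871,108,2) .nil .nil)) (.node (642,54,0) (.node (2061,89,1) .nil .nil) (.node (1633,143,2) .nil .nil))))))) (.node (373,0,2) (.node (844,1,1) (.node (2073,3,0) (.node (90,6,0) (.node (741,12,0) (.node (608,26,2) (.node (1549,55,2)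 (.node (776,147,0) .nil .nil) .nil) (.node (1980,90,2) .nil .nil)) (.node (851,40,2) (.node (1873,72,1) (.node (1725,191,2) .nil .nil) .nil) (.node (122,111,2) .nil .nil))) (.node (779,19,1) (.node (1973,34,1) (.node (148,63,0) (.node (878,161,2) .nil .nil) .nil) (.node (67,100,0) .nil .nil)) (.node (2034,47,2) (.node (1002,82,0) .nil .nil) (.node (800,126,1) .nil .nil)))) (.node (812,9,0) (.node (927,16,0) (.node (744,30,0) (.node (1040,59,0) (.node (2026,155,0) .nil .nil) .nil) (.node (977,96,0) .nil .nil)) (.node (178,44,1) (.node (1784,78,1) (.node (1818,233,0) .nil .nil) .nil) (.node (1319,119,1) .nil .nil))) (.node (1209,23,0) (.node (593,37,2) (.node (1512,68,2) (.node (378,175,0) .nil .nil) .nil) (.node (1132,105,2) .nil .nil)) (.node (507,52,0) (.node (773,86,0) .nil .nil) (.node (1554,136,2) .nil .nil))))) (.node (361,4,1) (.node (1721,7,2) (.node (1754,14,1) (.node (2066,28,2) (.node (338,57,0) (.node (1946,153,0) .nil .nil) .nil) (.node (1938,94,0) .nil .nil)) (.node (2021,42,0) (.node (804,75,2) (.node (489,212,0)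 .nil .nil) .nil) (.node (1619,116,0) .nil .nil))) (.node (888,21,2) (.node (873,36,0) (.node (885,65,0) (.node (130,169,2) .nil .nil) .nil) (.node (75,103,1) .nil .nil)) (.node (879,50,0) (.node (1067,84,1) .nil .nil) (.node (1734,131,0) .nil .nil)))) (.node (989,10,2) (.node (53,17,1) (.node (1580,31,2) (.node (1849,61,1) (.node (204,157,2) .nil .nil) .nil) (.node (824,98,0) .nil .nil)) (.node (1858,46,0) (.node (1830,80,0) .nil .nil) (.node (1654,123,2) .nil .nil))) (.node (1676,25,0) (.node (383,39,0) (.node (1766,70,0) (.node (1018,185,2) .nil .nil) .nil) (.node (1366,107,2) .nil .nil)) (.node (1395,53,2) (.node (530,88,2) .nil .nil) (.node (1740,143,0) .nil .nil)))))) (.node (716,2,0) (.node (2046,3,2) (.node (868,6,2) (.node (1496,13,0) (.node (1130,27,1) (.node (2053,56,1) (.node (2045,150,1) .nil .nil) .nil) (.node (2185,91,2) .nil .nil)) (.node (1088,41,1) (.node (2171,74,2) (.node (907,206,1) .nil .nil) .nil) (.node (1420,115,0) .nil .nil))) (.node (520,21,0) (.node (1610,35,0) (.node (2078,63,2) (.node (136,164,2)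 .nil .nil) .nil) (.node (423,101,0) .nil .nil)) (.node (519,48,1) (.node (1972,83,1) .nil .nil) (.node (402,128,2) .nil .nil)))) (.node (877,9,2) (.node (181,16,2) (.node (1381,30,2) (.node (2087,60,2) (.node (306,157,0) .nil .nil) .nil) (.node (1033,97,0) .nil .nil)) (.node (1373,45,0) (.node (1154,79,0) (.node (2018,237,2) .nil .nil) .nil) (.node (835,121,0) .nil .nil))) (.node (2261,24,0) (.node (1742,38,1) (.node (104,69,1) (.node (699,179,0) .nil .nil) .nil) (.node (1354,106,1) .nil .nil)) (.node (2081,53,0) (.node (385,87,2) .nil .nil) (.node (1746,141,0) .nil .nil))))) (.node (972,5,0) (.node (380,8,1) (.node (1462,15,0) (.node (1248,29,1) (.node (1042,58,0) (.node (833,154,1) .nil .nil) .nil) (.node (1870,95,0) .nil .nil)) (.node (88,43,1) (.node (900,77,0) (.node (26,219,1) .nil .nil) .nil) (.node (1727,118,1) .nil .nil))) (.node (819,22,1) (.node (1628,36,2) (.node (284,66,1) (.node (1255,171,0) .nil .nil) .nil) (.node (894,104,2) .nil .nil)) (.node (1236,51,0) (.node (1133,85,0) .nil .nil) (.node (1636,134,2) .nil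 .nil)))) (.node (99,11,1) (.node (2162,18,0) (.node (1602,32,1) (.node (401,62,0) (.node (1121,158,2) .nil .nil) .nil) (.node (985,99,0) .nil .nil)) (.node (2187,46,2) (.node (1346,80,2) .nil .nil) (.node (2182,124,2) .nil .nil))) (.node (533,25,2) (.node (1298,40,0) (.node (515,70,2) (.node (1547,187,2) .nil .nil) .nil) (.node (1739,109,1) .nil .nil)) (.node (1286,54,1) (.node (1006,89,2) .nil .nil) (.node (195,144,0) .nil .nil))))))))

/-- The size of an orbit. -/
def treeGood2_0Size : ℕ :=
  975

/-- Part of `treeGood2_0`. -/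
noncomputable def treeGood2_0_l : Arr (ℕ × ℕ × ℕ) :=
  (.node (3319,0,0) (.node (2912,0,2) (.node (3754,2,0) (.node (3542,5,0) (.node (3043,11,0) (.node (2308,23,1) (.node (3379,49,1) (.node (3761,107,1) (.node (2644,251,1) .nil .nil) (.node (2341,445,2) .nil .nil)) (.node (3752,173,1) (.node (2747,337,2) .nil .nil) (.node (2845,605,1) .nil .nil))) (.node (3900,76,0) (.node (4034,141,1) (.node (3571,296,1) .nil .nil) (.node (2582,513,0) .nil .nil)) (.node (3096,210,2) (.node (3756,389,0) .nil .nil) (.node (2925,784,0) .nil .nil)))) (.node (3106,36,1) (.node (2846,62,1) (.node (3967,125,0) (.node (2585,273,0) .nil .nil) (.node (3782,479,2) .nil .nil)) (.node (2675,190,1) (.node (4030,360,0) .nil .nil) (.node (3798,687,1) .nil .nil))) (.node (3817,90,2) (.node (3296,157,2) (.node (2442,318,2) .nil .nil) (.node (2690,558,0) .nil .nil)) (.node (3921,231,2) (.node (3163,417,1) .nil .nil) .nil)))) (.node (3060,17,0) (.node (2636,29,2) (.node (2760,55,2) (.node (2741,116,0) (.node (3712,261,1) .nil .nil) (.node (2443,460,0) .nil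 .nil)) (.node (2377,181,1) (.node (4002,347,2) .nil .nil) (.node (2592,635,1) .nil .nil))) (.node (4005,83,1) (.node (3314,151,0) (.node (2339,308,2) .nil .nil) (.node (3336,537,0) .nil .nil)) (.node (3299,219,2) (.node (2779,404,2) .nil .nil) .nil))) (.node (2548,42,1) (.node (3575,69,0) (.node (2311,133,2) (.node (3962,284,2) .nil .nil) (.node (2972,494,1) .nil .nil)) (.node (3668,200,2) (.node (3220,376,0) .nil .nil) (.node (2581,714,1) .nil .nil))) (.node (3150,99,0) (.node (3321,167,0) (.node (3357,329,2) .nil .nil) (.node (2818,584,0) .nil .nil)) (.node (3518,242,1) (.node (3800,433,0) .nil .nil) .nil))))) (.node (2486,8,0) (.node (3869,14,0) (.node (2804,26,1) (.node (3963,52,2) (.node (3351,110,2) (.node (2519,255,2) .nil .nil) (.node (3687,452,2) .nil .nil)) (.node (3768,177,1) (.node (2396,342,0) .nil .nil) (.node (2322,617,1) .nil .nil))) (.node (2977,80,1) (.node (3631,146,0) (.node (3196,300,2) .nil .nil) (.node (2313,523,2) .nil .nil)) (.node (3786,216,0) (.node (2892,395,2) .nil .nil) (.node (2689,859,0) .nil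 .nil)))) (.node (3666,39,1) (.node (2535,65,1) (.node (2919,129,0) (.node (3681,276,2) .nil .nil) (.node (2980,487,1) .nil .nil)) (.node (3832,195,1) (.node (2921,370,0) .nil .nil) (.node (3154,701,0) .nil .nil))) (.node (4031,95,0) (.node (3401,163,0) (.node (2363,325,1) .nil .nil) (.node (3312,576,2) .nil .nil)) (.node (2564,236,1) (.node (2419,421,2) .nil .nil) .nil)))) (.node (3815,20,1) (.node (3392,33,0) (.node (2437,59,0) (.node (3084,120,2) (.node (2990,268,1) .nil .nil) (.node (3861,471,0) .nil .nil)) (.node (3602,186,0) (.node (3801,353,2) .nil .nil) (.node (3361,655,0) .nil .nil))) (.node (2360,87,1) (.node (3381,154,0) (.node (2611,313,2) .nil .nil) (.node (4015,548,2) .nil .nil)) (.node (2700,226,1) (.node (2795,411,2) .nil .nil) .nil))) (.node (4038,45,2) (.node (3827,72,0) (.node (2970,136,2) (.node (3449,290,2) .nil .nil) (.node (2603,500,1) .nil .nil)) (.node (3219,206,2) (.node (3095,380,2) .nil .nil) (.node (2483,750,1) .nil .nil))) (.node (2609,102,2) (.node (3720,170,0) (.node (3740,334,0) .nil .nil) (.node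 (3097,596,0) .nil .nil)) (.node (2780,246,2) (.node (3165,439,2) .nil .nil) .nil)))))) (.node (2928,3,2) (.node (4022,6,2) (.node (3292,12,2) (.node (2954,24,2) (.node (3159,50,2) (.node (2799,108,2) (.node (2849,253,0) .nil .nil) (.node (3358,449,0) .nil .nil)) (.node (2512,175,2) (.node (2962,339,2) .nil .nil) (.node (2479,611,1) .nil .nil))) (.node (2680,78,1) (.node (3957,143,0) (.node (3679,299,0) .nil .nil) (.node (4047,518,1) .nil .nil)) (.node (2664,213,1) (.node (2951,392,1) .nil .nil) (.node (2981,813,2) .nil .nil)))) (.node (2307,37,2) (.node (2707,63,2) (.node (2590,127,1) (.node (3078,275,0) .nil .nil) (.node (2436,484,0) .nil .nil)) (.node (3074,192,1) (.node (3883,367,2) .nil .nil) (.node (3501,694,2) .nil .nil))) (.node (3459,92,1) (.node (3396,161,0) (.node (3806,322,0) .nil .nil) (.node (2628,561,2) .nil .nil)) (.node (3214,233,2) (.node (2929,419,1) .nil .nil) .nil)))) (.node (3863,18,2) (.node (2969,31,1) (.node (3178,57,1) (.node (2489,117,2) (.node (2371,264,0) .nil .nil) (.node (3972,466,2) .nil .nil))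 (.node (3181,183,1) (.node (3991,350,2) .nil .nil) (.node (3456,638,2) .nil .nil))) (.node (3169,85,0) (.node (3515,152,2) (.node (3934,311,2) .nil .nil) (.node (3711,541,0) .nil .nil)) (.node (2622,223,2) (.node (2498,409,1) .nil .nil) .nil))) (.node (2648,44,0) (.node (2735,70,2) (.node (2447,135,0) (.node (3981,287,1) .nil .nil) (.node (3952,497,0) .nil .nil)) (.node (2631,202,2) (.node (2627,378,1) .nil .nil) (.node (3579,726,2) .nil .nil))) (.node (3644,100,2) (.node (3101,168,2) (.node (3002,332,0) .nil .nil) (.node (3254,587,0) .nil .nil)) (.node (2325,244,0) (.node (2306,437,0) .nil .nil) .nil))))) (.node (2773,9,2) (.node (2328,15,2) (.node (2574,28,0) (.node (3264,54,1) (.node (3677,112,2) (.node (3209,258,1) .nil .nil) (.node (2392,457,2) .nil .nil)) (.node (2789,179,2) (.node (3807,344,1) .nil .nil) (.node (2655,625,2) .nil .nil))) (.node (2717,82,0) (.node (3938,148,2) (.node (2857,304,0) .nil .nil) (.node (3616,530,2) .nil .nil)) (.node (2698,217,2) (.node (3510,400,2) .nil .nil) (.node (3919,895,1) .nil .nil))))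 (.node (2703,41,0) (.node (3310,67,0) (.node (3903,131,0) (.node (2749,280,2) .nil .nil) (.node (3537,491,1) .nil .nil)) (.node (3774,198,1) (.node (3412,372,1) .nil .nil) (.node (3279,710,2) .nil .nil))) (.node (2466,96,2) (.node (2666,165,0) (.node (3448,327,2) .nil .nil) (.node (3368,579,0) .nil .nil)) (.node (2712,240,0) (.node (2768,428,0) .nil .nil) .nil)))) (.node (2342,21,2) (.node (2356,34,1) (.node (3124,60,2) (.node (2606,123,0) (.node (3852,270,0) .nil .nil) (.node (3605,474,0) .nil .nil)) (.node (2778,187,2) (.node (3027,357,1) .nil .nil) (.node (2806,671,1) .nil .nil))) (.node (3887,88,2) (.node (2544,155,2) (.node (3026,315,1) .nil .nil) (.node (3211,550,2) .nil .nil)) (.node (4027,229,2) (.node (2899,414,1) .nil .nil) .nil))) (.node (3460,47,1) (.node (3933,74,0) (.node (2617,139,0) (.node (3708,294,2) .nil .nil) (.node (2979,505,2) .nil .nil)) (.node (3855,208,2) (.node (3301,384,2) .nil .nil) (.node (3056,772,1) .nil .nil))) (.node (2885,105,0) (.node (3642,171,2) (.node (3001,336,0) .nil .nil) (.node (4017,601,2)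 .nil .nil)) (.node (3273,248,1) (.node (3803,443,0) .nil .nil) .nil))))))) (.node (2743,1,1) (.node (2401,2,2) (.node (2720,5,2) (.node (2563,12,0) (.node (3262,24,0) (.node (3795,50,0) (.node (3551,108,0) (.node (3923,252,0) .nil .nil) (.node (3678,447,0) .nil .nil)) (.node (2562,175,0) (.node (2635,338,1) .nil .nil) (.node (2923,607,0) .nil .nil))) (.node (2837,76,2) (.node (2815,142,1) (.node (2769,297,2) .nil .nil) (.node (3548,515,2) .nil .nil)) (.node (3073,211,1) (.node (3624,391,1) .nil .nil) (.node (3922,801,0) .nil .nil)))) (.node (3215,37,0) (.node (2318,63,0) (.node (3268,126,2) (.node (3272,274,0) .nil .nil) (.node (3557,482,0) .nil .nil)) (.node (3221,191,1) (.node (2657,367,0) .nil .nil) (.node (3016,688,2) .nil .nil))) (.node (3505,91,1) (.node (2832,159,0) (.node (3238,320,1) .nil .nil) (.node (2721,559,0) .nil .nil)) (.node (2794,232,1) (.node (3408,418,0) .nil .nil) .nil)))) (.node (3476,18,0) (.node (2692,30,2) (.node (2523,56,2) (.node (3958,116,2) (.node (3498,262,2) .nil .nil) (.node (3059,463,0) .nil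 .nil)) (.node (2765,182,0) (.node (3075,349,1) .nil .nil) (.node (3580,637,0) .nil .nil))) (.node (3846,84,0) (.node (2840,151,2) (.node (2994,309,1) .nil .nil) (.node (3141,539,1) .nil .nil)) (.node (3058,222,1) (.node (3731,408,1) .nil .nil) .nil))) (.node (3899,43,0) (.node (2944,70,0) (.node (2658,134,1) (.node (3535,285,2) .nil .nil) (.node (2678,495,1) .nil .nil)) (.node (2459,201,1) (.node (3087,377,1) .nil .nil) (.node (2976,718,1) .nil .nil))) (.node (2493,100,0) (.node (3347,167,2) (.node (2314,331,0) .nil .nil) (.node (4007,586,0) .nil .nil)) (.node (2764,243,0) (.node (3545,434,2) .nil .nil) .nil))))) (.node (3836,8,2) (.node (3032,15,0) (.node (3601,27,0) (.node (3126,53,2) (.node (2997,111,2) (.node (2796,257,2) .nil .nil) (.node (3447,454,1) .nil .nil)) (.node (3555,178,1) (.node (2337,343,1) .nil .nil) (.node (3003,618,2) .nil .nil))) (.node (2864,81,0) (.node (3031,146,2) (.node (3685,302,0) .nil .nil) (.node (4057,527,0) .nil .nil)) (.node (2842,217,0) (.node (2870,398,2) .nil .nil) (.node (3123,890,1) .nil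 .nil)))) (.node (3256,40,0) (.node (3906,66,0) (.node (3894,130,1) (.node (3985,277,2) .nil .nil) (.node (3454,489,0) .nil .nil)) (.node (3965,197,0) (.node (2422,371,0) .nil .nil) (.node (2694,709,1) .nil .nil))) (.node (3702,95,2) (.node (3323,164,0) (.node (3234,327,0) .nil .nil) (.node (3969,577,2) .nil .nil)) (.node (3599,238,2) (.node (3603,424,1) .nil .nil) .nil)))) (.node (3871,21,0) (.node (3212,33,2) (.node (3826,60,0) (.node (3699,122,1) (.node (3045,269,1) .nil .nil) (.node (2875,473,0) .nil .nil)) (.node (3441,187,0) (.node (3778,356,2) .nil .nil) (.node (3355,660,2) .nil .nil))) (.node (2662,88,0) (.node (3867,154,2) (.node (3675,314,2) .nil .nil) (.node (2344,550,0) .nil .nil)) (.node (4035,227,0) (.node (3565,413,0) .nil .nil) .nil))) (.node (3040,46,2) (.node (3550,73,0) (.node (3766,138,1) (.node (2518,292,2) .nil .nil) (.node (2410,502,0) .nil .nil)) (.node (3080,207,2) (.node (2425,382,0) .nil .nil) (.node (2814,769,1) .nil .nil))) (.node (3037,103,1) (.node (2647,171,0) (.node (4010,335,0) .nil .nil) (.node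 (3414,598,2) .nil .nil)) (.node (3334,247,2) (.node (3584,441,0) .nil .nil) .nil)))))) (.node (2960,4,1) (.node (4028,7,1) (.node (3466,13,1) (.node (3698,25,2) (.node (3386,51,2) (.node (3554,110,0) (.node (2375,254,1) .nil .nil) (.node (3243,451,0) .nil .nil)) (.node (2321,176,2) (.node (3239,341,1) .nil .nil) (.node (2357,615,0) .nil .nil))) (.node (3157,79,0) (.node (3857,144,0) (.node (4036,299,2) .nil .nil) (.node (3282,519,0) .nil .nil)) (.node (3771,214,2) (.node (3583,393,1) .nil .nil) (.node (2429,842,2) .nil .nil)))) (.node (3442,38,2) (.node (3725,64,2) (.node (3749,128,0) (.node (2646,276,0) .nil .nil) (.node (3955,486,1) .nil .nil)) (.node (2722,194,0) (.node (2812,369,0) .nil .nil) (.node (2463,698,2) .nil .nil))) (.node (2654,94,0) (.node (3018,162,0) (.node (3077,323,0) .nil .nil) (.node (2335,563,2) .nil .nil)) (.node (3233,235,0) (.node (2737,421,0) .nil .nil) .nil)))) (.node (3208,19,2) (.node (2407,32,0) (.node (2742,58,0) (.node (2329,118,2) (.node (3174,266,0) .nil .nil) (.node (2452,470,1) .nil .nil))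 (.node (2372,184,2) (.node (3858,352,2) .nil .nil) (.node (2416,647,2) .nil .nil))) (.node (3519,86,0) (.node (2822,153,1) (.node (3643,312,1) .nil .nil) (.node (3374,542,1) .nil .nil)) (.node (2904,224,2) (.node (3339,410,2) .nil .nil) .nil))) (.node (3452,44,2) (.node (2711,71,1) (.node (3975,136,0) (.node (3324,288,0) .nil .nil) (.node (3722,498,2) .nil .nil)) (.node (3450,204,0) (.node (2637,379,0) .nil .nil) (.node (2399,735,0) .nil .nil))) (.node (2863,101,2) (.node (2913,169,1) (.node (2896,333,1) .nil .nil) (.node (3655,593,0) .nil .nil)) (.node (3709,246,0) (.node (3342,438,0) .nil .nil) .nil))))) (.node (3086,10,1) (.node (3004,16,1) (.node (3951,28,2) (.node (3606,55,0) (.node (3726,115,1) (.node (3068,260,1) .nil .nil) (.node (3994,459,0) .nil .nil)) (.node (2405,180,1) (.node (3066,346,0) .nil .nil) (.node (2945,632,2) .nil .nil))) (.node (3278,82,2) (.node (3399,150,0) (.node (2682,307,1) .nil .nil) (.node (3142,532,0) .nil .nil)) (.node (2570,218,1) (.node (3520,403,2) .nil .nil) (.node (2460,896,1) .nil .nil))))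 (.node (2376,41,2) (.node (3467,68,0) (.node (3354,132,0) (.node (2777,283,1) .nil .nil) (.node (3023,493,0) .nil .nil)) (.node (2953,199,2) (.node (2716,374,2) .nil .nil) (.node (3908,711,2) .nil .nil))) (.node (3006,98,1) (.node (2571,166,1) (.node (3183,328,2) .nil .nil) (.node (3718,580,2) .nil .nil)) (.node (3225,241,1) (.node (3226,432,0) .nil .nil) .nil)))) (.node (3247,22,2) (.node (2543,35,2) (.node (2453,61,2) (.node (3022,124,0) (.node (3210,272,0) .nil .nil) (.node (2968,478,0) .nil .nil)) (.node (2440,189,0) (.node (3488,359,1) .nil .nil) (.node (2998,674,2) .nil .nil))) (.node (3802,89,2) (.node (2963,156,1) (.node (2860,316,0) .nil .nil) (.node (3349,557,0) .nil .nil)) (.node (3406,230,1) (.node (3409,416,1) .nil .nil) .nil))) (.node (2409,48,0) (.node (4029,75,0) (.node (2908,140,0) (.node (2497,295,2) .nil .nil) (.node (4055,509,2) .nil .nil)) (.node (3092,209,2) (.node (3514,387,2) .nil .nil) (.node (4012,778,1) .nil .nil))) (.node (3352,105,2) (.node (3553,172,2) (.node (2957,336,2) .nil .nil) (.node (2993,603,1)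 .nil .nil)) (.node (3172,250,1) (.node (4037,444,0) .nil .nil) .nil))))))))

/-- Part of `treeGood2_0`. -/
noncomputable def treeGood2_0_r : Arr (ℕ × ℕ × ℕ) :=
  (.node (3525,0,1) (.node (3727,1,0) (.node (3164,2,1) (.node (3590,5,1) (.node (2561,11,2) (.node (2838,23,2) (.node (3536,49,2) (.node (3135,107,2) (.node (2867,251,2) .nil .nil) (.node (2906,446,2) .nil .nil)) (.node (3432,174,2) (.node (3248,338,0) .nil .nil) (.node (3049,606,1) .nil .nil))) (.node (3261,76,1) (.node (3980,142,0) (.node (2718,297,1) .nil .nil) (.node (4040,513,2) .nil .nil)) (.node (3187,211,0) (.node (3691,390,1) .nil .nil) (.node (3886,797,0) .nil .nil)))) (.node (3581,36,2) (.node (4032,62,2) (.node (3892,125,2) (.node (3213,273,2) .nil .nil) (.node (2696,480,0) .nil .nil)) (.node (2441,191,0) (.node (2395,363,1) .nil .nil) (.node (2417,687,2) .nil .nil))) (.node (2847,91,0) (.node (3458,158,0) (.node (3907,319,0) .nil .nil) (.node (2809,558,2) .nil .nil)) (.node (3134,232,0) (.node (3118,417,2) .nil .nil) .nil)))) (.node (3079,17,2) (.node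 (2902,30,0) (.node (2364,56,0) (.node (3656,116,1) (.node (3405,261,2) .nil .nil) (.node (3489,461,1) .nil .nil)) (.node (3350,181,2) (.node (2510,349,0) .nil .nil) (.node (2346,636,0) .nil .nil))) (.node (3610,83,2) (.node (2520,151,1) (.node (2604,309,0) .nil .nil) (.node (3427,537,1) .nil .nil)) (.node (3127,221,0) (.node (2575,407,0) .nil .nil) .nil))) (.node (3019,42,2) (.node (2522,69,2) (.node (3431,134,0) (.node (3276,285,0) .nil .nil) (.node (3570,494,2) .nil .nil)) (.node (3252,201,0) (.node (3102,376,2) .nil .nil) (.node (4026,716,2) .nil .nil))) (.node (2350,99,2) (.node (3404,167,1) (.node (3415,330,2) .nil .nil) (.node (3568,585,1) .nil .nil)) (.node (3063,242,2) (.node (4024,433,1) .nil .nil) .nil))))) (.node (2757,8,1) (.node (3470,14,2) (.node (2877,26,2) (.node (3928,53,0) (.node (3229,111,0) (.node (2938,257,0) .nil .nil) (.node (3779,453,2) .nil .nil)) (.node (3596,178,0) (.node (2952,343,0) .nil .nil) (.node (3249,618,1) .nil .nil))) (.node (3632,80,2) (.node (3030,146,1) (.node (2883,301,1) .nil .nil)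 (.node (2332,524,0) .nil .nil)) (.node (3237,216,2) (.node (3109,396,0) .nil .nil) (.node (3158,871,2) .nil .nil)))) (.node (2474,39,2) (.node (2386,65,2) (.node (3052,130,0) (.node (3242,277,0) .nil .nil) (.node (3783,488,0) .nil .nil)) (.node (3608,196,0) (.node (2966,370,1) .nil .nil) (.node (3830,706,2) .nil .nil))) (.node (2542,95,1) (.node (3119,163,2) (.node (2476,326,0) .nil .nil) (.node (3777,577,0) .nil .nil)) (.node (4045,237,0) (.node (2515,422,0) .nil .nil) .nil)))) (.node (3090,20,2) (.node (3241,33,1) (.node (3854,59,2) (.node (3794,121,2) (.node (2984,268,2) .nil .nil) (.node (3156,472,2) .nil .nil)) (.node (3137,186,1) (.node (3011,355,2) .nil .nil) (.node (2909,658,0) .nil .nil))) (.node (3516,87,2) (.node (3479,154,1) (.node (2974,314,0) .nil .nil) (.node (3982,549,2) .nil .nil)) (.node (3343,226,2) (.node (3936,412,0) .nil .nil) .nil))) (.node (3949,46,0) (.node (3436,72,2) (.node (3108,137,0) (.node (2334,292,0) .nil .nil) (.node (2397,501,1) .nil .nil)) (.node (2677,207,0) (.node (3816,381,2) .nil .nil)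 (.node (3304,762,1) .nil .nil))) (.node (3633,103,0) (.node (2971,170,2) (.node (2901,334,2) .nil .nil) (.node (2446,598,0) .nil .nil)) (.node (4053,247,0) (.node (3875,440,2) .nil .nil) .nil)))))) (.node (2589,4,0) (.node (2673,7,0) (.node (3484,13,0) (.node (2927,25,0) (.node (2956,51,0) (.node (3423,109,0) (.node (2549,254,0) .nil .nil) (.node (2457,449,1) .nil .nil)) (.node (3507,176,0) (.node (3645,340,2) .nil .nil) (.node (2312,612,0) .nil .nil))) (.node (2745,78,2) (.node (3371,143,2) (.node (3860,299,1) .nil .nil) (.node (2509,518,2) .nil .nil)) (.node (3997,214,0) (.node (3701,393,0) .nil .nil) (.node (3674,841,0) .nil .nil)))) (.node (3302,38,0) (.node (2852,64,0) (.node (3047,127,2) (.node (3305,275,2) .nil .nil) (.node (2624,485,0) .nil .nil)) (.node (3667,193,2) (.node (3738,368,2) .nil .nil) (.node (3845,698,0) .nil .nil))) (.node (3772,93,2) (.node (3055,161,2) (.node (3344,322,2) .nil .nil) (.node (3594,563,1) .nil .nil)) (.node (3259,234,0) (.node (2370,420,0) .nil .nil) .nil)))) (.node (3788,19,0) (.node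 (3762,31,2) (.node (3950,57,2) (.node (2478,118,0) (.node (2642,264,1) .nil .nil) (.node (2805,468,1) .nil .nil)) (.node (3327,183,2) (.node (2502,352,1) .nil .nil) (.node (3133,639,0) .nil .nil))) (.node (3917,85,2) (.node (2354,153,0) (.node (2398,312,0) .nil .nil) (.node (3682,541,1) .nil .nil)) (.node (2333,224,1) (.node (2713,410,1) .nil .nil) .nil))) (.node (2736,44,1) (.node (3829,71,0) (.node (2434,135,2) (.node (2987,287,2) .nil .nil) (.node (3657,497,2) .nil .nil)) (.node (2817,203,0) (.node (2602,378,2) .nil .nil) (.node (2384,733,0) .nil .nil))) (.node (2792,101,0) (.node (3697,169,0) (.node (3398,332,2) .nil .nil) (.node (3280,589,0) .nil .nil)) (.node (3992,244,1) (.node (3065,437,1) .nil .nil) .nil))))) (.node (3566,10,0) (.node (2471,16,0) (.node (3451,28,1) (.node (2383,54,2) (.node (2641,113,0) (.node (2464,258,2) .nil .nil) (.node (3497,458,2) .nil .nil)) (.node (3046,180,0) (.node (3533,344,2) .nil .nil) (.node (3543,627,0) .nil .nil))) (.node (3435,82,1) (.node (2349,149,2) (.node (3193,305,0) .nil .nil)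 (.node (2616,531,2) .nil .nil)) (.node (2338,218,0) (.node (3348,403,0) .nil .nil) (.node (2724,896,0) .nil .nil)))) (.node (3267,41,1) (.node (2829,67,2) (.node (3492,131,2) (.node (3071,281,0) .nil .nil) (.node (2873,492,0) .nil .nil)) (.node (3638,198,2) (.node (3384,373,2) .nil .nil) (.node (2645,711,0) .nil .nil))) (.node (3558,97,0) (.node (3953,165,2) (.node (3377,328,0) .nil .nil) (.node (3222,579,1) .nil .nil)) (.node (2467,240,2) (.node (3375,431,0) .nil .nil) .nil)))) (.node (3912,22,0) (.node (2632,35,0) (.node (3868,61,0) (.node (3144,123,2) (.node (2656,270,2) .nil .nil) (.node (3191,476,2) .nil .nil)) (.node (3839,188,0) (.node (3837,358,2) .nil .nil) (.node (2917,672,0) .nil .nil))) (.node (3290,89,0) (.node (3388,156,0) (.node (2752,315,2) .nil .nil) (.node (3033,552,2) .nil .nil)) (.node (2665,230,0) (.node (2625,415,0) .nil .nil) .nil))) (.node (3353,47,2) (.node (3944,74,2) (.node (2551,139,2) (.node (3038,295,0) .nil .nil) (.node (3303,506,2) .nil .nil)) (.node (3742,209,1) (.node (3559,386,2) .nil .nil)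 (.node (3941,774,0) .nil .nil))) (.node (3088,105,1) (.node (2663,172,0) (.node (3216,336,1) .nil .nil) (.node (2393,602,0) .nil .nil)) (.node (3651,248,2) (.node (3235,443,2) .nil .nil) .nil))))))) (.node (4056,1,2) (.node (4004,3,0) (.node (3818,6,0) (.node (3704,12,1) (.node (3664,24,1) (.node (4043,50,1) (.node (3569,108,1) (.node (2932,252,2) .nil .nil) (.node (2468,448,0) .nil .nil)) (.node (3609,175,1) (.node (3044,338,2) .nil .nil) (.node (2394,609,1) .nil .nil))) (.node (3630,77,2) (.node (4025,142,2) (.node (2884,298,2) .nil .nil) (.node (2412,516,1) .nil .nil)) (.node (3652,212,2) (.node (2821,392,0) .nil .nil) (.node (2826,804,1) .nil .nil)))) (.node (3240,37,1) (.node (3469,63,1) (.node (3620,127,0) (.node (3765,274,1) .nil .nil) (.node (3192,482,2) .nil .nil)) (.node (2385,191,2) (.node (2517,367,1) .nil .nil) (.node (2748,690,2) .nil .nil))) (.node (3948,92,0) (.node (3549,160,2) (.node (3996,321,1) .nil .nil) (.node (2753,561,0) .nil .nil)) (.node (3728,232,2) (.node (3909,418,2) .nil .nil) .nil)))) (.node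 (3686,18,1) (.node (3844,31,0) (.node (2612,57,0) (.node (2651,117,0) (.node (2532,263,0) .nil .nil) (.node (3315,465,0) .nil .nil)) (.node (2315,182,2) (.node (3421,350,0) .nil .nil) (.node (3064,638,0) .nil .nil))) (.node (2438,84,2) (.node (2767,152,0) (.node (2608,310,0) .nil .nil) (.node (3521,540,2) .nil .nil)) (.node (3612,222,2) (.node (3654,409,0) .nil .nil) .nil))) (.node (3563,43,2) (.node (2526,70,1) (.node (3809,134,2) (.node (2819,287,0) .nil .nil) (.node (2727,496,2) .nil .nil)) (.node (3120,201,2) (.node (2715,378,0) .nil .nil) (.node (3316,723,0) .nil .nil))) (.node (3663,100,1) (.node (2831,168,0) (.node (3586,331,2) .nil .nil) (.node (2320,586,1) .nil .nil)) (.node (3340,243,2) (.node (3796,436,2) .nil .nil) .nil))))) (.node (3288,9,0) (.node (3707,15,1) (.node (2368,27,2) (.node (3971,54,0) (.node (3145,112,0) (.node (3970,258,0) .nil .nil) (.node (3152,457,1) .nil .nil)) (.node (2448,178,2) (.node (3115,344,0) .nil .nil) (.node (3490,623,0) .nil .nil))) (.node (3098,81,2) (.node (3313,147,2) (.node (2920,303,0)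 .nil .nil) (.node (3878,530,1) .nil .nil)) (.node (3979,217,1) (.node (2750,400,0) .nil .nil) (.node (2539,893,0) .nil .nil)))) (.node (3099,40,2) (.node (3986,66,2) (.node (2823,130,2) (.node (2801,278,0) .nil .nil) (.node (3393,490,0) .nil .nil)) (.node (2950,197,1) (.node (2477,371,2) .nil .nil) (.node (4042,710,0) .nil .nil))) (.node (3713,96,0) (.node (3916,164,1) (.node (2762,327,1) .nil .nil) (.node (3999,578,2) .nil .nil)) (.node (2596,239,1) (.node (2359,424,2) .nil .nil) .nil)))) (.node (3833,21,1) (.node (2511,34,0) (.node (3976,60,1) (.node (3530,122,2) (.node (2599,269,2) .nil .nil) (.node (3739,473,2) .nil .nil)) (.node (3775,187,1) (.node (2937,357,0) .nil .nil) (.node (4041,670,2) .nil .nil))) (.node (3767,88,1) (.node (3793,155,0) (.node (3911,315,0) .nil .nil) (.node (2490,550,1) .nil .nil)) (.node (2610,229,0) (.node (2450,414,0) .nil .nil) .nil))) (.node (2808,47,0) (.node (3140,73,1) (.node (2427,138,2) (.node (3407,293,1) .nil .nil) (.node (3198,504,2) .nil .nil)) (.node (2415,208,0) (.node (2528,383,0)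 .nil .nil) (.node (2942,771,1) .nil .nil))) (.node (2843,104,0) (.node (3146,171,1) (.node (3896,335,2) .nil .nil) (.node (3446,601,0) .nil .nil)) (.node (3418,248,0) (.node (3874,442,1) .nil .nil) .nil)))))) (.node (2601,4,2) (.node (3684,7,2) (.node (3649,13,2) (.node (4050,26,0) (.node (2824,52,0) (.node (3203,110,1) (.node (2524,255,0) .nil .nil) (.node (4013,452,1) .nil .nil)) (.node (2458,177,0) (.node (2546,341,2) .nil .nil) (.node (3947,617,0) .nil .nil))) (.node (2557,80,0) (.node (2915,144,2) (.node (3748,300,0) .nil .nil) (.node (2802,522,1) .nil .nil)) (.node (3050,215,0) (.node (2623,394,2) .nil .nil) (.node (2566,854,2) .nil .nil)))) (.node (3760,39,0) (.node (2785,65,0) (.node (3695,128,2) (.node (2900,276,1) .nil .nil) (.node (3723,487,0) .nil .nil)) (.node (3870,194,2) (.node (3462,369,2) .nil .nil) (.node (2967,700,0) .nil .nil))) (.node (2704,94,1) (.node (3112,162,2) (.node (3197,323,1) .nil .nil) (.node (3496,574,0) .nil .nil)) (.node (3508,236,0) (.node (3269,421,1) .nil .nil) .nil)))) (.node (3715,20,0)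 (.node (2465,32,2) (.node (2516,58,2) (.node (3383,119,2) (.node (2725,266,1) .nil .nil) (.node (2615,470,2) .nil .nil)) (.node (4019,185,0) (.node (2586,353,1) .nil .nil) (.node (3179,648,0) .nil .nil))) (.node (3433,87,0) (.node (2669,153,2) (.node (3841,313,0) .nil .nil) (.node (2916,544,0) .nil .nil)) (.node (3888,226,0) (.node (3389,411,0) .nil .nil) .nil))) (.node (2911,45,1) (.node (2494,71,2) (.node (2595,136,1) (.node (3785,290,0) .nil .nil) (.node (3153,500,0) .nil .nil)) (.node (3819,206,0) (.node (3850,380,1) .nil .nil) (.node (2693,737,2) .nil .nil))) (.node (2668,102,1) (.node (3669,169,2) (.node (4033,333,2) .nil .nil) (.node (2495,595,0) .nil .nil)) (.node (2433,246,1) (.node (3729,438,2) .nil .nil) .nil))))) (.node (3661,10,2) (.node (2699,16,2) (.node (3277,29,1) (.node (2697,55,1) (.node (3920,115,2) (.node (2828,260,2) .nil .nil) (.node (3872,459,2) .nil .nil)) (.node (2491,180,2) (.node (3859,346,1) .nil .nil) (.node (2905,634,0) .nil .nil))) (.node (2798,83,0) (.node (2529,150,2) (.node (2989,308,0) .nil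 .nil) (.node (2650,535,2) .nil .nil)) (.node (3122,219,0) (.node (3382,404,0) .nil .nil) (.node (3265,927,2) .nil .nil)))) (.node (3787,42,0) (.node (2324,68,2) (.node (3445,132,1) (.node (3457,283,2) .nil .nil) (.node (3929,493,1) .nil .nil)) (.node (2833,200,0) (.node (3091,375,0) .nil .nil) (.node (3472,713,0) .nil .nil))) (.node (3755,98,2) (.node (2872,166,2) (.node (2886,329,0) .nil .nil) (.node (2481,582,1) .nil .nil)) (.node (2702,242,0) (.node (3160,432,1) .nil .nil) .nil)))) (.node (2839,23,0) (.node (2444,36,0) (.node (4049,62,0) (.node (3139,124,2) (.node (2880,272,1) .nil .nil) (.node (2924,478,1) .nil .nil)) (.node (3898,189,1) (.node (3741,359,2) .nil .nil) (.node (3298,686,1) .nil .nil))) (.node (3341,90,1) (.node (3780,157,0) (.node (3041,317,1) .nil .nil) (.node (2659,557,2) .nil .nil)) (.node (3831,231,1) (.node (2730,417,0) .nil .nil) .nil))) (.node (3366,48,2) (.node (3544,75,1) (.node (3129,141,0) (.node (2374,296,0) .nil .nil) (.node (2488,510,2) .nil .nil)) (.node (3287,210,0) (.node (3194,388,1) .nil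 .nil) (.node (4039,782,0) .nil .nil))) (.node (3893,106,0) (.node (2584,173,0) (.node (3758,337,0) .nil .nil) (.node (2874,603,2) .nil .nil)) (.node (2862,250,2) (.node (2310,445,0) .nil .nil) .nil))))))))

/-- An orbit of a subgroup of index two in a stabiliser. -/
noncomputable def treeGood2_0 : Arr (ℕ × ℕ × ℕ) :=
  .node (2305,0,0) treeGood2_0_l treeGood2_0_r

/-- The size of an orbit. -/
def treeGood2_1Size : ℕ :=
  300

/-- An orbit of a subgroup of index two in a stabiliser. -/
noncomputable def treeGood2_1 : Arr (ℕ × ℕ × ℕ) :=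
  (.node (1,0,0) (.node (303,0,1) (.node (617,1,0) (.node (1730,2,2) (.node (251,5,2) (.node (1887,12,1) (.node (929,27,0) (.node (159,59,0) (.node (1955,161,0) .nil .nil) .nil) (.node (93,95,0) .nil .nil)) (.node (1676,42,2) (.node (80,76,1) (.node (912,203,1) .nil .nil) .nil) (.node (1849,122,1) .nil .nil))) (.node (803,19,1) (.node (43,35,2) (.node (546,66,2) (.node (1096,179,0) .nil .nil) .nil) (.node (310,110,0) .nil .nil)) (.node (276,51,2) (.node (65,86,0) .nil .nil) (.node (687,142,2) .nil .nil)))) (.node (1683,8,2) (.node (1094,16,0) (.node (1031,31,2) (.node (1197,63,1) (.node (1160,170,0) .nil .nil) .nil) (.node (1773,104,1) .nil .nil)) (.node (12,47,2) (.node (781,80,0) (.node (1348,241,2) .nil .nil) .nil) (.node (1776,133,1) .nil .nil))) (.node (525,22,2) (.node (79,39,0) (.node (161,71,0) (.node (1854,194,0) .nil .nil) .nil) (.node (644,117,2) .nil .nil)) (.node (2176,55,2) (.node (1207,90,2) .nil .nil) (.node (1853,149,2) .nil .nil))))) (.node (1230,4,0) (.node (115,7,0) (.node (1118,14,1) (.node (1571,29,1)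 (.node (1905,60,2) (.node (1421,163,2) .nil .nil) .nil) (.node (1385,100,0) .nil .nil)) (.node (69,45,2) (.node (1286,78,0) (.node (1253,225,1) .nil .nil) .nil) (.node (245,127,0) .nil .nil))) (.node (107,21,0) (.node (101,37,1) (.node (105,69,0) (.node (1770,183,0) .nil .nil) .nil) (.node (34,115,0) .nil .nil)) (.node (1789,54,0) (.node (58,88,1) .nil .nil) (.node (708,146,0) .nil .nil)))) (.node (913,10,0) (.node (828,17,1) (.node (1774,34,0) (.node (278,65,0) (.node (1305,176,0) .nil .nil) .nil) (.node (804,106,0) .nil .nil)) (.node (338,49,2) (.node (150,83,1) (.node (1053,286,2) .nil .nil) .nil) (.node (553,138,2) .nil .nil))) (.node (40,24,2) (.node (232,41,0) (.node (88,73,2) (.node (1869,199,2) .nil .nil) .nil) (.node (66,119,0) .nil .nil)) (.node (914,57,1) (.node (202,93,0) .nil .nil) (.node (480,156,2) .nil .nil)))))) (.node (5,1,2) (.node (1030,3,1) (.node (227,6,1) (.node (169,13,0) (.node (1782,28,0) (.node (151,60,0) (.node (1890,162,0) .nil .nil) .nil) (.node (853,97,2) .nil .nil)) (.node (1228,44,2) (.node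 (1306,77,1) (.node (25,215,2) .nil .nil) .nil) (.node (951,125,0) .nil .nil))) (.node (855,20,0) (.node (976,36,2) (.node (1445,67,1) (.node (656,181,0) .nil .nil) .nil) (.node (1980,112,2) .nil .nil)) (.node (2152,52,2) (.node (783,87,1) .nil .nil) (.node (1719,144,1) .nil .nil)))) (.node (904,9,1) (.node (1729,16,2) (.node (315,33,1) (.node (1117,64,0) (.node (351,171,1) .nil .nil) .nil) (.node (873,105,1) .nil .nil)) (.node (19,49,0) (.node (845,82,2) (.node (139,277,2) .nil .nil) .nil) (.node (120,134,1) .nil .nil))) (.node (1655,24,0) (.node (1470,40,0) (.node (91,72,1) (.node (1647,198,1) .nil .nil) .nil) (.node (1893,118,1) .nil .nil)) (.node (132,56,2) (.node (1747,92,0) .nil .nil) (.node (1359,152,1) .nil .nil))))) (.node (750,4,2) (.node (1174,8,0) (.node (409,15,0) (.node (826,30,2) (.node (1920,62,0) (.node (387,166,1) .nil .nil) .nil) (.node (1189,102,2) .nil .nil)) (.node (651,46,2) (.node (1754,78,2) (.node (281,233,1) .nil .nil) .nil) (.node (979,129,1) .nil .nil))) (.node (1537,21,2) (.node (1552,38,0) (.node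 (1906,70,1) (.node (648,191,2) .nil .nil) .nil) (.node (1706,116,1) .nil .nil)) (.node (1128,54,2) (.node (1644,89,2) .nil .nil) (.node (53,148,2) .nil .nil)))) (.node (108,11,1) (.node (273,18,0) (.node (296,35,0) (.node (261,65,2) (.node (1375,177,1) .nil .nil) .nil) (.node (1716,107,0) .nil .nil)) (.node (999,51,0) (.node (163,84,0) .nil .nil) (.node (1825,139,1) .nil .nil))) (.node (2292,25,2) (.node (1701,42,0) (.node (1369,75,2) (.node (1423,200,2) .nil .nil) .nil) (.node (1694,120,0) .nil .nil)) (.node (774,58,0) (.node (673,94,0) .nil .nil) (.node (144,158,2) .nil .nil))))))) (.node (1509,0,2) (.node (1813,1,1) (.node (1994,3,0) (.node (1165,6,0) (.node (195,12,2) (.node (1584,27,2) (.node (1512,59,2) (.node (190,161,2) .nil .nil) .nil) (.node (643,97,0) .nil .nil)) (.node (703,43,1) (.node (429,77,0) (.node (62,208,1) .nil .nil) .nil) (.node (188,122,2) .nil .nil))) (.node (2220,19,2) (.node (1291,36,0) (.node (425,67,0) (.node (699,180,1) .nil .nil) .nil) (.node (26,110,1) .nil .nil)) (.node (23,52,0) (.node (487,87,0)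 .nil .nil) (.node (1412,144,0) .nil .nil)))) (.node (1861,9,0) (.node (1969,16,1) (.node (322,33,0) (.node (1409,63,2) (.node (1119,170,2) .nil .nil) .nil) (.node (241,104,2) .nil .nil)) (.node (1296,48,0) (.node (138,81,2) (.node (1567,257,2) .nil .nil) .nil) (.node (1321,133,2) .nil .nil))) (.node (1312,23,2) (.node (968,39,1) (.node (670,72,0) (.node (1038,196,2) .nil .nil) .nil) (.node (770,118,0) .nil .nil)) (.node (1941,56,0) (.node (258,91,2) .nil .nil) (.node (292,150,0) .nil .nil))))) (.node (579,4,1) (.node (228,7,2) (.node (1531,14,2) (.node (925,29,2) (.node (1781,61,0) (.node (99,164,2) .nil .nil) .nil) (.node (877,102,1) .nil .nil)) (.node (235,46,0) (.node (148,78,1) (.node (1255,228,2) .nil .nil) .nil) (.node (744,127,2) .nil .nil))) (.node (1199,21,1) (.node (3,37,2) (.node (517,70,0) (.node (1870,186,0) .nil .nil) .nil) (.node (98,116,0) .nil .nil)) (.node (1465,54,1) (.node (1848,89,0) .nil .nil) (.node (1945,148,1) .nil .nil)))) (.node (563,10,2) (.node (1166,17,2) (.node (122,34,1) (.node (1488,65,1) (.node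 (518,176,1) .nil .nil) .nil) (.node (1213,106,1) .nil .nil)) (.node (1915,50,0) (.node (75,83,2) .nil .nil) (.node (242,139,0) .nil .nil))) (.node (1665,25,0) (.node (1040,41,2) (.node (219,74,2) (.node (237,200,0) .nil .nil) .nil) (.node (426,119,2) .nil .nil)) (.node (466,57,2) (.node (1815,93,2) .nil .nil) (.node (1767,157,0) .nil .nil)))))) (.node (2076,2,0) (.node (370,3,2) (.node (1300,6,2) (.node (1632,14,0) (.node (609,28,2) (.node (1807,60,1) (.node (1295,163,1) .nil .nil) .nil) (.node (637,98,2) .nil .nil)) (.node (1564,45,1) (.node (357,77,2) (.node (897,220,0) .nil .nil) .nil) (.node (1541,125,1) .nil .nil))) (.node (309,20,2) (.node (1163,37,0) (.node (773,68,2) (.node (172,182,2) .nil .nil) .nil) (.node (848,113,0) .nil .nil)) (.node (1442,53,0) (.node (20,87,2) .nil .nil) (.node (917,144,2) .nil .nil)))) (.node (291,9,2) (.node (695,17,0) (.node (1168,33,2) (.node (438,64,2) (.node (595,174,2) .nil .nil) .nil) (.node (1134,105,2) .nil .nil)) (.node (1549,49,1) (.node (746,83,0) (.node (204,279,1) .nil .nil)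 .nil) (.node (1837,137,1) .nil .nil))) (.node (924,24,1) (.node (835,40,2) (.node (1111,73,1) (.node (156,199,0) .nil .nil) .nil) (.node (1793,118,2) .nil .nil)) (.node (1643,57,0) (.node (1592,92,2) .nil .nil) (.node (1516,153,0) .nil .nil))))) (.node (265,5,0) (.node (111,8,1) (.node (1966,15,2) (.node (297,31,0) (.node (50,62,1) (.node (671,166,2) .nil .nil) .nil) (.node (191,103,0) .nil .nil)) (.node (1485,47,0) (.node (197,79,0) (.node (1628,236,2) .nil .nil) .nil) (.node (397,130,0) .nil .nil))) (.node (1469,22,0) (.node (1116,38,2) (.node (1343,70,2) (.node (1333,193,0) .nil .nil) .nil) (.node (1077,116,2) .nil .nil)) (.node (2087,55,0) (.node (430,90,0) .nil .nil) (.node (1823,149,0) .nil .nil)))) (.node (2191,11,2) (.node (123,18,2) (.node (985,35,1) (.node (1051,66,0) (.node (200,177,2) .nil .nil) .nil) (.node (35,108,1) .nil .nil)) (.node (1840,51,1) (.node (1602,85,2) .nil .nil) (.node (140,140,1) .nil .nil))) (.node (1515,26,0) (.node (185,42,1) (.node (104,76,0) (.node (1192,203,0) .nil .nil) .nil) (.node (489,120,1)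 .nil .nil)) (.node (269,58,1) (.node (903,94,2) .nil .nil) (.node (301,159,1) .nil .nil))))))))

/-- Representatives with a common fixed line. -/
def goodReps : List (ℕ × ℕ) :=
  [(0,1),(56,766),(179,442)]

end Cfsg.Agent.RuRankThree
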