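import Cfsg.Agent.RuRankThree.Tree
import Cfsg.Agent.RuRankThree.RowData
import Cfsg.Agent.RuRankThree.BaseData
import Cfsg.Agent.RuRankThree.TreeData
import Cfsg.Agent.RuRankThree.MapData

/-!
# Checks on the neighbourhoods of the lines and on the base
-/

set_option autoImplicit false
set_option maxRecDepth 100000

namespace Cfsg.Agent.RuRankThree

open Cfsg.Agent.Compute Cfsg.Agent.StemCert

/-- An entry of the list of lines: the line, an earlier place and a map of the model. -/
noncomputable def rInfo (k : ℕ) : ℕ × ℕ × ℕ := rowInfo.get (0, 0, 0) k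

/-- The neighbours of a listed line. -/
noncomputable def rMask (k : ℕ) : ℕ := rowMask.get 0 k

/-- The neighbourhood of the line 0 is right at `x`. -/
noncomputable def row0B (x : ℕ) : Bool :=
  Bool.and (decide (Rud.dotD (Rud.spk 0) (4 * x) = 0))
      (decide (Rud.dotD (Rud.rotL (Rud.spk 0)) (4 * x) = 0)) |> sameB (hasBit (rMask 0) x)

/-- The packed maps are those of the model. -/
noncomputable def mapsB : Bool :=
  allBelow 12 fun a => forceN (mapCodes.getD a 0) fun c =>
    allBelow 4060 fun x => Nat.beq (getField 12 c x) (Rud.letter a x)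

/-- The first place is the line 0. -/
noncomputable def firstRowB : Bool := Nat.beq (rInfo 0).1 0 && allBelow 4060 row0B

/-- A neighbourhood is the image of an earlier one. -/
noncomputable def rowB (k : ℕ) : Bool :=
  Nat.beq k 0 || (Nat.blt (rInfo k).2.1 k && Nat.blt (rInfo k).2.2 12 &&
    Nat.blt (rInfo k).1 4060 &&
    forceN (mapCodes.getD (rInfo k).2.2 0) fun c =>
      Nat.beq (getField 12 c (rInfo (rInfo k).2.1).1) (rInfo k).1 &&
      forceN (rMask (rInfo k).2.1) fun m => forceN (rMask k) fun m' => allBelow 4060 fun x =>
        sameB (hasBit m x) (hasBit m' (getField 12 c x)))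

/-- The listed rows from `lo` on. -/
noncomputable def rowsB (lo len : ℕ) : Bool := allBelow len fun k => rowB (lo + k)

/-- A line is listed. -/
noncomputable def hasRow (p : ℕ) : Bool := Nat.blt 0 (getField 11 rowIdx p)

/-- The neighbours of a line, if listed. -/
noncomputable def nb (p : ℕ) : ℕ := rMask (Nat.sub (getField 11 rowIdx p) 1)

/-- The index of the list is right. -/
noncomputable def rowIdxB : Bool :=
  allBelow 4060 fun p => forceN (getField 11 rowIdx p) fun i =>
    Nat.beq i 0 || (Nat.ble i nRows && Nat.beq (rInfo (Nat.sub i 1)).1 p)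

/-- The bit mask of a list. -/
noncomputable def listMask (l : List ℕ) : ℕ :=
  List.rec (motive := fun _ => ℕ) 0 (fun p _ r => Nat.lor (Nat.shiftLeft 1 p) r) l

/-- The first base lines. -/
def base4 : List ℕ := [0, 2305, 2306, 3378]

/-- The adjacency pattern of a line to the listed lines. -/
noncomputable def patOf (bs : List ℕ) (x : ℕ) : ℕ :=
  List.rec (motive := fun _ => ℕ) 0
    (fun b _ r => Nat.add (Nat.mul 2 r) (cond (hasBit (nb b) x) 1 0)) bs

/-- A strictly increasing list of lines. -/
noncomputable def incB (l : List ℕ) : Bool :=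
  List.rec (motive := fun _ => ℕ → Bool) (fun _ => true)
    (fun p _ ih lo => Nat.ble lo p && Nat.blt p 4060 && ih (Nat.add p 1)) l 0

/-- A list consists of the other lines with a given pattern. -/
noncomputable def cellB' (bs : List ℕ) (pat : ℕ) (l : List ℕ) : Bool :=
  allB (fun b => Nat.blt b 4060 && hasRow b) bs && incB l &&
    forceN (listMask l) fun m => allBelow 4060 fun x =>
      sameB (hasBit m x) (Nat.beq (patOf bs x) pat && !(memB x bs))

/-- The number of lines of a list next to a line. -/
noncomputable def countB (p : ℕ) (l : List ℕ) : ℕ :=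
  forceN (nb p) fun m =>
    List.rec (motive := fun _ => ℕ) 0 (fun x _ r => cond (hasBit m x) (Nat.add r 1) r) l

/-- The second and third base lines. -/
noncomputable def baseOrbitsB : Bool :=
  treeB treeO1 treeO1Size [[0], [1], [2], [3]] && Nat.beq (tPt treeO1 0) 2305 &&
    Nat.beq (treeMask treeO1 treeO1Size) (rMask 0) &&
    treeB treeD treeDSize [[16], [17]] && Nat.beq (tPt treeD 0) 2306 &&
    fixB [[16], [17]] [0, 2305] && hasRow 0 && hasRow 2305 &&
    (forceN (treeMask treeD treeDSize) fun m => forceN (nb 0) fun m0 => forceN (nb 2305) fun m1 =>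
      allBelow 4060 fun x =>
        sameB (hasBit m x) (hasBit m0 x && !(hasBit m1 x) && !(Nat.beq x 2305))) &&
    hasBit (rMask 0) 2305 && hasBit (nb 0) 2306 && !(hasBit (nb 2305) 2306)

/-- The cells for the fourth base line. -/
noncomputable def thirdB : Bool :=
  cellB' [0, 2305, 2306] 7 cellA && cellB' [0, 2305, 2306] 3 cellB &&
    allB (fun p => hasRow p) cellA &&
    allB (fun p => sameB (Nat.beq (countB p cellB) 143) (memB p classE)) cellA &&
    allB (fun p => memB p cellA) classE && Nat.beq classE.length 25 &&
    Nat.beq (countB 3378 cellB) 143 && memB 3378 cellA &&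
    treeB treeE treeESize [[18], [19]] && distinctB treeE treeESize 0 &&
    fixB [[18], [19]] [0, 2305, 2306] && Nat.beq (tPt treeE 0) 3378 && Nat.ble 20 treeESize

/-- The cells of four base lines. -/
noncomputable def cellsB : Bool :=
  Nat.beq cellPats.length cellLists.length &&
    allBelow cellPats.length fun i => cellB' base4 (cellPats.getD i 0) (cellLists.getD i [])

/-- A line is alone in its cell with its count. -/
noncomputable def singleB (e : ℕ × ℕ × ℕ × ℕ) : Bool :=
  Nat.blt e.2.1 cellLists.length && Nat.blt e.2.2.1 cellLists.length &&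
    memB e.1 (cellLists.getD e.2.1 []) && hasRow e.1 &&
    Nat.beq (countB e.1 (cellLists.getD e.2.2.1 [])) e.2.2.2 &&
    allB (fun q => Nat.beq q e.1 ||
      (hasRow q && !(Nat.beq (countB q (cellLists.getD e.2.2.1 [])) e.2.2.2)))
      (cellLists.getD e.2.1 [])

/-- The whole base. -/
noncomputable def fullBase : List ℕ := (base4 ++ singles.map Prod.fst).reverse

/-- The lines are determined by their adjacency to the whole base. -/
noncomputable def codesB : Bool :=
  allB (fun b => Nat.blt b 4060 && hasRow b) fullBase &&
    allBelow 4060 (fun i => Nat.blt (getField 12 byCode i) 4060) &&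
    allBelow 4059 fun i => Nat.blt (patOf fullBase (getField 12 byCode i))
      (patOf fullBase (getField 12 byCode (Nat.add i 1)))

end Cfsg.Agent.RuRankThree
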