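import Cfsg.Agent.RuRankThree.Adj
import Cfsg.Agent.RuRankThree.BaseCheck
import Cfsg.Agent.RuRankThree.RowCheck0
import Cfsg.Agent.RuRankThree.RowCheck1
import Cfsg.Agent.RuRankThree.RowCheck2
import Cfsg.Agent.RuRankThree.RowCheck3

/-!
# The listed neighbourhoods are those of the graph
-/

set_option autoImplicit false
set_option maxRecDepth 100000

namespace Cfsg.Agent.RuRankThree

open Cfsg.Agent.Compute Cfsg.Agent.StemCert

attribute [local irreducible] rowInfo rowMask rowIdx mapCodes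

theorem rowsB_spec {lo len k : ℕ} (h : rowsB lo len = true) (h1 : lo ≤ k) (h2 : k < lo + len) :
    rowB k = true := by
  have h' := allBelow_eq_true.mp h (k - lo) (by omega)
  rwa [show lo + (k - lo) = k by omega] at h'

theorem row_ok {k : ℕ} (hk : k < nRows) : rowB k = true := by
  have hn : nRows = 723 := rfl
  rcases lt_or_ge k 181 with h | h
  · exact rowsB_spec rows0_ok (Nat.zero_le k) (by omega)
  rcases lt_or_ge k 362 with h' | h'
  · exact rowsB_spec rows1_ok h (by omega)
  rcases lt_or_ge k 543 with h'' | h''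
  · exact rowsB_spec rows2_ok h' (by omega)
  · exact rowsB_spec rows3_ok h'' (by omega)

theorem map_apply {a : ℕ} (ha : a < 12) (x : Fin 4060) :
    (Rud.lp a x : ℕ) = getField 12 (mapCodes.getD a 0) (x : ℕ) := by
  have h := allBelow_eq_true.mp maps_ok a ha
  rw [forceN_eq, allBelow_eq_true] at h
  rw [Rud.lp_apply ha, Nat.eq_of_beq_eq_true (h x x.2)]

theorem adj_iff_dotD (x y : Fin 4060) :
    Adj x y ↔ Rud.dotD (Rud.spk (4 * (x : ℕ))) (4 * (y : ℕ)) = 0 ∧
      Rud.dotD (Rud.rotL (Rud.spk (4 * (x : ℕ)))) (4 * (y : ℕ)) = 0 := by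
  obtain ⟨h1, h2⟩ := Rud.dotD_spk (s := 4 * (x : ℕ)) (t := 4 * (y : ℕ)) (by omega) (by omega)
  rw [h1, h2]
  rfl

theorem row0_spec (y : Fin 4060) : Nat.testBit (rMask 0) y = true ↔ Adj 0 y := by
  have h0 := firstRow_ok
  simp only [firstRowB, Bool.and_eq_true, allBelow_eq_true] at h0
  have h := sameB_eq (h0.2 y y.2)
  rw [hasBit_eq] at h
  rw [h, adj_iff_dotD, Bool.and_eq_true, decide_eq_true_eq, decide_eq_true_eq]
  rfl

theorem row_spec : ∀ k < nRows, ∃ p : Fin 4060, (p : ℕ) = (rInfo k).1 ∧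
    ∀ y : Fin 4060, Nat.testBit (rMask k) y = true ↔ Adj p y := by
  intro k
  induction k using Nat.strong_induction_on with
  | _ k ih =>
    intro hk
    by_cases hk0 : k = 0
    · subst hk0
      have h0 := firstRow_ok
      simp only [firstRowB, Bool.and_eq_true, Nat.beq_eq] at h0
      exact ⟨0, by rw [h0.1]; rfl, row0_spec⟩
    · have h := row_ok hk
      simp only [rowB, Bool.or_eq_true, Bool.and_eq_true, Nat.beq_eq, Nat.blt_eq, hk0, false_or,
        forceN_eq, allBelow_eq_true] at h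
      obtain ⟨⟨⟨hj, ha⟩, hp⟩, hmap, hm⟩ := h
      obtain ⟨q, hq, hqy⟩ := ih _ hj (hj.trans hk)
      set a := (rInfo k).2.2
      have hadj := hgrp_adj (Rud.lp_mem a)
      refine ⟨Rud.lp a q, by rw [map_apply ha, hq, hmap], fun y => ?_⟩
      obtain ⟨x, rfl⟩ := (Rud.lp a).surjective y
      have h' := sameB_eq (hm x x.2)
      rw [hasBit_eq, hasBit_eq, ← map_apply ha] at h'
      rw [← h', hqy x, hadj q x]

theorem nb_spec {p : Fin 4060} (h : hasRow p = true) (y : Fin 4060) :
    Nat.testBit (nb p) y = true ↔ Adj p y := by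
  rw [hasRow, Nat.blt_eq] at h
  have h' := allBelow_eq_true.mp rowIdx_ok p p.2
  simp only [forceN_eq, Bool.or_eq_true, Bool.and_eq_true, Nat.beq_eq, Nat.ble_eq] at h'
  rcases h' with h0 | ⟨hle, hp⟩
  · omega
  · set i := getField 11 rowIdx (p : ℕ) with hi
    obtain ⟨q, hq, hqy⟩ := row_spec (i - 1) (by omega)
    rw [show nb (p : ℕ) = rMask (i - 1) from rfl, ← show q = p from Fin.ext (hq.trans hp)]
    exact hqy y

theorem hasBit_nb {p : Fin 4060} (h : hasRow p = true) (y : Fin 4060) :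
    hasBit (nb p) y = true ↔ Adj p y := by
  rw [hasBit_eq]; exact nb_spec h y

end Cfsg.Agent.RuRankThree
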