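import Cfsg.Agent.RuRankThree.SetDefs

/-! Evaluation of the checks on the sets. -/

set_option autoImplicit false
set_option maxRecDepth 100000
set_option maxHeartbeats 0
set_option Elab.async false

namespace Cfsg.Agent.RuRankThree

open Cfsg.Agent.Compute Cfsg.Agent.StemCert

theorem move0_ok : setsB moveB 0 3744 = true := by decide +kernel

theorem move1_ok : setsB moveB 3744 3744 = true := by decide +kernel

theorem move2_ok : setsB moveB 7488 3744 = true := by decide +kernel

theorem move3_ok : setsB moveB 11232 3744 = true := by decide +kernel

end Cfsg.Agent.RuRankThree
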