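import Cfsg.Agent.RuRankThree.SetDefs

/-! Evaluation of the checks on the sets. -/

set_option autoImplicit false
set_option maxRecDepth 100000
set_option maxHeartbeats 0
set_option Elab.async false

namespace Cfsg.Agent.RuRankThree

open Cfsg.Agent.Compute Cfsg.Agent.StemCert

theorem shape0_ok : setsB shapeB 0 3744 = true := by decide +kernel

theorem shape1_ok : setsB shapeB 3744 3744 = true := by decide +kernel

theorem shape2_ok : setsB shapeB 7488 3744 = true := by decide +kernel

theorem shape3_ok : setsB shapeB 11232 3744 = true := by decide +kernel

theorem setWord0_ok : setsB setWordB 0 3744 = true := by decide +kernel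

theorem setWord1_ok : setsB setWordB 3744 3744 = true := by decide +kernel

theorem setWord2_ok : setsB setWordB 7488 3744 = true := by decide +kernel

theorem setWord3_ok : setsB setWordB 11232 3744 = true := by decide +kernel

theorem firstSet_ok : firstSetB = true := by decide +kernel

theorem sylow_ok : sylowB = true := by decide +kernel

theorem repInv_ok : allBelow repSets.length repInvB = true := by decide +kernel

theorem cover_ok : coverB = true := by decide +kernel

end Cfsg.Agent.RuRankThree
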