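import Cfsg.Agent.RuRankThree.SetDefs

/-! Evaluation of the checks on the sets. -/

set_option autoImplicit false
set_option maxRecDepth 100000
set_option maxHeartbeats 0
set_option Elab.async false

namespace Cfsg.Agent.RuRankThree

open Cfsg.Agent.Compute Cfsg.Agent.StemCert

theorem witA_ok : allB witB (witness.take 100) = true := by decide +kernel

theorem witB_ok : allB witB ((witness.drop 100).take 100) = true := by decide +kernel

theorem witC_ok : allB witB ((witness.drop 100).drop 100) = true := by decide +kernel

theorem goods_ok : goodsB = true := by decide +kernel

end Cfsg.Agent.RuRankThree
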