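import Cfsg.Agent.StemCert.Defs

/-! Data: the 14976 sets of four lines fixed by Sylow subgroups of order 25. -/

set_option autoImplicit false
set_option maxRecDepth 100000
set_option maxHeartbeats 0
set_option linter.all false

namespace Cfsg.Agent.RuRankThree

open Cfsg.Agent.StemCert

/-- The lines fixed by the first Sylow subgroup. -/
def setBase : List ℕ :=
  [1,1441,1662,2080]

/-- The number of the first set. -/
def setZero : ℕ :=
  22

/-- Part of `setKey`. -/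
noncomputable def setKey_l_l_l_l_l : Arr ℕ :=
  (.node 147899250650 (.node 227320162551 (.node 368551798815 (.node 710823417927 (.node 1396626036824 (.node 2757410601076 (.node 5446796093593 (.node 10941468502086 (.node 22763751700397 .nil .nil) (.node 39052985521880 .nil .nil)) (.node 16712864958413 (.node 30661006260035 .nil .nil) (.node 56021562648000 .nil .nil))) (.node 8190691875018 (.node 13824013027390 (.node 26679000864601 .nil .nil) (.node 43447877166729 .nil .nil)) (.node 19661863794798 (.node 34783484839867 .nil .nil) .nil))) (.node 4127572695215 (.node 6815213705368 (.node 12382345730267 (.node 24749370201980 .nil .nil) (.node 41248300344998 .nil .nil)) (.node 18159042742257 (.node 32655579883383 .nil .nil) (.node 65986876347725 .nil .nil))) (.node 9566289127620 (.node 15266049169346 (.node 28604368979810 .nil .nil) (.node 48878695704074 .nil .nil)) (.node 21108996208788 (.node 36914445121249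 .nil .nil) .nil)))) (.node 2081336342779 (.node 3444017936540 (.node 6133638834285 (.node 11689213761706 (.node 23732720535263 .nil .nil) (.node 40153386514098 .nil .nil)) (.node 17461582448825 (.node 31629620762342 .nil .nil) (.node 59663091078560 .nil .nil))) (.node 8878675118263 (.node 14517179009128 (.node 27641593460474 .nil .nil) (.node 45642355545665 .nil .nil)) (.node 20357427812301 (.node 35821273593624 .nil .nil) .nil))) (.node 4760591312981 (.node 7502575372505 (.node 13077694932983 (.node 25717580572555 .nil .nil) (.node 42347929327279 .nil .nil)) (.node 18910612809725 (.node 33689359644479 .nil .nil) .nil)) (.node 10253215557818 (.node 15959516157976 (.node 29633837213517 .nil .nil) (.node 52794917148209 .nil .nil)) (.node 21862044973010 (.node 37954245580505 .nil .nil) .nil))))) (.node 1053766768690 (.node 1739686250654 (.node 3100034959403 (.node 5790595106889 (.node 11287163754450 (.node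 23246483511067 .nil .nil) (.node 39602288105179 .nil .nil)) (.node 17059212212245 (.node 31143921243956 .nil .nil) (.node 57674235372929 .nil .nil))) (.node 8533670557745 (.node 14170629761073 (.node 27160303908714 .nil .nil) (.node 43997565957764 .nil .nil)) (.node 20009920956569 (.node 35275143091892 .nil .nil) .nil))) (.node 4423185209319 (.node 7159465621550 (.node 12730222282713 (.node 25237335144202 .nil .nil) (.node 41798475454116 .nil .nil)) (.node 18563191293987 (.node 33142977267351 .nil .nil) (.node 74785317590225 .nil .nil))) (.node 9910575708275 (.node 15613452871745 (.node 29149863618479 .nil .nil) (.node 50864851097120 .nil .nil)) (.node 21457258371011 (.node 37405195085503 .nil .nil) .nil)))) (.node 2418844895437 (.node 3786910709898 (.node 6472219531510 (.node 12035881584590 (.node 24214931547857 .nil .nil) (.node 40703326439089 .nil .nil)) (.node 17811148777683 (.node 32168993519450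 .nil .nil) (.node 61590557185466 .nil .nil))) (.node 9222708648123 (.node 14919330863328 (.node 28122378041100 .nil .nil) (.node 47226845095473 .nil .nil)) (.node 20762600437730 (.node 36366802749153 .nil .nil) .nil))) (.node 5103920433223 (.node 7846893848809 (.node 13477128591368 (.node 26197677811570 .nil .nil) (.node 42896527603370 .nil .nil)) (.node 19258134636499 (.node 34235959744399 .nil .nil) .nil)) (.node 10597148649649 (.node 16362104436920 (.node 30120494536347 .nil .nil) (.node 54440595527105 .nil .nil)) (.node 22279931414388 (.node 38503481399000 .nil .nil) .nil)))))) (.node 560467069071 (.node 903947118716 (.node 1587266722010 (.node 2906255501543 (.node 5644752287868 (.node 11141521422523 (.node 23034302216065 .nil .nil) (.node 39328987469521 .nil .nil)) (.node 16911927326900 (.node 30875922454163 .nil .nil) (.node 56780260910591 .nil .nil))) (.node 8387123578985 (.node 14022221183030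 (.node 26947520870330 .nil .nil) (.node 43722486589075 .nil .nil)) (.node 19807588071381 (.node 35000919115452 .nil .nil) .nil))) (.node 4278782757066 (.node 6960403384334 (.node 12584043816974 (.node 24964302497509 .nil .nil) (.node 41523715020454 .nil .nil)) (.node 18360854300881 (.node 32927524550436 .nil .nil) (.node 72586831074545 .nil .nil))) (.node 9764900829346 (.node 15413385132038 (.node 28876967237358 .nil .nil) (.node 49840634086934 .nil .nil)) (.node 21312423348185 (.node 37130854106801 .nil .nil) .nil)))) (.node 2224262494225 (.node 3592594524345 (.node 6326310492380 (.node 11834771404882 (.node 24001038788416 .nil .nil) (.node 40428146710200 .nil .nil)) (.node 17607726643219 (.node 31900858631937 .nil .nil) (.node 60627092624785 .nil .nil))) (.node 9074150361245 (.node 14718203873506 (.node 27912947906452 .nil .nil) (.node 46401758504509 .nil .nil)) (.node 20559374194862 (.node 36092694386548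 .nil .nil) .nil))) (.node 4958160705740 (.node 7700096546930 (.node 13277175920700 (.node 25932415174278 .nil .nil) (.node 42622069135024 .nil .nil)) (.node 19112678484039 (.node 33962006746916 .nil .nil) .nil)) (.node 10453084952805 (.node 16163493759051 (.node 29904890742606 .nil .nil) (.node 53616028866005 .nil .nil)) (.node 22007164966850 (.node 38228804900563 .nil .nil) .nil))))) (.node 1247142377450 (.node 1929337858235 (.node 3249248966871 (.node 5988265990130 (.node 11488438810862 (.node 23519516120905 .nil .nil) (.node 39878726416074 .nil .nil)) (.node 17262199777368 (.node 31416750679992 .nil .nil) (.node 58635317966308 .nil .nil))) (.node 8733236283642 (.node 14371840223255 (.node 27430905206683 .nil .nil) (.node 44817788884565 .nil .nil)) (.node 20212710442985 (.node 35545674434330 .nil .nil) .nil))) (.node 4615468730617 (.node 7304420218887 (.node 12929352058828 (.node 25450758243990 .nil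 .nil) (.node 42073202382504 .nil .nil)) (.node 18708848728058 (.node 33416645670652 .nil .nil) .nil)) (.node 10108414458018 (.node 15812247996605 (.node 29363943245452 .nil .nil) (.node 51831083398688 .nil .nil)) (.node 21658617338023 (.node 37679568885470 .nil .nil) .nil)))) (.node 2563497064675 (.node 3935789394101 (.node 6615714511010 (.node 12183251081224 (.node 24482813273867 .nil .nil) (.node 40973875447469 .nil .nil)) (.node 18013586454574 (.node 32386559780506 .nil .nil) (.node 63788389913945 .nil .nil))) (.node 9421538093224 (.node 15064805517291 (.node 28396350072615 .nil .nil) (.node 47983597774449 .nil .nil)) (.node 20907603318723 (.node 36639984379814 .nil .nil) .nil))) (.node 5301289060396 (.node 7992923166729 (.node 13623592245206 (.node 26413233145482 .nil .nil) (.node 43172781352579 .nil .nil)) (.node 19459160717302 (.node 34508624041891 .nil .nil) .nil)) (.node 10796313274601 (.node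 16509708044306 (.node 30388560762616 .nil .nil) (.node 55197834683852 .nil .nil)) (.node 22550632077215 (.node 38778577151709 .nil .nil) .nil))))))) (.node 297349388420 (.node 487553816810 (.node 829893404855 (.node 1467341801497 (.node 2831396718775 (.node 5516806936740 (.node 11015959656441 (.node 22897920128889 .nil .nil) (.node 39191430989523 .nil .nil)) (.node 16784434976792 (.node 30794939664185 .nil .nil) (.node 56368699037174 .nil .nil))) (.node 8262986774493 (.node 13897009514653 (.node 26813201594266 .nil .nil) (.node 43585332893322 .nil .nil)) (.node 19734306789372 (.node 34918041138950 .nil .nil) .nil))) (.node 4200435521618 (.node 6886900684986 (.node 12455277471698 (.node 24831527618269 .nil .nil) (.node 41386309613221 .nil .nil)) (.node 18288413984833 (.node 32791375128490 .nil .nil) (.node 71487587947745 .nil .nil))) (.node 9636520712171 (.node 15338976626869 (.node 28744073533236 .nil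 .nil) (.node 49358037522045 .nil .nil)) (.node 21182598580162 (.node 37050925901729 .nil .nil) .nil)))) (.node 2153076852780 (.node 3522415651005 (.node 6203532007587 (.node 11761908930650 (.node 23864371332945 .nil .nil) (.node 40290774902453 .nil .nil)) (.node 17537799039066 (.node 31765566666524 .nil .nil) (.node 60145351628278 .nil .nil))) (.node 8949509429349 (.node 14644738377905 (.node 27778260825916 .nil .nil) (.node 45991135725148 .nil .nil)) (.node 20487856719845 (.node 35955458414424 .nil .nil) .nil))) (.node 4888519550975 (.node 7575422760942 (.node 13204162910156 (.node 25848445740905 .nil .nil) (.node 42484663760559 .nil .nil)) (.node 18983491508189 (.node 33824534263590 .nil .nil) .nil)) (.node 10327069349922 (.node 16087327213745 (.node 29769328326526 .nil .nil) (.node 53205959759261 .nil .nil)) (.node 21932857677991 (.node 38091533354719 .nil .nil) .nil))))) (.node 1124952299541 (.node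 1809194330205 (.node 3174456899786 (.node 5859415025794 (.node 11415661140171 (.node 23383653857107 .nil .nil) (.node 39741220452041 .nil .nil)) (.node 17186603890880 (.node 31280420865801 .nil .nil) (.node 58154550261131 .nil .nil))) (.node 8606180272274 (.node 14245456074746 (.node 27297056442198 .nil .nil) (.node 44409715754515 .nil .nil)) (.node 20083154229190 (.node 35410099549832 .nil .nil) .nil))) (.node 4545341012120 (.node 7232362502108 (.node 12856623102197 (.node 25314174449365 .nil .nil) (.node 41935797008039 .nil .nil)) (.node 18635681704165 (.node 33279173154557 .nil .nil) .nil)) (.node 9982548928667 (.node 15685141534742 (.node 29283480352550 .nil .nil) (.node 51348755392125 .nil .nil)) (.node 21587569625045 (.node 37542314387167 .nil .nil) .nil)))) (.node 2488839420091 (.node 3857425373223 (.node 6545905469475 (.node 12109582186579 (.node 24345909987218 .nil .nil) (.node 40836470056622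 .nil .nil)) (.node 17884114376702 (.node 32252358354613 .nil .nil) (.node 62689146754385 .nil .nil))) (.node 9295689787526 (.node 14991974529258 (.node 28259397592890 .nil .nil) (.node 47573109601797 .nil .nil)) (.node 20834017286318 (.node 36502999988062 .nil .nil) .nil))) (.node 5226866039000 (.node 7919305254894 (.node 13549957396530 (.node 26334646888314 .nil .nil) (.node 43035510064771 .nil .nil)) (.node 19387824744507 (.node 34371285809057 .nil .nil) .nil)) (.node 10670733789226 (.node 16438171551695 (.node 30254677518121 .nil .nil) (.node 54788285519275 .nil .nil)) (.node 22416347010934 (.node 38641239234258 .nil .nil) .nil)))))) (.node 640393140344 (.node 982730733823 (.node 1659878021206 (.node 3028480174325 (.node 5715063822587 (.node 11215003060409 (.node 23109060122539 .nil .nil) (.node 39464765306586 .nil .nil)) (.node 16987976300611 (.node 31009132431149 .nil .nil) (.node 57192376489466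 .nil .nil))) (.node 8461143881692 (.node 14097667205062 (.node 27023536109412 .nil .nil) (.node 43859959338628 .nil .nil)) (.node 19938235086830 (.node 35138307778229 .nil .nil) .nil))) (.node 4353660295150 (.node 7086720583693 (.node 12656570407035 (.node 25100231837412 .nil .nil) (.node 41661003003555 .nil .nil)) (.node 18433769715697 (.node 33007685314249 .nil .nil) (.node 73686074463425 .nil .nil))) (.node 9838384228420 (.node 15537403656380 (.node 29013867177855 .nil .nil) (.node 50320647263771 .nil .nil)) (.node 21383438227507 (.node 37268259481267 .nil .nil) .nil)))) (.node 2344590506081 (.node 3667589822424 (.node 6400700106792 (.node 11909950220273 (.node 24138057340823 .nil .nil) (.node 40565971457713 .nil .nil)) (.node 17738607835210 (.node 32036167382828 .nil .nil) (.node 61109436990911 .nil .nil))) (.node 9148858472475 (.node 14790765394052 (.node 28047099586475 .nil .nil) (.node 46814863664720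 .nil .nil)) (.node 20632977082305 (.node 36229464336127 .nil .nil) .nil))) (.node 5034143508652 (.node 7774015252712 (.node 13350323468358 (.node 26068646315652 .nil .nil) (.node 42759055136425 .nil .nil)) (.node 19185356249104 (.node 34099378599714 .nil .nil) .nil)) (.node 10525628156138 (.node 16234964330525 (.node 29984431040193 .nil .nil) (.node 54028178027975 .nil .nil)) (.node 22145763084193 (.node 38366109415131 .nil .nil) .nil))))) (.node 1326009379069 (.node 2003441715322 (.node 3319813683409 (.node 6057605241020 (.node 11562006878333 (.node 23649791494025 .nil .nil) (.node 40015863699124 .nil .nil)) (.node 17333318465567 (.node 31496511018687 .nil .nil) (.node 59117260379541 .nil .nil))) (.node 8806066370506 (.node 14444736104491 (.node 27504892450602 .nil .nil) (.node 45229938046535 .nil .nil)) (.node 20284496951386 (.node 35683633276707 .nil .nil) .nil))) (.node 4691687004327 (.node 7430250878974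 (.node 13002700568642 (.node 25580678592382 .nil .nil) (.node 42210523887280 .nil .nil)) (.node 18838035445849 (.node 33553245628225 .nil .nil) .nil)) (.node 10180674037700 (.node 15888800057498 (.node 29498494928699 .nil .nil) (.node 52313964725816 .nil .nil)) (.node 21731985160133 (.node 37816890480347 .nil .nil) .nil)))) (.node 2687181256833 (.node 4010365159393 (.node 6742703966189 (.node 12308410402993 (.node 24619463923453 .nil .nil) (.node 41110895003301 .nil .nil)) (.node 18086093699290 (.node 32521497683727 .nil .nil) (.node 64887633089885 .nil .nil))) (.node 9493697017800 (.node 15139379681267 (.node 28529510729629 .nil .nil) (.node 48395797157489 .nil .nil)) (.node 21037679622110 (.node 36776670676714 .nil .nil) .nil))) (.node 5372892707060 (.node 8117714229222 (.node 13752156903623 (.node 26542550210408 .nil .nil) (.node 43310186501780 .nil .nil)) (.node 19532307646429 (.node 34646616324014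 .nil .nil) .nil)) (.node 10870047635674 (.node 16637015886005 (.node 30524001408951 .nil .nil) (.node 55609732208072 .nil .nil)) (.node 22627503986594 (.node 38915613529820 .nil .nil) .nil))))))))

/-- Part of `setKey`. -/
noncomputable def setKey_l_l_l_l_r : Arr ℕ :=
  (.node 161000601693 (.node 280003401920 (.node 433461647610 (.node 776555587837 (.node 1453786630277 (.node 2769890474194 (.node 5507815889090 (.node 11005575993281 (.node 22829653337991 .nil .nil) (.node 39122728285908 .nil .nil)) (.node 16774421276855 (.node 30728465622970 .nil .nil) (.node 56226664281575 .nil .nil))) (.node 8254414231752 (.node 13887918332067 (.node 26747735570282 .nil .nil) (.node 43516579821196 .nil .nil)) (.node 19670249805783 (.node 34852405831594 .nil .nil) .nil))) (.node 4142299896008 (.node 6875664107645 (.node 12445715703809 (.node 24764435572437 .nil .nil) (.node 41317573363371 .nil .nil)) (.node 18223448778971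 (.node 32722875692840 .nil .nil) (.node 70937714742500 .nil .nil))) (.node 9629273495758 (.node 15276785104881 (.node 28677318510234 .nil .nil) (.node 49150168434262 .nil .nil)) (.node 21175118571485 (.node 36982071912373 .nil .nil) .nil)))) (.node 2136888355025 (.node 3460659824599 (.node 6194558273641 (.node 11698038044643 (.node 23796204566420 .nil .nil) (.node 40222072198838 .nil .nil)) (.node 17470321219614 (.node 31698357044963 .nil .nil) (.node 59873191073194 .nil .nil))) (.node 8941038581951 (.node 14580865575140 (.node 27709875156842 .nil .nil) (.node 45786185197089 .nil .nil)) (.node 20421986404396 (.node 35888466982638 .nil .nil) .nil))) (.node 4823187347699 (.node 7565810673837 (.node 13140089210949 (.node 25785981437830 .nil .nil) (.node 42415961065121 .nil .nil)) (.node 18975608596567 (.node 33757576038147 .nil .nil) .nil)) (.node 10316804397064 (.node 16026022553548 (.node 29701735139047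 .nil .nil) (.node 52999818118556 .nil .nil)) (.node 21869759625153 (.node 38022797096672 .nil .nil) .nil))))) (.node 1110189193371 (.node 1796764022750 (.node 3112950692060 (.node 5851061348445 (.node 11350397175913 (.node 23315068679986 .nil .nil) (.node 39672517756618 .nil .nil)) (.node 17124794435666 (.node 31212084766605 .nil .nil) (.node 57946613761444 .nil .nil))) (.node 8597088889035 (.node 14235391117253 (.node 27228639258429 .nil .nil) (.node 44203607643670 .nil .nil)) (.node 20075674036205 (.node 35342319203984 .nil .nil) .nil))) (.node 4484907894947 (.node 7222531819686 (.node 12793221036150 (.node 25298991830900 .nil .nil) (.node 41867060758185 .nil .nil)) (.node 18571258775551 (.node 33211377993372 .nil .nil) .nil)) (.node 9973173696470 (.node 15674876156090 (.node 29218098538327 .nil .nil) (.node 51076208969306 .nil .nil)) (.node 21521195796560 (.node 37473578129120 .nil .nil) .nil))))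 (.node 2478623717630 (.node 3803921430504 (.node 6537854003195 (.node 12046651099129 (.node 24282224781017 .nil .nil) (.node 40767767352996 .nil .nil)) (.node 17876013291558 (.node 32184142132913 .nil .nil) (.node 62139525223745 .nil .nil))) (.node 9285088757987 (.node 14927685371872 (.node 28190946649875 .nil .nil) (.node 47428424300135 .nil .nil)) (.node 20770197878724 (.node 36434597197706 .nil .nil) .nil))) (.node 5165542848768 (.node 7909559027883 (.node 13486186837976 (.node 26266329847686 .nil .nil) (.node 42966757074561 .nil .nil)) (.node 19322526881789 (.node 34304010712892 .nil .nil) .nil)) (.node 10660536010748 (.node 16372235544607 (.node 30187821872790 .nil .nil) (.node 54581305202136 .nil .nil)) (.node 22348080613234 (.node 38572536538833 .nil .nil) .nil)))))) (.node 575146272798 (.node 918055880722 (.node 1603421841458 (.node 2968197949635 (.node 5653692692631 (.node 11150797285421 (.node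 23100253697945 .nil .nil) (.node 39396062611161 .nil .nil)) (.node 16921739679772 (.node 30942542968662 .nil .nil) (.node 56987527017860 .nil .nil))) (.node 8398611847347 (.node 14033224353847 (.node 26955186976579 .nil .nil) (.node 43791273375362 .nil .nil)) (.node 19872515549343 (.node 35069655365307 .nil .nil) .nil))) (.node 4336817559681 (.node 7023804176537 (.node 12592615552990 (.node 25032567969688 .nil .nil) (.node 41592300308141 .nil .nil)) (.node 18425886533675 (.node 32993425921880 .nil .nil) (.node 73136201262275 .nil .nil))) (.node 9773707049041 (.node 15476114540615 (.node 28945332193157 .nil .nil) (.node 50114102732392 .nil .nil)) (.node 21319785887684 (.node 37199556777652 .nil .nil) .nil)))) (.node 2282412800183 (.node 3650579056738 (.node 6339830794356 (.node 11898710816717 (.node 24069624129325 .nil .nil) (.node 40497235207858 .nil .nil)) (.node 17673592273128 (.node 31968368084880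 .nil .nil) (.node 60835515340212 .nil .nil))) (.node 9085841369209 (.node 14781976594419 (.node 27980224898971 .nil .nil) (.node 46607866607164 .nil .nil)) (.node 20625295661030 (.node 36161397090163 .nil .nil) .nil))) (.node 4966783338572 (.node 7711114770637 (.node 13340679485431 (.node 26000111408772 .nil .nil) (.node 42690318886567 .nil .nil)) (.node 19121098373076 (.node 34030675904289 .nil .nil) .nil)) (.node 10461959542746 (.node 16224732604595 (.node 29970507278135 .nil .nil) (.node 53823076189680 .nil .nil)) (.node 22077647374246 (.node 38297373165276 .nil .nil) .nil))))) (.node 1260260448328 (.node 1946163845172 (.node 3306931529765 (.node 5996501837914 (.node 11552412014824 (.node 23588034209629 .nil .nil) (.node 39947161003699 .nil .nil)) (.node 17324076390590 (.node 31481966569295 .nil .nil) (.node 58910279681519 .nil .nil))) (.node 8742713436309 (.node 14382811113468 (.node 27497410869170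 .nil .nil) (.node 45026899371617 .nil .nil)) (.node 20220022372302 (.node 35614410684185 .nil .nil) .nil))) (.node 4676976044255 (.node 7367233833112 (.node 12940423743477 (.node 25519544845963 .nil .nil) (.node 42141821191842 .nil .nil)) (.node 18773308270583 (.node 33484542924610 .nil .nil) .nil)) (.node 10117321201744 (.node 15822110750745 (.node 29429825754942 .nil .nil) (.node 52038885451334 .nil .nil)) (.node 21725008566230 (.node 37748154230492 .nil .nil) .nil)))) (.node 2625573853385 (.node 3993572538414 (.node 6679619766429 (.node 12245929539763 (.node 24550844725082 .nil .nil) (.node 41042158745259 .nil .nil)) (.node 18021469612020 (.node 32454438823670 .nil .nil) (.node 64338011526485 .nil .nil))) (.node 9430076127316 (.node 15128576686017 (.node 28462082983829 .nil .nil) (.node 48190662370830 .nil .nil)) (.node 20971657910422 (.node 36708720629669 .nil .nil) .nil))) (.node 5309927802976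 (.node 8054745974978 (.node 13687965595858 (.node 26473964930918 .nil .nil) (.node 43241433527954 .nil .nil)) (.node 19525397919796 (.node 34577913628589 .nil .nil) .nil)) (.node 10805104216021 (.node 16575474935902 (.node 30456239957838 .nil .nil) (.node 55403976340941 .nil .nil)) (.node 22559220397998 (.node 38846910834395 .nil .nil) .nil))))))) (.node 354208188546 (.node 504296257582 (.node 847188990041 (.node 1532117408000 (.node 2894312704061 (.node 5583999920297 (.node 11078605543516 (.node 22966119487358 .nil .nil) (.node 39260251219666 .nil .nil)) (.node 16850605918153 (.node 30809400051405 .nil .nil) (.node 56639081780705 .nil .nil))) (.node 8326538758286 (.node 13961200265345 (.node 26881199839136 .nil .nil) (.node 43653733615249 .nil .nil)) (.node 19799738980391 (.node 34932249974457 .nil .nil) .nil))) (.node 4217379055582 (.node 6950304802839 (.node 12519751137497 (.node 24895784277745 .nil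 .nil) (.node 41454978770604 .nil .nil)) (.node 18296464889844 (.node 32859205515188 .nil .nil) (.node 72036957873395 .nil .nil))) (.node 9700995614786 (.node 15403203205058 (.node 28810511841090 .nil .nil) (.node 49631137674832 .nil .nil)) (.node 21245898618933 (.node 37117601126120 .nil .nil) .nil)))) (.node 2209717786671 (.node 3577951123625 (.node 6264467327231 (.node 11822661191765 (.node 23932973750006 .nil .nil) (.node 40359444014775 .nil .nil)) (.node 17598987839675 (.node 31833145534242 .nil .nil) (.node 60353875109284 .nil .nil))) (.node 9013162408156 (.node 14653477447738 (.node 27846829356824 .nil .nil) (.node 46198485268001 .nil .nil)) (.node 20495571625922 (.node 36023991699313 .nil .nil) .nil))) (.node 4897274927273 (.node 7638990776558 (.node 13214999549946 (.node 25863879923360 .nil .nil) (.node 42553366439586 .nil .nil)) (.node 19047783208968 (.node 33893304051491 .nil .nil) .nil))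 (.node 10389599275116 (.node 16097491879956 (.node 29837125683105 .nil .nil) (.node 53411732350360 .nil .nil)) (.node 21999483922385 (.node 38160068650708 .nil .nil) .nil))))) (.node 1189897275506 (.node 1875295709429 (.node 3236903446621 (.node 5922480838901 (.node 11424569145300 (.node 23451567204242 .nil .nil) (.node 39810023720649 .nil .nil)) (.node 17195913107474 (.node 31348350216098 .nil .nil) (.node 58428606166465 .nil .nil))) (.node 8670353307873 (.node 14308486457525 (.node 27362739214232 .nil .nil) (.node 44615739995680 .nil .nil)) (.node 20147158653024 (.node 35476921394976 .nil .nil) .nil))) (.node 4554533480595 (.node 7294656944078 (.node 12866805860312 (.node 25383179421326 .nil .nil) (.node 42004466132650 .nil .nil)) (.node 18700596619343 (.node 33347942975227 .nil .nil) .nil)) (.node 10045884528739 (.node 15751396673476 (.node 29297974363839 .nil .nil) (.node 51557195159083 .nil .nil))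 (.node 21594512660422 (.node 37610866190045 .nil .nil) .nil)))) (.node 2551185131641 (.node 3873480067028 (.node 6607528794290 (.node 12172800395286 (.node 24414211151642 .nil .nil) (.node 40905172743843 .nil .nil)) (.node 17948420004052 (.node 32318880392852 .nil .nil) (.node 63238768383305 .nil .nil))) (.node 9358387812470 (.node 15055310833906 (.node 28327899240181 .nil .nil) (.node 47840841799265 .nil .nil)) (.node 20900039387105 (.node 36571382298535 .nil .nil) .nil))) (.node 5240989984919 (.node 7981717649355 (.node 13614601099270 (.node 26398100911970 .nil .nil) (.node 43104095389313 .nil .nil)) (.node 19394969343975 (.node 34439887792036 .nil .nil) .nil)) (.node 10732945045610 (.node 16499576936630 (.node 30321434691301 .nil .nil) (.node 54993823344081 .nil .nil)) (.node 22484512708492 (.node 38709874448094 .nil .nil) .nil)))))) (.node 697520764910 (.node 1037443819745 (.node 1674875770901 (.node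 3038460852401 (.node 5776688933075 (.node 11278322849993 (.node 23182596056794 .nil .nil) (.node 39533551855324 .nil .nil)) (.node 17049399826610 (.node 31075535271797 .nil .nil) (.node 57463531083200 .nil .nil))) (.node 8471492356161 (.node 14107295631374 (.node 27092054210405 .nil .nil) (.node 43928812967554 .nil .nil)) (.node 19945748887493 (.node 35207010473654 .nil .nil) .nil))) (.node 4406929516592 (.node 7096398481516 (.node 12720761358350 (.node 25168749778723 .nil .nil) (.node 41729772758702 .nil .nil)) (.node 18498393897170 (.node 33076857829048 .nil .nil) (.node 74235444384980 .nil .nil))) (.node 9898582800530 (.node 15547669084187 (.node 29081512789904 .nil .nil) (.node 50595122280033 .nil .nil)) (.node 21449862289370 (.node 37336492381888 .nil .nil) .nil)))) (.node 2356801902820 (.node 3728876058808 (.node 6409136715942 (.node 11972109670488 (.node 24199681492865 .nil .nil) (.node 40634623735474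 .nil .nil)) (.node 17746792859643 (.node 32103912077224 .nil .nil) (.node 61315108992453 .nil .nil))) (.node 9159359322124 (.node 14856028887249 (.node 28054680409953 .nil .nil) (.node 47016275138165 .nil .nil)) (.node 20696545347717 (.node 36298167031552 .nil .nil) .nil))) (.node 5095029856396 (.node 7784096495732 (.node 13413590051012 (.node 26129226598269 .nil .nil) (.node 42827791353512 .nil .nil)) (.node 19250285160521 (.node 34167779501831 .nil .nil) .nil)) (.node 10585609803920 (.node 16300714506324 (.node 30052999562951 .nil .nil) (.node 54169374197213 .nil .nil)) (.node 22213878380472 (.node 38434745149143 .nil .nil) .nil))))) (.node 1379716290740 (.node 2016762058771 (.node 3385983142091 (.node 6066529130663 (.node 11625139661040 (.node 23665242978001 .nil .nil) (.node 40084650264241 .nil .nil)) (.node 17400395409348 (.node 31563167532690 .nil .nil) (.node 59391131506154 .nil .nil))) (.node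 8816550639610 (.node 14507434199041 (.node 27573226100508 .nil .nil) (.node 45373918418515 .nil .nil)) (.node 20350149384170 (.node 35752335972132 .nil .nil) .nil))) (.node 4751499544672 (.node 7438571329496 (.node 13066824574923 (.node 25648945186683 .nil .nil) (.node 42279226631841 .nil .nil)) (.node 18846287419354 (.node 33621512288075 .nil .nil) .nil)) (.node 10190268852235 (.node 15949653387455 (.node 29566241568586 .nil .nil) (.node 52519099905611 .nil .nil)) (.node 21795486419025 (.node 37885542885082 .nil .nil) .nil)))) (.node 2699929336042 (.node 4072104319169 (.node 6751543003275 (.node 12318306646160 (.node 24687947310994 .nil .nil) (.node 41179564086956 .nil .nil)) (.node 18151058905160 (.node 32587801802519 .nil .nil) (.node 65437254784325 .nil .nil))) (.node 9503980251131 (.node 15201170311208 (.node 28596721215395 .nil .nil) (.node 48665291105855 .nil .nil)) (.node 21045193189313 (.node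 36845373372137 .nil .nil) .nil))) (.node 5438443100150 (.node 8127828064329 (.node 13760761944110 (.node 26610516326212 .nil .nil) (.node 43379124094603 .nil .nil)) (.node 19597136426993 (.node 34715908269830 .nil .nil) .nil)) (.node 10932309608703 (.node 16647029536793 (.node 30592536446896 .nil .nil) (.node 55814515119605 .nil .nil)) (.node 22695468304316 (.node 38984282826455 .nil .nil) .nil))))))))

/-- Part of `setKey`. -/
noncomputable def setKey_l_l_l_l : Arr ℕ :=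
  .node 90905667741 setKey_l_l_l_l_l setKey_l_l_l_l_r

/-- Part of `setKey`. -/
noncomputable def setKey_l_l_l_r_l : Arr ℕ :=
  (.node 158868785405 (.node 229451774020 (.node 422710015970 (.node 762700093670 (.node 1399645607966 (.node 2763314600131 (.node 5501811050705 (.node 10997826025610 (.node 22825442883485 .nil .nil) (.node 39115329578782 .nil .nil)) (.node 16715698726935 (.node 30665585587938 .nil .nil) (.node 56093485667809 .nil .nil))) (.node 8196178483318 (.node 13828375250906 (.node 26680326182668 .nil .nil) (.node 43512319493819 .nil .nil)) (.node 19665822177285 (.node 34788804179759 .nil .nil) .nil))) (.node 4132219332723 (.node 6819676252142 (.node 12386507683795 (.node 24757053695758 .nil .nil) (.node 41312656131947 .nil .nil)) (.node 18219677726786 (.node 32662964455048 .nil .nil) (.node 70662903928040 .nil .nil))) (.node 9570987403314 (.node 15269873006631 (.node 28669885855576 .nil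 .nil) (.node 49015094740488 .nil .nil)) (.node 21113895876546 (.node 36919778866956 .nil .nil) .nil)))) (.node 2084659316790 (.node 3454199625905 (.node 6135165282357 (.node 11693674846424 (.node 23795383748384 .nil .nil) (.node 40213647841186 .nil .nil)) (.node 17469098104772 (.node 31692066760503 .nil .nil) (.node 59734947014100 .nil .nil))) (.node 8883607799940 (.node 14575968565428 (.node 27705565030290 .nil .nil) (.node 45715268400655 .nil .nil)) (.node 20419154016230 (.node 35883384604401 .nil .nil) .nil))) (.node 4820085057672 (.node 7507239262272 (.node 13135460214732 (.node 25725501720219 .nil .nil) (.node 42411531810599 .nil .nil)) (.node 18914738468831 (.node 33752091182871 .nil .nil) .nil)) (.node 10258803959821 (.node 16018624510130 (.node 29695696557860 .nil .nil) (.node 52928934737375 .nil .nil)) (.node 21864189114450 (.node 38016254068568 .nil .nil) .nil))))) (.node 1104838408370 (.node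 1742119065622 (.node 3106240755908 (.node 5791517046950 (.node 11346924890316 (.node 23314161952669 .nil .nil) (.node 39664026437560 .nil .nil)) (.node 17117901195455 (.node 31152293168840 .nil .nil) (.node 57810415879672 .nil .nil))) (.node 8538048198697 (.node 14175998326797 (.node 27222465861560 .nil .nil) (.node 44130694755935 .nil .nil)) (.node 20014451533766 (.node 35335790339967 .nil .nil) .nil))) (.node 4476688697458 (.node 7163826301069 (.node 12788289591471 (.node 25238139115417 .nil .nil) (.node 41861943994118 .nil .nil)) (.node 18567096600785 (.node 33204750681900 .nil .nil) .nil)) (.node 9916531984377 (.node 15616438839317 (.node 29156172244789 .nil .nil) (.node 50939877213734 .nil .nil)) (.node 21518866921430 (.node 37466800310102 .nil .nil) .nil)))) (.node 2424682510576 (.node 3797243259068 (.node 6477336946731 (.node 12040879491156 (.node 24276201740102 .nil .nil) (.node 40762866960237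 .nil .nil)) (.node 17815378126845 (.node 32175751198593 .nil .nil) (.node 61864714261865 .nil .nil))) (.node 9227322718265 (.node 14923742840877 (.node 28187070912406 .nil .nil) (.node 47297728525841 .nil .nil)) (.node 20765248043142 (.node 36374285465284 .nil .nil) .nil))) (.node 5163598768115 (.node 7850636367839 (.node 13481120491575 (.node 26206873339543 .nil .nil) (.node 42961993377465 .nil .nil)) (.node 19319138830397 (.node 34242052650651 .nil .nil) .nil)) (.node 10603609249787 (.node 16369417209939 (.node 30181479524167 .nil .nil) (.node 54510858261890 .nil .nil)) (.node 22284409563057 (.node 38565725832871 .nil .nil) .nil)))))) (.node 572797372526 (.node 915304269983 (.node 1600652548345 (.node 2962327509062 (.node 5647669975282 (.node 11146971162827 (.node 23038528911282 .nil .nil) (.node 39390459033372 .nil .nil)) (.node 16919308613577 (.node 30936066934692 .nil .nil) (.node 56913758344685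 .nil .nil))) (.node 8393783072713 (.node 14028964526021 (.node 26954229110640 .nil .nil) (.node 43787113625266 .nil .nil)) (.node 19869532391405 (.node 35061786744628 .nil .nil) .nil))) (.node 4284672620523 (.node 7018504611810 (.node 12587834157180 (.node 25024181024630 .nil .nil) (.node 41587401467696 .nil .nil)) (.node 18365033465842 (.node 32933059651378 .nil .nil) (.node 72861390447815 .nil .nil))) (.node 9769160497373 (.node 15468700960955 (.node 28885422888632 .nil .nil) (.node 49976965711466 .nil .nil)) (.node 21314601322550 (.node 37191268660972 .nil .nil) .nil)))) (.node 2276441356441 (.node 3599071643602 (.node 6332583798965 (.node 11840979105780 (.node 24007430735579 .nil .nil) (.node 40488123221921 .nil .nil)) (.node 17669905139785 (.node 31908861425341 .nil .nil) (.node 60762871080335 .nil .nil))) (.node 9081262983110 (.node 14722213697593 (.node 27916320323327 .nil .nil) (.node 46473161545315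 .nil .nil)) (.node 20564274378689 (.node 36100246308539 .nil .nil) .nil))) (.node 4965240023195 (.node 7706940274637 (.node 13283232425991 (.node 25991854839670 .nil .nil) (.node 42686745155360 .nil .nil)) (.node 19116469045263 (.node 33969590195914 .nil .nil) .nil)) (.node 10458167810149 (.node 16166261626910 (.node 29910090667760 .nil .nil) (.node 53687683638731 .nil .nil)) (.node 22073420769138 (.node 38290948634285 .nil .nil) .nil))))) (.node 1257877338357 (.node 1934839990327 (.node 3303290984690 (.node 5990478547197 (.node 11493304182910 (.node 23521042724612 .nil .nil) (.node 39938635933617 .nil .nil)) (.node 17264582215712 (.node 31421784778527 .nil .nil) (.node 58773260379546 .nil .nil))) (.node 8738150054126 (.node 14376419190830 (.node 27435099670282 .nil .nil) (.node 44892194580028 .nil .nil)) (.node 20215861356639 (.node 35608758265596 .nil .nil) .nil))) (.node 4623101937819 (.node 7361984538590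 (.node 12933964326983 (.node 25510566913929 .nil .nil) (.node 42136955983632 .nil .nil)) (.node 18769416624223 (.node 33479024768796 .nil .nil) .nil)) (.node 10114150107363 (.node 15820099368900 (.node 29424355481535 .nil .nil) (.node 51964631098895 .nil .nil)) (.node 21663282464709 (.node 37741158299416 .nil .nil) .nil)))) (.node 2619602557070 (.node 3941930706924 (.node 6674738489572 (.node 12241168046036 (.node 24489708742355 .nil .nil) (.node 41038014642010 .nil .nil)) (.node 18017156262099 (.node 32448383555374 .nil .nil) (.node 64063200662885 .nil .nil))) (.node 9426133534932 (.node 15122001184805 (.node 28397725574901 .nil .nil) (.node 48115518363245 .nil .nil)) (.node 20968976926685 (.node 36646192449284 .nil .nil) .nil))) (.node 5309054933167 (.node 8049782900761 (.node 13683420653768 (.node 26472538953582 .nil .nil) (.node 43236804024016 .nil .nil)) (.node 19463554656223 (.node 34515100145499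 .nil .nil) .nil)) (.node 10801512671455 (.node 16568313182390 (.node 30397049611983 .nil .nil) (.node 55268700919277 .nil .nil)) (.node 22554909804404 (.node 38840820582234 .nil .nil) .nil))))))) (.node 300570282005 (.node 500469930238 (.node 835227687022 (.node 1521953273810 (.node 2838441928931 (.node 5576217094181 (.node 11073372579860 (.node 22902196938687 .nil .nil) (.node 39252735903407 .nil .nil)) (.node 16843224631475 (.node 30800911202034 .nil .nil) (.node 56503555053021 .nil .nil))) (.node 8321959504044 (.node 13956235045110 (.node 26817226405742 .nil .nil) (.node 43649104111311 .nil .nil)) (.node 19738835081175 (.node 34924314261302 .nil .nil) .nil))) (.node 4210465708240 (.node 6893210294282 (.node 12514418399234 (.node 24894089918268 .nil .nil) (.node 41450163988241 .nil .nil)) (.node 18292151474396 (.node 32796777957188 .nil .nil) (.node 71762147058935 .nil .nil))) (.node 9697473677282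 (.node 15344682436613 (.node 28804943009630 .nil .nil) (.node 49496181413377 .nil .nil)) (.node 21243720644570 (.node 37055037257466 .nil .nil) .nil)))) (.node 2204148644030 (.node 3528574076890 (.node 6262942554110 (.node 11766723856364 (.node 23924736485255 .nil .nil) (.node 40351187412899 .nil .nil)) (.node 17538990393364 (.node 31828732102577 .nil .nil) (.node 60216419386789 .nil .nil))) (.node 9008969857193 (.node 14649501169889 (.node 27779534247778 .nil .nil) (.node 46127366833778 .nil .nil)) (.node 20490722654251 (.node 36017821132535 .nil .nil) .nil))) (.node 4891269130489 (.node 7633875527933 (.node 13208791906374 (.node 25855355426673 .nil .nil) (.node 42548935673703 .nil .nil)) (.node 19043992569921 (.node 33832184788684 .nil .nil) .nil)) (.node 10384500492299 (.node 16094758803404 (.node 29776209704590 .nil .nil) (.node 53341352236505 .nil .nil)) (.node 21938462271426 (.node 38153744623272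 .nil .nil) .nil))))) (.node 1178841770052 (.node 1862412998870 (.node 3181267474660 (.node 5919630100611 (.node 11419099871338 (.node 23389291255517 .nil .nil) (.node 39801280800682 .nil .nil)) (.node 17193530685521 (.node 31287534745238 .nil .nil) (.node 58291435443697 .nil .nil))) (.node 8665255139491 (.node 14304127367109 (.node 27298616936163 .nil .nil) (.node 44543112255065 .nil .nil)) (.node 20144007739370 (.node 35471218673406 .nil .nil) .nil))) (.node 4547420182781 (.node 7287880325240 (.node 12861688928330 (.node 25374587111312 .nil .nil) (.node 41999313954672 .nil .nil)) (.node 18640112478201 (.node 33341669697306 .nil .nil) .nil)) (.node 10040801650919 (.node 15743545292990 (.node 29289518950113 .nil .nil) (.node 51419890390571 .nil .nil)) (.node 21589932046415 (.node 37604272809812 .nil .nil) .nil)))) (.node 2495146547436 (.node 3867539474625 (.node 6601121286365 (.node 12115353794554 (.node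 24413019105172 .nil .nil) (.node 40900274132748 .nil .nil)) (.node 17944883759149 (.node 32312555034403 .nil .nil) (.node 62963957388665 .nil .nil))) (.node 9353254779069 (.node 14996136622042 (.node 28321910409125 .nil .nil) (.node 47707814336043 .nil .nil)) (.node 20838867068867 (.node 36509963028120 .nil .nil) .nil))) (.node 5233005078725 (.node 7974907406435 (.node 13554889549781 (.node 26343238796946 .nil .nil) (.node 43099935639217 .nil .nil)) (.node 19391179397111 (.node 34377594066782 .nil .nil) .nil)) (.node 10728014165990 (.node 16441005340689 (.node 30316905674567 .nil .nil) (.node 54921933403642 .nil .nil)) (.node 22420556687296 (.node 38703096702707 .nil .nil) .nil)))))) (.node 642909587488 (.node 985684670505 (.node 1671671527553 (.node 3032556914737 (.node 5721942534265 (.node 11218493151384 (.node 23177428305756 .nil .nil) (.node 39527864424222 .nil .nil)) (.node 16990475962390 (.node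 31069750429505 .nil .nil) (.node 57329060984273 .nil .nil))) (.node 8466460346497 (.node 14101927057458 (.node 27088230324120 .nil .nil) (.node 43924049270458 .nil .nil)) (.node 19941218244768 (.node 35199158597426 .nil .nil) .nil))) (.node 4402383509675 (.node 7091431917769 (.node 12661318256605 (.node 25107563374290 .nil .nil) (.node 41724941076266 .nil .nil)) (.node 18494455035940 (.node 33068886394752 .nil .nil) (.node 73960633570520 .nil .nil))) (.node 9842159253474 (.node 15544817236040 (.node 29019825739412 .nil .nil) (.node 50457952032283 .nil .nil)) (.node 21388522121155 (.node 37329326245748 .nil .nil) .nil)))) (.node 2350628952259 (.node 3718761683072 (.node 6408264939622 (.node 11967413520333 (.node 24139047937874 .nil .nil) (.node 40624890849203 .nil .nil)) (.node 17742294976743 (.node 32042340112115 .nil .nil) (.node 61244209055204 .nil .nil))) (.node 9154190411965 (.node 14850679289844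 (.node 28053188908879 .nil .nil) (.node 46885428454929 .nil .nil)) (.node 20693897742305 (.node 36238691669686 .nil .nil) .nil))) (.node 5035318335570 (.node 7778745583756 (.node 13408844564694 (.node 26123290101605 .nil .nil) (.node 42824083502874 .nil .nil)) (.node 19189448771537 (.node 34106760963773 .nil .nil) .nil)) (.node 10530326677478 (.node 16293401741495 (.node 30045097592572 .nil .nil) (.node 54098641966478 .nil .nil)) (.node 22209718642569 (.node 38428420151036 .nil .nil) .nil))))) (.node 1328426334306 (.node 2014581160053 (.node 3375835424821 (.node 6065087162447 (.node 11620964747242 (.node 23658245658525 .nil .nil) (.node 40075907159982 .nil .nil)) (.node 17392879745210 (.node 31556755990408 .nil .nil) (.node 59254665790868 .nil .nil))) (.node 8810962254001 (.node 14449583347803 (.node 27571714914158 .nil .nil) (.node 45303119275525 .nil .nil)) (.node 20288725116877 (.node 35747017004965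 .nil .nil) .nil))) (.node 4692257773686 (.node 7434578384929 (.node 13008992229368 (.node 25589270664850 .nil .nil) (.node 42274361440010 .nil .nil)) (.node 18841960388610 (.node 33615975217072 .nil .nil) .nil)) (.node 10184596650180 (.node 15890813462551 (.node 29561326905171 .nil .nil) (.node 52448267015790 .nil .nil)) (.node 21793342277585 (.node 37878665451179 .nil .nil) .nil)))) (.node 2693051873486 (.node 4061738342510 (.node 6747249432620 (.node 12313794971722 (.node 24620888520602 .nil .nil) (.node 41175402129249 .nil .nil)) (.node 18090340038642 (.node 32581209749330 .nil .nil) (.node 65162443822445 .nil .nil))) (.node 9498292410485 (.node 15197346473922 (.node 28534040594178 .nil .nil) (.node 48532296971871 .nil .nil)) (.node 21040360614037 (.node 36782272571193 .nil .nil) .nil))) (.node 5378462677104 (.node 8122661648527 (.node 13756668299473 (.node 26606758217618 .nil .nil) (.node 43374863759036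 .nil .nil)) (.node 19593244973164 (.node 34653797504738 .nil .nil) .nil)) (.node 10872832890946 (.node 16644211185757 (.node 30530461181736 .nil .nil) (.node 55681219122664 .nil .nil)) (.node 22691308631938 (.node 38978210379427 .nil .nil) .nil))))))))

/-- Part of `setKey`. -/
noncomputable def setKey_l_l_l_r_r : Arr ℕ :=
  (.node 213078468845 (.node 285589248151 (.node 435878418563 (.node 778888636522 (.node 1464925862040 (.node 2825861630031 (.node 5515364988986 (.node 11009364805811 (.node 22834031130549 .nil .nil) (.node 39184065828637 .nil .nil)) (.node 16781567653837 (.node 30732811843420 .nil .nil) (.node 56297413412316 .nil .nil))) (.node 8259110037739 (.node 13892430465155 (.node 26748777309936 .nil .nil) (.node 43580938315449 .nil .nil)) (.node 19731053066273 (.node 34856416675605 .nil .nil) .nil))) (.node 4148860831705 (.node 6882038380495 (.node 12451048442074 (.node 24825855965083 .nil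 .nil) (.node 41381358827372 .nil .nil)) (.node 18227728639987 (.node 32728075228997 .nil .nil) (.node 71212642948325 .nil .nil))) (.node 9633165047929 (.node 15334466955202 (.node 28737580369837 .nil .nil) (.node 49220497929853 .nil .nil)) (.node 21177698912403 (.node 36987408058109 .nil .nil) .nil)))) (.node 2149754308849 (.node 3512200640612 (.node 6197090232565 (.node 11757211965683 (.node 23863129143196 .nil .nil) (.node 40282350544801 .nil .nil)) (.node 17530285136060 (.node 31760717035449 .nil .nil) (.node 60009657124319 .nil .nil))) (.node 8946104531060 (.node 14584741197887 (.node 27772288780205 .nil .nil) (.node 45917032109645 .nil .nil)) (.node 20426868922306 (.node 35951363811245 .nil .nil) .nil))) (.node 4828991592620 (.node 7570876233881 (.node 13146296854521 (.node 25794036598426 .nil .nil) (.node 42480234514216 .nil .nil)) (.node 18979298875382 (.node 33818261141270 .nil .nil) .nil))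 (.node 10321232033898 (.node 16028789176339 (.node 29710257678013 .nil .nil) (.node 53070651028925 .nil .nil)) (.node 21930781218770 (.node 38084990318423 .nil .nil) .nil))))) (.node 1122016434312 (.node 1808186702065 (.node 3168452450345 (.node 5858844244132 (.node 11355866449875 (.node 23374846486415 .nil .nil) (.node 39732729132983 .nil .nil)) (.node 17127176857617 (.node 31218295195291 .nil .nil) (.node 58017161631118 .nil .nil))) (.node 8601986181337 (.node 14239750199478 (.node 27229981320941 .nil .nil) (.node 44274641810995 .nil .nil)) (.node 20078623651994 (.node 35403520268152 .nil .nil) .nil))) (.node 4485998803038 (.node 7227362719902 (.node 12798623012835 (.node 25306457323243 .nil .nil) (.node 41930646689541 .nil .nil)) (.node 18631860361296 (.node 33272899876639 .nil .nil) .nil)) (.node 9977684977772 (.node 15682155567170 (.node 29222895908596 .nil .nil) (.node 51213882730072 .nil .nil))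 (.node 21525809964998 (.node 37535536559957 .nil .nil) .nil)))) (.node 2482834692204 (.node 3852761905325 (.node 6540368681202 (.node 12104584280014 (.node 24344854451957 .nil .nil) (.node 40831569655662 .nil .nil)) (.node 17879885027540 (.node 32244302964613 .nil .nil) (.node 62414335890785 .nil .nil))) (.node 9290322479229 (.node 14987329394861 (.node 28254934935444 .nil .nil) (.node 47501639140910 .nil .nil)) (.node 20831336683490 (.node 36442451605124 .nil .nil) .nil))) (.node 5172388415522 (.node 7914791483614 (.node 13545898403845 (.node 26274720700046 .nil .nil) (.node 43030679324347 .nil .nil)) (.node 19326283479013 (.node 34311141394062 .nil .nil) .nil)) (.node 10664745556072 (.node 16430874241205 (.node 30249341822883 .nil .nil) (.node 54715272091085 .nil .nil)) (.node 22352592275386 (.node 38634428528297 .nil .nil) .nil)))))) (.node 629136492605 (.node 972331661270 (.node 1654527084725 (.node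 2974773422319 (.node 5713287440375 (.node 11209738414041 (.node 23104732551034 .nil .nil) (.node 39459161736987 .nil .nil)) (.node 16980697131185 (.node 31003530164032 .nil .nil) (.node 57121107830192 .nil .nil))) (.node 8404401526780 (.node 14038458718223 (.node 27022027912998 .nil .nil) (.node 43855866631860 .nil .nil)) (.node 19877046192069 (.node 35130455902001 .nil .nil) .nil))) (.node 4346915088581 (.node 7028702214225 (.node 12652780066829 (.node 25039011575512 .nil .nil) (.node 41656104163119 .nil .nil)) (.node 18429556996306 (.node 33000018007825 .nil .nil) (.node 73411129464005 .nil .nil))) (.node 9832881981689 (.node 15478966388764 (.node 28953689036496 .nil .nil) (.node 50250116163141 .nil .nil)) (.node 21381159593945 (.node 37259971364587 .nil .nil) .nil)))) (.node 2288384456922 (.node 3660810979507 (.node 6341508311075 (.node 11903406975063 (.node 24071115990933 .nil .nil) (.node 40556825917346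 .nil .nil)) (.node 17678090156028 (.node 31976021345924 .nil .nil) (.node 60971629221322 .nil .nil))) (.node 9092334393332 (.node 14787292637394 (.node 27984721250058 .nil .nil) (.node 46741598508665 .nil .nil)) (.node 20628076898477 (.node 36168949003964 .nil .nil) .nil))) (.node 5026461145174 (.node 7716971952133 (.node 13345643817021 (.node 26059970004878 .nil .nil) (.node 42755447858975 .nil .nil)) (.node 19181532137551 (.node 34038058260158 .nil .nil) .nil)) (.node 10520664246433 (.node 16232230008908 (.node 29976476366730 .nil .nil) (.node 53895385195953 .nil .nil)) (.node 22141636855671 (.node 38359651337891 .nil .nil) .nil))))) (.node 1312523004125 (.node 1948797450263 (.node 3313036908721 (.node 6051499718870 (.node 11557141514477 (.node 23589745293092 .nil .nil) (.node 40007338629042 .nil .nil)) (.node 17330936027223 (.node 31488441116423 .nil .nil) (.node 59046192473524 .nil .nil))) (.node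 8799339751535 (.node 14439369226193 (.node 27503582533484 .nil .nil) (.node 45099208382017 .nil .nil)) (.node 20281446688745 (.node 35678280755110 .nil .nil) .nil))) (.node 4683349895375 (.node 7372282771546 (.node 12998121871307 (.node 25573500737390 .nil .nil) (.node 42205658687247 .nil .nil)) (.node 18777601521628 (.node 33547761026843 .nil .nil) .nil)) (.node 10173393651845 (.node 15880950683840 (.node 29492909344595 .nil .nil) (.node 52175418730042 .nil .nil)) (.node 21727320041640 (.node 37809861003031 .nil .nil) .nil)))) (.node 2631277082853 (.node 4003887921358 (.node 6684316510318 (.node 12250828945461 (.node 24557538821854 .nil .nil) (.node 41106717345625 .nil .nil)) (.node 18082356209735 (.node 32516229003172 .nil .nil) (.node 64612822193525 .nil .nil))) (.node 9486366578840 (.node 15132467615777 (.node 28466126378736 .nil .nil) (.node 48325685798434 .nil .nil)) (.node 20976490485697 (.node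 36714928699139 .nil .nil) .nil))) (.node 5369924745333 (.node 8061324347378 (.node 13692059248685 (.node 26538592245658 .nil .nil) (.node 43305624155854 .nil .nil)) (.node 19527846426626 (.node 34585094809313 .nil .nil) .nil)) (.node 10864513042602 (.node 16578293286938 (.node 30464175781532 .nil .nil) (.node 55539838490105 .nil .nil)) (.node 22623193016200 (.node 38909556832089 .nil .nil) .nil))))))) (.node 366420990021 (.node 554948413625 (.node 850393085972 (.node 1535306242087 (.node 2899813980358 (.node 5585074272312 (.node 11083823409160 (.node 22970446976936 .nil .nil) (.node 39321472153249 .nil .nil)) (.node 16853003429915 (.node 30868269533063 .nil .nil) (.node 56710132819416 .nil .nil))) (.node 8331235616813 (.node 13965359990937 (.node 26885763045146 .nil .nil) (.node 43717924243149 .nil .nil)) (.node 19802959263730 (.node 34993084049203 .nil .nil) .nil))) (.node 4268584605776 (.node 6955569875138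 (.node 12523980167121 (.node 24962792748828 .nil .nil) (.node 41518866683666 .nil .nil)) (.node 18357150275628 (.node 32864843454222 .nil .nil) (.node 72311886075125 .nil .nil))) (.node 9705188841584 (.node 15407679322294 (.node 28871264130860 .nil .nil) (.node 49765071099440 .nil .nil)) (.node 21251049637828 (.node 37122565940973 .nil .nil) .nil)))) (.node 2220991121515 (.node 3582379628670 (.node 6271714691234 (.node 11830008096718 (.node 23939634284248 .nil .nil) (.node 40419890108324 .nil .nil)) (.node 17606501734489 (.node 31894182790985 .nil .nil) (.node 60490777318874 .nil .nil))) (.node 9017625896941 (.node 14713441073330 (.node 27848087561956 .nil .nil) (.node 46329181009535 .nil .nil)) (.node 20556592965605 (.node 36031543580346 .nil .nil) .nil))) (.node 4951921047770 (.node 7644007299132 (.node 13272378976282 (.node 25923202279298 .nil .nil) (.node 42617638369128 .nil .nil)) (.node 19052412426194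 (.node 33900887500489 .nil .nil) .nil)) (.node 10394698041501 (.node 16156029900980 (.node 29842427782960 .nil .nil) (.node 53482867054008 .nil .nil)) (.node 22001560381608 (.node 38222447318698 .nil .nil) .nil))))) (.node 1192732387353 (.node 1877611923573 (.node 3242908158137 (.node 5928067700791 (.node 11483709372647 (.node 23457708599004 .nil .nil) (.node 39870017050537 .nil .nil)) (.node 17255373695165 (.node 31354843047763 .nil .nil) (.node 58563311084975 .nil .nil))) (.node 8674783328237 (.node 14314192332793 (.node 27366849734385 .nil .nil) (.node 44686975436353 .nil .nil)) (.node 20151319676878 (.node 35540055561979 .nil .nil) .nil))) (.node 4613742319610 (.node 7298898548943 (.node 12922441189445 (.node 25443105580932 .nil .nil) (.node 42068016650095 .nil .nil)) (.node 18704417954022 (.node 33410372392729 .nil .nil) .nil)) (.node 10049676228572 (.node 15753408055322 (.node 29357565257596 .nil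 .nil) (.node 51694902277713 .nil .nil)) (.node 21656305870805 (.node 37673009059667 .nil .nil) .nil)))) (.node 2557089347783 (.node 3925389834372 (.node 6614524106830 (.node 12177528400076 (.node 24474559395710 .nil .nil) (.node 40968976836363 .nil .nil)) (.node 17952766908403 (.node 32380200863513 .nil .nil) (.node 63513579017585 .nil .nil))) (.node 9361792743523 (.node 15060527253650 (.node 28328887175013 .nil .nil) (.node 47914173949535 .nil .nil)) (.node 20902719989933 (.node 36577456183046 .nil .nil) .nil))) (.node 5241794844847 (.node 7986210871493 (.node 13618660100145 (.node 26404523616117 .nil .nil) (.node 43168688645811 .nil .nil)) (.node 19456711989302 (.node 34446363895644 .nil .nil) .nil)) (.node 10736601610362 (.node 16506907801551 (.node 30382723442495 .nil .nil) (.node 55127420990975 .nil .nil)) (.node 22488806721450 (.node 38771799398132 .nil .nil) .nil)))))) (.node 707987126524 (.node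 1050762639607 (.node 1728580716602 (.node 3044701006037 (.node 5782660245695 (.node 11281560262768 (.node 23245895403414 .nil .nil) (.node 39596567127837 .nil .nil)) (.node 17056679004228 (.node 31083758286527 .nil .nil) (.node 57535604868603 .nil .nil))) (.node 8528838940905 (.node 14166369900486 (.node 27156346132383 .nil .nil) (.node 43992735217340 .nil .nil)) (.node 20006971332590 (.node 35267255453563 .nil .nil) .nil))) (.node 4417127540925 (.node 7154920159215 (.node 12724785596649 (.node 25170107443090 .nil .nil) (.node 41793643771689 .nil .nil)) (.node 18502556071936 (.node 33137071355672 .nil .nil) (.node 74510372590805 .nil .nil))) (.node 9905980331975 (.node 15606173460665 (.node 29087957960352 .nil .nil) (.node 50730615936527 .nil .nil)) (.node 21452140931124 (.node 37398062495603 .nil .nil) .nil)))) (.node 2413108660329 (.node 3734984071136 (.node 6469352216642 (.node 11978652915698 (.node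 24207616890593 .nil .nil) (.node 40693593544628 .nil .nil)) (.node 17807310596133 (.node 32107973068603 .nil .nil) (.node 61452598269380 .nil .nil))) (.node 9217526892754 (.node 14859468097667 (.node 28121505584986 .nil .nil) (.node 47090378851948 .nil .nil)) (.node 20701461628868 (.node 36307394373301 .nil .nil) .nil))) (.node 5097645766904 (.node 7842198034630 (.node 13417818474623 (.node 26138489636487 .nil .nil) (.node 42892786206489 .nil .nil)) (.node 19254008793081 (.node 34175681717956 .nil .nil) .nil)) (.node 10593225603010 (.node 16303532840992 (.node 30112810383172 .nil .nil) (.node 54304817186187 .nil .nil)) (.node 22275821295515 (.node 38497122854651 .nil .nil) .nil))))) (.node 1385050748963 (.node 2071574788070 (.node 3392225368035 (.node 6125972785201 (.node 11629401294925 (.node 23726731429652 .nil .nil) (.node 40144609863597 .nil .nil)) (.node 17401584969757 (.node 31623716341553 .nil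 .nil) (.node 59528235410823 .nil .nil))) (.node 8873410226162 (.node 14512799697091 (.node 27637801645981 .nil .nil) (.node 45509227378180 .nil .nil)) (.node 20353199655001 (.node 35815201867505 .nil .nil) .nil))) (.node 4758897125517 (.node 7498449430766 (.node 13071436826689 (.node 25657805424288 .nil .nil) (.node 42343064143625 .nil .nil)) (.node 18906989791313 (.node 33683939772343 .nil .nil) .nil)) (.node 10248772376595 (.node 15957502752921 (.node 29629979281234 .nil .nil) (.node 52656404674123 .nil .nil)) (.node 21801056929729 (.node 37947368154789 .nil .nil) .nil)))) (.node 2753568721145 (.node 4078262433776 (.node 6810013927590 (.node 12376945891332 (.node 24688451704578 .nil .nil) (.node 41244138379106 .nil .nil)) (.node 18154829957337 (.node 32595334923979 .nil .nil) (.node 65712065353085 .nil .nil))) (.node 9561006815442 (.node 15208082409458 (.node 28602625918739 .nil .nil) (.node 48740182836852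 .nil .nil)) (.node 21106415867870 (.node 36850975266618 .nil .nil) .nil))) (.node 5441058351353 (.node 8186098214892 (.node 13820121241820 (.node 26672575862720 .nil .nil) (.node 43443482580666 .nil .nil)) (.node 19601563875285 (.node 34721108063982 .nil .nil) .nil)) (.node 10937743947986 (.node 16705718573240 (.node 30599029716769 .nil .nil) (.node 55887830693275 .nil .nil)) (.node 22759541733245 (.node 39046913083053 .nil .nil) .nil))))))))

/-- Part of `setKey`. -/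
noncomputable def setKey_l_l_l_r : Arr ℕ :=
  .node 93120333847 setKey_l_l_l_r_l setKey_l_l_l_r_r

/-- Part of `setKey`. -/
noncomputable def setKey_l_l_l : Arr ℕ :=
  .node 79280080962 setKey_l_l_l_l setKey_l_l_l_r

/-- Part of `setKey`. -/
noncomputable def setKey_l_l_r_l_l : Arr ℕ :=
  (.node 148133542033 (.node 228378167451 (.node 417543006395 (.node 712853477405 (.node 1397732948034 (.node 2762844858569 (.node 5447333292097 (.node 10944688715924 (.node 22764892354489 .nil .nil) (.node 39114792568660 .nil .nil)) (.node 16713668978723 (.node 30662381631307 .nil .nil) (.node 56089460119025 .nil .nil))) (.node 8192806721694 (.node 13826998831156 (.node 26679955568488 .nil .nil) (.node 43510608369356 .nil .nil)) (.node 19664748517386 (.node 34786688776067 .nil .nil) .nil))) (.node 4130994669689 (.node 6817696073888 (.node 12384124643407 (.node 24756801869646 .nil .nil) (.node 41312087492411 .nil .nil))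 (.node 18218520164470 (.node 32658735367947 .nil .nil) (.node 70525498537190 .nil .nil))) (.node 9567565391960 (.node 15267959716058 (.node 28667705358169 .nil .nil) (.node 48947431953929 .nil .nil)) (.node 21109751212107 (.node 36916357183216 .nil .nil) .nil)))) (.node 2083585697901 (.node 3444974286889 (.node 6134040848559 (.node 11691394668744 (.node 23787331094405 .nil .nil) (.node 40212255319990 .nil .nil)) (.node 17467888457864 (.node 31634017130167 .nil .nil) (.node 59666177213910 .nil .nil))) (.node 8879985919973 (.node 14572111181870 (.node 27642128873314 .nil .nil) (.node 45648393958953 .nil .nil)) (.node 20415329294433 (.node 35825318323890 .nil .nil) .nil))) (.node 4814515640540 (.node 7505224894661 (.node 13133513668831 (.node 25718067443569 .nil .nil) (.node 42411043637102 .nil .nil)) (.node 18914637772773 (.node 33693689443975 .nil .nil) .nil)) (.node 10255665895544 (.node 16017953736847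 (.node 29637797619357 .nil .nil) (.node 52862446175720 .nil .nil)) (.node 21863786625082 (.node 38015516280546 .nil .nil) .nil))))) (.node 1055394146335 (.node 1740206532723 (.node 3105402149061 (.node 5791047841922 (.node 11291290429428 (.node 23251818772189 .nil .nil) (.node 39663321810878 .nil .nil)) (.node 17117465376852 (.node 31149054097130 .nil .nil) (.node 57742938068354 .nil .nil))) (.node 8535966619839 (.node 14172978976725 (.node 27160941549412 .nil .nil) (.node 44066369853039 .nil .nil)) (.node 20010172577930 (.node 35333276518143 .nil .nil) .nil))) (.node 4476269819900 (.node 7161526687951 (.node 12733778651134 (.node 25237603227472 .nil .nil) (.node 41861541386012 .nil .nil)) (.node 18565821663460 (.node 33202721146655 .nil .nil) .nil)) (.node 9911447918699 (.node 15614308395058 (.node 29151912261354 .nil .nil) (.node 50871140963877 .nil .nil)) (.node 21514824177718 (.node 37465761453740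 .nil .nil) .nil)))) (.node 2419784669368 (.node 3788001208453 (.node 6477051476075 (.node 12037759658084 (.node 24275546605459 .nil .nil) (.node 40761994565487 .nil .nil)) (.node 17814371596298 (.node 32173572765488 .nil .nil) (.node 61727258498420 .nil .nil))) (.node 9223733983216 (.node 14921478629408 (.node 28184505001895 .nil .nil) (.node 47291220137585 .nil .nil)) (.node 20764643940510 (.node 36369922180927 .nil .nil) .nil))) (.node 5104523671714 (.node 7849040603313 (.node 13479275747271 (.node 26205933897372 .nil .nil) (.node 42961456555714 .nil .nil)) (.node 19318501341241 (.node 34238511658783 .nil .nil) .nil)) (.node 10599180384227 (.node 16368746154109 (.node 30178793707450 .nil .nil) (.node 54444805608866 .nil .nil)) (.node 22283268990887 (.node 38565171357416 .nil .nil) .nil)))))) (.node 570950834427 (.node 913491314939 (.node 1591208781955 (.node 2907195037912 (.node 5645254854845 (.node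 11144154876013 (.node 23035476662129 .nil .nil) (.node 39389419988644 .nil .nil)) (.node 16918453295046 (.node 30932345014085 .nil .nil) (.node 56847638865366 .nil .nil))) (.node 8391518418924 (.node 14026548062422 (.node 26950539892633 .nil .nil) (.node 43785536857789 .nil .nil)) (.node 19865573460115 (.node 35059723695874 .nil .nil) .nil))) (.node 4279839611068 (.node 7016121997484 (.node 12585687836617 (.node 24969067210461 .nil .nil) (.node 41587200108350 .nil .nil)) (.node 18364161263610 (.node 32929551955846 .nil .nil) (.node 72723985056965 .nil .nil))) (.node 9767047850195 (.node 15468248139926 (.node 28880959166218 .nil .nil) (.node 49909370336789 .nil .nil)) (.node 21314416507027 (.node 37189673060262 .nil .nil) .nil)))) (.node 2275501901979 (.node 3597561751530 (.node 6331997202543 (.node 11836483565524 (.node 24001592563454 .nil .nil) (.node 40487032522682 .nil .nil)) (.node 17668965677124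 (.node 31903139583834 .nil .nil) (.node 60694772135316 .nil .nil))) (.node 9079283615710 (.node 14719949449263 (.node 27915716425545 .nil .nil) (.node 46466653509245 .nil .nil)) (.node 20559860639906 (.node 36095379875627 .nil .nil) .nil))) (.node 4960659847412 (.node 7704960424126 (.node 13278970456213 (.node 25985884690280 .nil .nil) (.node 42685754169190 .nil .nil)) (.node 19116201015294 (.node 33965462132472 .nil .nil) .nil)) (.node 10455786567620 (.node 16164097632292 (.node 29906568079173 .nil .nil) (.node 53619148666318 .nil .nil)) (.node 22072246323074 (.node 38290410923759 .nil .nil) .nil))))) (.node 1247628580901 (.node 1934202955745 (.node 3250322471134 (.node 5988500293723 (.node 11490939152476 (.node 23520638941086 .nil .nil) (.node 39937562294198 .nil .nil)) (.node 17262553745351 (.node 31418597746495 .nil .nil) (.node 58704054224355 .nil .nil))) (.node 8735215700156 (.node 14374322616358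 (.node 27434461849428 .nil .nil) (.node 44823525422653 .nil .nil)) (.node 20215140006007 (.node 35550205281988 .nil .nil) .nil))) (.node 4622313285806 (.node 7359702595747 (.node 12932101519582 (.node 25451966121607 .nil .nil) (.node 42136350689125 .nil .nil)) (.node 18768712042587 (.node 33421260240575 .nil .nil) .nil)) (.node 10110763411461 (.node 15819711895665 (.node 29420885767970 .nil .nil) (.node 51898679051805 .nil .nil)) (.node 21659490199610 (.node 37740587898640 .nil .nil) .nil)))) (.node 2616163309820 (.node 3941410727909 (.node 6672725731501 (.node 12238584141992 (.node 24483315378065 .nil .nil) (.node 41037545256735 .nil .nil)) (.node 18016267102433 (.node 32443804301150 .nil .nil) (.node 63925744846205 .nil .nil))) (.node 9422846494941 (.node 15066783787120 (.node 28396635170568 .nil .nil) (.node 48051931592285 .nil .nil)) (.node 20965068245065 (.node 36641613539043 .nil .nil) .nil)))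 (.node 5303518759162 (.node 8047282751690 (.node 13626074789901 (.node 26469285717905 .nil .nil) (.node 43236351452854 .nil .nil)) (.node 19463252924374 (.node 34511293003526 .nil .nil) .nil)) (.node 10798561712149 (.node 16567676225607 (.node 30392535893789 .nil .nil) (.node 55264893490685 .nil .nil)) (.node 22553886459777 (.node 38839948576496 .nil .nil) .nil))))))) (.node 298406008923 (.node 491630340232 (.node 834959828945 (.node 1517121677495 (.node 2837233899760 (.node 5575882049525 (.node 11071359944683 (.node 22901056374711 .nil .nil) (.node 39252215940781 .nil .nil)) (.node 16842553981057 (.node 30799047341986 .nil .nil) (.node 56437301102067 .nil .nil))) (.node 8267080013827 (.node 13899307518027 (.node 26816823736176 .nil .nil) (.node 43648685086389 .nil .nil)) (.node 19737694492640 (.node 34922385381128 .nil .nil) .nil))) (.node 4209358764224 (.node 6888983238616 (.node 12459303544822 (.node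 24886775617400 .nil .nil) (.node 41449425758013 .nil .nil)) (.node 18291010693354 (.node 32793203533684 .nil .nil) (.node 71624741668085 .nil .nil))) (.node 9641989531635 (.node 15340135295116 (.node 28748369540793 .nil .nil) (.node 49427445163522 .nil .nil)) (.node 21239946074201 (.node 37052856428373 .nil .nil) .nil)))) (.node 2154100340766 (.node 3523455502541 (.node 6203968596029 (.node 11764758808767 (.node 23870193018591 .nil .nil) (.node 40349979555751 .nil .nil)) (.node 17538134698017 (.node 31769107830419 .nil .nil) (.node 60212981077400 .nil .nil))) (.node 8953922443265 (.node 14647355979716 (.node 27778998834944 .nil .nil) (.node 46058329044492 .nil .nil)) (.node 20490303113275 (.node 35959754688134 .nil .nil) .nil))) (.node 4888938506330 (.node 7578306992217 (.node 13205905692909 (.node 25854835185533 .nil .nil) (.node 42548417513193 .nil .nil)) (.node 19043455658127 (.node 33828241336049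 .nil .nil) .nil)) (.node 10382587382014 (.node 16094004164551 (.node 29772114982638 .nil .nil) (.node 53273874126240 .nil .nil)) (.node 21933680240730 (.node 38152905799332 .nil .nil) .nil))))) (.node 1175084054750 (.node 1811324950554 (.node 3175396681907 (.node 5914094311640 (.node 11417590630351 (.node 23383939331843 .nil .nil) (.node 39800358266802 .nil .nil)) (.node 17193161971753 (.node 31282853013266 .nil .nil) (.node 58222699193842 .nil .nil))) (.node 8610912372722 (.node 14301208852439 (.node 27297627170576 .nil .nil) (.node 44477932037650 .nil .nil)) (.node 20140451190926 (.node 35467931129600 .nil .nil) .nil))) (.node 4545944504525 (.node 7233753540708 (.node 12858468964321 (.node 25373513815946 .nil .nil) (.node 41998946744094 .nil .nil)) (.node 18638921680895 (.node 33283854849725 .nil .nil) .nil)) (.node 10035988269185 (.node 15743009020038 (.node 29287336048565 .nil .nil) (.node 51414741095960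 .nil .nil)) (.node 21589143066797 (.node 37603249727235 .nil .nil) .nil)))) (.node 2494173681894 (.node 3866398632143 (.node 6546407889067 (.node 12111360137334 (.node 24352303335123 .nil .nil) (.node 40899485583162 .nil .nil)) (.node 17943709292703 (.node 32310020188069 .nil .nil) (.node 62826501760355 .nil .nil))) (.node 9348961151135 (.node 14994290636836 (.node 28259783415566 .nil .nil) (.node 47641778759172 .nil .nil)) (.node 20834672019524 (.node 36505415624439 .nil .nil) .nil))) (.node 5232468801678 (.node 7921803827274 (.node 13552104155193 (.node 26334931851135 .nil .nil) (.node 43098358863550 .nil .nil)) (.node 19389971515397 (.node 34373954721540 .nil .nil) .nil)) (.node 10723015223435 (.node 16438874802222 (.node 30259224819407 .nil .nil) (.node 54855260755333 .nil .nil)) (.node 22417353250696 (.node 38702509655778 .nil .nil) .nil)))))) (.node 641483229296 (.node 984611059842 (.node 1669623847155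 (.node 3031248300103 (.node 5721204000936 (.node 11217185081409 (.node 23176488126366 .nil .nil) (.node 39526790878968 .nil .nil)) (.node 16988615481282 (.node 31012321318554 .nil .nil) (.node 57262086243719 .nil .nil))) (.node 8464312314084 (.node 14099443542234 (.node 27085060470710 .nil .nil) (.node 43923512448705 .nil .nil)) (.node 19940648089728 (.node 35197196187396 .nil .nil) .nil))) (.node 4354180597730 (.node 7089318885614 (.node 12658969004109 (.node 25100800833434 .nil .nil) (.node 41724570756962 .nil .nil)) (.node 18493532330031 (.node 33065850140608 .nil .nil) (.node 73823228179670 .nil .nil))) (.node 9840279566454 (.node 15544080390096 (.node 29016619935559 .nil .nil) (.node 50389215782428 .nil .nil)) (.node 21384561453223 (.node 37326778705640 .nil .nil) .nil)))) (.node 2345529985123 (.node 3715356555425 (.node 6402963306737 (.node 11964780218343 (.node 24138528167714 .nil .nil) (.node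 40624320440250 .nil .nil)) (.node 17741439760598 (.node 32037744244519 .nil .nil) (.node 61176294688225 .nil .nil))) (.node 9151961040970 (.node 14795463489538 (.node 28050353313683 .nil .nil) (.node 46878802638455 .nil .nil)) (.node 20690207148145 (.node 36233556875026 .nil .nil) .nil))) (.node 5035050035258 (.node 7777638762630 (.node 13406479198456 (.node 26069719688847 .nil .nil) (.node 42823244658500 .nil .nil)) (.node 19188978657259 (.node 34102364022606 .nil .nil) .nil)) (.node 10527373695076 (.node 16292815063120 (.node 30042797483948 .nil .nil) (.node 54032438433191 .nil .nil)) (.node 22147004229548 (.node 38427816330985 .nil .nil) .nil))))) (.node 1327302649976 (.node 2012432759027 (.node 3374694566024 (.node 6059819120886 (.node 11565346297855 (.node 23656837588821 .nil .nil) (.node 40075252836281 .nil .nil)) (.node 17392276105341 (.node 31554508253116 .nil .nil) (.node 59185963087251 .nil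 .nil))) (.node 8808798640362 (.node 14446463563835 (.node 27568159655825 .nil .nil) (.node 45236194575913 .nil .nil)) (.node 20284782348330 (.node 35688533255861 .nil .nil) .nil))) (.node 4691939244094 (.node 7432028874701 (.node 13005082355810 (.node 25588331091614 .nil .nil) (.node 42273858119465 .nil .nil)) (.node 18841021036558 (.node 33558347081393 .nil .nil) .nil)) (.node 10183357032545 (.node 15889169131656 (.node 29503612597966 .nil .nil) (.node 52380050732655 .nil .nil)) (.node 21789701933099 (.node 37878127523594 .nil .nil) .nil)))) (.node 2688120727683 (.node 4010902247377 (.node 6744917899215 (.node 12312033822786 (.node 24619748869928 .nil .nil) (.node 41174949021545 .nil .nil)) (.node 18089081825292 (.node 32525122688660 .nil .nil) (.node 65024988059000 .nil .nil))) (.node 9495759644795 (.node 15194359961778 (.node 28533822572321 .nil .nil) (.node 48466479531536 .nil .nil)) (.node 21039723345982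 (.node 36779520120690 .nil .nil) .nil))) (.node 5378009970735 (.node 8120899578079 (.node 13754338031560 (.node 26542853666574 .nil .nil) (.node 43373152642763 .nil .nil)) (.node 19592573986861 (.node 34648998287222 .nil .nil) .nil)) (.node 10870920759393 (.node 16643691120756 (.node 30526433404811 .nil .nil) (.node 55677042619895 .nil .nil)) (.node 22688037533585 (.node 38977438656167 .nil .nil) .nil))))))))

/-- Part of `setKey`. -/
noncomputable def setKey_l_l_r_l_r : Arr ℕ :=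
  (.node 163164858396 (.node 285338150885 (.node 435391981676 (.node 777865640050 (.node 1463113091318 (.node 2825022822478 (.node 5510432299251 (.node 11007772604525 (.node 22832890320831 .nil .nil) (.node 39183528818515 .nil .nil)) (.node 16781230680182 (.node 30731151435594 .nil .nil) (.node 56231780308368 .nil .nil))) (.node 8256344143819 (.node 13890284296184 (.node 26748290561824 .nil .nil) (.node 43579428533962 .nil .nil)) (.node 19729878722597 (.node 34854418417546 .nil .nil) .nil))) (.node 4147250628573 (.node 6880259365102 (.node 12448533800905 (.node 24825253054255 .nil .nil) (.node 41380790187836 .nil .nil)) (.node 18226571065353 (.node 32725207217939 .nil .nil) (.node 71075170448615 .nil .nil))) (.node 9630851053512 (.node 15331849840625 (.node 28733858740010 .nil .nil) (.node 49215181104695 .nil .nil)) (.node 21177195341998 (.node 36984436864905 .nil .nil) .nil)))) (.node 2140863867008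 (.node 3461196449766 (.node 6195111299255 (.node 11700787959844 (.node 23802296002264 .nil .nil) (.node 40280991569845 .nil .nil)) (.node 17529715050619 (.node 31701646296784 .nil .nil) (.node 59941893776809 .nil .nil))) (.node 8943924639685 (.node 14582611183657 (.node 27710631491358 .nil .nil) (.node 45852187387405 .nil .nil)) (.node 20422405523531 (.node 35892427351691 .nil .nil) .nil))) (.node 4827700504709 (.node 7568025581535 (.node 13142571620454 (.node 25786182625161 .nil .nil) (.node 42479779886957 .nil .nil)) (.node 18978225248249 (.node 33761368831629 .nil .nil) .nil)) (.node 10320392411362 (.node 16026609858500 (.node 29706028930818 .nil .nil) (.node 53066407237085 .nil .nil)) (.node 21927157639213 (.node 38084252530401 .nil .nil) .nil))))) (.node 1120102947059 (.node 1797417822257 (.node 3165818489075 (.node 5853073123582 (.node 11353533761632 (.node 23320001480410 .nil .nil) (.node 39732024506301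 .nil .nil)) (.node 17125062838344 (.node 31215240517420 .nil .nil) (.node 58013421082040 .nil .nil))) (.node 8599504955423 (.node 14237654194386 (.node 27229459617637 .nil .nil) (.node 44268167255645 .nil .nil)) (.node 20078120589434 (.node 35401591285676 .nil .nil) .nil))) (.node 4485713758261 (.node 7224645310688 (.node 12795601483953 (.node 25306205402939 .nil .nil) (.node 41930244089627 .nil .nil)) (.node 18630920906821 (.node 33268371142430 .nil .nil) .nil)) (.node 9976543586516 (.node 15681585109098 (.node 29219574548313 .nil .nil) (.node 51144945219161 .nil .nil)) (.node 21522017699904 (.node 37534497711782 .nil .nil) .nil)))) (.node 2482398472341 (.node 3804474996713 (.node 6538139068450 (.node 12102873290744 (.node 24337153988480 .nil .nil) (.node 40830697269104 .nil .nil)) (.node 17878744307937 (.node 32241417729983 .nil .nil) (.node 62276880065915 .nil .nil))) (.node 9289046862034 (.node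 14932264933374 (.node 28191481751397 .nil .nil) (.node 47434949002873 .nil .nil)) (.node 20827629299831 (.node 36437819979508 .nil .nil) .nil))) (.node 5171548915877 (.node 7911539083239 (.node 13488870692879 (.node 26267470550902 .nil .nil) (.node 43030142469828 .nil .nil)) (.node 19326015215587 (.node 34306090526501 .nil .nil) .nil)) (.node 10664006641883 (.node 16430254024778 (.node 30245318092595 .nil .nil) (.node 54649052005764 .nil .nil)) (.node 22351451621294 (.node 38633907607271 .nil .nil) .nil)))))) (.node 625261152485 (.node 967433001140 (.node 1604814284824 (.node 2968667715767 (.node 5654312966315 (.node 11207456225521 (.node 23103692748664 .nil .nil) (.node 39458122684078 .nil .nil)) (.node 16979992909959 (.node 30947325703859 .nil .nil) (.node 57053780522451 .nil .nil))) (.node 8400106969052 (.node 14035506493399 (.node 27018940725152 .nil .nil) (.node 43854222771903 .nil .nil)) (.node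 19872817186980 (.node 35128459937539 .nil .nil) .nil))) (.node 4337824217140 (.node 7025784338415 (.node 12596004165634 (.node 25033105811181 .nil .nil) (.node 41655902803773 .nil .nil)) (.node 18428567173348 (.node 32997820700452 .nil .nil) (.node 73273656964295 .nil .nil))) (.node 9777179355185 (.node 15476921018314 (.node 28949460502287 .nil .nil) (.node 50181916677695 .nil .nil)) (.node 21377401796703 (.node 37258409310117 .nil .nil) .nil)))) (.node 2287310690543 (.node 3659670030532 (.node 6340736088238 (.node 11900337490018 (.node 24070244620109 .nil .nil) (.node 40555768772537 .nil .nil)) (.node 17676865820670 (.node 31970198644543 .nil .nil) (.node 60904251598259 .nil .nil))) (.node 9086915835883 (.node 14784727910339 (.node 27984234764050 .nil .nil) (.node 46676066092610 .nil .nil)) (.node 20627708504125 (.node 36164082571052 .nil .nil) .nil))) (.node 5026193377265 (.node 7713650313181 (.node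 13342842378379 (.node 26001184732817 .nil .nil) (.node 42754490427237 .nil .nil)) (.node 19180391348300 (.node 34033661318989 .nil .nil) .nil)) (.node 10465885083645 (.node 16231374391420 (.node 29974228883378 .nil .nil) (.node 53890973865425 .nil .nil)) (.node 22138415912855 (.node 38359113619184 .nil .nil) .nil))))) (.node 1262307342355 (.node 1946599753819 (.node 3311828768969 (.node 5996753209498 (.node 11554861946831 (.node 23588838393745 .nil .nil) (.node 40006264997813 .nil .nil)) (.node 17330534881232 (.node 31486227035957 .nil .nil) (.node 58978143921615 .nil .nil))) (.node 8745162532987 (.node 14437590431910 (.node 27500278822807 .nil .nil) (.node 45092733883985 .nil .nil)) (.node 20277873358988 (.node 35618941531843 .nil .nil) .nil))) (.node 4682779973778 (.node 7369281087471 (.node 12995337304062 (.node 25520484320904 .nil .nil) (.node 42205053384550 .nil .nil)) (.node 18777399932911 (.node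 33489644377778 .nil .nil) .nil)) (.node 10121061910561 (.node 15880447965316 (.node 29435329672887 .nil .nil) (.node 52107621701189 .nil .nil)) (.node 21726615869593 (.node 37809290602255 .nil .nil) .nil)))) (.node 2626043627709 (.node 3994746898466 (.node 6682489243620 (.node 12248783308775 (.node 24551096485676 .nil .nil) (.node 41106247960352 .nil .nil)) (.node 18081097984115 (.node 32459036575429 .nil .nil) (.node 64475366495600 .nil .nil))) (.node 9432507992206 (.node 15130621417692 (.node 28465220495125 .nil .nil) (.node 48258106795612 .nil .nil)) (.node 20972211603533 (.node 36710316234468 .nil .nil) .nil))) (.node 5364405643475 (.node 8056793532569 (.node 13690212468917 (.node 26535170471870 .nil .nil) (.node 43304970290872 .nil .nil)) (.node 19527578372083 (.node 34580295591797 .nil .nil) .nil)) (.node 10808492636173 (.node 16576263604261 (.node 30459410376423 .nil .nil) (.node 55472024892850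 .nil .nil)) (.node 22621968443275 (.node 38908684826351 .nil .nil) .nil))))))) (.node 363181951231 (.node 505890113554 (.node 848228841537 (.node 1534199027847 (.node 2895252166719 (.node 5584537241704 (.node 11079881525210 (.node 22967142954867 .nil .nil) (.node 39320918636195 .nil .nil)) (.node 16851124574254 (.node 30866141538110 .nil .nil) (.node 56644046853513 .nil .nil))) (.node 8328702670980 (.node 13963345799354 (.node 26885208020842 .nil .nil) (.node 43717303924407 .nil .nil)) (.node 19802019895294 (.node 34990987446017 .nil .nil) .nil))) (.node 4264978127015 (.node 6952819517668 (.node 12521462958153 (.node 24901673260760 .nil .nil) (.node 41518128453438 .nil .nil)) (.node 18355908724890 (.node 32861620877174 .nil .nil) (.node 72174413575415 .nil .nil))) (.node 9703845431494 (.node 15405566576849 (.node 28813818332817 .nil .nil) (.node 49699320444470 .nil .nil)) (.node 21247190132805 (.node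 37120936810407 .nil .nil) .nil)))) (.node 2218859272441 (.node 3581440182345 (.node 6270977173604 (.node 11827374815205 (.node 23933542848403 .nil .nil) (.node 40418682259368 .nil .nil)) (.node 17605278980037 (.node 31838196573830 .nil .nil) (.node 60422074623449 .nil .nil))) (.node 9016566958266 (.node 14658259511281 (.node 27847248717584 .nil .nil) (.node 46264118273599 .nil .nil)) (.node 20552751462503 (.node 36026576492333 .nil .nil) .nil))) (.node 4897929586780 (.node 7641087084746 (.node 13270247975141 (.node 25922682070926 .nil .nil) (.node 42617153763050 .nil .nil)) (.node 19051841742823 (.node 33896759437047 .nil .nil) .nil)) (.node 10392115243085 (.node 16155392698505 (.node 29839023036153 .nil .nil) (.node 53478556366295 .nil .nil)) (.node 22001191368870 (.node 38221608502958 .nil .nil) .nil))))) (.node 1190953834600 (.node 1877158733980 (.node 3237842917471 (.node 5927748683903 (.node 11428830038002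 (.node 23452205729559 .nil .nil) (.node 39869060962225 .nil .nil)) (.node 17254904305750 (.node 31350096439089 .nil .nil) (.node 58496923088318 .nil .nil))) (.node 8672501307528 (.node 14310668658725 (.node 27366177159020 .nil .nil) (.node 44680316384855 .nil .nil)) (.node 20147426511020 (.node 35481536108225 .nil .nil) .nil))) (.node 4554785405011 (.node 7297122662435 (.node 12868163283080 (.node 25436028241775 .nil .nil) (.node 42067649447709 .nil .nil)) (.node 18703394973911 (.node 33352523990720 .nil .nil) .nil)) (.node 10047493470387 (.node 15751763789954 (.node 29355051054934 .nil .nil) (.node 51626166027858 .nil .nil)) (.node 21652279900212 (.node 37671952422660 .nil .nil) .nil)))) (.node 2555780716751 (.node 3924332882063 (.node 6609624955125 (.node 12175314847984 (.node 24419630171865 .nil .nil) (.node 40968221833017 .nil .nil)) (.node 17951894673403 (.node 32377919674158 .nil .nil) (.node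 63376123319660 .nil .nil))) (.node 9360635369596 (.node 15057491249361 (.node 28328352040725 .nil .nil) (.node 47847181948537 .nil .nil)) (.node 20902049347740 (.node 36572977936102 .nil .nil) .nil))) (.node 5241258518647 (.node 7984065697850 (.node 13616681138120 (.node 26403450337139 .nil .nil) (.node 43167044777664 .nil .nil)) (.node 19455369836668 (.node 34442590308101 .nil .nil) .nil)) (.node 10734352398534 (.node 16506151528571 (.node 30326217156236 .nil .nil) (.node 55060311864778 .nil .nil)) (.node 22485770835847 (.node 38771245905633 .nil .nil) .nil)))))) (.node 697805535340 (.node 1041402841214 (.node 1724974057685 (.node 3043627309277 (.node 5782191216766 (.node 11280185206736 (.node 23237441095565 .nil .nil) (.node 39595493582583 .nil .nil)) (.node 17055924009076 (.node 31080485562095 .nil .nil) (.node 57466935715325 .nil .nil))) (.node 8524528961645 (.node 14163886348504 (.node 27092575946475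 .nil .nil) (.node 43992198362819 .nil .nil)) (.node 20002995611797 (.node 35265110554367 .nil .nil) .nil))) (.node 4416087746740 (.node 7150474897535 (.node 12722472380445 (.node 25169034794817 .nil .nil) (.node 41793273452385 .nil .nil)) (.node 18501549598731 (.node 33134452557735 .nil .nil) (.node 74372900091095 .nil .nil))) (.node 9902893144259 (.node 15605687068820 (.node 29084249134916 .nil .nil) (.node 50663791421024 .nil .nil)) (.node 21451771324590 (.node 37395514955495 .nil .nil) .nil)))) (.node 2357875407081 (.node 3730134042821 (.node 6463715879135 (.node 11973956048850 (.node 24207130158899 .nil .nil) (.node 40693023135673 .nil .nil)) (.node 17806354352170 (.node 32106480486182 .nil .nil) (.node 61383862019523 .nil .nil))) (.node 9215077968039 (.node 14858091296949 (.node 28117462452115 .nil .nil) (.node 47021776787053 .nil .nil)) (.node 20697266612294 (.node 36302259578641 .nil .nil) .nil)))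 (.node 5095532579015 (.node 7837501986920 (.node 13415738493074 (.node 26137416017547 .nil .nil) (.node 42891947362115 .nil .nil)) (.node 19252800886795 (.node 34172811527911 .nil .nil) .nil)) (.node 10590994454537 (.node 16301536454700 (.node 30110998845259 .nil .nil) (.node 54238043346396 .nil .nil)) (.node 22215018944448 (.node 38496519026410 .nil .nil) .nil))))) (.node 1384581408725 (.node 2066743236800 (.node 3391671535599 (.node 6125470054400 (.node 11628160084052 (.node 23725925062555 .nil .nil) (.node 40143989086138 .nil .nil)) (.node 17400796366887 (.node 31619371976525 .nil .nil) (.node 59460639389104 .nil .nil))) (.node 8871765534895 (.node 14510687578266 (.node 27634883372975 .nil .nil) (.node 45442386298454 .nil .nil)) (.node 20352528214183 (.node 35757235951286 .nil .nil) .nil))) (.node 4753796614394 (.node 7443066746892 (.node 13069506910432 (.node 25656732034707 .nil .nil) (.node 42342560814890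 .nil .nil)) (.node 18906218018967 (.node 33625506567868 .nil .nil) .nil)) (.node 10246674884842 (.node 15957068257228 (.node 29570286196361 .nil .nil) (.node 52587668424268 .nil .nil)) (.node 21796291119265 (.node 37946830227209 .nil .nil) .nil)))) (.node 2700868880601 (.node 4073111050418 (.node 6755436161025 (.node 12372551186510 (.node 24688200238825 .nil .nil) (.node 41243651716970 .nil .nil)) (.node 18153554950379 (.node 32591475279616 .nil .nil) (.node 65574609732965 .nil .nil))) (.node 9558792710320 (.node 15203619108914 (.node 28599421249430 .nil .nil) (.node 48671614318195 .nil .nil)) (.node 21102523951183 (.node 36848222824305 .nil .nil) .nil))) (.node 5438727989294 (.node 8183581059323 (.node 13764721723393 (.node 26611370338150 .nil .nil) (.node 43441972807369 .nil .nil)) (.node 19600457070547 (.node 34718036445051 .nil .nil) .nil)) (.node 10934893086939 (.node 16705115187265 (.node 30594803091187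 .nil .nil) (.node 55819195082142 .nil .nil)) (.node 22696642578349 (.node 39046141351593 .nil .nil) .nil))))))))

/-- Part of `setKey`. -/
noncomputable def setKey_l_l_r_l : Arr ℕ :=
  .node 91979274310 setKey_l_l_r_l_l setKey_l_l_r_l_r

/-- Part of `setKey`. -/
noncomputable def setKey_l_l_r_r_l : Arr ℕ :=
  (.node 159876905094 (.node 230525708314 (.node 423011346569 (.node 766592198715 (.node 1449827780825 (.node 2768682453213 (.node 5507363674227 (.node 11003210651659 (.node 22828647098229 .nil .nil) (.node 39116419913458 .nil .nil)) (.node 16773817882690 (.node 30670149674649 .nil .nil) (.node 56160058324442 .nil .nil))) (.node 8249718208610 (.node 13832703051774 (.node 26743794464671 .nil .nil) (.node 43515254867602 .nil .nil)) (.node 19669210044369 (.node 34792714479243 .nil .nil) .nil))) (.node 4141411018933 (.node 6822459934802 (.node 12390600865783 (.node 24758092584857 .nil .nil) (.node 41313278723820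 .nil .nil)) (.node 18222307989737 (.node 32718615131990 .nil .nil) (.node 70800309351650 .nil .nil))) (.node 9623771998355 (.node 15272321812529 (.node 28672737535741 .nil .nil) (.node 49082572846640 .nil .nil)) (.node 21171192920209 (.node 36923890288326 .nil .nil) .nil)))) (.node 2086722885664 (.node 3455306528960 (.node 6188905101530 (.node 11696559216844 (.node 23795635148613 .nil .nil) (.node 40221266876100 .nil .nil)) (.node 17469499062312 (.node 31694379521920 .nil .nil) (.node 59803649709523 .nil .nil))) (.node 8936744978585 (.node 14578653292483 (.node 27709187364718 .nil .nil) (.node 45779559609935 .nil .nil)) (.node 20421600409660 (.node 35885646759815 .nil .nil) .nil))) (.node 4820755314890 (.node 7510092048397 (.node 13137202997486 (.node 25726575322775 .nil .nil) (.node 42412068665096 .nil .nil)) (.node 18975038150801 (.node 33754269599614 .nil .nil) .nil)) (.node 10314522536112 (.node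 16025301469127 (.node 29699619297207 .nil .nil) (.node 52932658566599 .nil .nil)) (.node 21864993814690 (.node 38016892585647 .nil .nil) .nil))))) (.node 1109770528745 (.node 1791932467385 (.node 3111977826518 (.node 5850793490420 (.node 11348887926735 (.node 23314800547576 .nil .nil) (.node 39671209371335 .nil .nil)) (.node 17124425721898 (.node 31209772459833 .nil .nil) (.node 57878615512543 .nil .nil))) (.node 8542611855372 (.node 14232472639448 (.node 27225568638871 .nil .nil) (.node 44136112580169 .nil .nil)) (.node 20071664695453 (.node 35338845349605 .nil .nil) .nil))) (.node 4477929122042 (.node 7167518132227 (.node 12790772881364 (.node 25244901656274 .nil .nil) (.node 41863051192036 .nil .nil)) (.node 18570252294156 (.node 33206813738803 .nil .nil) .nil)) (.node 9970908440746 (.node 15674423318675 (.node 29160652854971 .nil .nil) (.node 51008613463589 .nil .nil)) (.node 21520440371374 (.node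 37467152598849 .nil .nil) .nil)))) (.node 2425856899294 (.node 3798132340920 (.node 6478309103791 (.node 12042657441909 (.node 24276721968904 .nil .nil) (.node 40763521079146 .nil .nil)) (.node 17875090602025 (.node 32179242002249 .nil .nil) (.node 62002069402970 .nil .nil))) (.node 9282941561084 (.node 14926359529509 (.node 28190493865715 .nil .nil) (.node 47364267279920 .nil .nil)) (.node 20766002862149 (.node 36432316250032 .nil .nil) .nil))) (.node 5163900090452 (.node 7854930950145 (.node 13483267258432 (.node 26260695508835 .nil .nil) (.node 42965750687372 .nil .nil)) (.node 19321319299060 (.node 34302014748426 .nil .nil) .nil)) (.node 10658337839272 (.node 16370272704555 (.node 30183190210387 .nil .nil) (.node 54577799591375 .nil .nil)) (.node 22347208099710 (.node 38566630532895 .nil .nil) .nil)))))) (.node 573283809413 (.node 916361361464 (.node 1602331269266 (.node 2962830866484 (.node 5653072246872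 (.node 11148515907653 (.node 23039703267237 .nil .nil) (.node 39390762002081 .nil .nil)) (.node 16919860832301 (.node 30937813157687 .nil .nil) (.node 56919059146117 .nil .nil))) (.node 8396448233708 (.node 14030606629083 (.node 26954631747438 .nil .nil) (.node 43790350554777 .nil .nil)) (.node 19871945394303 (.node 35064386303826 .nil .nil) .nil))) (.node 4286383822803 (.node 7021456017553 (.node 12590266300494 (.node 25031612937993 .nil .nil) (.node 41588005549806 .nil .nil)) (.node 18424644974745 (.node 32937271957130 .nil .nil) (.node 72998795871425 .nil .nil))) (.node 9772497844417 (.node 15475377694672 (.node 28942516148059 .nil .nil) (.node 50045701961321 .nil .nil)) (.node 21315926382662 (.node 37195008710456 .nil .nil) .nil)))) (.node 2281204660431 (.node 3649505380459 (.node 6334428547318 (.node 11896043972584 (.node 24062276085635 .nil .nil) (.node 40495893046984 .nil .nil)) (.node 17672703510741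 (.node 31966036883380 .nil .nil) (.node 60766779094454 .nil .nil))) (.node 9083577034865 (.node 14726962206706 (.node 27917275002721 .nil .nil) (.node 46541629425254 .nil .nil)) (.node 20621437134985 (.node 36158748899060 .nil .nil) .nil))) (.node 4966531217573 (.node 7709405943845 (.node 13338162698412 (.node 25992056043385 .nil .nil) (.node 42687332468456 .nil .nil)) (.node 19120594798565 (.node 34028663150358 .nil .nil) .nil)) (.node 10459776784561 (.node 16224095393930 (.node 29914319357594 .nil .nil) (.node 53755396679149 .nil .nil)) (.node 22076473018289 (.node 38291551401774 .nil .nil) .nil))))) (.node 1259220662354 (.node 1945441069300 (.node 3305992067111 (.node 5996115417261 (.node 11496610048000 (.node 23527770478289 .nil .nil) (.node 39946322015938 .nil .nil)) (.node 17323607009365 (.node 31426248795779 .nil .nil) (.node 58841996629401 .nil .nil))) (.node 8740397336777 (.node 14377778567144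 (.node 27436022310629 .nil .nil) (.node 44959303718500 .nil .nil)) (.node 20216129206443 (.node 35611574265715 .nil .nil) .nil))) (.node 4623353727100 (.node 7364768114848 (.node 12936346105959 (.node 25511707649913 .nil .nil) (.node 42137793275745 .nil .nil)) (.node 18772368758792 (.node 33481320626042 .nil .nil) .nil)) (.node 10115191023727 (.node 15820466485377 (.node 29426890802917 .nil .nil) (.node 51970082108997 .nil .nil)) (.node 21720864856172 (.node 37741763204778 .nil .nil) .nil)))) (.node 2620105914492 (.node 3990167345315 (.node 6677808318613 (.node 12243984099563 (.node 24550407702417 .nil .nil) (.node 41038366943046 .nil .nil)) (.node 18020597377020 (.node 32450027525921 .nil .nil) (.node 64200555828560 .nil .nil))) (.node 9428347005112 (.node 15125590157491 (.node 28459315824545 .nil .nil) (.node 48122127398411 .nil .nil)) (.node 20971020650557 (.node 36649700341426 .nil .nil) .nil)))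 (.node 5309390764176 (.node 8052466354305 (.node 13685601781704 (.node 26473110902598 .nil .nil) (.node 43240427075228 .nil .nil)) (.node 19524055750782 (.node 34520302237363 .nil .nil) .nil)) (.node 10802971330749 (.node 16574988417139 (.node 30454931695430 .nil .nil) (.node 55337202353644 .nil .nil)) (.node 22558046123963 (.node 38841407837984 .nil .nil) .nil))))))) (.node 350114875625 (.node 503826413635 (.node 845526886647 (.node 1522422315092 (.node 2891007670520 (.node 5577658415356 (.node 11076055107798 (.node 22962848315285 .nil .nil) (.node 39253758211832 .nil .nil)) (.node 16849717045190 (.node 30804802410268 .nil .nil) (.node 56571553301922 .nil .nil))) (.node 8323922041049 (.node 13957963614202 (.node 26817781585733 .nil .nil) (.node 43652727162523 .nil .nil)) (.node 19798497544227 (.node 34926897014615 .nil .nil) .nil))) (.node 4215684929499 (.node 6948358912004 (.node 12517236496329 (.node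 24895095469975 .nil .nil) (.node 41450665666404 .nil .nil)) (.node 18295273768970 (.node 32800688293572 .nil .nil) (.node 71899552482545 .nil .nil))) (.node 9698614257694 (.node 15400586090482 (.node 28807826192254 .nil .nil) (.node 49564548163184 .nil .nil)) (.node 21245680257172 (.node 37060423485069 .nil .nil) .nil)))) (.node 2209013786585 (.node 3530100389855 (.node 6263411714103 (.node 11768416651423 (.node 23932688377654 .nil .nil) (.node 40358672213703 .nil .nil)) (.node 17598417746044 (.node 31830576981897 .nil .nil) (.node 60285172405667 .nil .nil))) (.node 9011284580563 (.node 14651246745648 (.node 27842685306780 .nil .nil) (.node 46191977109065 .nil .nil)) (.node 20491108218956 (.node 36021276399350 .nil .nil) .nil))) (.node 4896453474452 (.node 7636627384335 (.node 13211274324069 (.node 25862806615693 .nil .nil) (.node 42549541181186 .nil .nil)) (.node 19047514847242 (.node 33891274540818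 .nil .nil) .nil)) (.node 10388358096988 (.node 16095312562116 (.node 29833101887285 .nil .nil) (.node 53345025742274 .nil .nil)) (.node 21995793299493 (.node 38154263373614 .nil .nil) .nil))))) (.node 1188637919473 (.node 1866036422720 (.node 3182441863378 (.node 5920199850170 (.node 11422270011487 (.node 23450729555783 .nil .nil) (.node 39808681842366 .nil .nil)) (.node 17193799088199 (.node 31344561219395 .nil .nil) (.node 58360977065376 .nil .nil))) (.node 8667352623065 (.node 14306356898001 (.node 27360005461940 .nil .nil) (.node 44548311963209 .nil .nil)) (.node 20146403756152 (.node 35474034657137 .nil .nil) .nil))) (.node 4554080286890 (.node 7292677118144 (.node 12863651403842 (.node 25381971543712 .nil .nil) (.node 42000389474022 .nil .nil)) (.node 18699657156678 (.node 33343212996373 .nil .nil) .nil)) (.node 10043503269827 (.node 15750975645810 (.node 29293745633031 .nil .nil) (.node 51488458909228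 .nil .nil)) (.node 21590720395327 (.node 37604559034026 .nil .nil) .nil)))) (.node 2549876517007 (.node 3872942954468 (.node 6606791161928 (.node 12171222907105 (.node 24413657835242 .nil .nil) (.node 40900894820084 .nil .nil)) (.node 17947564398818 (.node 32314081154878 .nil .nil) (.node 63101312623955 .nil .nil))) (.node 9356207921094 (.node 14999087519829 (.node 28324409194389 .nil .nil) (.node 47775409923665 .nil .nil)) (.node 20896332216361 (.node 36567711127280 .nil .nil) .nil))) (.node 5235118250231 (.node 7979788572677 (.node 13557372094478 (.node 26344446641796 .nil .nil) (.node 43103139014298 .nil .nil)) (.node 19394701129697 (.node 34382896846513 .nil .nil) .nil)) (.node 10730496927682 (.node 16498990274633 (.node 30319050524551 .nil .nil) (.node 54990217090505 .nil .nil)) (.node 22421697497014 (.node 38704035940121 .nil .nil) .nil)))))) (.node 692488014005 (.node 987546892316 (.node 1672711665697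 (.node 3037152221369 (.node 5722479732769 (.node 11272771188830 (.node 23177696847664 .nil .nil) (.node 39528116127498 .nil .nil)) (.node 17048695613576 (.node 31073253971893 .nil .nil) (.node 57396388292014 .nil .nil))) (.node 8468675209200 (.node 14104276281302 (.node 27091233851195 .nil .nil) (.node 43927806580363 .nil .nil)) (.node 19941519882403 (.node 35202328897259 .nil .nil) .nil))) (.node 4406006720669 (.node 7094670944308 (.node 12664706869249 (.node 25161586440050 .nil .nil) (.node 41725410989804 .nil .nil)) (.node 18497118959843 (.node 33072192534344 .nil .nil) (.node 74098038994130 .nil .nil))) (.node 9844657055884 (.node 15545623713738 (.node 29079770572640 .nil .nil) (.node 50526386030178 .nil .nil)) (.node 21446087993393 (.node 37331927897870 .nil .nil) .nil)))) (.node 2351333419207 (.node 3719952808054 (.node 6408516438157 (.node 11969073739873 (.node 24144970327771 .nil .nil) (.node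 40633248089790 .nil .nil)) (.node 17745602078717 (.node 32046753277639 .nil .nil) (.node 61312761079175 .nil .nil))) (.node 9155567212648 (.node 14853430605763 (.node 28053792839417 .nil .nil) (.node 46952487122510 .nil .nil)) (.node 20695941245085 (.node 36296554735525 .nil .nil) .nil))) (.node 5089460648150 (.node 7781799397350 (.node 13411528312970 (.node 26129092261768 .nil .nil) (.node 42824804951778 .nil .nil)) (.node 19249010153550 (.node 34165395597228 .nil .nil) .nil)) (.node 10532606744726 (.node 16300043450494 (.node 30049374619412 .nil .nil) (.node 54165650527685 .nil .nil)) (.node 22210708588410 (.node 38429091010348 .nil .nil) .nil))))) (.node 1330204887064 (.node 2015671429166 (.node 3384859195592 (.node 6065355696175 (.node 11622927247387 (.node 23658565351217 .nil .nil) (.node 40083844781766 .nil .nil)) (.node 17399185762439 (.node 31559391455005 .nil .nil) (.node 59322428810729 .nil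 .nil))) (.node 8812457375706 (.node 14505588603124 (.node 27572469700458 .nil .nil) (.node 45367410546245 .nil .nil)) (.node 20346458904660 (.node 35748629370609 .nil .nil) .nil))) (.node 4751114160125 (.node 7436689881280 (.node 13064040007677 (.node 25648810948482 .nil .nil) (.node 42275200190181 .nil .nil)) (.node 18846085830637 (.node 33618038556532 .nil .nil) .nil)) (.node 10187064915927 (.node 15949150668931 (.node 29563639805817 .nil .nil) (.node 52514521097735 .nil .nil)) (.node 21795083929657 (.node 37879117424358 .nil .nil) .nil)))) (.node 2694427588796 (.node 4062812018791 (.node 6749243439309 (.node 12317200967640 (.node 24627030197973 .nil .nil) (.node 41175772333892 .nil .nil)) (.node 18149834233972 (.node 32585403201318 .nil .nil) (.node 65299798959455 .nil .nil))) (.node 9499097512045 (.node 15199257020633 (.node 28535130965747 .nil .nil) (.node 48599875974693 .nil .nil)) (.node 21040947853390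 (.node 36786837235387 .nil .nil) .nil))) (.node 5379267328173 (.node 8125446895599 (.node 13758915164342 (.node 26610011420526 .nil .nil) (.node 43377832687249 .nil .nil)) (.node 19596062779393 (.node 34656852285114 .nil .nil) .nil)) (.node 10876992849961 (.node 16644966299686 (.node 30534421735099 .nil .nil) (.node 55747137631686 .nil .nil)) (.node 22692365530995 (.node 38978814219947 .nil .nil) .nil))))))))

/-- Part of `setKey`. -/
noncomputable def setKey_l_l_r_r_r : Arr ℕ :=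
  (.node 216735787080 (.node 296223815935 (.node 437808007187 (.node 780247885841 (.node 1465949358136 (.node 2830926969021 (.node 5515985471601 (.node 11011463698401 (.node 22896896628618 .nil .nil) (.node 39185122617073 .nil .nil)) (.node 16782371674148 (.node 30737930020497 .nil .nil) (.node 56364136781285 .nil .nil))) (.node 8261256759475 (.node 13895550601269 (.node 26810115463100 .nil .nil) (.node 43583940732564 .nil .nil)) (.node 19733367318539 (.node 34861954029190 .nil .nil) .nil))) (.node 4199311517797 (.node 6884671617065 (.node 12452760254538 (.node 24826997647103 .nil .nil) (.node 41382014973675 .nil .nil)) (.node 18287222868085 (.node 32732237231816 .nil .nil) (.node 71350115448035 .nil .nil))) (.node 9635764926577 (.node 15336863873234 (.node 28739561821936 .nil .nil) (.node 49289301272190 .nil .nil)) (.node 21178487461964 (.node 36992291264129 .nil .nil) .nil)))) (.node 2152053643379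 (.node 3513223989335 (.node 6202475681918 (.node 11759023655115 (.node 23864086320954 .nil .nil) (.node 40289969579715 .nil .nil)) (.node 17536542730181 (.node 31763031865221 .nil .nil) (.node 60076598900105 .nil .nil))) (.node 8948419197054 (.node 14589691017204 (.node 27775207020446 .nil .nil) (.node 45922533660253 .nil .nil)) (.node 20484014950543 (.node 35953343104885 .nil .nil) .nil))) (.node 4829428291654 (.node 7573509675153 (.node 13202216343776 (.node 25795110463116 .nil .nil) (.node 42480771368711 .nil .nil)) (.node 18983323637735 (.node 33822538290967 .nil .nil) .nil)) (.node 10323462867017 (.node 16086656432272 (.node 29766948620105 .nil .nil) (.node 53139353740732 .nil .nil)) (.node 21932488673445 (.node 38085628835489 .nil .nil) .nil))))) (.node 1123090044975 (.node 1808691361846 (.node 3169324771415 (.node 5859146717290 (.node 11360127334385 (.node 23383233685397 .nil .nil) (.node 39739912066760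 .nil .nil)) (.node 17186168080467 (.node 31278156465979 .nil .nil) (.node 58085847565708 .nil .nil))) (.node 8604501698745 (.node 14241932400678 (.node 27293566908316 .nil .nil) (.node 44343176783414 .nil .nil)) (.node 20078908835977 (.node 35406071605087 .nil .nil) .nil))) (.node 4539570653405 (.node 7229459425430 (.node 12799796213819 (.node 25307311523729 .nil .nil) (.node 41931753887459 .nil .nil)) (.node 18634692270296 (.node 33274577409812 .nil .nil) .nil)) (.node 9980737685621 (.node 15683044644913 (.node 29227258832538 .nil .nil) (.node 51281914914311 .nil .nil)) (.node 21583409150062 (.node 37535855294274 .nil .nil) .nil)))) (.node 2488000813246 (.node 3856183912491 (.node 6545620125764 (.node 12106462353507 (.node 24345307178773 .nil .nil) (.node 40832257337193 .nil .nil)) (.node 17883107854345 (.node 32247709775696 .nil .nil) (.node 62551691060555 .nil .nil))) (.node 9292201056350 (.node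 14989443012798 (.node 28258910975840 .nil .nil) (.node 47565896799845 .nil .nil)) (.node 20833346652315 (.node 36501237180324 .nil .nil) .nil))) (.node 5172673325154 (.node 7916520007818 (.node 13547978442696 (.node 26275660240514 .nil .nil) (.node 43034503710346 .nil .nil)) (.node 19387120146495 (.node 34368151140110 .nil .nil) .nil)) (.node 10666657695815 (.node 16437448824956 (.node 30251239225087 .nil .nil) (.node 54719717000622 .nil .nil)) (.node 22413226727315 (.node 38635333228320 .nil .nil) .nil)))))) (.node 639049902322 (.node 972733470877 (.node 1659392108525 (.node 2975847291099 (.node 5713656039459 (.node 11212253825105 (.node 23107818977186 .nil .nil) (.node 39459464697519 .nil .nil)) (.node 16987187759219 (.node 31006043781008 .nil .nil) (.node 57188703344105 .nil .nil))) (.node 8459147036845 (.node 14095183706327 (.node 27022831441770 .nil .nil) (.node 43859036534427 .nil .nil)) (.node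 19934208972955 (.node 35133592639212 .nil .nil) .nil))) (.node 4347938363594 (.node 7083901790464 (.node 12654424086473 (.node 25099963246360 .nil .nil) (.node 41656708253421 .nil .nil)) (.node 18432897513465 (.node 33003758577401 .nil .nil) (.node 73548601963715 .nil .nil))) (.node 9834593716210 (.node 15536984389781 (.node 29011118212955 .nil .nil) (.node 50314961098280 .nil .nil)) (.node 21383068620973 (.node 37263744968503 .nil .nil) .nil)))) (.node 2341218314495 (.node 3665995917293 (.node 6400448612345 (.node 11905253353425 (.node 24077593282257 .nil .nil) (.node 40564629296839 .nil .nil)) (.node 17737668380739 (.node 32031588112220 .nil .nil) (.node 61040331924937 .nil .nil))) (.node 9147381528784 (.node 14789388601526 (.node 27985492952806 .nil .nil) (.node 46748173956633 .nil .nil)) (.node 20628596889761 (.node 36227852031910 .nil .nil) .nil))) (.node 5028204566783 (.node 7772203903139 (.node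 13347590567903 (.node 26060456859512 .nil .nil) (.node 42756068718311 .nil .nil)) (.node 19184148699137 (.node 34097365853973 .nil .nil) .nil)) (.node 10522812086231 (.node 16232833882147 (.node 29980604782357 .nil .nil) (.node 53961504945552 .nil .nil)) (.node 22142676658041 (.node 38360254105389 .nil .nil) .nil))))) (.node 1316263938118 (.node 1999449405650 (.node 3318739917032 (.node 6057069029509 (.node 11559675402331 (.node 23595181098716 .nil .nil) (.node 40015024719553 .nil .nil)) (.node 17331256440775 (.node 31490889848671 .nil .nil) (.node 59113201083815 .nil .nil))) (.node 8803801729002 (.node 14442302634219 (.node 27504255125239 .nil .nil) (.node 45165143582215 .nil .nil)) (.node 20283825510568 (.node 35679893120754 .nil .nil) .nil))) (.node 4684758464766 (.node 7425285744755 (.node 13000804215007 (.node 25580359686029 .nil .nil) (.node 42206495971170 .nil .nil)) (.node 18837397956701 (.node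 33550023329657 .nil .nil) .nil)) (.node 10178593134776 (.node 15888365561804 (.node 29495071262594 .nil .nil) (.node 52244154979897 .nil .nil)) (.node 21728192895033 (.node 37810465908392 .nil .nil) .nil)))) (.node 2632350959825 (.node 4004894529732 (.node 6738258724985 (.node 12306900642039 (.node 24611964811130 .nil .nil) (.node 41107103192901 .nil .nil)) (.node 18084818700524 (.node 32517386028932 .nil .nil) (.node 64750177461575 .nil .nil))) (.node 9490676947137 (.node 15134916405303 (.node 28466963588962 .nil .nil) (.node 48390463362665 .nil .nil)) (.node 21033770719383 (.node 36718403045041 .nil .nil) .nil))) (.node 5370343389380 (.node 8115734239397 (.node 13696019019778 (.node 26541528381279 .nil .nil) (.node 43309180081818 .nil .nil)) (.node 19531938805720 (.node 34588149589689 .nil .nil) .nil)) (.node 10866811877369 (.node 16636378921032 (.node 30520128857915 .nil .nil) (.node 55544183051666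 .nil .nil)) (.node 22626262448041 (.node 38910110541599 .nil .nil) .nil))))))) (.node 366890866732 (.node 560148981725 (.node 900004870370 (.node 1537403287580 (.node 2901189695668 (.node 5639283542225 (.node 11139458005153 (.node 22971587549106 .nil .nil) (.node 39322460915447 .nil .nil)) (.node 16911256684674 (.node 30871358007087 .nil .nil) (.node 56776285844975 .nil .nil))) (.node 8333013469309 (.node 13967657937016 (.node 26886182733546 .nil .nil) (.node 43721480169113 .nil .nil)) (.node 19806447482846 (.node 34995650053969 .nil .nil) .nil))) (.node 4269524076667 (.node 6957600991288 (.node 12528006240245 (.node 24963328464796 .nil .nil) (.node 41519368361827 .nil .nil)) (.node 18359830923491 (.node 32868871231109 .nil .nil) (.node 72449358574835 .nil .nil))) (.node 9709182199818 (.node 15408871544971 (.node 28874801010622 .nil .nil) (.node 49771897837077 .nil .nil)) (.node 21308632254519 (.node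 37126490609458 .nil .nil) .nil)))) (.node 2222064724020 (.node 3591504091339 (.node 6272721696812 (.node 11831668316263 (.node 24000786167704 .nil .nil) (.node 40427374909128 .nil .nil)) (.node 17606837393442 (.node 31898510350131 .nil .nil) (.node 60559077537232 .nil .nil))) (.node 9021315262522 (.node 14716058683332 (.node 27909694195625 .nil .nil) (.node 46335974573593 .nil .nil)) (.node 20559005800510 (.node 36090046203635 .nil .nil) .nil))) (.node 4957524035714 (.node 7645902653542 (.node 13275012401206 (.node 25931341293208 .nil .nil) (.node 42618243884801 .nil .nil)) (.node 19112141588617 (.node 33960010790673 .nil .nil) .nil)) (.node 10448204441735 (.node 16162671687803 (.node 29846941521613 .nil .nil) (.node 53549221475820 .nil .nil)) (.node 22002416490585 (.node 38222999623469 .nil .nil) .nil))))) (.node 1242310899890 (.node 1879524456475 (.node 3243612616893 (.node 5929056630954 (.node 11486159251407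 (.node 23512386086795 .nil .nil) (.node 39877384545981 .nil .nil)) (.node 17261798631376 (.node 31359608985265 .nil .nil) (.node 58566632039910 .nil .nil))) (.node 8677667526722 (.node 14369457629412 (.node 27367419967280 .nil .nil) (.node 44753128523365 .nil .nil)) (.node 20209036752982 (.node 35542871562100 .nil .nil) .nil))) (.node 4614127626360 (.node 7301366982623 (.node 12926567499775 (.node 25443390642053 .nil .nil) (.node 42069092169445 .nil .nil)) (.node 18707624376320 (.node 33411915691798 .nil .nil) .nil)) (.node 10053601769471 (.node 15811711723653 (.node 29360133465935 .nil .nil) (.node 51763068307008 .nil .nil)) (.node 21657913174170 (.node 37673261737640 .nil .nil) .nil)))) (.node 2562423376107 (.node 3934531221689 (.node 6614741989510 (.node 12180129953900 (.node 24482225870681 .nil .nil) (.node 40969631069939 .nil .nil)) (.node 18012411996320 (.node 32382297548546 .nil .nil) (.node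 63650934289730 .nil .nil))) (.node 9366004414467 (.node 15062521866437 (.node 28392105338782 .nil .nil) (.node 47978045863535 .nil .nil)) (.node 20903408269379 (.node 36580930545331 .nil .nil) .nil))) (.node 5300970600440 (.node 7988426700834 (.node 13620806850618 (.node 26412025235099 .nil .nil) (.node 43171824993948 .nil .nil)) (.node 19458892339196 (.node 34451565987508 .nil .nil) .nil)) (.node 10739856865290 (.node 16507611052077 (.node 30386696902564 .nil .nil) (.node 55132067472791 .nil .nil)) (.node 22490048260001 (.node 38772738635546 .nil .nil) .nil)))))) (.node 709716506719 (.node 1052709677209 (.node 1737772771576 (.node 3099598731350 (.node 5785142474993 (.node 11284864620633 (.node 23246232049401 .nil .nil) (.node 39596852377353 .nil .nil)) (.node 17057318184898 (.node 31141621245874 .nil .nil) (.node 57604341118460 .nil .nil))) (.node 8531406411721 (.node 14168146237657 (.node 27159500396324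 .nil .nil) (.node 43996559603337 .nil .nil)) (.node 20009417894009 (.node 35271148701477 .nil .nil) .nil))) (.node 4422648616918 (.node 7157201180624 (.node 12727099705547 (.node 25176836167381 .nil .nil) (.node 41794113693419 .nil .nil)) (.node 18562235033648 (.node 33138597541647 .nil .nil) (.node 74647845090515 .nil .nil))) (.node 9907975833725 (.node 15612882413673 (.node 29146074912560 .nil .nil) (.node 50799653725813 .nil .nil)) (.node 21453297703080 (.node 37400630601485 .nil .nil) .nil)))) (.node 2413980973207 (.node 3736594307036 (.node 6470056294580 (.node 12034170595319 (.node 24208387180438 .nil .nil) (.node 40701950785213 .nil .nil)) (.node 17810008058082 (.node 32112906532497 .nil .nil) (.node 61521854490041 .nil .nil))) (.node 9219404720345 (.node 14864166193153 (.node 28121925076800 .nil .nil) (.node 47158662325835 .nil .nil)) (.node 20758876461103 (.node 36363984824047 .nil .nil) .nil)))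 (.node 5103702055055 (.node 7843993737164 (.node 13472331188285 (.node 26197358921601 .nil .nil) (.node 42893541201633 .nil .nil)) (.node 19257664571369 (.node 34233496524558 .nil .nil) .nil)) (.node 10595556415595 (.node 16361551312975 (.node 30116198778601 .nil .nil) (.node 54373569914360 .nil .nil)) (.node 22278941501309 (.node 38497793713963 .nil .nil) .nil))))) (.node 1395148376313 (.node 2072295634985 (.node 3440545740965 (.node 6126927685888 (.node 11633897981956 (.node 23727016736482 .nil .nil) (.node 40152581039813 .nil .nil)) (.node 17460978800766 (.node 31625947186947 .nil .nil) (.node 59594908059132 .nil .nil))) (.node 8876897667285 (.node 14515150350315 (.node 27640855402302 .nil .nil) (.node 45576067855994 .nil .nil)) (.node 20353518598185 (.node 35817044752258 .nil .nil) .nil))) (.node 4759735318696 (.node 7500060555282 (.node 13073818605665 (.node 25710973237100 .nil .nil) (.node 42343902885606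 .nil .nil)) (.node 18909539170317 (.node 33686455895927 .nil .nil) .nil)) (.node 10251790342374 (.node 15957871827079 (.node 29631486662542 .nil .nil) (.node 52726180898354 .nil .nil)) (.node 21858371131427 (.node 37947853674213 .nil .nil) .nil)))) (.node 2756571801713 (.node 4079889885141 (.node 6812262316003 (.node 12379831089098 (.node 24694877120222 .nil .nil) (.node 41244508583747 .nil .nil)) (.node 18157818075147 (.node 32653164505009 .nil .nil) (.node 65849420584280 .nil .nil))) (.node 9562918193376 (.node 15263062665393 (.node 28603598878442 .nil .nil) (.node 48808919086707 .nil .nil)) (.node 21108492638381 (.node 36855539930812 .nil .nil) .nil))) (.node 5446393231522 (.node 8188595656942 (.node 13821933520913 (.node 26675930560409 .nil .nil) (.node 43446518552211 .nil .nil)) (.node 19661192808491 (.node 34724934158032 .nil .nil) .nil)) (.node 10939438934116 (.node 16712527976565 (.node 30603007035072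 .nil .nil) (.node 55953245726147 .nil .nil)) (.node 22760414246769 (.node 39047516923557 .nil .nil) .nil))))))))

/-- Part of `setKey`. -/
noncomputable def setKey_l_l_r_r : Arr ℕ :=
  .node 142598011070 setKey_l_l_r_r_l setKey_l_l_r_r_r

/-- Part of `setKey`. -/
noncomputable def setKey_l_l_r : Arr ℕ :=
  .node 89830983925 setKey_l_l_r_l setKey_l_l_r_r

/-- Part of `setKey`. -/
noncomputable def setKey_l_l : Arr ℕ :=
  .node 75639519470 setKey_l_l_l setKey_l_l_r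

/-- Part of `setKey`. -/
noncomputable def setKey_l_r_l_l_l : Arr ℕ :=
  (.node 148032796832 (.node 227487566079 (.node 369105303572 (.node 711612282911 (.node 1397129037921 (.node 2761737771216 (.node 5447249213554 (.node 10942676174972 (.node 22764405733309 .nil .nil) (.node 39114676377257 .nil .nil)) (.node 16713366992947 (.node 30661473875893 .nil .nil) (.node 56024732648929 .nil .nil))) (.node 8191347562636 (.node 13825638258894 (.node 26679219029827 .nil .nil) (.node 43510423967438 .nil .nil)) (.node 19664681584643 (.node 34784912889606 .nil .nil) .nil))) (.node 4130441046125 (.node 6815935367210 (.node 12383049586875 (.node 24756650006432 .nil .nil) (.node 41311414822767 .nil .nil)) (.node 18217966544992 (.node 32656470968084 .nil .nil) (.node 70456795841765 .nil .nil))) (.node 9567028676722 (.node 15267188021471 (.node 28665156044585 .nil .nil) (.node 48944647378521 .nil .nil)) (.node 21109382236268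 (.node 36915451012951 .nil .nil) .nil)))) (.node 2083283863670 (.node 3444571674678 (.node 6133739432061 (.node 11690589984758 (.node 23733593298647 .nil .nil) (.node 40212137924530 .nil .nil)) (.node 17467756156872 (.node 31631903782545 .nil .nil) (.node 59664399574405 .nil .nil))) (.node 8879716501629 (.node 14519310944247 (.node 27641928804123 .nil .nil) (.node 45646129591810 .nil .nil)) (.node 20415178360896 (.node 35823254861458 .nil .nil) .nil))) (.node 4760692041797 (.node 7504286980248 (.node 13131937302689 (.node 25717647882108 .nil .nil) (.node 42410911459059 .nil .nil)) (.node 18913631369193 (.node 33690265311051 .nil .nil) .nil)) (.node 10254710613997 (.node 16017652369415 (.node 29637259142914 .nil .nil) (.node 52860198487520 .nil .nil)) (.node 21863651801252 (.node 38015029663528 .nil .nil) .nil))))) (.node 1054387349552 (.node 1739955111989 (.node 3100705966161 (.node 5790645229690 (.node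 11287346870417 (.node 23251298752217 .nil .nil) (.node 39663221319599 .nil .nil)) (.node 17117231089655 (.node 31145313412884 .nil .nil) (.node 57741411390935 .nil .nil))) (.node 8535163041922 (.node 14171803957282 (.node 27160723367782 .nil .nil) (.node 44061958506080 .nil .nil)) (.node 20010088384678 (.node 35330525738750 .nil .nil) .nil))) (.node 4470867949790 (.node 7160538634396 (.node 12730992887870 (.node 25237502707516 .nil .nil) (.node 41861271385962 .nil .nil)) (.node 18565418920171 (.node 33146063767219 .nil .nil) .nil)) (.node 9911062128725 (.node 15614141917131 (.node 29151006091089 .nil .nil) (.node 50869145175565 .nil .nil)) (.node 21514756884539 (.node 37465677620898 .nil .nil) .nil)))) (.node 2419180697792 (.node 3787447654444 (.node 6476967643237 (.node 12037255465173 (.node 24268451293055 .nil .nil) (.node 40761912338264 .nil .nil)) (.node 17813750937613 (.node 32172614780839 .nil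 .nil) (.node 61658555802995 .nil .nil))) (.node 9223246760063 (.node 14920170706898 (.node 28122779047782 .nil .nil) (.node 47228874798616 .nil .nil)) (.node 20764392069295 (.node 36367775283020 .nil .nil) .nil))) (.node 5104021039185 (.node 7847481833611 (.node 13478000408758 (.node 26198767855477 .nil .nil) (.node 42961187964622 .nil .nil)) (.node 19317494745207 (.node 34236782098296 .nil .nil) .nil)) (.node 10599029372901 (.node 16368613590985 (.node 30121836431043 .nil .nil) (.node 54442490946953 .nil .nil)) (.node 22282832730038 (.node 38564802086720 .nil .nil) .nil)))))) (.node 569172633854 (.node 904098342957 (.node 1590689404910 (.node 2906926532833 (.node 5644919789606 (.node 11142511556560 (.node 23034872616822 .nil .nil) (.node 39389284927225 .nil .nil)) (.node 16917933115342 (.node 30878589454004 .nil .nil) (.node 56845022094830 .nil .nil))) (.node 8390695753899 (.node 14025373989035 (.node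 26949902542738 .nil .nil) (.node 43785268467386 .nil .nil)) (.node 19865439398014 (.node 35058782214061 .nil .nil) .nil))) (.node 4279201966287 (.node 7013069514875 (.node 12584715159505 (.node 24964403107566 .nil .nil) (.node 41586460546924 .nil .nil)) (.node 18363423098878 (.node 32928612603834 .nil .nil) (.node 72655282353350 .nil .nil))) (.node 9766678894800 (.node 15468064294925 (.node 28879214544705 .nil .nil) (.node 49906065901132 .nil .nil)) (.node 21313997387892 (.node 37189255911139 .nil .nil) .nil)))) (.node 2272515610880 (.node 3597310326745 (.node 6331645257725 (.node 11835526187081 (.node 24001508370254 .nil .nil) (.node 40486730704822 .nil .nil)) (.node 17668361734231 (.node 31902770788122 .nil .nil) (.node 60627813782992 .nil .nil))) (.node 9077672560810 (.node 14719008405690 (.node 27915532060439 .nil .nil) (.node 46404425295460 .nil .nil)) (.node 20559626483812 (.node 36093501581033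 .nil .nil) .nil))) (.node 4959971825913 (.node 7703517796524 (.node 13278736803815 (.node 25932482037394 .nil .nil) (.node 42685653456744 .nil .nil)) (.node 19116133668876 (.node 33964170450749 .nil .nil) .nil)) (.node 10454126127063 (.node 16163695003708 (.node 29905526187953 .nil .nil) (.node 53617924179435 .nil .nil)) (.node 22069696432025 (.node 38290059622059 .nil .nil) .nil))))) (.node 1247477332084 (.node 1931115702485 (.node 3250188220646 (.node 5988366325894 (.node 11490618865866 (.node 23520269899680 .nil .nil) (.node 39936857647039 .nil .nil)) (.node 17262352607174 (.node 31417524340534 .nil .nil) (.node 58703366645189 .nil .nil))) (.node 8734410991626 (.node 14373198301340 (.node 27431542572953 .nil .nil) (.node 44821831218790 .nil .nil)) (.node 20214519326863 (.node 35547705808544 .nil .nil) .nil))) (.node 4616055769342 (.node 7356583041140 (.node 12930643204215 (.node 25451915671181 .nil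 .nil) (.node 42135898982228 .nil .nil)) (.node 18768040917145 (.node 33419063170692 .nil .nil) .nil)) (.node 10109890439351 (.node 15819544098943 (.node 29366593423032 .nil .nil) (.node 51831922034233 .nil .nil)) (.node 21658785708138 (.node 37740067825480 .nil .nil) .nil)))) (.node 2563799247059 (.node 3936158279875 (.node 6669556021370 (.node 12235145783375 (.node 24482913855257 .nil .nil) (.node 41037308721004 .nil .nil)) (.node 18015596042476 (.node 32390065460930 .nil .nil) (.node 63857042142590 .nil .nil))) (.node 9421940697282 (.node 15065409841106 (.node 28396517791510 .nil .nil) (.node 48046782113390 .nil .nil)) (.node 20964900423808 (.node 36640956974974 .nil .nil) .nil))) (.node 5301640693955 (.node 8045857179899 (.node 13624127871098 (.node 26466467776445 .nil .nil) (.node 43236082730694 .nil .nil)) (.node 19462782801902 (.node 34510384949123 .nil .nil) .nil)) (.node 10796766447800 (.node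 16567374645245 (.node 30390137386726 .nil .nil) (.node 55199998223854 .nil .nil)) (.node 22553198655370 (.node 38839513466544 .nil .nil) .nil))))))) (.node 298154477635 (.node 491446278110 (.node 831402797285 (.node 1468667037723 (.node 2832503797938 (.node 5570580838610 (.node 11069782616306 (.node 22898457040753 .nil .nil) (.node 39252030220126 .nil .nil)) (.node 16842319640570 (.node 30797958801218 .nil .nil) (.node 56434013693348 .nil .nil))) (.node 8264998590579 (.node 13898385360931 (.node 26816471828329 .nil .nil) (.node 43648416364229 .nil .nil)) (.node 19737593755624 (.node 34921443915695 .nil .nil) .nil))) (.node 4200821373052 (.node 6888378947565 (.node 12455913347210 (.node 24832970565335 .nil .nil) (.node 41448821835613 .nil .nil)) (.node 18290625136861 (.node 32792785864493 .nil .nil) (.node 71556038964470 .nil .nil))) (.node 9639723653169 (.node 15339717208027 (.node 28746054760089 .nil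 .nil) (.node 49426220557865 .nil .nil)) (.node 21239828564104 (.node 37051951142630 .nil .nil) .nil)))) (.node 2153362020403 (.node 3522767841484 (.node 6203867977782 (.node 11762209736927 (.node 23864806598557 .nil .nil) (.node 40349476235181 .nil .nil)) (.node 17537966827601 (.node 31767126841059 .nil .nil) (.node 60147632813477 .nil .nil))) (.node 8952310495363 (.node 14645409224914 (.node 27778611414889 .nil .nil) (.node 46054504609355 .nil .nil)) (.node 20489279871102 (.node 35957840250669 .nil .nil) .nil))) (.node 4888821332097 (.node 7576043829206 (.node 13205437241460 (.node 25854684133253 .nil .nil) (.node 42548249708277 .nil .nil)) (.node 19042381977742 (.node 33826765059899 .nil .nil) .nil)) (.node 10327607134217 (.node 16093482346645 (.node 29770286786298 .nil .nil) (.node 53208140305852 .nil .nil)) (.node 21933361502288 (.node 38152436160172 .nil .nil) .nil))))) (.node 1173608204465 (.node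 1810821769237 (.node 3175060871362 (.node 5860353935529 (.node 11416248137942 (.node 23383771383601 .nil .nil) (.node 39799988963261 .nil .nil)) (.node 17193010948151 (.node 31280670304126 .nil .nil) (.node 58222229685722 .nil .nil))) (.node 8608830605383 (.node 14300201629870 (.node 27297474463595 .nil .nil) (.node 44411946579507 .nil .nil)) (.node 20140384290947 (.node 35412648908488 .nil .nil) .nil))) (.node 4545424947313 (.node 7232664279008 (.node 12857562015983 (.node 25367325538160 .nil .nil) (.node 41998627858256 .nil .nil)) (.node 18638518757389 (.node 33281523578498 .nil .nil) .nil)) (.node 9984899074048 (.node 15742875105290 (.node 29286801233752 .nil .nil) (.node 51351053501998 .nil .nil)) (.node 21589042444460 (.node 37603031533362 .nil .nil) .nil)))) (.node 2493368424686 (.node 3865979508923 (.node 6546039294085 (.node 12110388434913 (.node 24350961030874 .nil .nil) (.node 40899250685778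 .nil .nil)) (.node 17943172515971 (.node 32306398893920 .nil .nil) (.node 62757799056740 .nil .nil))) (.node 9297201014789 (.node 14993283262675 (.node 28259649337110 .nil .nil) (.node 47637769692755 .nil .nil)) (.node 20834369521833 (.node 36503719274376 .nil .nil) .nil))) (.node 5232301463540 (.node 7919724005409 (.node 13551095998661 (.node 26334714087284 .nil .nil) (.node 43098090481337 .nil .nil)) (.node 19389938137074 (.node 34372979558273 .nil .nil) .nil)) (.node 10671154169865 (.node 16438624860102 (.node 30256994363023 .nil .nil) (.node 54852744590795 .nil .nil)) (.node 22416900728692 (.node 38702292551330 .nil .nil) .nil)))))) (.node 640980256864 (.node 984006965408 (.node 1669355251961 (.node 3030946330692 (.node 5716439779569 (.node 11215977404512 (.node 23168738391950 .nil .nil) (.node 39526691346089 .nil .nil)) (.node 16988446083123 (.node 31011782858480 .nil .nil) (.node 57259016431024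 .nil .nil))) (.node 8462703716297 (.node 14098840619065 (.node 27023873242860 .nil .nil) (.node 43923243857613 .nil .nil)) (.node 19940177868961 (.node 35195902306233 .nil .nil) .nil))) (.node 4353912367061 (.node 7087559362578 (.node 12658347038897 (.node 25100332099394 .nil .nil) (.node 41723934549832 .nil .nil)) (.node 18492945049741 (.node 33065248655133 .nil .nil) (.node 73754525484245 .nil .nil))) (.node 9838618048726 (.node 15543978330263 (.node 29014506845932 .nil .nil) (.node 50388393805372 .nil .nil)) (.node 21384159438957 (.node 37325585430456 .nil .nil) .nil)))) (.node 2345127270559 (.node 3667858057179 (.node 6401353599155 (.node 11963991074991 (.node 24138427455284 .nil .nil) (.node 40624085747628 .nil .nil)) (.node 17740751866083 (.node 32037104334735 .nil .nil) (.node 61175355688325 .nil .nil))) (.node 9150500628707 (.node 14793046505564 (.node 28048961148821 .nil .nil) (.node 46816725751314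 .nil .nil)) (.node 20690039392328 (.node 36232047585003 .nil .nil) .nil))) (.node 5034965805200 (.node 7775257487308 (.node 13352371316739 (.node 26068713313932 .nil .nil) (.node 42823026575180 .nil .nil)) (.node 19188911831001 (.node 34101710051129 .nil .nil) .nil)) (.node 10526820165740 (.node 16292463179780 (.node 30041792956235 .nil .nil) (.node 54030207649167 .nil .nil)) (.node 22146333288360 (.node 38427581335307 .nil .nil) .nil))))) (.node 1326445672697 (.node 2003609495671 (.node 3371826239660 (.node 6059181242621 (.node 11563030222893 (.node 23656736905054 .nil .nil) (.node 40074464352190 .nil .nil)) (.node 17392176084980 (.node 31550669272910 .nil .nil) (.node 59184352671180 .nil .nil))) (.node 8807591843979 (.node 14445807933623 (.node 27566180669360 .nil .nil) (.node 45233846277640 .nil .nil)) (.node 20284732041250 (.node 35686000486029 .nil .nil) .nil))) (.node 4691804633244 (.node 7430687295453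 (.node 13004327557216 (.node 25588281095820 .nil .nil) (.node 42273286154094 .nil .nil)) (.node 18840987596806 (.node 33555461875349 .nil .nil) .nil)) (.node 10182852802788 (.node 15888885983170 (.node 29501180831374 .nil .nil) (.node 52377115702790 .nil .nil)) (.node 21789567543366 (.node 37877540341570 .nil .nil) .nil)))) (.node 2687751669879 (.node 4010666956779 (.node 6743474735331 (.node 12310457288724 (.node 24619547428697 .nil .nil) (.node 41174665406254 .nil .nil)) (.node 18088729712635 (.node 32522772575999 .nil .nil) (.node 64956285363575 .nil .nil))) (.node 9494869784787 (.node 15193688909996 (.node 28530684991388 .nil .nil) (.node 48462789256743 .nil .nil)) (.node 21039354284125 (.node 36778110691211 .nil .nil) .nil))) (.node 5377757636784 (.node 8119123023820 (.node 13752962791413 (.node 26542701180773 .nil .nil) (.node 43373001795277 .nil .nil)) (.node 19592171309161 (.node 34648243058573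 .nil .nil) .nil)) (.node 10870350420080 (.node 16643322140804 (.node 30524976207693 .nil .nil) (.node 55612516427239 .nil .nil)) (.node 22627889538991 (.node 38976884270870 .nil .nil) .nil))))))))

/-- Part of `setKey`. -/
noncomputable def setKey_l_r_l_l_r : Arr ℕ :=
  (.node 161823029272 (.node 281781164270 (.node 435123693638 (.node 776824183031 (.node 1453854062644 (.node 2822304975095 (.node 5509761046777 (.node 11006547040491 (.node 22832437614511 .nil .nil) (.node 39183379080871 .nil .nil)) (.node 16780728911820 (.node 30729792837442 .nil .nil) (.node 56228761028057 .nil .nil))) (.node 8254967658725 (.node 13888992659413 (.node 26748121040751 .nil .nil) (.node 43579042772688 .nil .nil)) (.node 19729744451687 (.node 34853296895752 .nil .nil) .nil))) (.node 4146998691823 (.node 6878716623013 (.node 12446386960350 (.node 24818072921975 .nil .nil) (.node 41380117518192 .nil .nil)) (.node 18226118395898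 (.node 32724282578808 .nil .nil) (.node 71006434198760 .nil .nil))) (.node 9629709555921 (.node 15330943551651 (.node 28679633290938 .nil .nil) (.node 49151627495036 .nil .nil)) (.node 21176776013993 (.node 36983298782945 .nil .nil) .nil)))) (.node 2140311082970 (.node 3460928071652 (.node 6194675480626 (.node 11699076839540 (.node 23801423230688 .nil .nil) (.node 40280840628145 .nil .nil)) (.node 17529648584690 (.node 31700002563734 .nil .nil) (.node 59940518724993 .nil .nil))) (.node 8942112921585 (.node 14581670123708 (.node 27710296139519 .nil .nil) (.node 45848295859790 .nil .nil)) (.node 20422288185446 (.node 35890009843480 .nil .nil) .nil))) (.node 4827599820942 (.node 7567656278016 (.node 13142270724066 (.node 25786098935678 .nil .nil) (.node 42479647708916 .nil .nil)) (.node 18978157959183 (.node 33759488313073 .nil .nil) .nil)) (.node 10318079461315 (.node 16026155395134 (.node 29703881910005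 .nil .nil) (.node 53001948333502 .nil .nil)) (.node 21927023265860 (.node 38083732367143 .nil .nil) .nil))))) (.node 1119465343223 (.node 1797283362904 (.node 3113755949268 (.node 5851497154745 (.node 11352592861377 (.node 23315236636420 .nil .nil) (.node 39731924015024 .nil .nil)) (.node 17124962199626 (.node 31212940662647 .nil .nil) (.node 57948375065998 .nil .nil))) (.node 8597961885689 (.node 14236011042950 (.node 27229006612329 .nil .nil) (.node 44205905561140 .nil .nil)) (.node 20077600561249 (.node 35344952637112 .nil .nil) .nil))) (.node 4485344037033 (.node 7223974422719 (.node 12793555286255 (.node 25306037847817 .nil .nil) (.node 41929974089577 .nil .nil)) (.node 18630451173458 (.node 33214833428155 .nil .nil) .nil)) (.node 9974800574403 (.node 15681383737489 (.node 29218633353142 .nil .nil) (.node 51142899250697 .nil .nil)) (.node 21521380300912 (.node 37534380316336 .nil .nil) .nil))))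 (.node 2481727465583 (.node 3804240259043 (.node 6538088466503 (.node 12101497092263 (.node 24283567077076 .nil .nil) (.node 40830648588119 .nil .nil)) (.node 17878341613802 (.node 32240531064618 .nil .nil) (.node 62208177362300 .nil .nil))) (.node 9286599165971 (.node 14930250631252 (.node 28191080744715 .nil .nil) (.node 47432969975343 .nil .nil)) (.node 20827461576770 (.node 36435872417651 .nil .nil) .nil))) (.node 5166415554807 (.node 7911052322822 (.node 13486655395962 (.node 26266414061425 .nil .nil) (.node 43029873862352 .nil .nil)) (.node 19325746546669 (.node 34304327214972 .nil .nil) .nil)) (.node 10661794224066 (.node 16429935679490 (.node 30189432051402 .nil .nil) (.node 54646535841230 .nil .nil)) (.node 22348734461830 (.node 38633538336575 .nil .nil) .nil)))))) (.node 623785310390 (.node 918810642459 (.node 1604008970274 (.node 2968466323643 (.node 5653776975927 (.node 11153197234173 (.node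 23102921037699 .nil .nil) (.node 39457987622650 .nil .nil)) (.node 16979725031420 (.node 30944625157780 .nil .nil) (.node 57051230844395 .nil .nil))) (.node 8399938312238 (.node 14034398550056 (.node 27016357775285 .nil .nil) (.node 43853954414268 .nil .nil)) (.node 19872683395201 (.node 35127199602618 .nil .nil) .nil))) (.node 4337270462622 (.node 7024373151932 (.node 12594392741942 (.node 25033005192934 .nil .nil) (.node 41655163250539 .nil .nil)) (.node 18427896121577 (.node 32997215020961 .nil .nil) (.node 73204920714440 .nil .nil))) (.node 9773993211881 (.node 15476785571903 (.node 28947045148415 .nil .nil) (.node 50177555711525 .nil .nil)) (.node 21377250748546 (.node 37257958614756 .nil .nil) .nil)))) (.node 2282580412613 (.node 3651216558197 (.node 6340450941089 (.node 11899581602010 (.node 24069775038271 .nil .nil) (.node 40555466954677 .nil .nil)) (.node 17676462913552 (.node 31969007994664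 .nil .nil) (.node 60901265880555 .nil .nil))) (.node 9086328592366 (.node 14782949877716 (.node 27981650618269 .nil .nil) (.node 46610466313827 .nil .nil)) (.node 20626651207847 (.node 36162204276458 .nil .nil) .nil))) (.node 5020757952725 (.node 7713415612377 (.node 13342054733767 (.node 26001117869701 .nil .nil) (.node 42754389714791 .nil .nil)) (.node 19179955161221 (.node 34032973801274 .nil .nil) .nil)) (.node 10463434258588 (.node 16230939600848 (.node 29973593438029 .nil .nil) (.node 53826648950193 .nil .nil)) (.node 22078049879978 (.node 38358795880101 .nil .nil) .nil))))) (.node 1261435082778 (.node 1946314618998 (.node 3311661164731 (.node 5996652992560 (.node 11553804728505 (.node 23588134885206 .nil .nil) (.node 40005560342464 .nil .nil)) (.node 17330349262897 (.node 31485453375415 .nil .nil) (.node 58975795692965 .nil .nil))) (.node 8743603611618 (.node 14434705778735 (.node 27499641464725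 .nil .nil) (.node 45030354654792 .nil .nil)) (.node 20277806442629 (.node 35616408512159 .nil .nil) .nil))) (.node 4682445023225 (.node 7367987185855 (.node 12994732972199 (.node 25519628396189 .nil .nil) (.node 42204635232083 .nil .nil)) (.node 18776293103595 (.node 33486759171734 .nil .nil) .nil)) (.node 10118328666072 (.node 15880280496140 (.node 29432679495307 .nil .nil) (.node 52105340560995 .nil .nil)) (.node 21726431361169 (.node 37808804075335 .nil .nil) .nil)))) (.node 2625775245509 (.node 3994126092419 (.node 6680507189454 (.node 12246618597451 (.node 24551046166311 .nil .nil) (.node 41106011424619 .nil .nil)) (.node 18080577927257 (.node 32456839583361 .nil .nil) (.node 64406663800175 .nil .nil))) (.node 9430361262190 (.node 15129782630621 (.node 28465052768040 .nil .nil) (.node 48252990862955 .nil .nil)) (.node 20972009760943 (.node 36709693224829 .nil .nil) .nil))) (.node 5310564632750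 (.node 8055687686122 (.node 13689190856764 (.node 26474150971149 .nil .nil) (.node 43304701552328 .nil .nil)) (.node 19527511177210 (.node 34579506808718 .nil .nil) .nil)) (.node 10808139130928 (.node 16575996524487 (.node 30457730701196 .nil .nil) (.node 55406106330604 .nil .nil)) (.node 22619318003615 (.node 38908249716386 .nil .nil) .nil))))))) (.node 354342451303 (.node 504547559558 (.node 847624886377 (.node 1533628565655 (.node 2894681761865 (.node 5584369551447 (.node 11079730481120 (.node 22966606059387 .nil .nil) (.node 39320766469981 .nil .nil)) (.node 16850973616181 (.node 30863642310470 .nil .nil) (.node 56641044325855 .nil .nil))) (.node 8327745538283 (.node 13961702570210 (.node 26881837197207 .nil .nil) (.node 43717035185863 .nil .nil)) (.node 19801986123785 (.node 34990045964206 .nil .nil) .nil))) (.node 4217647572948 (.node 6951980730597 (.node 12520387868857 (.node 24900230313694 .nil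 .nil) (.node 41517524531038 .nil .nil)) (.node 18355371923590 (.node 32860348208930 .nil .nil) (.node 72105677325560 .nil .nil))) (.node 9702773520498 (.node 15404190718188 (.node 28812256470793 .nil .nil) (.node 49633401890409 .nil .nil)) (.node 21246754048107 (.node 37120553207526 .nil .nil) .nil)))) (.node 2218490558705 (.node 3580936898659 (.node 6265725843702 (.node 11826585700514 (.node 23933107582802 .nil .nil) (.node 40418178930606 .nil .nil)) (.node 17605176400009 (.node 31834403342170 .nil .nil) (.node 60420145948048 .nil .nil))) (.node 9014874331250 (.node 14654517340258 (.node 27846980175690 .nil .nil) (.node 46260444759680 .nil .nil)) (.node 20552634099770 (.node 36024731776752 .nil .nil) .nil))) (.node 4897794967718 (.node 7640299514070 (.node 13268822386935 (.node 25917181994855 .nil .nil) (.node 42616985958134 .nil .nil)) (.node 19051573536739 (.node 33895434200894 .nil .nil) .nil))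 (.node 10390335801525 (.node 16155124869125 (.node 29838031030141 .nil .nil) (.node 53414164358583 .nil .nil)) (.node 22001041131569 (.node 38221138863782 .nil .nil) .nil))))) (.node 1190517966929 (.node 1876738365684 (.node 3237306152993 (.node 5927546947747 (.node 11424869681297 (.node 23451936245652 .nil .nil) (.node 39868691658686 .nil .nil)) (.node 17254703589365 (.node 31349322635142 .nil .nil) (.node 58429730084256 .nil .nil))) (.node 8671075932215 (.node 14309359921307 (.node 27365792692053 .nil .nil) (.node 44618272732738 .nil .nil)) (.node 20147258763437 (.node 35479003137693 .nil .nil) .nil))) (.node 4554701506653 (.node 7296065423517 (.node 12867460196305 (.node 25383263417992 .nil .nil) (.node 42067364108111 .nil .nil)) (.node 18702740625634 (.node 33350360475267 .nil .nil) .nil)) (.node 10046387673195 (.node 15751512123538 (.node 29352183072545 .nil .nil) (.node 51625461970434 .nil .nil))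 (.node 21652212590653 (.node 37671767783217 .nil .nil) .nil)))) (.node 2551487092862 (.node 3921447827630 (.node 6609071384818 (.node 12174628411460 (.node 24414612674463 .nil .nil) (.node 40967986935633 .nil .nil)) (.node 17951156574207 (.node 32321547507379 .nil .nil) (.node 63307420624235 .nil .nil))) (.node 9359795312822 (.node 15056586262495 (.node 28328133842745 .nil .nil) (.node 47845320381993 .nil .nil)) (.node 20901764364371 (.node 36572287817599 .nil .nil) .nil))) (.node 5241091110945 (.node 7983494187229 (.node 13615338698936 (.node 26403383138169 .nil .nil) (.node 43166776428219 .nil .nil)) (.node 19455101421689 (.node 34441682245508 .nil .nil) .nil)) (.node 10733448259687 (.node 16505983633548 (.node 30323799635742 .nil .nil) (.node 55058684741120 .nil .nil)) (.node 22485200512899 (.node 38770995246768 .nil .nil) .nil)))))) (.node 697738455133 (.node 1041067825130 (.node 1723229763770 (.node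 3043325135085 (.node 5781990135800 (.node 11278775634136 (.node 23183082522334 .nil .nil) (.node 39595394049703 .nil .nil)) (.node 17055454271643 (.node 31077835126574 .nil .nil) (.node 57466449618387 .nil .nil))) (.node 8473909159947 (.node 14162846505126 (.node 27092238813027 .nil .nil) (.node 43991929755343 .nil .nil)) (.node 20002861566076 (.node 35264017819583 .nil .nil) .nil))) (.node 4415617784006 (.node 7098614155257 (.node 12721834518724 (.node 25168934532835 .nil .nil) (.node 41792637245255 .nil .nil)) (.node 18500962428944 (.node 33130965735200 .nil .nil) (.node 74304163841240 .nil .nil))) (.node 9902557640874 (.node 15605469685775 (.node 29082922215288 .nil .nil) (.node 50661661259383 .nil .nil)) (.node 21451486206114 (.node 37394288134071 .nil .nil) .nil)))) (.node 2356936153308 (.node 3729547229364 (.node 6409606408368 (.node 11972931577935 (.node 24206760044441 .nil .nil) (.node 40692788443051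 .nil .nil)) (.node 17805867726988 (.node 32104836515631 .nil .nil) (.node 61382855787932 .nil .nil))) (.node 9211555768475 (.node 14857019418669 (.node 28115802298280 .nil .nil) (.node 47021189826125 .nil .nil)) (.node 20696981518438 (.node 36300750280428 .nil .nil) .nil))) (.node 5095163848789 (.node 7786194700290 (.node 13414396856377 (.node 26137349011075 .nil .nil) (.node 42891762825035 .nil .nil)) (.node 19252767504387 (.node 34168886404903 .nil .nil) .nil)) (.node 10589366941858 (.node 16301217736763 (.node 30107912701745 .nil .nil) (.node 54235141314038 .nil .nil)) (.node 22214515967909 (.node 38496284030732 .nil .nil) .nil))))) (.node 1381225699550 (.node 2017986635807 (.node 3386570279103 (.node 6120202406105 (.node 11627118233808 (.node 23718628390790 .nil .nil) (.node 40143167055805 .nil .nil)) (.node 17400462600130 (.node 31565280880312 .nil .nil) (.node 59458324534778 .nil .nil))) (.node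 8868042274970 (.node 14509010982944 (.node 27573426177889 .nil .nil) (.node 45439769507452 .nil .nil)) (.node 20351857625225 (.node 35754736735886 .nil .nil) .nil))) (.node 4752052619465 (.node 7440985475161 (.node 13068048627825 (.node 25649331193714 .nil .nil) (.node 42341988849517 .nil .nil)) (.node 18905916102740 (.node 33623409641120 .nil .nil) .nil)) (.node 10244880251134 (.node 15957001353161 (.node 29567298271035 .nil .nil) (.node 52586628638227 .nil .nil)) (.node 21796023220298 (.node 37946276591425 .nil .nil) .nil)))) (.node 2700197849311 (.node 4072708315318 (.node 6753019205741 (.node 12320186816528 (.node 24688065619789 .nil .nil) (.node 41243401656109 .nil .nil)) (.node 18153135855840 (.node 32590200379152 .nil .nil) (.node 65505907029350 .nil .nil))) (.node 9555069294740 (.node 15202260232336 (.node 28598246979475 .nil .nil) (.node 48669551421021 .nil .nil)) (.node 21102356162682 (.node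 36846813386636 .nil .nil) .nil))) (.node 5438627424372 (.node 8130127263755 (.node 13762606741574 (.node 26611252873063 .nil .nil) (.node 43441620600527 .nil .nil)) (.node 19600389666787 (.node 34717266835216 .nil .nil) .nil)) (.node 10933567875270 (.node 16704780036095 (.node 30593324423056 .nil .nil) (.node 55815840335301 .nil .nil)) (.node 22695988590500 (.node 39045620520725 .nil .nil) .nil))))))))

/-- Part of `setKey`. -/
noncomputable def setKey_l_r_l_l : Arr ℕ :=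
  .node 91174209669 setKey_l_r_l_l_l setKey_l_r_l_l_r

/-- Part of `setKey`. -/
noncomputable def setKey_l_r_l_r_l : Arr ℕ :=
  (.node 159608363166 (.node 229669759068 (.node 422877345904 (.node 766257125330 (.node 1448418973880 (.node 2768413923564 (.node 5507145803765 (.node 11001650223279 (.node 22828227630975 .nil .nil) (.node 39115816154884 .nil .nil)) (.node 16773482731520 (.node 30667950470945 .nil .nil) (.node 56157928031720 .nil .nil))) (.node 8197874046982 (.node 13830487410766 (.node 26741412767675 .nil .nil) (.node 43514868766365 .nil .nil)) (.node 19669142706145 (.node 34790028818158 .nil .nil) .nil))) (.node 4140807022786 (.node 6820280543191 (.node 12387160348809 (.node 24757154408193 .nil .nil) (.node 41312926418687 .nil .nil)) (.node 18221888878814 (.node 32663534536391 .nil .nil) (.node 70731606656225 .nil .nil))) (.node 9573286828020 (.node 15270996482191 (.node 28670859126511 .nil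 .nil) (.node 49077775709750 .nil .nil)) (.node 21171092690984 (.node 36921776965254 .nil .nil) .nil)))) (.node 2085464762388 (.node 3454685837516 (.node 6135265892414 (.node 11694246148197 (.node 23795467679507 .nil .nil) (.node 40220746663629 .nil .nil)) (.node 17469165295554 (.node 31693408552765 .nil .nil) (.node 59801804981635 .nil .nil))) (.node 8885219747842 (.node 14576639477971 (.node 27706504325012 .nil .nil) (.node 45717482493474 .nil .nil)) (.node 20420543621245 (.node 35884271454119 .nil .nil) .nil))) (.node 4820235794527 (.node 7509553928288 (.node 13136734546035 (.node 25726508119711 .nil .nil) (.node 42411832309606 .nil .nil)) (.node 18974534924374 (.node 33753044973500 .nil .nil) .nil)) (.node 10310799059075 (.node 16024746088598 (.node 29699084531538 .nil .nil) (.node 52931182425575 .nil .nil)) (.node 21864725923913 (.node 38016640022324 .nil .nil) .nil))))) (.node 1106146515170 (.node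 1742622255129 (.node 3106710784177 (.node 5845391616215 (.node 11347545479381 (.node 23314530981787 .nil .nil) (.node 39670672520910 .nil .nil)) (.node 17124308244536 (.node 31207155803975 .nil .nil) (.node 57876015691190 .nil .nil))) (.node 8540195051586 (.node 14231465380013 (.node 27225048835985 .nil .nil) (.node 44135072556656 .nil .nil)) (.node 20071530739828 (.node 35336211838711 .nil .nil) .nil))) (.node 4477241800910 (.node 7165235370093 (.node 12790000150750 (.node 25238608820127 .nil .nil) (.node 41862546249574 .nil .nil)) (.node 18569698678799 (.node 33205738203019 .nil .nil) .nil)) (.node 9967285565570 (.node 15674172381200 (.node 29158472259227 .nil .nil) (.node 51006617675275 .nil .nil)) (.node 21520339749035 (.node 37467019634339 .nil .nil) .nil)))) (.node 2425487767784 (.node 3797695928528 (.node 6477839419557 (.node 12041685739490 (.node 24276604475158 .nil .nil) (.node 40763353290604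 .nil .nil)) (.node 17874570430603 (.node 32176675764028 .nil .nil) (.node 61933366707545 .nil .nil))) (.node 9229739816946 (.node 14925368330418 (.node 28190208288601 .nil .nil) (.node 47359688050280 .nil .nil)) (.node 20765684222053 (.node 36430305736430 .nil .nil) .nil))) (.node 5163766106253 (.node 7852799199347 (.node 13482393319624 (.node 26206957545089 .nil .nil) (.node 42964911900305 .nil .nil)) (.node 19321285601287 (.node 34244569003708 .nil .nil) .nil)) (.node 10654312519820 (.node 16369920432188 (.node 30181712320378 .nil .nil) (.node 54512602506711 .nil .nil)) (.node 22344507213725 (.node 38566145128108 .nil .nil) .nil)))))) (.node 572998961197 (.node 915908364417 (.node 1600921151731 (.node 2962562385985 (.node 5652702615722 (.node 11147459229789 (.node 23039200155556 .nil .nil) (.node 39390577465003 .nil .nil)) (.node 16919676311606 (.node 30936972228488 .nil .nil) (.node 56916375115221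 .nil .nil))) (.node 8395241453709 (.node 14030137890880 (.node 26954465748761 .nil .nil) (.node 43789797267082 .nil .nil)) (.node 19871475173538 (.node 35063749170987 .nil .nil) .nil))) (.node 4286115305437 (.node 7019510863824 (.node 12589610789042 (.node 25031495452443 .nil .nil) (.node 41587869644648 .nil .nil)) (.node 18424108181637 (.node 32934988781305 .nil .nil) (.node 72930093167810 .nil .nil))) (.node 9770570422399 (.node 15475275626648 (.node 28942128351162 .nil .nil) (.node 50043488081482 .nil .nil)) (.node 21315490297964 (.node 37193314740039 .nil .nil) .nil)))) (.node 2276844054629 (.node 3646637021360 (.node 6333203577087 (.node 11895288371376 (.node 24008857024210 .nil .nil) (.node 40495339652789 .nil .nil)) (.node 17672049162468 (.node 31962885416795 .nil .nil) (.node 60763860473325 .nil .nil))) (.node 9081865111771 (.node 14723253590113 (.node 27916823811811 .nil .nil) (.node 46538291676740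 .nil .nil)) (.node 20621319968856 (.node 36157605975991 .nil .nil) .nil))) (.node 4965977630890 (.node 7708281628827 (.node 13334925781055 (.node 25991938529153 .nil .nil) (.node 42687079339873 .nil .nil)) (.node 19120326526945 (.node 34027453241270 .nil .nil) .nil)) (.node 10458738079853 (.node 16223827564550 (.node 29911902086934 .nil .nil) (.node 53753501365715 .nil .nil)) (.node 22073923618683 (.node 38291400558344 .nil .nil) .nil))))) (.node 1258633525361 (.node 1943998404853 (.node 3305589377115 (.node 5991116425462 (.node 11494293973038 (.node 23526411294427 .nil .nil) (.node 39945785124555 .nil .nil)) (.node 17323406284790 (.node 31422187153248 .nil .nil) (.node 58840889464263 .nil .nil))) (.node 8739761866806 (.node 14377543866340 (.node 27435552421624 .nil .nil) (.node 44955261384275 .nil .nil)) (.node 20215961458862 (.node 35610099791692 .nil .nil) .nil))) (.node 4623236548669 (.node 7363326171085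 (.node 12935624869977 (.node 25511623436174 .nil .nil) (.node 42137492846322 .nil .nil)) (.node 18772335122448 (.node 33480719050513 .nil .nil) .nil)) (.node 10114654328930 (.node 15820248373393 (.node 29426301507451 .nil .nil) (.node 51967868061285 .nil .nil)) (.node 21720797784165 (.node 37741611402988 .nil .nil) .nil)))) (.node 2619871045759 (.node 3942165997522 (.node 6676181649359 (.node 12242140772298 (.node 24543262115705 .nil .nil) (.node 41038130923364 .nil .nil)) (.node 18019859277824 (.node 32449320523661 .nil .nil) (.node 64131853133135 .nil .nil))) (.node 9427056941180 (.node 15124986230950 (.node 28398260885345 .nil .nil) (.node 48120634295902 .nil .nil)) (.node 20970651580510 (.node 36647737550482 .nil .nil) .nil))) (.node 5309273720880 (.node 8051995519206 (.node 13684226541558 (.node 26472792131424 .nil .nil) (.node 43240125015710 .nil .nil)) (.node 19523787335807 (.node 34517786285705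 .nil .nil) .nil)) (.node 10802033543272 (.node 16574619445379 (.node 30451426154300 .nil .nil) (.node 55334518846900 .nil .nil)) (.node 22557626853292 (.node 38841072441096 .nil .nil) .nil))))))) (.node 348840302780 (.node 502248139003 (.node 845258283261 (.node 1522355169381 (.node 2838710450390 (.node 5576552151230 (.node 11074831640660 (.node 22902700308404 .nil .nil) (.node 39253288654598 .nil .nil)) (.node 16849230411726 (.node 30802487793380 .nil .nil) (.node 56506087667187 .nil .nil))) (.node 8322815727595 (.node 13957376636891 (.node 26817513559791 .nil .nil) (.node 43652425094813 .nil .nil)) (.node 19798363273313 (.node 34926343780141 .nil .nil) .nil))) (.node 4211103361211 (.node 6946781391103 (.node 12515089700829 (.node 24894558668693 .nil .nil) (.node 41450466010873 .nil .nil)) (.node 18294854645753 (.node 32798725645983 .nil .nil) (.node 71830849778930 .nil .nil))) (.node 9698144585725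 (.node 15399679801508 (.node 28806064760765 .nil .nil) (.node 49562099541560 .nil .nil)) (.node 21245294692467 (.node 37057737586482 .nil .nil) .nil)))) (.node 2205591050450 (.node 3528859047913 (.node 6263260944496 (.node 11767729215608 (.node 23931865401238 .nil .nil) (.node 40358135244495 .nil .nil)) (.node 17598351288305 (.node 31829572831027 .nil .nil) (.node 60283730187662 .nil .nil))) (.node 9010580924381 (.node 14650305710265 (.node 27840991492010 .nil .nil) (.node 46129631540776 .nil .nil)) (.node 20491024443493 (.node 36020267677621 .nil .nil) .nil))) (.node 4891923597556 (.node 7635721639920 (.node 13210973419489 (.node 25862739293849 .nil .nil) (.node 42549188830998 .nil .nil)) (.node 19047447959552 (.node 33890282977187 .nil .nil) .nil)) (.node 10386144299029 (.node 16094891644989 (.node 29778205271758 .nil .nil) (.node 53343465723361 .nil .nil)) (.node 21995658819660 (.node 38153978304310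 .nil .nil) .nil))))) (.node 1178958981269 (.node 1865500252130 (.node 3181636606170 (.node 5919764043870 (.node 11421329111234 (.node 23443683383180 .nil .nil) (.node 39808161703630 .nil .nil)) (.node 17193698449481 (.node 31289815983817 .nil .nil) (.node 58359383479744 .nil .nil))) (.node 8666244344043 (.node 14304713746565 (.node 27298717271855 .nil .nil) (.node 44547355870826 .nil .nil)) (.node 20145816623248 (.node 35472560183118 .nil .nil) .nil))) (.node 4553644144804 (.node 7291234515109 (.node 12863197427944 (.node 25374654392198 .nil .nil) (.node 42000020350720 .nil .nil)) (.node 18699187431505 (.node 33342824687504 .nil .nil) .nil)) (.node 10041909925845 (.node 15750807849088 (.node 29291598612211 .nil .nil) (.node 51486882412036 .nil .nil)) (.node 21590083004527 (.node 37604390311760 .nil .nil) .nil)))) (.node 2547460614395 (.node 3872657688551 (.node 6606556698620 (.node 12169176688888 (.node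 24413489620826 .nil .nil) (.node 40900844467964 .nil .nil)) (.node 17946893347051 (.node 32313089480579 .nil .nil) (.node 63032609920340 .nil .nil))) (.node 9354329118707 (.node 14996521138317 (.node 28323671185310 .nil .nil) (.node 47710649193989 .nil .nil)) (.node 20896231069856 (.node 36511740987084 .nil .nil) .nil))) (.node 5234245552384 (.node 7978261723308 (.node 13555425175673 (.node 26343322531484 .nil .nil) (.node 43102619281033 .nil .nil)) (.node 19394432411631 (.node 34380246660747 .nil .nil) .nil)) (.node 10729272260603 (.node 16498638383105 (.node 30317960652707 .nil .nil) (.node 54925087098321 .nil .nil)) (.node 22421143971772 (.node 38703666988851 .nil .nil) .nil)))))) (.node 644150781982 (.node 986758576145 (.node 1672158091313 (.node 3036883863745 (.node 5722345146497 (.node 11222252390389 (.node 23177529353978 .nil .nil) (.node 39528065689403 .nil .nil)) (.node 17048427735035 (.node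 31072232867647 .nil .nil) (.node 57330822489479 .nil .nil))) (.node 8467263924416 (.node 14103101261857 (.node 27090730616613 .nil .nil) (.node 43926967793298 .nil .nil)) (.node 19941386090626 (.node 35201154586409 .nil .nil) .nil))) (.node 4405520263298 (.node 7092607527069 (.node 12663095445557 (.node 25108099917526 .nil .nil) (.node 41725226411768 .nil .nil)) (.node 18496716216556 (.node 33069173499703 .nil .nil) (.node 74029336298705 .nil .nil))) (.node 9842410870746 (.node 15545488267328 (.node 29022895388342 .nil .nil) (.node 50525497296442 .nil .nil)) (.node 21445936683120 (.node 37331055761148 .nil .nil) .nil)))) (.node 2351232915637 (.node 3719315306593 (.node 6408315226220 (.node 11968284305625 (.node 24139650922396 .nil .nil) (.node 40632711399094 .nil .nil)) (.node 17745199171599 (.node 32044757595779 .nil .nil) (.node 61246322427333 .nil .nil))) (.node 9154845976666 (.node 14851652536275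 (.node 28053457499913 .nil .nil) (.node 46947538888310 .nil .nil)) (.node 20695655819440 (.node 36295600776951 .nil .nil) .nil))) (.node 5035820976289 (.node 7780337899698 (.node 13409566590993 (.node 26128706254733 .nil .nil) (.node 42824569997058 .nil .nil)) (.node 19248641075331 (.node 34164559005454 .nil .nil) .nil)) (.node 10530444134372 (.node 16299910887369 (.node 30046925416273 .nil .nil) (.node 54100637939166 .nil .nil)) (.node 22210121353087 (.node 38428890744481 .nil .nil) .nil))))) (.node 1329030252609 (.node 2014882994286 (.node 3376238037034 (.node 6065238087769 (.node 11622003947740 (.node 23658447996707 .nil .nil) (.node 40083291150026 .nil .nil)) (.node 17399053461448 (.node 31557244483332 .nil .nil) (.node 59321724532170 .nil .nil))) (.node 8812221626412 (.node 14451949971459 (.node 27572152706877 .nil .nil) (.node 45305182168660 .nil .nil)) (.node 20346391767133 (.node 35748207871869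 .nil .nil) .nil))) (.node 4745812945115 (.node 7435970082967 (.node 13063435675816 (.node 25642270541675 .nil .nil) (.node 42274898188024 .nil .nil)) (.node 18845046093801 (.node 33617335748384 .nil .nil) .nil)) (.node 10186057459791 (.node 15948983199755 (.node 29561827981245 .nil .nil) (.node 52450330109518 .nil .nil)) (.node 21794949105827 (.node 37879034463918 .nil .nil) .nil)))) (.node 2694091819211 (.node 4062258411642 (.node 6748322461854 (.node 12314397173952 (.node 24626275071709 .nil .nil) (.node 41175503914833 .nil .nil)) (.node 18149280630874 (.node 32584931706787 .nil .nil) (.node 65231096255840 .nil .nil))) (.node 9498778830931 (.node 15198485326048 (.node 28534896183017 .nil .nil) (.node 48535232570889 .nil .nil)) (.node 21040746010800 (.node 36785965082241 .nil .nil) .nil))) (.node 5378630498399 (.node 8123549219015 (.node 13757927114811 (.node 26607227864983 .nil .nil) (.node 43377413039774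 .nil .nil)) (.node 19595995510796 (.node 34654335932057 .nil .nil) .nil)) (.node 10874007001216 (.node 16644699228103 (.node 30532878485147 .nil .nil) (.node 55745778869750 .nil .nil)) (.node 22691811854214 (.node 38978544957186 .nil .nil) .nil))))))))

/-- Part of `setKey`. -/
noncomputable def setKey_l_r_l_r_r : Arr ℕ :=
  (.node 216635447270 (.node 296056412407 (.node 437288048672 (.node 779492591682 (.node 1465496332424 (.node 2826633361465 (.node 5515498789018 (.node 11011312654311 (.node 22894128818075 .nil .nil) (.node 39184518858499 .nil .nil)) (.node 16782069696564 (.node 30735881656092 .nil .nil) (.node 56299962787317 .nil .nil))) (.node 8259899332749 (.node 13894006491347 (.node 26749045335878 .nil .nil) (.node 43583554680479 .nil .nil)) (.node 19733333997568 (.node 34857976260439 .nil .nil) .nil))) (.node 4196258642090 (.node 6883916408983 (.node 12451685173434 (.node 24826392774553 .nil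 .nil) (.node 41381629114112 .nil .nil)) (.node 18286702794847 (.node 32731667150471 .nil .nil) (.node 71281379198180 .nil .nil))) (.node 9635025377475 (.node 15335488022763 (.node 28738588559191 .nil .nil) (.node 49288982881835 .nil .nil)) (.node 21178118486123 (.node 36988531889932 .nil .nil) .nil)))) (.node 2150123022585 (.node 3512703924298 (.node 6202375084142 (.node 11758286079993 (.node 23863985674037 .nil .nil) (.node 40289482913486 .nil .nil)) (.node 17536440150154 (.node 31761054607159 .nil .nil) (.node 60075575686550 .nil .nil))) (.node 8947377813688 (.node 14585932073057 (.node 27774267725728 .nil .nil) (.node 45920923637262 .nil .nil)) (.node 20483864262738 (.node 35952070510326 .nil .nil) .nil))) (.node 4829327562838 (.node 7571916666919 (.node 13200639998114 (.node 25794103920270 .nil .nil) (.node 42480535013221 .nil .nil)) (.node 18982317299691 (.node 33821647431586 .nil .nil) .nil))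 (.node 10322136209602 (.node 16086355064840 (.node 29764399183670 .nil .nil) (.node 53136049292772 .nil .nil)) (.node 21932304873522 (.node 38085342725939 .nil .nil) .nil))))) (.node 1122503026737 (.node 1808422500509 (.node 3168653764653 (.node 5859045980288 (.node 11356166977682 (.node 23382864648083 .nil .nil) (.node 39739375224525 .nil .nil)) (.node 17185933785080 (.node 31221163660989 .nil .nil) (.node 58084824262108 .nil .nil))) (.node 8603630905473 (.node 14240623663260 (.node 27291302766515 .nil .nil) (.node 44340090381931 .nil .nil)) (.node 20078791080101 (.node 35404981642998 .nil .nil) .nil))) (.node 4486049155156 (.node 7228386412580 (.node 12798991026275 (.node 25306841819031 .nil .nil) (.node 41931248953189 .nil .nil)) (.node 18634004375777 (.node 33274155546509 .nil .nil) .nil)) (.node 9978790774964 (.node 15682878166987 (.node 29225042937608 .nil .nil) (.node 51277335709205 .nil .nil))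 (.node 21583342078051 (.node 37535722329773 .nil .nil) .nil)))) (.node 2487530793167 (.node 3855646967945 (.node 6540888705269 (.node 12105958160598 (.node 24344904443717 .nil .nil) (.node 40832089548651 .nil .nil)) (.node 17882453641230 (.node 32244892133126 .nil .nil) (.node 62482988356940 .nil .nil))) (.node 9291293534416 (.node 14988369893364 (.node 28255672944539 .nil .nil) (.node 47504373351942 .nil .nil)) (.node 20833028114516 (.node 36443256649402 .nil .nil) .nil))) (.node 5172555815032 (.node 7915363002425 (.node 13546636003511 (.node 26275609589400 .nil .nil) (.node 43033597798035 .nil .nil)) (.node 19386247768177 (.node 34313053480652 .nil .nil) .nil)) (.node 10665649703109 (.node 16437280929931 (.node 30250314327935 .nil .nil) (.node 54717788255619 .nil .nil)) (.node 22353078675384 (.node 38634881386150 .nil .nil) .nil)))))) (.node 629203269772 (.node 972616300620 (.node 1655969425625 (.node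 2975008504031 (.node 5713488521341 (.node 11210509826075 (.node 23107416151988 .nil .nil) (.node 39459313723045 .nil .nil)) (.node 16986718021788 (.node 31004517722038 .nil .nil) (.node 57123640243706 .nil .nil))) (.node 8455826258030 (.node 14094143809701 (.node 27022531147580 .nil .nil) (.node 43858483181196 .nil .nil)) (.node 19934075017334 (.node 35132418336554 .nil .nil) .nil))) (.node 4347385043123 (.node 7030817011724 (.node 12653451356114 (.node 25092883744625 .nil .nil) (.node 41656572348263 .nil .nil)) (.node 18432159348733 (.node 33002483693322 .nil .nil) (.node 73479865713860 .nil .nil))) (.node 9833922820077 (.node 15536766990350 (.node 29008669521710 .nil .nil) (.node 50251810375198 .nil .nil)) (.node 21382749956257 (.node 37262017435464 .nil .nil) .nil)))) (.node 2289055258859 (.node 3661431339206 (.node 6395013175520 (.node 11904195319888 (.node 24076133431004 .nil .nil) (.node 40564042348214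 .nil .nil)) (.node 17737064429656 (.node 31978050574024 .nil .nil) (.node 61039375938967 .nil .nil))) (.node 9145469114620 (.node 14788316715054 (.node 27985056589562 .nil .nil) (.node 46745104283194 .nil .nil)) (.node 20628362741859 (.node 36226864518904 .nil .nil) .nil))) (.node 5026829875400 (.node 7768799291495 (.node 13346497681592 (.node 26060389566343 .nil .nil) (.node 42755782043490 .nil .nil)) (.node 19184114989065 (.node 34096155944885 .nil .nil) .nil)) (.node 10522258204682 (.node 16232431253563 (.node 29978793371375 .nil .nil) (.node 53959441778120 .nil .nil)) (.node 22142106683252 (.node 38360136808199 .nil .nil) .nil))))) (.node 1315878705110 (.node 1998040541375 (.node 3318069115093 (.node 6056968693745 (.node 11559321569481 (.node 23589829101362 .nil .nil) (.node 40014487819980 .nil .nil)) (.node 17331055302598 (.node 31490487473952 .nil .nil) (.node 59048356402581 .nil .nil))) (.node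 8802979084454 (.node 14441147275204 (.node 27503835920137 .nil .nil) (.node 45161201796680 .nil .nil)) (.node 20283154921610 (.node 35679505168254 .nil .nil) .nil))) (.node 4684204980473 (.node 7374364051467 (.node 12999312377970 (.node 25579269609354 .nil .nil) (.node 42206195549937 .nil .nil)) (.node 18836726831263 (.node 33549421745938 .nil .nil) .nil)) (.node 10177117161633 (.node 15888298657737 (.node 29494385338203 .nil .nil) (.node 52243433805338 .nil .nil)) (.node 21727488411753 (.node 37810347652843 .nil .nil) .nil)))) (.node 2632115869921 (.node 4004525643958 (.node 6686733457410 (.node 12252289370115 (.node 24558327494358 .nil .nil) (.node 41106867173219 .nil .nil)) (.node 18084433160415 (.node 32516700505893 .nil .nil) (.node 64681474757960 .nil .nil))) (.node 9490274343079 (.node 15133591091337 (.node 28466428270326 .nil .nil) (.node 48327044118136 .nil .nil)) (.node 21033670539298 (.node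 36716473800337 .nil .nil) .nil))) (.node 5370025310251 (.node 8112312797285 (.node 13693904046149 (.node 26541241657197 .nil .nil) (.node 43308810929824 .nil .nil)) (.node 19531468748784 (.node 34585633236634 .nil .nil) .nil)) (.node 10865352460264 (.node 16636077340670 (.node 30465719031484 .nil .nil) (.node 55541364975055 .nil .nil)) (.node 22623746692977 (.node 38909775144711 .nil .nil) .nil))))))) (.node 366689278059 (.node 556256520425 (.node 898730305715 (.node 1536044496922 (.node 2900149758133 (.node 5585610270892 (.node 11135365785695 (.node 22971017086909 .nil .nil) (.node 39321991358213 .nil .nil)) (.node 16911022344185 (.node 30869110454072 .nil .nil) (.node 56711558206976 .nil .nil))) (.node 8331404273627 (.node 13965747283922 (.node 26885929052013 .nil .nil) (.node 43721111008927 .nil .nil)) (.node 19806279653350 (.node 34995012921132 .nil .nil) .nil))) (.node 4269171779665 (.node 6956275677322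 (.node 12524616050825 (.node 24962876688138 .nil .nil) (.node 41519168706298 .nil .nil)) (.node 18359159863530 (.node 32865547745092 .nil .nil) (.node 72380622324980 .nil .nil))) (.node 9708325652536 (.node 15408419903452 (.node 28873645713245 .nil .nil) (.node 49768660493902 .nil .nil)) (.node 21308514531434 (.node 37124612044610 .nil .nil) .nil)))) (.node 2221813102635 (.node 3591118346430 (.node 6272033392813 (.node 11830811805915 (.node 23993573382020 .nil .nil) (.node 40426837939920 .nil .nil)) (.node 17606669523026 (.node 31897669564341 .nil .nil) (.node 60557416900080 .nil .nil))) (.node 9018179586028 (.node 14714111981777 (.node 27848572307298 .nil .nil) (.node 46332820969024 .nil .nil)) (.node 20557914957992 (.node 36088903280568 .nil .nil) .nil))) (.node 4957222246400 (.node 7644728518790 (.node 13273803507927 (.node 25923353347962 .nil .nil) (.node 42617925080853 .nil .nil)) (.node 19111067908236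 (.node 33958985680804 .nil .nil) .nil)) (.node 10396578383877 (.node 16162236897232 (.node 29844912408205 .nil .nil) (.node 53547292616150 .nil .nil)) (.node 22002064205903 (.node 38222681007925 .nil .nil) .nil))))) (.node 1193604646932 (.node 1877863495772 (.node 3243008653515 (.node 5928117721217 (.node 11485068478650 (.node 23459034228434 .nil .nil) (.node 39876897953485 .nil .nil)) (.node 17261646559282 (.node 31356841346706 .nil .nil) (.node 58565961254339 .nil .nil))) (.node 8675453589551 (.node 14368216697076 (.node 27367319631588 .nil .nil) (.node 44749052634710 .nil .nil)) (.node 20208969615451 (.node 35541397096267 .nil .nil) .nil))) (.node 4614077278353 (.node 7301065205723 (.node 12926030268585 (.node 25443323361167 .nil .nil) (.node 42068723046143 .nil .nil)) (.node 18707221452814 (.node 33411560937359 .nil .nil) .nil)) (.node 10051251624092 (.node 15811577808905 (.node 29358188099302 .nil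 .nil) (.node 51761156109928 .nil .nil)) (.node 21657695111314 (.node 37673093015375 .nil .nil) .nil)))) (.node 2557357713599 (.node 3926044194849 (.node 6614608164900 (.node 12179744163926 (.node 24481755355038 .nil .nil) (.node 40969547171579 .nil .nil)) (.node 18011875211396 (.node 32380903184266 .nil .nil) (.node 63582231594305 .nil .nil))) (.node 9364493113475 (.node 15061148227632 (.node 28390613120930 .nil .nil) (.node 47914895070834 .nil .nil)) (.node 20903105771690 (.node 36579068393107 .nil .nil) .nil))) (.node 5295702939860 (.node 7988041504749 (.node 13619798694086 (.node 26411975046801 .nil .nil) (.node 43171305195147 .nil .nil)) (.node 19458825349105 (.node 34449050035850 .nil .nil) .nil)) (.node 10739470039081 (.node 16507327563718 (.node 30385608378184 .nil .nil) (.node 55129014568393 .nil .nil)) (.node 22489494411193 (.node 38772369684276 .nil .nil) .nil)))))) (.node 709095843959 (.node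 1051400251635 (.node 1728714848351 (.node 3097115785460 (.node 5783766526203 (.node 11283923687620 (.node 23246131001179 .nil .nil) (.node 39596768384828 .nil .nil)) (.node 17057148778548 (.node 31140683974457 .nil .nil) (.node 57603855025621 .nil .nil))) (.node 8529880111067 (.node 14167543314490 (.node 27156832389017 .nil .nil) (.node 43995653691028 .nil .nil)) (.node 20008864311394 (.node 35269169399645 .nil .nil) .nil))) (.node 4422362998765 (.node 7155758037217 (.node 12726262794309 (.node 25176299624145 .nil .nil) (.node 41793962661623 .nil .nil)) (.node 18561681299598 (.node 33137807124347 .nil .nil) (.node 74579108840660 .nil .nil))) (.node 9907287300305 (.node 15612681033874 (.node 29091698448068 .nil .nil) (.node 50732645148249 .nil .nil)) (.node 21452895688814 (.node 37399758464763 .nil .nil) .nil)))) (.node 2413779667091 (.node 3736326080471 (.node 6469436356647 (.node 12032794396840 (.node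 24207784187729 .nil .nil) (.node 40701414094517 .nil .nil)) (.node 17809605363945 (.node 32110505744202 .nil .nil) (.node 61519875282408 .nil .nil))) (.node 9218735499205 (.node 14861749209179 (.node 28121757615860 .nil .nil) (.node 47153747637875 .nil .nil)) (.node 20758775363738 (.node 36363445864362 .nil .nil) .nil))) (.node 5102846204075 (.node 7842751465703 (.node 13419832928247 (.node 26191992805220 .nil .nil) (.node 42893306246913 .nil .nil)) (.node 19257597695963 (.node 34230745736975 .nil .nil) .nil)) (.node 10594330851561 (.node 16361165883395 (.node 30114015975308 .nil .nil) (.node 54306829919708 .nil .nil)) (.node 22278538774411 (.node 38497593439919 .nil .nil) .nil))))) (.node 1394712074493 (.node 2072195020840 (.node 3392493746149 (.node 6126408595640 (.node 11632051742757 (.node 23726898898758 .nil .nil) (.node 40151993853641 .nil .nil)) (.node 17460878788595 (.node 31625492240263 .nil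 .nil) (.node 59529375634864 .nil .nil))) (.node 8875221944261 (.node 14513388488752 (.node 27640417617773 .nil .nil) (.node 45511223187027 .nil .nil)) (.node 20353434736673 (.node 35816124049218 .nil .nil) .nil))) (.node 4758997801094 (.node 7499120732365 (.node 13073030260831 (.node 25657872619160 .nil .nil) (.node 42343600891639 .nil .nil)) (.node 18909472208891 (.node 33685149681427 .nil .nil) .nil)) (.node 10250935928922 (.node 15957622233026 (.node 29630748911537 .nil .nil) (.node 52723664889450 .nil .nil)) (.node 21858236651598 (.node 37947737159332 .nil .nil) .nil)))) (.node 2755800062087 (.node 4078547924958 (.node 6811556690157 (.node 12377617197023 (.node 24689389889431 .nil .nil) (.node 41244240164690 .nil .nil)) (.node 18157432416252 (.node 32649912436565 .nil .nil) (.node 65780717888855 .nil .nil))) (.node 9562148358088 (.node 15262391605419 (.node 28602776844033 .nil .nil) (.node 48806956828251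 .nil .nil)) (.node 21108039764138 (.node 36854667777666 .nil .nil) .nil))) (.node 5441729603827 (.node 8187104471071 (.node 13820675066041 (.node 26675460913056 .nil .nil) (.node 43446098953888 .nil .nil)) (.node 19660790114415 (.node 34723407877775 .nil .nil) .nil)) (.node 10938449369172 (.node 16712026208204 (.node 30601246086788 .nil .nil) (.node 55951987619315 .nil .nil)) (.node 22759894091639 (.node 39047247660801 .nil .nil) .nil))))))))

/-- Part of `setKey`. -/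
noncomputable def setKey_l_r_l_r : Arr ℕ :=
  .node 94462154779 setKey_l_r_l_r_l setKey_l_r_l_r_r

/-- Part of `setKey`. -/
noncomputable def setKey_l_r_l : Arr ℕ :=
  .node 79447795791 setKey_l_r_l_l setKey_l_r_l_r

/-- Part of `setKey`. -/
noncomputable def setKey_l_r_r_l_l : Arr ℕ :=
  (.node 158533679349 (.node 228646692995 (.node 418817571050 (.node 761190701240 (.node 1398907582487 (.node 2763046410426 (.node 5448104241315 (.node 10946585831428 (.node 22765412308919 .nil .nil) (.node 39115145000752 .nil .nil)) (.node 16714642110492 (.node 30663838812041 .nil .nil) (.node 56090785334721 .nil .nil))) (.node 8194182567972 (.node 13828207405028 (.node 26680106588005 .nil .nil) (.node 43512034338493 .nil .nil)) (.node 19665755215859 (.node 34786942408504 .nil .nil) .nil))) (.node 4131514722408 (.node 6818197989561 (.node 12386003241041 (.node 24756936488682 .nil .nil) (.node 41312506906398 .nil .nil))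 (.node 18219040229483 (.node 32659372533574 .nil .nil) (.node 70594201232615 .nil .nil))) (.node 9567818016748 (.node 15268864751805 (.node 28668877666222 .nil .nil) (.node 49012662388312 .nil .nil)) (.node 21112688031690 (.node 36917933647685 .nil .nil) .nil)))) (.node 2084407679021 (.node 3453595453639 (.node 6134829312164 (.node 11692300982221 (.node 23794661320597 .nil .nil) (.node 40212825778085 .nil .nil)) (.node 17468643387511 (.node 31691779352512 .nil .nil) (.node 59733102278020 .nil .nil))) (.node 8880773179494 (.node 14575297562787 (.node 27703586076590 .nil .nil) (.node 45710823360080 .nil .nil)) (.node 20415731218670 (.node 35880415737590 .nil .nil) .nil))) (.node 4819816855550 (.node 7506450884738 (.node 13134353516497 (.node 25725434730132 .nil .nil) (.node 42411196675810 .nil .nil)) (.node 18914671130607 (.node 33694477682367 .nil .nil) .nil)) (.node 10258333067303 (.node 16018071001200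 (.node 29641286493895 .nil .nil) (.node 52863922316744 .nil .nil)) (.node 21864055093289 (.node 38015683790668 .nil .nil) .nil))))) (.node 1056216049686 (.node 1740458072158 (.node 3105770985676 (.node 5791182428194 (.node 11345364990122 (.node 23306143782800 .nil .nil) (.node 39663724652454 .nil .nil)) (.node 17117599426613 (.node 31149424744094 .nil .nil) (.node 57809124488610 .nil .nil))) (.node 8537377904623 (.node 14173799643249 (.node 27161278617326 .nil .nil) (.node 44067409876554 .nil .nil)) (.node 20012807448525 (.node 35334599538599 .nil .nil) .nil))) (.node 4476638316695 (.node 7163508807649 (.node 12785035782215 (.node 25237721073388 .nil .nil) (.node 41861725931280 .nil .nil)) (.node 18566526183644 (.node 33203859646381 .nil .nil) .nil)) (.node 9913510742157 (.node 15616170551313 (.node 29153723545340 .nil .nil) (.node 50937914971660 .nil .nil)) (.node 21514974476510 (.node 37466079176471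 .nil .nil) .nil)))) (.node 2420220614841 (.node 3788689123368 (.node 6477252688014 (.node 12040274004169 (.node 24276118202102 .nil .nil) (.node 40762700945174 .nil .nil)) (.node 17814874839036 (.node 32175216736037 .nil .nil) (.node 61795978012010 .nil .nil))) (.node 9224388319209 (.node 14923138623635 (.node 28186198701981 .nil .nil) (.node 47295883228745 .nil .nil)) (.node 20765113342124 (.node 36372205725318 .nil .nil) .nil))) (.node 5158163343575 (.node 7850535647205 (.node 13480615966952 (.node 26206018004621 .nil .nil) (.node 42961691633333 .nil .nil)) (.node 19318769743988 (.node 34241547769575 .nil .nil) .nil)) (.node 10601309448341 (.node 16369199126629 (.node 30179684751184 .nil .nil) (.node 54509063341520 .nil .nil)) (.node 22283839092670 (.node 38565423855278 .nil .nil) .nil)))))) (.node 572529117252 (.node 914028038399 (.node 1591276214326 (.node 2959777470710 (.node 5646361118972 (.node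 11144858200303 (.node 23035979511676 .nil .nil) (.node 39389687514851 .nil .nil)) (.node 16918770239589 (.node 30934877787965 .nil .nil) (.node 56850322888070 .nil .nil))) (.node 8392624732378 (.node 14027806546103 (.node 26953944278889 .nil .nil) (.node 43786878871221 .nil .nil)) (.node 19866109704410 (.node 35060780328715 .nil .nil) .nil))) (.node 4284387633116 (.node 7017597659376 (.node 12587531155690 (.node 24970308880087 .nil .nil) (.node 41587250480952 .nil .nil)) (.node 18364714596344 (.node 32930291918633 .nil .nil) (.node 72792687744200 .nil .nil))) (.node 9768256460743 (.node 15468315347020 (.node 28882554582674 .nil .nil) (.node 49974751831625 .nil .nil)) (.node 21314467219493 (.node 37190729598841 .nil .nil) .nil)))) (.node 2275904575591 (.node 3598803093472 (.node 6332114409528 (.node 11837152934042 (.node 24002379732891 .nil .nil) (.node 40487686825902 .nil .nil)) (.node 17669485729886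 (.node 31907100571266 .nil .nil) (.node 60697841563062 .nil .nil))) (.node 9079987271892 (.node 14721358211207 (.node 27915984967439 .nil .nil) (.node 46470461199934 .nil .nil)) (.node 20562797995980 (.node 36097394501279 .nil .nil) .nil))) (.node 4965189732499 (.node 7705631279325 (.node 13281486563395 (.node 25991384766349 .nil .nil) (.node 42686341187427 .nil .nil)) (.node 19116402046982 (.node 33967711602325 .nil .nil) .nil)) (.node 10457462487249 (.node 16165154764825 (.node 29907773671305 .nil .nil) (.node 53686308341140 .nil .nil)) (.node 22072816723829 (.node 38290713806504 .nil .nil) .nil))))) (.node 1257340614897 (.node 1934705547346 (.node 3251261970643 (.node 5988902545595 (.node 11492096526404 (.node 23520908424984 .nil .nil) (.node 39938065512379 .nil .nil)) (.node 17264330688541 (.node 31419738412808 .nil .nil) (.node 58772153214408 .nil .nil))) (.node 8736659015704 (.node 14375780247732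 (.node 27434879838059 .nil .nil) (.node 44890114709020 .nil .nil)) (.node 20215358081151 (.node 35607866996659 .nil .nil) .nil))) (.node 4622950754472 (.node 7361548183549 (.node 12932704606404 (.node 25504798041965 .nil .nil) (.node 42136469473062 .nil .nil)) (.node 18769282361501 (.node 33477966092198 .nil .nil) .nil)) (.node 10111971334084 (.node 15819862886503 (.node 29423787312981 .nil .nil) (.node 51901211674180 .nil .nil)) (.node 21662511114177 (.node 37741074376486 .nil .nil) .nil)))) (.node 2618495338633 (.node 3941628901346 (.node 6673967720430 (.node 12240496760847 (.node 24488366421722 .nil .nil) (.node 41037880809227 .nil .nil)) (.node 18016720247004 (.node 32447089944497 .nil .nil) (.node 63994464413030 .nil .nil))) (.node 9424960767944 (.node 15068966053877 (.node 28397423683311 .nil .nil) (.node 48053391148556 .nil .nil)) (.node 20965352831210 (.node 36643189921610 .nil .nil) .nil)))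 (.node 5304190011636 (.node 8048540846315 (.node 13681709779110 (.node 26469889550232 .nil .nil) (.node 43236636464832 .nil .nil)) (.node 19463286384603 (.node 34513624397595 .nil .nil) .nil)) (.node 10801043982417 (.node 16567826966562 (.node 30394953406091 .nil .nil) (.node 55266570933707 .nil .nil)) (.node 22554389673861 (.node 38840434849606 .nil .nil) .nil))))))) (.node 299228403737 (.node 491764635745 (.node 835160623195 (.node 1518530476250 (.node 2837502478565 (.node 5576049592443 (.node 11071879825398 (.node 22901693953958 .nil .nil) (.node 39252652037804 .nil .nil)) (.node 16842671163490 (.node 30800103626630 .nil .nil) (.node 56501609280995 .nil .nil))) (.node 8318420875370 (.node 13901909018619 (.node 26816993265439 .nil .nil) (.node 43648936552127 .nil .nil)) (.node 19737795344339 (.node 34923442030349 .nil .nil) .nil))) (.node 4210080053449 (.node 6891162630225 (.node 12513612822689 (.node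 24893955749680 .nil .nil) (.node 41449994737512 .nil .nil)) (.node 18291732003053 (.node 32795385866038 .nil .nil) (.node 71693444355320 .nil .nil))) (.node 9695191582970 (.node 15342600988758 (.node 28802561435435 .nil .nil) (.node 49494923253290 .nil .nil)) (.node 21240163727570 (.node 37053491902338 .nil .nil) .nil)))) (.node 2155526244370 (.node 3523891820730 (.node 6257607796955 (.node 11765666130007 (.node 23870931580631 .nil .nil) (.node 40350549882794 .nil .nil)) (.node 17538772379672 (.node 31771489662645 .nil .nil) (.node 60215027500427 .nil .nil))) (.node 9005447657630 (.node 14648729487589 (.node 27779334194973 .nil .nil) (.node 46060006159965 .nil .nil)) (.node 20490504177821 (.node 35962706712254 .nil .nil) .nil))) (.node 4889458010315 (.node 7580472121354 (.node 13207884732595 (.node 25854885320586 .nil .nil) (.node 42548583212911 .nil .nil)) (.node 19043724146756 (.node 33830239102615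 .nil .nil) .nil)) (.node 10383694629049 (.node 16094203848814 (.node 29773725079343 .nil .nil) (.node 53276272723394 .nil .nil)) (.node 21937036314569 (.node 38153022072654 .nil .nil) .nil))))) (.node 1178439682025 (.node 1860635154620 (.node 3180462414040 (.node 5919496194035 (.node 11418494867684 (.node 23388704175833 .nil .nil) (.node 39801046140838 .nil .nil)) (.node 17193280518094 (.node 31285922293587 .nil .nil) (.node 58290965935577 .nil .nil))) (.node 8661934368875 (.node 14302567602166 (.node 27298147030770 .nil .nil) (.node 44479558923856 .nil .nil)) (.node 20140920469730 (.node 35470528714673 .nil .nil) .nil))) (.node 4546665371898 (.node 7235717523464 (.node 12860213065749 (.node 25374402877315 .nil .nil) (.node 41999213729636 .nil .nil)) (.node 18639441594358 (.node 33340459788214 .nil .nil) .nil)) (.node 10039611136169 (.node 15743142979683 (.node 29288277243738 .nil .nil) (.node 51418213262853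 .nil .nil)) (.node 21589613316167 (.node 37603417474833 .nil .nil) .nil)))) (.node 2494341486816 (.node 3866835044535 (.node 6547011815585 (.node 12112970594340 (.node 24405856700285 .nil .nil) (.node 40900106368788 .nil .nil)) (.node 17944229492786 (.node 32310978172714 .nil .nil) (.node 62895221138810 .nil .nil))) (.node 9352818636961 (.node 14995463100600 (.node 28260184471398 .nil .nil) (.node 47703369299555 .nil .nil)) (.node 20837977720779 (.node 36508652840710 .nil .nil) .nil))) (.node 5232602794067 (.node 7924220471306 (.node 13553781614634 (.node 26335787358070 .nil .nil) (.node 43099700876982 .nil .nil)) (.node 19391145687039 (.node 34376151881501 .nil .nil) .nil)) (.node 10727040542887 (.node 16439898441758 (.node 30314020738880 .nil .nil) (.node 54857189496235 .nil .nil)) (.node 22420137535408 (.node 38702895257412 .nil .nil) .nil)))))) (.node 642087168072 (.node 985097619511 (.node 1671033972881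 (.node 3031516780598 (.node 5721858848842 (.node 11218359191679 (.node 23177192699804 .nil .nil) (.node 39527025796837 .nil .nil)) (.node 16989419407377 (.node 31015022036672 .nil .nil) (.node 57326125692350 .nil .nil))) (.node 8464934307890 (.node 14100851771582 (.node 27087643428754 .nil .nil) (.node 43923747526326 .nil .nil)) (.node 19940983601258 (.node 35198904964993 .nil .nil) .nil))) (.node 4354448959464 (.node 7090627619031 (.node 12661066622949 (.node 25101404739488 .nil .nil) (.node 41724738049902 .nil .nil)) (.node 18494085884034 (.node 33067345266480 .nil .nil) (.node 73891930875095 .nil .nil))) (.node 9840965478606 (.node 15544281765838 (.node 29018213525263 .nil .nil) (.node 50457096500795 .nil .nil)) (.node 21387834185674 (.node 37328051021708 .nil .nil) .nil)))) (.node 2350024808653 (.node 3718241630316 (.node 6403483281654 (.node 11965886527701 (.node 24138880640738 .nil .nil) (.node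 40624723298210 .nil .nil)) (.node 17741808892116 (.node 32038901339968 .nil .nil) (.node 61178190009791 .nil .nil))) (.node 9152933836922 (.node 14849873713323 (.node 28052937467665 .nil .nil) (.node 46883599914575 .nil .nil)) (.node 20690542115030 (.node 36235940837002 .nil .nil) .nil))) (.node 5035217729608 (.node 7778191145194 (.node 13407738251240 (.node 26069786932872 .nil .nil) (.node 42823747934004 .nil .nil)) (.node 19189180045279 (.node 34105905616517 .nil .nil) .nil)) (.node 10528445946034 (.node 16292932487209 (.node 30043367380880 .nil .nil) (.node 54096914277830 .nil .nil)) (.node 22207101847445 (.node 38428084496203 .nil .nil) .nil))))) (.node 1327923341399 (.node 2012633647355 (.node 3375315241115 (.node 6064818120878 (.node 11619504842995 (.node 23657541089183 .nil .nil) (.node 40075756185514 .nil .nil)) (.node 17392343484451 (.node 31554980083506 .nil .nil) (.node 59253055374795 .nil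 .nil))) (.node 8809722243205 (.node 14447184783493 (.node 27569098950547 .nil .nil) (.node 45298674296390 .nil .nil)) (.node 20288238970825 (.node 35745626941177 .nil .nil) .nil))) (.node 4692089976955 (.node 7433470810271 (.node 13005568739458 (.node 25589220570759 .nil .nil) (.node 42273957074794 .nil .nil)) (.node 18841927075829 (.node 33614685800211 .nil .nil) .nil)) (.node 10183893719152 (.node 15890578704406 (.node 29558291142440 .nil .nil) (.node 52382717765169 .nil .nil)) (.node 21789785241830 (.node 37878480946864 .nil .nil) .nil)))) (.node 2688791779446 (.node 4058853275810 (.node 6746511014038 (.node 12313441650916 (.node 24619832735531 .nil .nil) (.node 41175219058445 .nil .nil)) (.node 18089618540544 (.node 32526632220364 .nil .nil) (.node 65093707572590 .nil .nil))) (.node 9497083254967 (.node 15195367151616 (.node 28533923215124 .nil .nil) (.node 48527885710910 .nil .nil)) (.node 21039856998571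 (.node 36781400581877 .nil .nil) .nil))) (.node 5378093467791 (.node 8121403979840 (.node 13755058567309 (.node 26603873167295 .nil .nil) (.node 43374612158142 .nil .nil)) (.node 19592741746735 (.node 34650862065433 .nil .nil) .nil)) (.node 10871891957960 (.node 16643892398187 (.node 30528113071848 .nil .nil) (.node 55678434911687 .nil .nil)) (.node 22690654390153 (.node 38977840240452 .nil .nil) .nil))))))))

/-- Part of `setKey`. -/
noncomputable def setKey_l_r_r_l_r : Arr ℕ :=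
  (.node 211300706495 (.node 285488535706 (.node 435593570347 (.node 778452740186 (.node 1463414712576 (.node 2825693882427 (.node 5515095935137 (.node 11008292620389 (.node 22833444050875 .nil .nil) (.node 39183847704367 .nil .nil)) (.node 16781383546817 (.node 30731568740226 .nil .nil) (.node 56295400531430 .nil .nil))) (.node 8258591217795 (.node 13891776960454 (.node 26748523710317 .nil .nil) (.node 43580653176511 .nil .nil)) (.node 19730381949027 (.node 34855274313588 .nil .nil) .nil))) (.node 4148592580566 (.node 6880964990948 (.node 12450445543546 (.node 24825387222843 .nil .nil) (.node 41381243156253 .nil .nil)) (.node 18227107829757 (.node 32727438063372 .nil .nil) (.node 71143906698470 .nil .nil))) (.node 9631620888799 (.node 15332922960063 (.node 28736408061786 .nil .nil) (.node 49220213077550 .nil .nil)) (.node 21177380247692 (.node 36985846290289 .nil .nil) .nil)))) (.node 2141031696497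 (.node 3509231655080 (.node 6195663935744 (.node 11703204681724 (.node 23856033781640 .nil .nil) (.node 40281562027942 .nil .nil)) (.node 17529782413349 (.node 31756777383755 .nil .nil) (.node 60007677867512 .nil .nil))) (.node 8945600362710 (.node 14583952820353 (.node 27710831552353 .nil .nil) (.node 45853797410398 .nil .nil)) (.node 20425392654283 (.node 35895111091895 .nil .nil) .nil))) (.node 4828438022311 (.node 7569434265550 (.node 13143276136508 (.node 25786652731250 .nil .nil) (.node 42479899379425 .nil .nil)) (.node 18979231614975 (.node 33762995635918 .nil .nil) .nil)) (.node 10320695314535 (.node 16027749341208 (.node 29708043499163 .nil .nil) (.node 53068554368411 .nil .nil)) (.node 21927224240345 (.node 38084420040523 .nil .nil) .nil))))) (.node 1121412372634 (.node 1806509021432 (.node 3168284645460 (.node 5853778143477 (.node 11354792691689 (.node 23320555005662 .nil .nil) (.node 39732427347877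 .nil .nil)) (.node 17126925330452 (.node 31217974851306 .nil .nil) (.node 58016155121117 .nil .nil))) (.node 8601483753610 (.node 14239064070196 (.node 27229644253027 .nil .nil) (.node 44272310347285 .nil .nil)) (.node 20078354983079 (.node 35402063095550 .nil .nil) .nil))) (.node 4485830776980 (.node 7225954248654 (.node 12796575684676 (.node 25306305931087 .nil .nil) (.node 41930462181135 .nil .nil)) (.node 18631474530395 (.node 33271690033079 .nil .nil) .nil)) (.node 9977181833316 (.node 15681685756001 (.node 29220816246498 .nil .nil) (.node 51211853178495 .nil .nil)) (.node 21525105706946 (.node 37534781871896 .nil .nil) .nil)))) (.node 2482733996177 (.node 3804777363411 (.node 6538826098865 (.node 12103677974726 (.node 24344282855325 .nil .nil) (.node 40831403648789 .nil .nil)) (.node 17879381768409 (.node 32242829010715 .nil .nil) (.node 62345599640930 .nil .nil))) (.node 9289383209035 (.node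 14984595777575 (.node 28253207705510 .nil .nil) (.node 47497160549990 .nil .nil)) (.node 20827980982505 (.node 36438691968831 .nil .nil) .nil))) (.node 5172287281304 (.node 7913014953931 (.node 13544555800739 (.node 26274670147227 .nil .nil) (.node 43030444656311 .nil .nil)) (.node 19326216611799 (.node 34308824270686 .nil .nil) .nil)) (.node 10664242350185 (.node 16430371416111 (.node 30247867488080 .nil .nil) (.node 54651014297005 .nil .nil)) (.node 22352072099774 (.node 38634126558884 .nil .nil) .nil)))))) (.node 628818069485 (.node 968707573985 (.node 1606139521046 (.node 2969842047155 (.node 5707986229460 (.node 11208278599688 (.node 23104162576243 .nil .nil) (.node 39458390210276 .nil .nil)) (.node 16980110092392 (.node 31001047725890 .nil .nil) (.node 57056464549252 .nil .nil))) (.node 8401716164734 (.node 14036478109809 (.node 27019494074266 .nil .nil) (.node 43855564785335 .nil .nil)) (.node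 19875334965198 (.node 35130168715138 .nil .nil) .nil))) (.node 4338226812975 (.node 7026388662230 (.node 12650867439785 (.node 25037769905886 .nil .nil) (.node 41655986730807 .nil .nil)) (.node 18428919662809 (.node 32998472685441 .nil .nil) (.node 73342393214150 .nil .nil))) (.node 9779596249073 (.node 15478698068000 (.node 28950888146582 .nil .nil) (.node 50182922896993 .nil .nil)) (.node 21377602562285 (.node 37259432294266 .nil .nil) .nil)))) (.node 2287981770978 (.node 3660139808951 (.node 6341457954859 (.node 11902348585158 (.node 24070295267069 .nil .nil) (.node 40556389521325 .nil .nil)) (.node 17677419255799 (.node 31973603862260 .nil .nil) (.node 60970639689112 .nil .nil))) (.node 9090017957945 (.node 14785916791018 (.node 27984452659024 .nil .nil) (.node 46679353792032 .nil .nil)) (.node 20627976435883 (.node 36166097196704 .nil .nil) .nil))) (.node 5026327160971 (.node 7714655651939 (.node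 13344452094163 (.node 26054587397990 .nil .nil) (.node 42755043882852 .nil .nil)) (.node 19180659751041 (.node 34037169366662 .nil .nil) .nil)) (.node 10516907108495 (.node 16231743457388 (.node 29975270774598 .nil .nil) (.node 53892751914385 .nil .nil)) (.node 22140865144708 (.node 38359416501930 .nil .nil) .nil))))) (.node 1311013595315 (.node 1948227160092 (.node 3312298547391 (.node 5997826435240 (.node 11556505266283 (.node 23589542963091 .nil .nil) (.node 40006768215996 .nil .nil)) (.node 17330684786721 (.node 31487300441920 .nil .nil) (.node 58979015927279 .nil .nil))) (.node 8747411748862 (.node 14438463092722 (.node 27503198099283 .nil .nil) (.node 45096826660377 .nil .nil)) (.node 20278359435485 (.node 35676924237562 .nil .nil) .nil))) (.node 4682863876215 (.node 7369868634071 (.node 12996343355572 (.node 25520567969425 .nil .nil) (.node 42205205722917 .nil .nil)) (.node 18777433692132 (.node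 33546668795813 .nil .nil) .nil)) (.node 10121566148620 (.node 15880581924965 (.node 29491682863034 .nil .nil) (.node 52174731109913 .nil .nil)) (.node 21727118727329 (.node 37809810626341 .nil .nil) .nil)))) (.node 2631042181353 (.node 4003233925306 (.node 6682840299660 (.node 12249034926047 (.node 24552185825176 .nil .nil) (.node 41106583512844 .nil .nil)) (.node 18081651595374 (.node 32512507053905 .nil .nil) (.node 64544085943670 .nil .nil))) (.node 9435277547516 (.node 15131325143231 (.node 28465371420423 .nil .nil) (.node 48259432166923 .nil .nil)) (.node 20975282673609 (.node 36711892625225 .nil .nil) .nil))) (.node 5369673304055 (.node 8059007891536 (.node 13691204708318 (.node 26537988413343 .nil .nil) (.node 43305255302846 .nil .nil)) (.node 19527779538936 (.node 34582125815578 .nil .nil) .nil)) (.node 10860420614285 (.node 16577236752405 (.node 30461758478119 .nil .nil) (.node 55475446805906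 .nil .nil)) (.node 22622622685060 (.node 38909137553221 .nil .nil) .nil))))))) (.node 364725397754 (.node 506443569181 (.node 848950581266 (.node 1534685607991 (.node 2899545757887 (.node 5584956442776 (.node 11081943615532 (.node 22970010724277 .nil .nil) (.node 39321354741414 .nil .nil)) (.node 16851946842144 (.node 30867364231075 .nil .nil) (.node 56707549595120 .nil .nil))) (.node 8329875597492 (.node 13964236515378 (.node 26885526415215 .nil .nil) (.node 43717555390141 .nil .nil)) (.node 19802925627386 (.node 34992077625100 .nil .nil) .nil))) (.node 4268014213222 (.node 6954430548128 (.node 12523408631895 (.node 24955478329205 .nil .nil) (.node 41518697441127 .nil .nil)) (.node 18356462463031 (.node 32862612592405 .nil .nil) (.node 72243149825270 .nil .nil))) (.node 9704686495726 (.node 15406708135974 (.node 28816720193207 .nil .nil) (.node 49703027402260 .nil .nil)) (.node 21250428811209 (.node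 37122026887036 .nil .nil) .nil)))) (.node 2220756346996 (.node 3581926684760 (.node 6271128090739 (.node 11828414023895 (.node 23938895714016 .nil .nil) (.node 40419252586409 .nil .nil)) (.node 17606115887217 (.node 31839974139589 .nil .nil) (.node 60488882197903 .nil .nil))) (.node 9017105111162 (.node 14712702937262 (.node 27847584073472 .nil .nil) (.node 46267271869978 .nil .nil)) (.node 20553170282705 (.node 36028826007198 .nil .nil) .nil))) (.node 4898080634955 (.node 7642162059414 (.node 13271289145303 (.node 25923152144245 .nil .nil) (.node 42617319462768 .nil .nil)) (.node 19051942369258 (.node 33899008898710 .nil .nil) .nil)) (.node 10393156134878 (.node 16155509979242 (.node 29840817686253 .nil .nil) (.node 53480468600215 .nil .nil)) (.node 22001393375279 (.node 38221758322509 .nil .nil) .nil))))) (.node 1191557752903 (.node 1877427595315 (.node 3238245615651 (.node 5927849420905 (.node 11483038591151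 (.node 23452340029187 .nil .nil) (.node 39869782390693 .nil .nil)) (.node 17255038371891 (.node 31352344016682 .nil .nil) (.node 58497845466598 .nil .nil))) (.node 8673304967357 (.node 14311506909259 (.node 27366363420431 .nil .nil) (.node 44684476253727 .nil .nil)) (.node 20150833530826 (.node 35539130746804 .nil .nil) .nil))) (.node 4608273340640 (.node 7298195675285 (.node 12870043248655 (.node 25442250073993 .nil .nil) (.node 42067916433251 .nil .nil)) (.node 18703831214289 (.node 33409162483637 .nil .nil) .nil)) (.node 10049440381046 (.node 15753106204699 (.node 29355619231680 .nil .nil) (.node 51694198228481 .nil .nil)) (.node 21652413409505 (.node 37672120170258 .nil .nil) .nil)))) (.node 2556753737931 (.node 3924869842989 (.node 6614356375619 (.node 12176322455630 (.node 24420972484308 .nil .nil) (.node 40968809072403 .nil .nil)) (.node 17952414558197 (.node 32379125389226 .nil .nil) (.node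 63444842767730 .nil .nil))) (.node 9360971896808 (.node 15058766743577 (.node 28328486119181 .nil .nil) (.node 47909309613680 .nil .nil)) (.node 20902636804148 (.node 36574420125519 .nil .nil) .nil))) (.node 5241409575009 (.node 7985256257673 (.node 13618088466662 (.node 26403634554752 .nil .nil) (.node 43168386791096 .nil .nil)) (.node 19455638317111 (.node 34444888147740 .nil .nil) .nil)) (.node 10735360391240 (.node 16506555955139 (.node 30328346908368 .nil .nil) (.node 55063364769176 .nil .nil)) (.node 22486290966386 (.node 38771597961027 .nil .nil) .nil)))))) (.node 707752597746 (.node 1041520511019 (.node 1728061327325 (.node 3044399003865 (.node 5782358734884 (.node 11281089476834 (.node 23245190821780 .nil .nil) (.node 39595728492262 .nil .nil)) (.node 17056175679587 (.node 31081024022169 .nil .nil) (.node 57535152322006 .nil .nil))) (.node 8527849732270 (.node 14165346162869 (.node 27153763166135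 .nil .nil) (.node 43992500549304 .nil .nil)) (.node 20003548604645 (.node 35266452072271 .nil .nil) .nil))) (.node 4416674621641 (.node 7153812388003 (.node 12724216432715 (.node 25169503537048 .nil .nil) (.node 41793440753517 .nil .nil)) (.node 18502119966713 (.node 33135544805149 .nil .nil) (.node 74441636340950 .nil .nil))) (.node 9903865993440 (.node 15605754275918 (.node 29087419221813 .nil .nil) (.node 50727445710365 .nil .nil)) (.node 21451938904236 (.node 37396787271563 .nil .nil) .nil)))) (.node 2409921022205 (.node 3734698612718 (.node 6469151307770 (.node 11974457677978 (.node 24207230871329 .nil .nil) (.node 40693425993633 .nil .nil)) (.node 17806874343559 (.node 32107014948738 .nil .nil) (.node 61451592037787 .nil .nil))) (.node 9216621901792 (.node 14858746861629 (.node 28118334662556 .nil .nil) (.node 47089322276403 .nil .nil)) (.node 20700505221068 (.node 36304643540617 .nil .nil) .nil)))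 (.node 5096907270399 (.node 7840940152996 (.node 13416410851284 (.node 26138422384272 .nil .nil) (.node 42892450637619 .nil .nil)) (.node 19253975087118 (.node 34173148653215 .nil .nil) .nil)) (.node 10591514728408 (.node 16302493050899 (.node 30111701350324 .nil .nil) (.node 54303123027395 .nil .nil)) (.node 22215522322355 (.node 38496787191628 .nil .nil) .nil))))) (.node 1384933038198 (.node 2068152109265 (.node 3391957120984 (.node 6125822015594 (.node 11629234636775 (.node 23726681044767 .nil .nil) (.node 40144492435369 .nil .nil)) (.node 17401299929113 (.node 31623244502971 .nil .nil) (.node 59525685687710 .nil .nil))) (.node 8872335886528 (.node 14511728011304 (.node 27636862351263 .nil .nil) (.node 45504883045955 .nil .nil)) (.node 20352863705250 (.node 35813723338686 .nil .nil) .nil))) (.node 4754451097843 (.node 7496503613693 (.node 13070244214978 (.node 25656799016604 .nil .nil) (.node 42342659778409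 .nil .nil)) (.node 18906587097237 (.node 33680855738135 .nil .nil) .nil)) (.node 10247716050908 (.node 15957402478689 (.node 29572802156213 .nil .nil) (.node 52655364888084 .nil .nil)) (.node 21799630890954 (.node 37947217196706 .nil .nil) .nil)))) (.node 2701137434836 (.node 4073563646151 (.node 6806961404030 (.node 12376207399088 (.node 24688350992141 .nil .nil) (.node 41243921762062 .nil .nil)) (.node 18154175621360 (.node 32593825392275 .nil .nil) (.node 65643329103230 .nil .nil))) (.node 9560570800333 (.node 15204457613418 (.node 28602525267746 .nil .nil) (.node 48738254124636 .nil .nil)) (.node 21102791862485 (.node 36850103277302 .nil .nil) .nil))) (.node 5439113193665 (.node 8184806180873 (.node 13818477611254 (.node 26611623487243 .nil .nil) (.node 43443230996160 .nil .nil)) (.node 19600557537241 (.node 34719313176343 .nil .nil) .nil)) (.node 10935698966558 (.node 16705265911848 (.node 30596547049306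 .nil .nil) (.node 55884207560126 .nil .nil)) (.node 22756723451795 (.node 39046542944067 .nil .nil) .nil))))))))

/-- Part of `setKey`. -/
noncomputable def setKey_l_r_r_l : Arr ℕ :=
  .node 92264351838 setKey_l_r_r_l_l setKey_l_r_r_l_r

/-- Part of `setKey`. -/
noncomputable def setKey_l_r_r_r_l : Arr ℕ :=
  (.node 160681977925 (.node 231867578390 (.node 431918201087 (.node 766658975886 (.node 1453250578385 (.node 2769621903579 (.node 5507464239149 (.node 11003730929622 (.node 22829234362227 .nil .nil) (.node 39121201735382 .nil .nil)) (.node 16774002161703 (.node 30671894234809 .nil .nil) (.node 56163077612943 .nil .nil))) (.node 8253223450797 (.node 13884815779895 (.node 26744498898840 .nil .nil) (.node 43516026340999 .nil .nil)) (.node 19669243402203 (.node 34794727159480 .nil .nil) .nil))) (.node 4141813754033 (.node 6824507598857 (.node 12444910127266 (.node 24763613370077 .nil .nil) (.node 41316483262116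 .nil .nil)) (.node 18222995753198 (.node 32721867200434 .nil .nil) (.node 70869012047075 .nil .nil))) (.node 9627495405743 (.node 15273160308841 (.node 28675337283379 .nil .nil) (.node 49083948467713 .nil .nil)) (.node 21171494557910 (.node 36980195739365 .nil .nil) .nil)))) (.node 2135445948605 (.node 3460407785456 (.node 6194172758015 (.node 11697298888789 (.node 23795719440097 .nil .nil) (.node 40221552121530 .nil .nil)) (.node 17470002624538 (.node 31695505311524 .nil .nil) (.node 59871816021378 .nil .nil))) (.node 8940468230320 (.node 14580026775784 (.node 27709558130491 .nil .nil) (.node 45783971104272 .nil .nil)) (.node 20421801474206 (.node 35885883750138 .nil .nil) .nil))) (.node 4822499309818 (.node 7562691135605 (.node 13139182037172 (.node 25779743037290 .nil .nil) (.node 42415692732078 .nil .nil)) (.node 18975205918867 (.node 33754808239902 .nil .nil) .nil)) (.node 10316065642678 (.node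 16025501145197 (.node 29700560525152 .nil .nil) (.node 52997670987230 .nil .nil)) (.node 21868367140810 (.node 38022545794773 .nil .nil) .nil))))) (.node 1110038452302 (.node 1793676753110 (.node 3112782887138 (.node 5850927396996 (.node 11349792172259 (.node 23314917607252 .nil .nil) (.node 39671981065922 .nil .nil)) (.node 17124577822670 (.node 31210659329975 .nil .nil) (.node 57879168898552 .nil .nil))) (.node 8595613026553 (.node 14233864906741 (.node 27228203099939 .nil .nil) (.node 44199431005790 .nil .nil)) (.node 20072251300070 (.node 35340069455653 .nil .nil) .nil))) (.node 4478717487357 (.node 7219177629815 (.node 12791879628747 (.node 25245438199510 .nil .nil) (.node 41865987409579 .nil .nil)) (.node 18570822662138 (.node 33210403366653 .nil .nil) .nil)) (.node 9972065421544 (.node 15674490525773 (.node 29214777657125 .nil .nil) (.node 51074163000842 .nil .nil)) (.node 21520910612552 (.node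 37473259816663 .nil .nil) .nil)))) (.node 2426661959914 (.node 3798836771010 (.node 6532418582750 (.node 12044267898915 (.node 24277207283616 .nil .nil) (.node 40767482287788 .nil .nil)) (.node 17875577047176 (.node 32181609236114 .nil .nil) (.node 62070788973890 .nil .nil))) (.node 9284317984749 (.node 14927365781556 (.node 28190661326655 .nil .nil) (.node 47366246299258 .nil .nil)) (.node 20769207916492 (.node 36433090074351 .nil .nil) .nil))) (.node 5164302375110 (.node 7906204702820 (.node 13485011810351 (.node 26266061617026 .nil .nil) (.node 42966153168518 .nil .nil)) (.node 19322493499381 (.node 34302348126120 .nil .nil) .nil)) (.node 10659311507429 (.node 16371195746324 (.node 30185941268265 .nil .nil) (.node 54579560965505 .nil .nil)) (.node 22347594004344 (.node 38571982816982 .nil .nil) .nil)))))) (.node 574626363409 (.node 916981975082 (.node 1602968832130 (.node 2963938093111 (.node 5653239937127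 (.node 11149723580539 (.node 23040105772969 .nil .nil) (.node 39395844937426 .nil .nil)) (.node 16920649537567 (.node 30940060702512 .nil .nil) (.node 56983719196078 .nil .nil))) (.node 8397438929027 (.node 14032149043391 (.node 26954918983401 .nil .nil) (.node 43790618941073 .nil .nil)) (.node 19872280905833 (.node 35068296963713 .nil .nil) .nil))) (.node 4333664057510 (.node 7022076991535 (.node 12592330364902 (.node 25032031168406 .nil .nil) (.node 41591243679407 .nil .nil)) (.node 18425165158456 (.node 32938479376078 .nil .nil) (.node 73067498558660 .nil .nil))) (.node 9773103192183 (.node 15475579070414 (.node 28944797333332 .nil .nil) (.node 50112878487111 .nil .nil)) (.node 21319131514825 (.node 37198030235274 .nil .nil) .nil)))) (.node 2281943021761 (.node 3650058987647 (.node 6339713423459 (.node 11897150281942 (.node 24069488871322 .nil .nil) (.node 40496681506498 .nil .nil)) (.node 17673072642259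 (.node 31967431132971 .nil .nil) (.node 60832529630700 .nil .nil))) (.node 9085303208121 (.node 14781171017900 (.node 27978396882860 .nil .nil) (.node 46604126008955 .nil .nil)) (.node 20621872978130 (.node 36159671105347 .nil .nil) .nil))) (.node 4966665836635 (.node 7710478973075 (.node 13339873597637 (.node 26000043988631 .nil .nil) (.node 42690084112047 .nil .nil)) (.node 19120628250604 (.node 34030036490102 .nil .nil) .nil)) (.node 10461790787700 (.node 16224246237289 (.node 29915728336578 .nil .nil) (.node 53756621170123 .nil .nil)) (.node 22077144262563 (.node 38296852981471 .nil .nil) .nil))))) (.node 1259656538215 (.node 1945894983835 (.node 3306528847961 (.node 5996384458832 (.node 11551741286576 (.node 23581088790410 .nil .nil) (.node 39946624034491 .nil .nil)) (.node 17323741067316 (.node 31427774768832 .nil .nil) (.node 58908803839410 .nil .nil))) (.node 8741254346884 (.node 14380830349406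 (.node 27436189755177 .nil .nil) (.node 44961065014845 .nil .nil)) (.node 20219569780682 (.node 35612582659809 .nil .nil) .nil))) (.node 4623521523829 (.node 7365875689506 (.node 12936966674561 (.node 25511975896957 .nil .nil) (.node 42140747859625 .nil .nil)) (.node 18773274490884 (.node 33482211698442 .nil .nil) .nil)) (.node 10115893954755 (.node 15821808900124 (.node 29428836161360 .nil .nil) (.node 52036604302948 .nil .nil)) (.node 21721116104930 (.node 37746459915998 .nil .nil) .nil)))) (.node 2624399521997 (.node 3993035577488 (.node 6678546737195 (.node 12244220016765 (.node 24550727673598 .nil .nil) (.node 41041873667752 .nil .nil)) (.node 18021150808054 (.node 32451184654138 .nil .nil) (.node 64269275276630 .nil .nil))) (.node 9429556160630 (.node 15126731565053 (.node 28460841588628 .nil .nil) (.node 48188431349284 .nil .nil)) (.node 20971154303148 (.node 36707498325740 .nil .nil) .nil)))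 (.node 5309759981679 (.node 8053673810058 (.node 13686355871886 (.node 26473847514983 .nil .nil) (.node 43241098045066 .nil .nil)) (.node 19524324247601 (.node 34577144235787 .nil .nil) .nil)) (.node 10804030425071 (.node 16575189694572 (.node 30455265159096 .nil .nil) (.node 55402365990395 .nil .nil)) (.node 22558532863907 (.node 38846625986258 .nil .nil) .nil))))))) (.node 354007320545 (.node 504094668909 (.node 846568343665 (.node 1531815786742 (.node 2893641644108 (.node 5578967279858 (.node 11077530212558 (.node 22965716760460 .nil .nil) (.node 39258590324440 .nil .nil)) (.node 16850067535974 (.node 30807035410057 .nil .nil) (.node 56575293834633 .nil .nil))) (.node 8325046822857 (.node 13959288645655 (.node 26878818174905 .nil .nil) (.node 43653398124169 .nil .nil)) (.node 19799067863141 (.node 34930824480387 .nil .nil) .nil))) (.node 4215936370668 (.node 6949499140302 (.node 12519148238969 (.node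 24895700342528 .nil .nil) (.node 41453955729059 .nil .nil)) (.node 18295810533374 (.node 32856020539220 .nil .nil) (.node 71968255169780 .nil .nil))) (.node 9700256418022 (.node 15401659209920 (.node 28808264541933 .nil .nil) (.node 49627665712685 .nil .nil)) (.node 21245764515878 (.node 37061647754955 .nil .nil) .nil)))) (.node 2209617205282 (.node 3530368939985 (.node 6263881095350 (.node 11772175931384 (.node 23932789024569 .nil .nil) (.node 40358907131582 .nil .nil)) (.node 17598485108774 (.node 31831399335794 .nil .nil) (.node 60352432891277 .nil .nil))) (.node 9012560279494 (.node 14652655507592 (.node 27844245211038 .nil .nil) (.node 46196321510922 .nil .nil)) (.node 20494095349707 (.node 36022265681733 .nil .nil) .nil))) (.node 4896537319580 (.node 7637231323161 (.node 13211978831931 (.node 25863813158539 .nil .nil) (.node 42553098155693 .nil .nil)) (.node 19047716022285 (.node 33891825919865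 .nil .nil) .nil)) (.node 10388927301865 (.node 16096452044823 (.node 29835651315530 .nil .nil) (.node 53409820116440 .nil .nil)) (.node 21995926935770 (.node 38159917491929 .nil .nil) .nil))))) (.node 1189174642933 (.node 1866170587225 (.node 3234588289265 (.node 5921775819006 (.node 11423495387114 (.node 23450779871050 .nil .nil) (.node 39809503864508 .nil .nil)) (.node 17195628025875 (.node 31347161085755 .nil .nil) (.node 58425905694125 .nil .nil))) (.node 8668811802570 (.node 14307766773811 (.node 27362303166358 .nil .nil) (.node 44611580135000 .nil .nil)) (.node 20146655377536 (.node 35475110143719 .nil .nil) .nil))) (.node 4554450008118 (.node 7293347969247 (.node 12864186370246 (.node 25382055540373 .nil .nil) (.node 42003392784044 .nil .nil)) (.node 18700177225820 (.node 33344940467982 .nil .nil) .nil)) (.node 10045246281939 (.node 15751160182888 (.node 29295961527961 .nil .nil) (.node 51555618670083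 .nil .nil)) (.node 21593808402370 (.node 37610749126358 .nil .nil) .nil)))) (.node 2550916642956 (.node 3873177700330 (.node 6606875318305 (.node 12172196153534 (.node 24414110570252 .nil .nil) (.node 40904887645867 .nil .nil)) (.node 17947983997147 (.node 32316462798672 .nil .nil) (.node 63170032133450 .nil .nil))) (.node 9357816551640 (.node 15001168910344 (.node 28327613679455 .nil .nil) (.node 47778328221312 .nil .nil)) (.node 20896683677930 (.node 36570160010990 .nil .nil) .nil))) (.node 5240251611302 (.node 7980241725416 (.node 13613258496164 (.node 26344530441865 .nil .nil) (.node 43103407400594 .nil .nil)) (.node 19394902525909 (.node 34439638165263 .nil .nil) .nil)) (.node 10732709337308 (.node 16499074111536 (.node 30319858067191 .nil .nil) (.node 54991844279687 .nil .nil)) (.node 22481912661905 (.node 38709354505945 .nil .nil) .nil)))))) (.node 693963847910 (.node 1036135712945 (.node 1673516980247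 (.node 3037487831221 (.node 5722814351525 (.node 11276595194024 (.node 23177747261212 .nil .nil) (.node 39533132801747 .nil .nil)) (.node 17048846342247 (.node 31074746484623 .nil .nil) (.node 57397998183933 .nil .nil))) (.node 8469345503274 (.node 14105063393394 (.node 27091534145385 .nil .nil) (.node 43928209061509 .nil .nil)) (.node 19944037660622 (.node 35204796483209 .nil .nil) .nil))) (.node 4406526920755 (.node 7095057557479 (.node 12719150663925 (.node 25168665941783 .nil .nil) (.node 41728649135792 .nil .nil)) (.node 18497823480027 (.node 33074073425552 .nil .nil) (.node 74166741689555 .nil .nil))) (.node 9847493695486 (.node 15547400763423 (.node 29080993249196 .nil .nil) (.node 50594199991865 .nil .nil)) (.node 21446305257710 (.node 37335636985476 .nil .nil) .nil)))) (.node 2355862403309 (.node 3728406280387 (.node 6408634243116 (.node 11971084835013 (.node 24146195289810 .nil .nil) (.node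 40634086876859 .nil .nil)) (.node 17746121959416 (.node 32100290824025 .nil .nil) (.node 61314119521693 .nil .nil))) (.node 9158519326784 (.node 14854653040873 (.node 28054229202661 .nil .nil) (.node 46953040537198 .nil .nil)) (.node 20696410646699 (.node 36297862948741 .nil .nil) .nil))) (.node 5094896072690 (.node 7781900117984 (.node 13412248840416 (.node 26129159563127 .nil .nil) (.node 42827489519280 .nil .nil)) (.node 19249278556295 (.node 34166504642368 .nil .nil) .nil)) (.node 10534872999932 (.node 16300462876774 (.node 30051423217283 .nil .nil) (.node 54167344670093 .nil .nil)) (.node 22211245500274 (.node 38434191644372 .nil .nil) .nil))))) (.node 1330942912541 (.node 2015956613173 (.node 3385463376050 (.node 6065455904921 (.node 11624436435036 (.node 23663883794139 .nil .nil) (.node 40084096472768 .nil .nil)) (.node 17399907129464 (.node 31560884512485 .nil .nil) (.node 59390427235785 .nil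 .nil))) (.node 8813999437950 (.node 14507065284578 (.node 27572890765049 .nil .nil) (.node 45371821970950 .nil .nil)) (.node 20347062130910 (.node 35751128663779 .nil .nil) .nil))) (.node 4751382354055 (.node 7438017337328 (.node 13065046059187 (.node 25648877868940 .nil .nil) (.node 42278153266858 .nil .nil)) (.node 18846186682338 (.node 33620472538887 .nil .nil) .nil)) (.node 10189764605986 (.node 15949284620390 (.node 29564363286243 .nil .nil) (.node 52517892388374 .nil .nil)) (.node 21795352397866 (.node 37883982653152 .nil .nil) .nil)))) (.node 2694695811265 (.node 4063516629108 (.node 6751225493475 (.node 12317485033584 (.node 24680667506555 .nil .nil) (.node 41179346118311 .nil .nil)) (.node 18150354298989 (.node 32586122278787 .nil .nil) (.node 65368518534470 .nil .nil))) (.node 9501244242061 (.node 15200162056382 (.node 28535666276193 .nil .nil) (.node 48602844522102 .nil .nil)) (.node 21043985377225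 (.node 36844532422574 .nil .nil) .nil))) (.node 5433108347090 (.node 8125832091688 (.node 13759940958173 (.node 26610264614746 .nil .nil) (.node 43378604160648 .nil .nil)) (.node 19597069137927 (.node 34714714945471 .nil .nil) .nil)) (.node 10877530675212 (.node 16645939456022 (.node 30591850682179 .nil .nil) (.node 55750492378525 .nil .nil)) (.node 22695082579883 (.node 38983896786654 .nil .nil) .nil))))))))

/-- Part of `setKey`. -/
noncomputable def setKey_l_r_r_r_r : Arr ℕ :=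
  (.node 216903551049 (.node 297080862876 (.node 486245710010 (.node 781690390547 (.node 1466603546664 (.node 2831195158728 (.node 5516035987522 (.node 11013542385813 (.node 22897299339136 .nil .nil) (.node 39189937985237 .nil .nil)) (.node 16783344814107 (.node 30739590506185 .nil .nil) (.node 56366149662171 .nil .nil))) (.node 8262818928615 (.node 13896203143351 (.node 26812497168273 .nil .nil) (.node 43584779347589 .nil .nil)) (.node 19734273349620 (.node 34863379482308 .nil .nil) .nil))) (.node 4199881910351 (.node 6886398769311 (.node 12454705928280 (.node 24827048027890 .nil .nil) (.node 41385185957550 .nil .nil)) (.node 18287776479340 (.node 32790169478946 .nil .nil) (.node 71418851697890 .nil .nil))) (.node 9636301641815 (.node 15338005440549 (.node 28741440231166 .nil .nil) (.node 49357685577260 .nil .nil)) (.node 21181390735306 (.node 36992844695229 .nil .nil) .nil)))) (.node 2152288417900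 (.node 3513643378813 (.node 6202777098416 (.node 11760299161629 (.node 23864237500149 .nil .nil) (.node 40290288379577 .nil .nil)) (.node 17537379629170 (.node 31763352561413 .nil .nil) (.node 60078410143199 .nil .nil))) (.node 8948688615398 (.node 14644000233645 (.node 27777890068333 .nil .nil) (.node 45988837594740 .nil .nil)) (.node 20484433922285 (.node 35954552891133 .nil .nil) .nil))) (.node 4883218352345 (.node 7574095321278 (.node 13203056191442 (.node 25795177227935 .nil .nil) (.node 42484395435684 .nil .nil)) (.node 18983424104429 (.node 33823056115580 .nil .nil) .nil)) (.node 10324470323157 (.node 16086807259247 (.node 29768422979490 .nil .nil) (.node 53203879736795 .nil .nil)) (.node 21932690679856 (.node 38091248490198 .nil .nil) .nil))))) (.node 1124096841760 (.node 1808909228148 (.node 3174020954311 (.node 5859331450936 (.node 11414067693737 (.node 23383503251191 .nil .nil) (.node 39740683761345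 .nil .nil)) (.node 17186302122038 (.node 31279580321702 .nil .nil) (.node 58153560511963 .nil .nil))) (.node 8605007341545 (.node 14242770659404 (.node 27294002964378 .nil .nil) (.node 44405639755355 .nil .nil)) (.node 20081510143949 (.node 35408000640800 .nil .nil) .nil))) (.node 4544972523515 (.node 7230162299088 (.node 12802582050812 (.node 25313637906129 .nil .nil) (.node 41934723659429 .nil .nil)) (.node 18635128510674 (.node 33276271326987 .nil .nil) .nil)) (.node 9980973533147 (.node 15684873246738 (.node 29229271660224 .nil .nil) (.node 51282702894673 .nil .nil)) (.node 21583677180125 (.node 37541962512088 .nil .nil) .nil)))) (.node 2488470583478 (.node 3856703903878 (.node 6545787856973 (.node 12108976699594 (.node 24345458218759 .nil .nil) (.node 40836218545830 .nil .nil)) (.node 17883611097083 (.node 32250010121866 .nil .nil) (.node 62620410504530 .nil .nil))) (.node 9292571166686 (.node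 14990919923649 (.node 28259162990326 .nil .nil) (.node 47570341836333 .nil .nil)) (.node 20833900554291 (.node 36501742450414 .nil .nil) .nil))) (.node 5173092149424 (.node 7917508176070 (.node 13549385771237 (.node 26329398216545 .nil .nil) (.node 43034906142344 .nil .nil)) (.node 19387388549238 (.node 34371002595082 .nil .nil) .nil)) (.node 10667898914937 (.node 16437853259715 (.node 30253100984043 .nil .nil) (.node 54785769240060 .nil .nil)) (.node 22415893997440 (.node 38640719066837 .nil .nil) .nil)))))) (.node 639284431100 (.node 982194010363 (.node 1659810891875 (.node 2976082200791 (.node 5713957542080 (.node 11212554512615 (.node 23108389181351 .nil .nil) (.node 39464581195473 .nil .nil)) (.node 16987472975972 (.node 31006799021942 .nil .nil) (.node 57191152383441 .nil .nil))) (.node 8460102711530 (.node 14096609913014 (.node 27023317960550 .nil .nil) (.node 43859304887955 .nil .nil)) (.node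 19934812408025 (.node 35136093779594 .nil .nil) .nil))) (.node 4348424837310 (.node 7085646284995 (.node 12656267413737 (.node 25100013528868 .nil .nil) (.node 41659979929249 .nil .nil)) (.node 18433417299959 (.node 33006175798929 .nil .nil) (.node 73617338213570 .nil .nil))) (.node 9836237596700 (.node 15537051596875 (.node 29012139259840 .nil .nil) (.node 50319691093565 .nil .nil)) (.node 21383236208811 (.node 37266766485129 .nil .nil) .nil)))) (.node 2344187816093 (.node 3666247821279 (.node 6400649521217 (.node 11905754982553 (.node 24130978789250 .nil .nil) (.node 40565384210113 .nil .nil)) (.node 17738221987933 (.node 32034739586995 .nil .nil) (.node 61106703091104 .nil .nil))) (.node 9148522977282 (.node 14790010611774 (.node 27985977714530 .nil .nil) (.node 46810066388600 .nil .nil)) (.node 20631500691404 (.node 36229160245126 .nil .nil) .nil))) (.node 5028943071480 (.node 7773495339205 (.node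 13348478646316 (.node 26060523894654 .nil .nil) (.node 42758820361889 .nil .nil)) (.node 19185322878971 (.node 34098739193717 .nil .nil) .nil)) (.node 10524522907586 (.node 16233857468442 (.node 29983022053017 .nil .nil) (.node 53963702183336 .nil .nil)) (.node 22145360258995 (.node 38365555676896 .nil .nil) .nil))))) (.node 1316414703763 (.node 2002872092645 (.node 3319142602976 (.node 6057202989148 (.node 11560799221827 (.node 23596506728146 .nil .nil) (.node 40015326729916 .nil .nil)) (.node 17333033383966 (.node 31494951491204 .nil .nil) (.node 59115649967565 .nil .nil))) (.node 8804840933596 (.node 14443611371731 (.node 27504725006054 .nil .nil) (.node 45167491872298 .nil .nil)) (.node 20284161009825 (.node 35682425960164 .nil .nil) .nil))) (.node 4691049535661 (.node 7428405299364 (.node 13001541519553 (.node 25580410345338 .nil .nil) (.node 42209450555047 .nil .nil)) (.node 18837901183131 (.node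 33550947948297 .nil .nil) .nil)) (.node 10179466106886 (.node 15888699775074 (.node 29497237067506 .nil .nil) (.node 52310626899479 .nil .nil)) (.node 21731213809601 (.node 37815162619613 .nil .nil) .nil)))) (.node 2684866017530 (.node 4010113423334 (.node 6741461981358 (.node 12308041058542 (.node 24619110397855 .nil .nil) (.node 41110576363178 .nil .nil)) (.node 18085472917743 (.node 32519065552664 .nil .nil) (.node 64818896840030 .nil .nil))) (.node 9491582691550 (.node 15135620724841 (.node 28528018511780 .nil .nil) (.node 48395193513562 .nil .nil)) (.node 21034055534825 (.node 36775829727149 .nil .nil) .nil))) (.node 5372221454586 (.node 8117126862855 (.node 13750446028965 (.node 26541813606213 .nil .nil) (.node 43309851035276 .nil .nil)) (.node 19532039440345 (.node 34645846931212 .nil .nil) .nil)) (.node 10867902351297 (.node 16636563216417 (.node 30523667945285 .nil .nil) (.node 55608306370040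 .nil .nil)) (.node 22626916591546 (.node 38915362244305 .nil .nil) .nil))))))) (.node 367142168708 (.node 560333084778 (.node 903628965845 (.node 1585824381110 (.node 2905986939118 (.node 5644584744950 (.node 11140195821798 (.node 23031534233495 .nil .nil) (.node 39327293019863 .nil .nil)) (.node 16911407413345 (.node 30873840273237 .nil .nil) (.node 56778869069271 .nil .nil))) (.node 8335698831355 (.node 13969655801846 (.node 26886450726724 .nil .nil) (.node 43722151114379 .nil .nil)) (.node 19806481242065 (.node 34999594260098 .nil .nil) .nil))) (.node 4278095022271 (.node 6959865276504 (.node 12582131189930 (.node 24963865274266 .nil .nil) (.node 41522658424493 .nil .nil)) (.node 18360216959194 (.node 32869709715142 .nil .nil) (.node 72518094824690 .nil .nil))) (.node 9761177389205 (.node 15411303684181 (.node 28876528895869 .nil .nil) (.node 49837363197515 .nil .nil)) (.node 21308866431185 (.node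 37129361077899 .nil .nil) .nil)))) (.node 2222803044381 (.node 3592158197966 (.node 6272805607460 (.node 11833679460551 (.node 24000921425710 .nil .nil) (.node 40427609835197 .nil .nil)) (.node 17607475075095 (.node 31899583772474 .nil .nil) (.node 60625465689485 .nil .nil))) (.node 9023631697907 (.node 14717432183014 (.node 27911421556630 .nil .nil) (.node 46397917259390 .nil .nil)) (.node 20559273740460 (.node 36090934855492 .nil .nil) .nil))) (.node 4957674756185 (.node 7647833094142 (.node 13275932764368 (.node 25931408713347 .nil .nil) (.node 42621800859299 .nil .nil)) (.node 19112410060870 (.node 33960528615290 .nil .nil) .nil)) (.node 10451894466728 (.node 16163040753771 (.node 29901804574520 .nil .nil) (.node 53550412416461 .nil .nil)) (.node 22005772564425 (.node 38228620187354 .nil .nil) .nil))))) (.node 1243786758365 (.node 1880094754840 (.node 3244216760499 (.node 5982797023445 (.node 11487802562668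 (.node 23519432251208 .nil .nil) (.node 39878240114363 .nil .nil)) (.node 17261982091298 (.node 31413263865680 .nil .nil) (.node 58634663941574 .nil .nil))) (.node 8679950137354 (.node 14370128873667 (.node 27428708173745 .nil .nil) (.node 44754789172798 .nil .nil)) (.node 20209623173345 (.node 35543879956194 .nil .nil) .nil))) (.node 4614647191760 (.node 7302489790563 (.node 12927707769009 (.node 25450707793567 .nil .nil) (.node 42072129033894 .nil .nil)) (.node 18708177844213 (.node 33413676717837 .nil .nil) .nil)) (.node 10104690948230 (.node 15811845675108 (.node 29361089505085 .nil .nil) (.node 51827225703950 .nil .nil)) (.node 21658416031906 (.node 37679485376213 .nil .nil) .nil)))) (.node 2562725370087 (.node 3935151671501 (.node 6615110592684 (.node 12181975259188 (.node 24482394085097 .nil .nil) (.node 40973623903909 .nil .nil)) (.node 18012965750833 (.node 32385685800694 .nil .nil) (.node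 63719653664090 .nil .nil))) (.node 9417663883415 (.node 15063093987368 (.node 28393346725787 .nil .nil) (.node 47982910199392 .nil .nil)) (.node 20906680416203 (.node 36638795630315 .nil .nil) .nil))) (.node 5301188495478 (.node 7990506530889 (.node 13622484310057 (.node 26413182891651 .nil .nil) (.node 43172093347476 .nil .nil)) (.node 19459093370884 (.node 34508340860688 .nil .nil) .nil)) (.node 10794635991296 (.node 16508601137181 (.node 30387753219976 .nil .nil) (.node 55196157240830 .nil .nil)) (.node 22490467358640 (.node 38778090755802 .nil .nil) .nil)))))) (.node 710219479151 (.node 1053313738887 (.node 1739450452209 (.node 3099699427375 (.node 5789906696359 (.node 11286089963500 (.node 23246399543087 .nil .nil) (.node 39601835497172 .nil .nil)) (.node 17058122102802 (.node 31143049013003 .nil .nil) (.node 57672675141080 .nil .nil))) (.node 8533015009507 (.node 14169554467005 (.node 27159936554814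 .nil .nil) (.node 43996962035335 .nil .nil)) (.node 20009652279464 (.node 35273213814424 .nil .nil) .nil))) (.node 4422916847585 (.node 7158861404308 (.node 12729399339102 (.node 25230289135475 .nil .nil) (.node 41797385385634 .nil .nil)) (.node 18562822133889 (.node 33140962330440 .nil .nil) (.node 74716581340370 .nil .nil))) (.node 9909366618293 (.node 15612983060578 (.node 29148624234336 .nil .nil) (.node 50802270529060 .nil .nil)) (.node 21456536889290 (.node 37404373235331 .nil .nil) .nil)))) (.node 2414148778094 (.node 3784042469540 (.node 6471666010353 (.node 12034975279301 (.node 24213673023196 .nil .nil) (.node 40702789572284 .nil .nil)) (.node 17810645518554 (.node 32115405883058 .nil .nil) (.node 61588577986023 .nil .nil))) (.node 9220915316855 (.node 14918156880113 (.node 28122243946260 .nil .nil) (.node 47159249286765 .nil .nil)) (.node 20759244818645 (.node 36365628135258 .nil .nil) .nil)))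 (.node 5103752730681 (.node 7846375012485 (.node 13475853088941 (.node 26197627152261 .nil .nil) (.node 42896225769122 .nil .nil)) (.node 19257865959389 (.node 34234333058992 .nil .nil) .nil)) (.node 10596076398691 (.node 16361635182634 (.node 30118110861076 .nil .nil) (.node 54376052589986 .nil .nil)) (.node 22279394518908 (.node 38502894347987 .nil .nil) .nil))))) (.node 1396038899831 (.node 2081135462643 (.node 3443430815879 (.node 6128387528949 (.node 11685255784535 (.node 23727468316574 .nil .nil) (.node 40152799176383 .nil .nil)) (.node 17461046179876 (.node 31628094150430 .nil .nil) (.node 59597273236950 .nil .nil))) (.node 8877401835635 (.node 14515771418579 (.node 27641205958505 .nil .nil) (.node 45579573794352 .nil .nil)) (.node 20356975220681 (.node 35818556208982 .nil .nil) .nil))) (.node 4760255342763 (.node 7501736573149 (.node 13074271434881 (.node 25717513652097 .nil .nil) (.node 42346855962280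 .nil .nil)) (.node 18910545868792 (.node 33687162410792 .nil .nil) .nil)) (.node 10252126759023 (.node 15959281399829 (.node 29632761882487 .nil .nil) (.node 52792401139305 .nil .nil)) (.node 21858487945445 (.node 37952718903007 .nil .nil) .nil)))) (.node 2756739549317 (.node 4080158128090 (.node 6813335685071 (.node 12381608630399 (.node 24695732868822 .nil .nil) (.node 41248048813737 .nil .nil)) (.node 18158354790399 (.node 32654172997415 .nil .nil) (.node 65918140097870 .nil .nil))) (.node 9564462352506 (.node 15264069855231 (.node 28603833661172 .nil .nil) (.node 48875911128666 .nil .nil)) (.node 21108643997835 (.node 36913201543090 .nil .nil) .nil))) (.node 5446662293561 (.node 8190173780030 (.node 13823492110550 (.node 26678714124141 .nil .nil) (.node 43447357167238 .nil .nil)) (.node 19661561878569 (.node 34780635731720 .nil .nil) .nil)) (.node 10939923855542 (.node 16712647296961 (.node 30657534248765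 .nil .nil) (.node 55956617266587 .nil .nil)) (.node 22761034549125 (.node 39052633036509 .nil .nil) .nil))))))))

/-- Part of `setKey`. -/
noncomputable def setKey_l_r_r_r : Arr ℕ :=
  .node 144342223085 setKey_l_r_r_r_l setKey_l_r_r_r_r

/-- Part of `setKey`. -/
noncomputable def setKey_l_r_r : Arr ℕ :=
  .node 90166081789 setKey_l_r_r_l setKey_l_r_r_r

/-- Part of `setKey`. -/
noncomputable def setKey_l_r : Arr ℕ :=
  .node 79196555225 setKey_l_r_l setKey_l_r_r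

/-- Part of `setKey`. -/
noncomputable def setKey_l : Arr ℕ :=
  .node 73895315645 setKey_l_l setKey_l_r

/-- Part of `setKey`. -/
noncomputable def setKey_r_l_l_l_l : Arr ℕ :=
  (.node 147932387408 (.node 227437254910 (.node 368937588757 (.node 711025227803 (.node 1396961417280 (.node 2761720998095 (.node 5447131883610 (.node 10942609958888 (.node 22763919480743 .nil .nil) (.node 39114624829276 .nil .nil)) (.node 16713266190404 (.node 30661272696751 .nil .nil) (.node 56022082631106 .nil .nil))) (.node 8191163082894 (.node 13825303787732 (.node 26679118280530 .nil .nil) (.node 43510205998789 .nil .nil)) (.node 19664664803332 (.node 34784644519685 .nil .nil) .nil))) (.node 4130222954572 (.node 6815414126818 (.node 12382531221577 (.node 24756297799572 .nil .nil) (.node 41311349368667 .nil .nil)) (.node 18217681356921 (.node 32655798142834 .nil .nil) (.node 70456544199920 .nil .nil))) (.node 9566507149512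 (.node 15266668877975 (.node 28663143053150 .nil .nil) (.node 48943808820770 .nil .nil)) (.node 21109164361763 (.node 36914562533090 .nil .nil) .nil)))) (.node 2083200022629 (.node 3444169050147 (.node 6133705984102 (.node 11689700976617 (.node 23733039744724 .nil .nil) (.node 40212104361908 .nil .nil)) (.node 17467703949455 (.node 31631199188631 .nil .nil) (.node 59663644308987 .nil .nil))) (.node 8879010285774 (.node 14517229369442 (.node 27641658980198 .nil .nil) (.node 45644804114041 .nil .nil)) (.node 20415127697552 (.node 35821307139863 .nil .nil) .nil))) (.node 4760658397278 (.node 7503213971496 (.node 13131433945334 (.node 25717614368634 .nil .nil) (.node 42410743670526 .nil .nil)) (.node 18913614596074 (.node 33690214991692 .nil .nil) .nil)) (.node 10253433514177 (.node 16017484642310 (.node 29635179206390 .nil .nil) (.node 52858303002110 .nil .nil)) (.node 21863635724343 (.node 38014963676843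 .nil .nil) .nil))))) (.node 1054236256336 (.node 1739870820500 (.node 3100689184850 (.node 5790611839058 (.node 11287195854999 (.node 23251214915291 .nil .nil) (.node 39663120680877 .nil .nil)) (.node 17116929177590 (.node 31144204412792 .nil .nil) (.node 57740035995049 .nil .nil))) (.node 8534794008712 (.node 14171468077216 (.node 27160556996402 .nil .nil) (.node 44060063024765 .nil .nil)) (.node 20010021677191 (.node 35276249941687 .nil .nil) .nil))) (.node 4470800832740 (.node 7160134613194 (.node 12730288322660 (.node 25237368669970 .nil .nil) (.node 41861138560854 .nil .nil)) (.node 18565100337390 (.node 33145560532663 .nil .nil) .nil)) (.node 9910861957089 (.node 15614123886649 (.node 29150249039759 .nil .nil) (.node 50868389975670 .nil .nil)) (.node 21514723231853 (.node 37465626126136 .nil .nil) .nil)))) (.node 2419163924671 (.node 3787313420350 (.node 6476850296908 (.node 12036719716446 (.node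 24267981641600 .nil .nil) (.node 40761711052640 .nil .nil)) (.node 17813583419394 (.node 32171794814767 .nil .nil) (.node 61658505512300 .nil .nil))) (.node 9222893107390 (.node 14919633643507 (.node 28122594539368 .nil .nil) (.node 47227146978890 .nil .nil)) (.node 20764057090166 (.node 36367169714036 .nil .nil) .nil))) (.node 5103987361905 (.node 7847144818891 (.node 13477580794069 (.node 26198734325623 .nil .nil) (.node 42961020487367 .nil .nil)) (.node 19317477963896 (.node 34236482197256 .nil .nil) .nil)) (.node 10597887899715 (.node 16368343365790 (.node 30121702258376 .nil .nil) (.node 54442306164215 .nil .nil)) (.node 22282363160495 (.node 38564684789526 .nil .nil) .nil)))))) (.node 569122265344 (.node 904064600139 (.node 1590655969235 (.node 2906909751522 (.node 5644835846221 (.node 11142075275283 (.node 23034503149455 .nil .nil) (.node 39389218862762 .nil .nil)) (.node 16917914712221 (.node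 30877532669643 .nil .nil) (.node 56844938388935 .nil .nil))) (.node 8389689235705 (.node 14024937740534 (.node 26949617366934 .nil .nil) (.node 43785134118608 .nil .nil)) (.node 19865388837020 (.node 35058547439531 .nil .nil) .nil))) (.node 4279068047541 (.node 6962114316299 (.node 12584412350656 (.node 24964335961849 .nil .nil) (.node 41586160084828 .nil .nil)) (.node 18363372582925 (.node 32928512317346 .nil .nil) (.node 72655030715600 .nil .nil))) (.node 9766176417761 (.node 15467561089040 (.node 28878342452986 .nil .nil) (.node 49905495647795 .nil .nil)) (.node 21313946613935 (.node 37188264150947 .nil .nil) .nil)))) (.node 2272414976255 (.node 3597075314669 (.node 6331544590340 (.node 11835460106219 (.node 24001374127960 .nil .nil) (.node 40486697174968 .nil .nil)) (.node 17668143642738 (.node 31901881784097 .nil .nil) (.node 60627780240847 .nil .nil))) (.node 9076699334907 (.node 14718907832514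 (.node 27915263346515 .nil .nil) (.node 46404324656742 .nil .nil)) (.node 20559391795246 (.node 36092863821650 .nil .nil) .nil))) (.node 4959099390204 (.node 7702578223357 (.node 13277794986167 (.node 25932448704136 .nil .nil) (.node 42685621184334 .nil .nil)) (.node 19116116895755 (.node 33963684124422 .nil .nil) .nil)) (.node 10453203187724 (.node 16163562194891 (.node 29905459185578 .nil .nil) (.node 53617639183765 .nil .nil)) (.node 22069679663000 (.node 38289739867943 .nil .nil) .nil))))) (.node 1247443572886 (.node 1931082143960 (.node 3250171447525 (.node 5988299421804 (.node 11489746368720 (.node 23519900841880 .nil .nil) (.node 39936824117181 .nil .nil)) (.node 17262300448848 (.node 31417222424373 .nil .nil) (.node 58703031182779 .nil .nil))) (.node 8734242834597 (.node 14372444579780 (.node 27431089678225 .nil .nil) (.node 44821378467357 .nil .nil)) (.node 20214318102663 (.node 35547370739334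 .nil .nil) .nil))) (.node 4615820908800 (.node 7354838501525 (.node 12930391631945 (.node 25451865466501 .nil .nil) (.node 42135880746862 .nil .nil)) (.node 18768024144026 (.node 33417284769433 .nil .nil) .nil)) (.node 10109202372844 (.node 15819461744586 (.node 29366140098256 .nil .nil) (.node 51831804556863 .nil .nil)) (.node 21658668296266 (.node 37740017588042 .nil .nil) .nil)))) (.node 2563782465748 (.node 3935856380102 (.node 6667543091360 (.node 12183586666500 (.node 24482846787347 .nil .nil) (.node 41037008369472 .nil .nil)) (.node 18015394814192 (.node 32388103333506 .nil .nil) (.node 63856991913320 .nil .nil))) (.node 9421639518191 (.node 15064854841482 (.node 28396432230252 .nil .nil) (.node 48046698403400 .nil .nil)) (.node 20964883474584 (.node 36640472471388 .nil .nil) .nil))) (.node 5301607151810 (.node 8043610093670 (.node 13623993645184 (.node 26466400679870 .nil .nil) (.node 43235965646514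 .nil .nil)) (.node 19462766028781 (.node 34510118790973 .nil .nil) .nil)) (.node 10796649801703 (.node 16567273994240 (.node 30389231232861 .nil .nil) (.node 55199796942317 .nil .nil)) (.node 22552997341070 (.node 38839478880020 .nil .nil) .nil))))))) (.node 297986787411 (.node 491412711395 (.node 831369238760 (.node 1468214167583 (.node 2832487024817 (.node 5570111068400 (.node 11066663082080 (.node 22898205276024 .nil .nil) (.node 39252014692010 .nil .nil)) (.node 16842084812795 (.node 30797201872825 .nil .nil) (.node 56432873031140 .nil .nil))) (.node 8264881186933 (.node 13897111500761 (.node 26816354346859 .nil .nil) (.node 43648265733809 .nil .nil)) (.node 19737576982503 (.node 34921142081449 .nil .nil) .nil))) (.node 4200502614110 (.node 6887572973711 (.node 12455762348176 (.node 24832769320662 .nil .nil) (.node 41448753137519 .nil .nil)) (.node 18290155415783 (.node 32791645513505 .nil .nil)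 (.node 71555787326720 .nil .nil))) (.node 9639572654135 (.node 15339649079350 (.node 28744612239005 .nil .nil) (.node 49425012794962 .nil .nil)) (.node 21239745001528 (.node 37051850503909 .nil .nil) .nil)))) (.node 2153261418531 (.node 3522633922738 (.node 6203834501157 (.node 11762109102300 (.node 23864655718289 .nil .nil) (.node 40349375596463 .nil .nil)) (.node 17537935099841 (.node 31767093294820 .nil .nil) (.node 60146324796812 .nil .nil))) (.node 8952209864837 (.node 14644839598083 (.node 27778394933071 .nil .nil) (.node 45991269910110 .nil .nil)) (.node 20489245800618 (.node 35956029081327 .nil .nil) .nil))) (.node 4888787789967 (.node 7575941965887 (.node 13205202409550 (.node 25854650587015 .nil .nil) (.node 42548149061372 .nil .nil)) (.node 19042365204621 (.node 33826278733572 .nil .nil) .nil)) (.node 10327506655246 (.node 16093400008655 (.node 29769496131452 .nil .nil) (.node 53208056436155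 .nil .nil)) (.node 21933160212545 (.node 38152367961890 .nil .nil) .nil))))) (.node 1173138434255 (.node 1810721179668 (.node 3175044098241 (.node 5860119161003 (.node 11415779358684 (.node 23383754684189 .nil .nil) (.node 39799888308159 .nil .nil)) (.node 17192843212857 (.node 31280619939717 .nil .nil) (.node 58221407786408 .nil .nil))) (.node 8606750894128 (.node 14299564251381 (.node 27297207768868 .nil .nil) (.node 44411913033269 .nil .nil)) (.node 20140350834773 (.node 35410300434078 .nil .nil) .nil))) (.node 4545374804090 (.node 7232445220996 (.node 12857327564970 (.node 25367291996015 .nil .nil) (.node 41998544000852 .nil .nil)) (.node 18638049335302 (.node 33280080688795 .nil .nil) .nil)) (.node 9984429271047 (.node 15742506092555 (.node 29286398678871 .nil .nil) (.node 51349477004806 .nil .nil)) (.node 21589025953943 (.node 37603015902881 .nil .nil) .nil)))) (.node 2493351651565 (.node 3865677609150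 (.node 6545921812619 (.node 12110220646374 (.node 24350457824991 .nil .nil) (.node 40899183535962 .nil .nil)) (.node 17942853728406 (.node 32252811257524 .nil .nil) (.node 62757748639100 .nil .nil))) (.node 9295790418052 (.node 14992445536302 (.node 28259548698402 .nil .nil) (.node 47634633049700 .nil .nil)) (.node 20834084956291 (.node 36503551567744 .nil .nil) .nil))) (.node 5231865260045 (.node 7919388125343 (.node 13550928398530 (.node 26334680573810 .nil .nil) (.node 43097956132559 .nil .nil)) (.node 19389921363953 (.node 34372713416507 .nil .nil) .nil)) (.node 10670953027599 (.node 16438321223757 (.node 30256524576405 .nil .nil) (.node 54788486800812 .nil .nil)) (.node 22416715773836 (.node 38702224398100 .nil .nil) .nil)))))) (.node 640711690384 (.node 983839529088 (.node 1669288286453 (.node 3030929557571 (.node 5715265464567 (.node 11215187437763 (.node 23168671303565 .nil .nil) (.node 39526623209215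 .nil .nil)) (.node 16988011325386 (.node 31011564807919 .nil .nil) (.node 57257422996925 .nil .nil))) (.node 8462099580946 (.node 14098538547335 (.node 27023604496176 .nil .nil) (.node 43923076380360 .nil .nil)) (.node 19940128061543 (.node 35195700930494 .nil .nil) .nil))) (.node 4353794815965 (.node 7087021791458 (.node 12657342003275 (.node 25100264961866 .nil .nil) (.node 41723498366814 .nil .nil)) (.node 18492726970523 (.node 33062263039775 .nil .nil) (.node 73754273842400 .nil .nil))) (.node 9838551050450 (.node 15543877646496 (.node 29014034888582 .nil .nil) (.node 50387521570371 .nil .nil)) (.node 21383505188998 (.node 37325484791732 .nil .nil) .nil)))) (.node 2345110497440 (.node 3667724195794 (.node 6400917502130 (.node 11963320060148 (.node 24138309994298 .nil .nil) (.node 40623985092522 .nil .nil)) (.node 17740567410908 (.node 32036687370016 .nil .nil) (.node 61109453759936 .nil .nil)))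 (.node 9150032795589 (.node 14792996210782 (.node 28048457955224 .nil .nil) (.node 46816574727704 .nil .nil)) (.node 20689989216304 (.node 36230839506772 .nil .nil) .nil))) (.node 5034915915816 (.node 7774821189650 (.node 13351935121416 (.node 26068679878274 .nil .nil) (.node 42822991771496 .nil .nil)) (.node 19188895057882 (.node 34101458548482 .nil .nil) .nil)) (.node 10526098978902 (.node 16292429645825 (.node 30039209998130 .nil .nil) (.node 54030022866417 .nil .nil)) (.node 22146131732415 (.node 38427145275169 .nil .nil) .nil))))) (.node 1326378707190 (.node 2003509102631 (.node 3371809491110 (.node 6058543847673 (.node 11562879256619 (.node 23656720185167 .nil .nil) (.node 40074363680704 .nil .nil)) (.node 17391739996145 (.node 31549998450485 .nil .nil) (.node 59183597880758 .nil .nil))) (.node 8806852757741 (.node 14445155440685 (.node 27565711026095 .nil .nil) (.node 45232520799871 .nil .nil))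 (.node 20284664187044 (.node 35685295818390 .nil .nil) .nil))) (.node 4691737577621 (.node 7430350919888 (.node 13004278343638 (.node 25588230452896 .nil .nil) (.node 42273237280598 .nil .nil)) (.node 18840970823685 (.node 33555126535821 .nil .nil) .nil)) (.node 10182266755167 (.node 15888850372760 (.node 29498562021180 .nil .nil) (.node 52314015061554 .nil .nil)) (.node 21789550995492 (.node 37877355886416 .nil .nil) .nil)))) (.node 2687734888568 (.node 4010482628574 (.node 6743240636432 (.node 12308914456544 (.node 24619530712908 .nil .nil) (.node 41174480885562 .nil .nil)) (.node 18088377305101 (.node 32522705483520 .nil .nil) (.node 64956235072880 .nil .nil))) (.node 9494770088005 (.node 15192783350001 (.node 28529963616145 .nil .nil) (.node 48459183015485 .nil .nil)) (.node 21039136282749 (.node 36777844324192 .nil .nil) .nil))) (.node 5377556420780 (.node 8118485596186 (.node 13752275138518 (.node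 26542618748717 .nil .nil) (.node 43372750264006 .nil .nil)) (.node 19592154527850 (.node 34647624861497 .nil .nil) .nil)) (.node 10870215366880 (.node 16643137542291 (.node 30524487518093 .nil .nil) (.node 55612466103784 .nil .nil)) (.node 22627705034679 (.node 38976851764911 .nil .nil) .nil))))))))

/-- Part of `setKey`. -/
noncomputable def setKey_r_l_l_l_r : Arr ℕ :=
  (.node 161638504479 (.node 281747613935 (.node 435006285925 (.node 776756930811 (.node 1453803460710 (.node 2822137239800 (.node 5508519639295 (.node 11006446651601 (.node 22832253212587 .nil .nil) (.node 39183361079131 .nil .nil)) (.node 16780475889813 (.node 30729256097601 .nil .nil) (.node 56227939128743 .nil .nil))) (.node 8254834427883 (.node 13888857454811 (.node 26748055844660 .nil .nil) (.node 43579026130631 .nil .nil)) (.node 19729727678568 (.node 34852707665840 .nil .nil) .nil))) (.node 4146864830438 (.node 6878011570432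 (.node 12445815802035 (.node 24817871640440 .nil .nil) (.node 41380052064092 .nil .nil)) (.node 18225799452688 (.node 32724150277932 .nil .nil) (.node 71006417405165 .nil .nil))) (.node 9629374773248 (.node 15330440161522 (.node 28679348057794 .nil .nil) (.node 49151510382125 .nil .nil)) (.node 21176541689979 (.node 36983147824866 .nil .nil) .nil)))) (.node 2140277483495 (.node 3460810520556 (.node 6194641938496 (.node 11698103990350 (.node 23800920245979 .nil .nil) (.node 40280807065523 .nil .nil)) (.node 17529145386995 (.node 31698390591204 .nil .nil) (.node 59939310552575 .nil .nil))) (.node 8941575231714 (.node 14581502392516 (.node 27710178543410 .nil .nil) (.node 45847138412135 .nil .nil)) (.node 20422035929251 (.node 35889976297239 .nil .nil) .nil))) (.node 4827566213277 (.node 7567152187629 (.node 13141682653276 (.node 25786065405824 .nil .nil) (.node 42479479920381 .nil .nil)) (.node 18978141186064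 (.node 33758028810044 .nil .nil) .nil)) (.node 10317475080212 (.node 16026088335437 (.node 29702539908942 .nil .nil) (.node 53001864463805 .nil .nil)) (.node 21926973163558 (.node 38083666380453 .nil .nil) .nil))))) (.node 1119398074620 (.node 1797199448160 (.node 3113739176147 (.node 5851262318780 (.node 11352542619835 (.node 23315102271274 .nil .nil) (.node 39731823376302 .nil .nil)) (.node 17124947232709 (.node 31212623947571 .nil .nil) (.node 57947418871262 .nil .nil))) (.node 8597508114668 (.node 14235708299480 (.node 27228957890369 .nil .nil) (.node 44205872014902 .nil .nil)) (.node 20077516134576 (.node 35343845795507 .nil .nil) .nil))) (.node 4485260179621 (.node 7223438338030 (.node 12793488292074 (.node 25306020951845 .nil .nil) (.node 41929841264469 .nil .nil)) (.node 18630132426871 (.node 33212820883073 .nil .nil) .nil)) (.node 9973860968476 (.node 15681215977626 (.node 29218532738995 .nil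 .nil) (.node 51142714369650 .nil .nil)) (.node 21521279039658 (.node 37534362375991 .nil .nil) .nil)))) (.node 2481710684272 (.node 3804055930838 (.node 6538038323280 (.node 12100490836212 (.node 24282980091605 .nil .nil) (.node 40830447302495 .nil .nil)) (.node 17877855217903 (.node 32237696198495 .nil .nil) (.node 62208127141220 .nil .nil))) (.node 9285626423284 (.node 14927784888462 (.node 28191012403042 .nil .nil) (.node 47431762212440 .nil .nil)) (.node 20827444971562 (.node 36435505444578 .nil .nil) .nil))) (.node 5165711100147 (.node 7909743134924 (.node 13486521170048 (.node 26266380498803 .nil .nil) (.node 43029773493957 .nil .nil)) (.node 19325729765358 (.node 34304276854658 .nil .nil) .nil)) (.node 10661089196060 (.node 16429835036675 (.node 30188291659408 .nil .nil) (.node 54645378393575 .nil .nil)) (.node 22348382185348 (.node 38633387493141 .nil .nil) .nil)))))) (.node 623449757900 (.node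 918257166362 (.node 1603773937738 (.node 2968449550524 (.node 5653709527176 (.node 11152559659015 (.node 23102686214024 .nil .nil) (.node 39457921566376 .nil .nil)) (.node 16979557312505 (.node 30944155444887 .nil .nil) (.node 56987728299395 .nil .nil))) (.node 8399132833940 (.node 14034062686362 (.node 27016022308790 .nil .nil) (.node 43853820065486 .nil .nil)) (.node 19872615884971 (.node 35126998226877 .nil .nil) .nil))) (.node 4336867838091 (.node 7024272570561 (.node 12594241759284 (.node 25032988342007 .nil .nil) (.node 41654862780251 .nil .nil)) (.node 18427829111021 (.node 32996260808483 .nil .nil) (.node 73204903916750 .nil .nil))) (.node 9773891545199 (.node 15476736509900 (.node 28945804150507 .nil .nil) (.node 50114220193378 .nil .nil)) (.node 21377200740402 (.node 37257000400804 .nil .nil) .nil)))) (.node 2282563631302 (.node 3650998466644 (.node 6340115429542 (.node 11899247212640 (.node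 24069657642805 .nil .nil) (.node 40555433424823 .nil .nil)) (.node 17675993466887 (.node 31968619886476 .nil .nil) (.node 60900947338645 .nil .nil))) (.node 9086109726815 (.node 14782412179649 (.node 27980308600736 .nil .nil) (.node 46610365675109 .nil .nil)) (.node 20626618169468 (.node 36161566525265 .nil .nil) .nil))) (.node 5020422400235 (.node 7712710002747 (.node 13341115226137 (.node 26001084077715 .nil .nil) (.node 42754357434189 .nil .nil)) (.node 19179938379910 (.node 34032755853057 .nil .nil) .nil)) (.node 10463400736926 (.node 16230887770259 (.node 29973023151950 .nil .nil) (.node 53824015664530 .nil .nil)) (.node 22077982844847 (.node 38358442563368 .nil .nil) .nil))))) (.node 1260948699163 (.node 1946180503638 (.node 3311644383420 (.node 5996619090056 (.node 11552832272375 (.node 23588067870529 .nil .nil) (.node 40005526812606 .nil .nil)) (.node 17330248554559 (.node 31485151532980 .nil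 .nil) (.node 58910313223664 .nil .nil))) (.node 8743518930987 (.node 14383247267844 (.node 27498853078941 .nil .nil) (.node 45028090402330 .nil .nil)) (.node 20277772986451 (.node 35616073442949 .nil .nil) .nil))) (.node 4682210138120 (.node 7367886612679 (.node 12994095585526 (.node 25519578408585 .nil .nil) (.node 42204583442285 .nil .nil)) (.node 18776276330476 (.node 33486423832206 .nil .nil) .nil)) (.node 10118260504690 (.node 15879978592265 (.node 29432511673999 .nil .nil) (.node 52104854246940 .nil .nil)) (.node 21726380742821 (.node 37808720291657 .nil .nil) .nil)))) (.node 2625758472390 (.node 3993991858325 (.node 6680190027931 (.node 12246264649931 (.node 24550979188488 .nil .nil) (.node 41105711073087 .nil .nil)) (.node 18080326277248 (.node 32455296030361 .nil .nil) (.node 64406613443960 .nil .nil))) (.node 9430127556572 (.node 15129263503505 (.node 28464918476598 .nil .nil) (.node 48190695917068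 .nil .nil)) (.node 20971758954533 (.node 36709175175003 .nil .nil) .nil))) (.node 5310464075946 (.node 8054846523592 (.node 13688283171022 (.node 26474016696095 .nil .nil) (.node 43304584468148 .nil .nil)) (.node 19527494404089 (.node 34578922157882 .nil .nil) .nil)) (.node 10805304305791 (.node 16575860815942 (.node 30457263482613 .nil .nil) (.node 55405905049067 .nil .nil)) (.node 22619301283730 (.node 38908215129875 .nil .nil) .nil))))))) (.node 354258536559 (.node 504447281188 (.node 847373449273 (.node 1533377190015 (.node 2894664980554 (.node 5584335833215 (.node 11078722979934 (.node 22966421370756 .nil .nil) (.node 39320717395624 .nil .nil)) (.node 16850637953093 (.node 30862703044415 .nil .nil) (.node 56640289551777 .nil .nil))) (.node 8327545677876 (.node 13961435195455 (.node 26881753327507 .nil .nil) (.node 43716884555443 .nil .nil)) (.node 19801969342474 (.node 34989811189676 .nil .nil)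 .nil))) (.node 4217412560872 (.node 6950808168400 (.node 12519869487183 (.node 24900146386655 .nil .nil) (.node 41517455832944 .nil .nil)) (.node 18355153807507 (.node 32860077823913 .nil .nil) (.node 72105660527870 .nil .nil))) (.node 9701867726976 (.node 15404057507990 (.node 28812206143242 .nil .nil) (.node 49633284413039 .nil .nil)) (.node 21246099798148 (.node 37119662151586 .nil .nil) .nil)))) (.node 2218406635764 (.node 3580618139717 (.node 6264987609335 (.node 11825914669299 (.node 23933040539459 .nil .nil) (.node 40418078291888 .nil .nil)) (.node 17605094471623 (.node 31834068092697 .nil .nil) (.node 60419961165298 .nil .nil))) (.node 9014555617360 (.node 14654500526184 (.node 27846894565230 .nil .nil) (.node 46259623016030 .nil .nil)) (.node 20552549881994 (.node 36024161118039 .nil .nil) .nil))) (.node 4897593673889 (.node 7639578925212 (.node 13266223077440 (.node 25916947167080 .nil .nil)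 (.node 42616885311227 .nil .nil)) (.node 19051556755428 (.node 33894981428997 .nil .nil) .nil)) (.node 10390035384430 (.node 16154890033160 (.node 29837898938178 .nil .nil) (.node 53414130808248 .nil .nil)) (.node 22000990066861 (.node 38221070665505 .nil .nil) .nil))))) (.node 1190366754960 (.node 1876654516466 (.node 3237289379874 (.node 5927278622881 (.node 11424752212119 (.node 23451734947740 .nil .nil) (.node 39868591003584 .nil .nil)) (.node 17254334568440 (.node 31349123561226 .nil .nil) (.node 58429713315231 .nil .nil))) (.node 8670688876762 (.node 14309294061537 (.node 27365707265904 .nil .nil) (.node 44618121709128 .nil .nil)) (.node 20147192432680 (.node 35478802253447 .nil .nil) .nil))) (.node 4554583963764 (.node 7295309510895 (.node 12866922166362 (.node 25383212951184 .nil .nil) (.node 42067246704467 .nil .nil)) (.node 18702656841945 (.node 33348582074010 .nil .nil) .nil)) (.node 10046018672749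 (.node 15751480608705 (.node 29350438446935 .nil .nil) (.node 51624136492665 .nil .nil)) (.node 21652178937963 (.node 37671718598319 .nil .nil) .nil)))) (.node 2551470319741 (.node 3921431095460 (.node 6608769431796 (.node 12173404522442 (.node 24414277244824 .nil .nil) (.node 40967919785817 .nil .nil)) (.node 17951072479248 (.node 32321061050038 .nil .nil) (.node 63307370268020 .nil .nil))) (.node 9359025174654 (.node 15056283535525 (.node 28328015107940 .nil .nil) (.node 47844112619090 .nil .nil)) (.node 20901596698740 (.node 36571702691677 .nil .nil) .nil))) (.node 5241040369801 (.node 7983158606055 (.node 13614986189015 (.node 26403349542779 .nil .nil) (.node 43166642079437 .nil .nil)) (.node 19455084640378 (.node 34441416087358 .nil .nil) .nil)) (.node 10733364402273 (.node 16505748740252 (.node 30323615139613 .nil .nil) (.node 55057862997470 .nil .nil)) (.node 22484730902393 (.node 38770927101715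 .nil .nil) .nil)))))) (.node 697687869579 (.node 1041034356695 (.node 1723028429000 (.node 3043308353774 (.node 5781688150025 (.node 11278441072602 (.node 23183015208672 .nil .nil) (.node 39595325904640 .nil .nil)) (.node 17055405631437 (.node 31076644271893 .nil .nil) (.node 57465124541869 .nil .nil))) (.node 8473708275700 (.node 14162343164149 (.node 27092089304817 .nil .nil) (.node 43991829386950 .nil .nil)) (.node 20002844559518 (.node 35261823043325 .nil .nil) .nil))) (.node 4415265609922 (.node 7096532674670 (.node 12721297475805 (.node 25168850605805 .nil .nil) (.node 41792201062237 .nil .nil)) (.node 18500727818243 (.node 33077361063604 .nil .nil) (.node 74304147047645 .nil .nil))) (.node 9901618231545 (.node 15605033588750 (.node 29082303387474 .nil .nil) (.node 50658743006750 .nil .nil)) (.node 21451402778742 (.node 37394187495347 .nil .nil) .nil)))) (.node 2356919380187 (.node 3729127573707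 (.node 6409321236644 (.node 11972865513449 (.node 24206558832530 .nil .nil) (.node 40692687787945 .nil .nil)) (.node 17805548968094 (.node 32104079480765 .nil .nil) (.node 61381614446054 .nil .nil))) (.node 9161037121521 (.node 14856732719281 (.node 28115601024935 .nil .nil) (.node 47020619572790 .nil .nil)) (.node 20696611911843 (.node 36299542210387 .nil .nil) .nil))) (.node 5095096944699 (.node 7785590732808 (.node 13413690624199 (.node 26137315378825 .nil .nil) (.node 42891728029543 .nil .nil)) (.node 19252750731268 (.node 34168079402871 .nil .nil) .nil)) (.node 10588661897472 (.node 16300781664331 (.node 30053133727428 .nil .nil) (.node 54234386777540 .nil .nil)) (.node 22214314817442 (.node 38495847970594 .nil .nil) .nil))))) (.node 1381192149215 (.node 2017936345112 (.node 3386218105019 (.node 6120001071335 (.node 11625543452774 (.node 23718292932485 .nil .nil) (.node 40143066384319 .nil .nil))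 (.node 17400427235415 (.node 31564240905934 .nil .nil) (.node 59456982992285 .nil .nil))) (.node 8867103086720 (.node 14507936721108 (.node 27573343864558 .nil .nil) (.node 45436146796100 .nil .nil)) (.node 20351790602369 (.node 35754032068245 .nil .nil) .nil))) (.node 4751683598540 (.node 7440968661087 (.node 13067729913935 (.node 25649297680244 .nil .nil) (.node 42341973530453 .nil .nil)) (.node 18905899329619 (.node 33621529061196 .nil .nil) .nil)) (.node 10242096355460 (.node 15956949506169 (.node 29567231178556 .nil .nil) (.node 52585672423020 .nil .nil)) (.node 21795687712839 (.node 37946058590031 .nil .nil) .nil)))) (.node 2700181068000 (.node 4072288659661 (.node 6752885012587 (.node 12318424098954 (.node 24688048772960 .nil .nil) (.node 41243183589177 .nil .nil)) (.node 18152800336102 (.node 32589445494583 .nil .nil) (.node 65505856603520 .nil .nil))) (.node 9554398496885 (.node 15202210940905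 (.node 28598062479258 .nil .nil) (.node 48668578678310 .nil .nil)) (.node 21102305675410 (.node 36846547027807 .nil .nil) .nil))) (.node 5438543480987 (.node 8130027042801 (.node 13762472532036 (.node 26611170543418 .nil .nil) (.node 43441570395848 .nil .nil)) (.node 19600372893668 (.node 34716176639749 .nil .nil) .nil)) (.node 10932947527856 (.node 16704746493950 (.node 30592737626038 .nil .nil) (.node 55815504872891 .nil .nil)) (.node 22695904585638 (.node 39045588014753 .nil .nil) .nil))))))))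

/-- Part of `setKey`. -/
noncomputable def setKey_r_l_l_l : Arr ℕ :=
  .node 91056679062 setKey_r_l_l_l_l setKey_r_l_l_l_r

/-- Part of `setKey`. -/
noncomputable def setKey_r_l_l_r_l : Arr ℕ :=
  (.node 159507761294 (.node 229585918027 (.node 422827051112 (.node 766223460335 (.node 1448083437770 (.node 2768397150443 (.node 5506776700940 (.node 11001012304127 (.node 22828009621369 .nil .nil) (.node 39115648276280 .nil .nil)) (.node 16773449197565 (.node 30667732420386 .nil .nil) (.node 56157642999245 .nil .nil))) (.node 8196262340724 (.node 13829649102884 (.node 26741211486140 .nil .nil) (.node 43514533500566 .nil .nil)) (.node 19669125933026 (.node 34789844322029 .nil .nil) .nil))) (.node 4140404549819 (.node 6820195600434 (.node 12387009349775 (.node 24757087168290 .nil .nil) (.node 41312691439383 .nil .nil)) (.node 18221419157736 (.node 32663282902722 .nil .nil) (.node 70731489199340 .nil .nil)))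 (.node 9571776825356 (.node 15270913636330 (.node 28670571808630 .nil .nil) (.node 49015245764098 .nil .nil)) (.node 21171008542800 (.node 36919795640075 .nil .nil) .nil)))) (.node 2085297170459 (.node 3454450845902 (.node 6135182088238 (.node 11693842356463 (.node 23795417220916 .nil .nil) (.node 40220511774415 .nil .nil)) (.node 17469129930840 (.node 31692318349112 .nil .nil) (.node 59801116808701 .nil .nil))) (.node 8884783515655 (.node 14576136894466 (.node 27705648863132 .nil .nil) (.node 45717331469864 .nil .nil)) (.node 20420509550761 (.node 35883904562930 .nil .nil) .nil))) (.node 4820202326097 (.node 7507341133781 (.node 13136499714125 (.node 25726474684053 .nil .nil) (.node 42411597391719 .nil .nil)) (.node 18974518151253 (.node 33752944727969 .nil .nil) .nil)) (.node 10258904430602 (.node 16024697305039 (.node 29698681976657 .nil .nil) (.node 52930293532057 .nil .nil)) (.node 21864390408264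 (.node 38016339248807 .nil .nil) .nil))))) (.node 1106112964835 (.node 1742538385440 (.node 3106694002866 (.node 5845056080105 (.node 11347076700123 (.node 23314262579098 .nil .nil) (.node 39670571849424 .nil .nil)) (.node 17124140517434 (.node 31152427411134 .nil .nil) (.node 57810466203127 .nil .nil))) (.node 8540060825672 (.node 14230828001525 (.node 27223706818452 .nil .nil) (.node 44134317880855 .nil .nil)) (.node 20071480203414 (.node 35335958148988 .nil .nil) .nil))) (.node 4476738603215 (.node 7165101176939 (.node 12789464053773 (.node 25238575294366 .nil .nil) (.node 41861975656304 .nil .nil)) (.node 18569464068100 (.node 33205419296654 .nil .nil) .nil)) (.node 9966883084400 (.node 15673736292365 (.node 29156694210207 .nil .nil) (.node 51005795382900 .nil .nil)) (.node 21520289704088 (.node 37466984920906 .nil .nil) .nil)))) (.node 2425470994663 (.node 3797310245067 (.node 6477420017833 (.node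 12041517950949 (.node 24276537341728 .nil .nil) (.node 40763304892158 .nil .nil)) (.node 17874285226141 (.node 32176222992131 .nil .nil) (.node 61933316474180 .nil .nil))) (.node 9228062025739 (.node 14924580559060 (.node 28190091237117 .nil .nil) (.node 47359403017805 .nil .nil)) (.node 20765314615460 (.node 36374553953977 .nil .nil) .nil))) (.node 5163699226723 (.node 7852715341941 (.node 13482292746435 (.node 26206906902165 .nil .nil) (.node 42964844627615 .nil .nil)) (.node 19321268819976 (.node 34244417967811 .nil .nil) .nil)) (.node 10654178494565 (.node 16369484367948 (.node 30181611624320 .nil .nil) (.node 54512568956376 .nil .nil)) (.node 22344490477460 (.node 38565959477079 .nil .nil) .nil)))))) (.node 572914669708 (.node 915740743776 (.node 1600820119807 (.node 2962545604674 (.node 5652266530990 (.node 11147308247131 (.node 23038864381883 .nil .nil) (.node 39390526080829 .nil .nil)) (.node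 16919340656710 (.node 30936907372304 .nil .nil) (.node 56915016492459 .nil .nil))) (.node 8394636552431 (.node 14029902960770 (.node 26954298017581 .nil .nil) (.node 43789562205856 .nil .nil)) (.node 19871391811688 (.node 35062524761876 .nil .nil) .nil))) (.node 4285863839704 (.node 7019007498264 (.node 12588605753420 (.node 25031428183870 .nil .nil) (.node 41587602806564 .nil .nil)) (.node 18423856502932 (.node 32933780997897 .nil .nil) (.node 72929975715020 .nil .nil))) (.node 9769698310209 (.node 15475174951071 (.node 28939966826285 .nil .nil) (.node 50043119105585 .nil .nil)) (.node 21314802501763 (.node 37192442648320 .nil .nil) .nil)))) (.node 2276827273318 (.node 3646620305570 (.node 6333035821310 (.node 11894617356532 (.node 24008286693079 .nil .nil) (.node 40495171872439 .nil .nil)) (.node 17671831161051 (.node 31962483038000 .nil .nil) (.node 60763474838931 .nil .nil))) (.node 9081797933282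 (.node 14723203229799 (.node 27916605409027 .nil .nil) (.node 46535389759100 .nil .nil)) (.node 20621236062312 (.node 36157538973616 .nil .nil) .nil))) (.node 4965541460141 (.node 7707727026413 (.node 13283668613124 (.node 25991904999299 .nil .nil) (.node 42687030421256 .nil .nil)) (.node 19120309745634 (.node 34026901972757 .nil .nil) .nil)) (.node 10458301970539 (.node 16223592736775 (.node 29911868540693 .nil .nil) (.node 53687884912076 .nil .nil)) (.node 22073621702528 (.node 38291232597856 .nil .nil) .nil))))) (.node 1258482432145 (.node 1943847319799 (.node 3305572595804 (.node 5990579648754 (.node 11494176553004 (.node 23526344234714 .nil .nil) (.node 39945751578313 .nil .nil)) (.node 17323037272055 (.node 31422153607007 .nil .nil) (.node 58840436606393 .nil .nil))) (.node 8738889148556 (.node 14377105238200 (.node 27435332859752 .nil .nil) (.node 44892328764990 .nil .nil)) (.node 20215895128103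 (.node 35609628378997 .nil .nil) .nil))) (.node 4623119132723 (.node 7362655131679 (.node 12935542110167 (.node 25511589873552 .nil .nil) (.node 42137123800835 .nil .nil)) (.node 18772318349327 (.node 33479561471786 .nil .nil) .nil)) (.node 10114317842664 (.node 15820216858561 (.node 29425749735262 .nil .nil) (.node 51967381747230 .nil .nil)) (.node 21720764500019 (.node 37741561964205 .nil .nil) .nil)))) (.node 2619854264448 (.node 3942065199066 (.node 6675208955935 (.node 12241536645141 (.node 24542926649210 .nil .nil) (.node 41038098491223 .nil .nil)) (.node 18019808729103 (.node 32448903558938 .nil .nil) (.node 64131802776920 .nil .nil))) (.node 9426334734552 (.node 15124013529330 (.node 28397824694116 .nil .nil) (.node 48119728645669 .nil .nil)) (.node 20970400032894 (.node 36647569729174 .nil .nil) .nil))) (.node 5309189392543 (.node 8050420328396 (.node 13683572447189 (.node 26472708302669 .nil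 .nil) (.node 43239923979920 .nil .nil)) (.node 19523770554496 (.node 34517081691791 .nil .nil) .nil)) (.node 10801647724655 (.node 16574401292436 (.node 30450218444615 .nil .nil) (.node 55333629740540 .nil .nil)) (.node 22557308131252 (.node 38840872097444 .nil .nil) .nil))))))) (.node 348638984390 (.node 502063696121 (.node 845158004977 (.node 1522338662451 (.node 2838693677269 (.node 5576451508415 (.node 11073808861136 (.node 22902633375657 .nil .nil) (.node 39253187901234 .nil .nil)) (.node 16849178462366 (.node 30801514547035 .nil .nil) (.node 56506037351924 .nil .nil))) (.node 8322127685644 (.node 13956671293612 (.node 26817378973515 .nil .nil) (.node 43652224067215 .nil .nil)) (.node 19798346500194 (.node 34925119371030 .nil .nil) .nil))) (.node 4210717542595 (.node 6944366811260 (.node 12514518497460 (.node 24894223153053 .nil .nil) (.node 41450195724139 .nil .nil)) (.node 18294502156303 (.node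 32796845049667 .nil .nil) (.node 71830732326140 .nil .nil))) (.node 9697976199375 (.node 15399176411378 (.node 28805110740829 .nil .nil) (.node 49558963009070 .nil .nil)) (.node 21245210364080 (.node 37055909349185 .nil .nil) .nil)))) (.node 2205557500115 (.node 3528607582180 (.node 6263227476066 (.node 11766789929034 (.node 23931580290970 .nil .nil) (.node 40358034589389 .nil .nil)) (.node 17597848082420 (.node 31828966868918 .nil .nil) (.node 60282824144372 .nil .nil))) (.node 9010043238606 (.node 14650205137089 (.node 27840656033705 .nil .nil) (.node 46127618807305 .nil .nil)) (.node 20490738632868 (.node 36020066506670 .nil .nil) .nil))) (.node 4891822983409 (.node 7634815101099 (.node 13210418903131 (.node 25862705960591 .nil .nil) (.node 42549004293921 .nil .nil)) (.node 19047431186431 (.node 33889496590097 .nil .nil) .nil)) (.node 10385389897688 (.node 16094824585294 (.node 29777148769996 .nil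 .nil) (.node 53342576829855 .nil .nil)) (.node 21995642230830 (.node 38153793677138 .nil .nil) .nil))))) (.node 1178925631603 (.node 1865466718175 (.node 3181619833049 (.node 5919697164340 (.node 11421245315260 (.node 23443482109835 .nil .nil) (.node 39807926830800 .nil .nil)) (.node 17193649928133 (.node 31288138643089 .nil .nil) (.node 58357202990510 .nil .nil))) (.node 8665791584460 (.node 14304411003095 (.node 27298648749924 .nil .nil) (.node 44546668287505 .nil .nil)) (.node 20145615407240 (.node 35472222971767 .nil .nil) .nil))) (.node 4553358956720 (.node 7290294909182 (.node 12861906954360 (.node 25374620796808 .nil .nil) (.node 41999349450500 .nil .nil)) (.node 18698835122296 (.node 33342156056366 .nil .nil) .nil)) (.node 10040919881738 (.node 15750759049162 (.node 29290256611148 .nil .nil) (.node 51486160799355 .nil .nil)) (.node 21589981743273 (.node 37604357916324 .nil .nil) .nil)))) (.node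 2547225786620 (.node 3872556890095 (.node 6606388930565 (.node 12166443079760 (.node 24413472945988 .nil .nil) (.node 40900758681452 .nil .nil)) (.node 17946692118767 (.node 32313005660038 .nil .nil) (.node 63032559633740 .nil .nil))) (.node 9353791432932 (.node 14996421621727 (.node 28323453130650 .nil .nil) (.node 47710515009027 .nil .nil)) (.node 20896113891448 (.node 36510332143252 .nil .nil) .nil))) (.node 5233708775676 (.node 7977154451708 (.node 13555290949759 (.node 26343272326804 .nil .nil) (.node 43102384219807 .nil .nil)) (.node 19394415630320 (.node 34379877643917 .nil .nil) .nil)) (.node 10728164407477 (.node 16498537732100 (.node 30317442414408 .nil .nil) (.node 54923141576072 .nil .nil)) (.node 22421060388770 (.node 38703364884305 .nil .nil) .nil)))))) (.node 643647768602 (.node 986221836308 (.node 1671889524833 (.node 3036867082434 (.node 5722278352946 (.node 11218610620562 (.node 23177462281970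 .nil .nil) (.node 39527982888620 .nil .nil)) (.node 17048260007930 (.node 31072081909568 .nil .nil) (.node 57330788939144 .nil .nil))) (.node 8467096324283 (.node 14102765381791 (.node 27090561103727 .nil .nil) (.node 43926900520608 .nil .nil)) (.node 19941318580396 (.node 35200299185938 .nil .nil) .nil))) (.node 4405201475735 (.node 7091835938971 (.node 12662978009139 (.node 25107948938968 .nil .nil) (.node 41725008164646 .nil .nil)) (.node 18496364087533 (.node 33069104420732 .nil .nil) (.node 74029218841820 .nil .nil))) (.node 9842359425110 (.node 15545472759756 (.node 29022391740111 .nil .nil) (.node 50525161801281 .nil .nil)) (.node 21445886396512 (.node 37330216961859 .nil .nil) .nil)))) (.node 2351216142518 (.node 3719181101127 (.node 6408281843782 (.node 11967949916255 (.node 24139483260819 .nil .nil) (.node 40632677836472 .nil .nil)) (.node 17744729716744 (.node 32043079857819 .nil .nil) (.node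 61245383271838 .nil .nil))) (.node 9154510502016 (.node 14851114875074 (.node 28053220857707 .nil .nil) (.node 46946918409815 .nil .nil)) (.node 20695320840309 (.node 36294642182079 .nil .nil) .nil))) (.node 5035552651427 (.node 7779131390094 (.node 13409297713333 (.node 26128672741263 .nil .nil) (.node 42824551839585 .nil .nil)) (.node 19248624294020 (.node 34162043033360 .nil .nil) .nil)) (.node 10530392860798 (.node 16299640670365 (.node 30045313279883 .nil .nil) (.node 54100587623901 .nil .nil)) (.node 22210003789704 (.node 38428570896218 .nil .nil) .nil))))) (.node 1328862816289 (.node 2014715304062 (.node 3375919249471 (.node 6065154091129 (.node 11621887289333 (.node 23658380990214 .nil .nil) (.node 40083123386060 .nil .nil)) (.node 17398967699600 (.node 31556974131070 .nil .nil) (.node 59321154246072 .nil .nil))) (.node 8811416131734 (.node 14451513808891 (.node 27571816957787 .nil .nil) (.node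 45305081529942 .nil .nil)) (.node 20346357958795 (.node 35747505207114 .nil .nil) .nil))) (.node 4745611626725 (.node 7435651418257 (.node 13062798289142 (.node 25642102806380 .nil .nil) (.node 42274462066437 .nil .nil)) (.node 18845029320682 (.node 33616446977812 .nil .nil) .nil)) (.node 10185940826096 (.node 15948681287690 (.node 29561612040020 .nil .nil) (.node 52449156138517 .nil .nil)) (.node 21794899466296 (.node 37878949684974 .nil .nil) .nil)))) (.node 2694075037900 (.node 4062124206176 (.node 6747918391500 (.node 12314346891452 (.node 24625721534170 .nil .nil) (.node 41175469221732 .nil .nil)) (.node 18149062535295 (.node 32584044586789 .nil .nil) (.node 65231046034760 .nil .nil))) (.node 9498578626531 (.node 15197932628120 (.node 28534728357628 .nil .nil) (.node 48535215781391 .nil .nil)) (.node 21040461649958 (.node 36784287696520 .nil .nil) .nil))) (.node 5378512971895 (.node 8123448670401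 (.node 13757019420877 (.node 26607110440862 .nil .nil) (.node 43377077773973 .nil .nil)) (.node 19595978737675 (.node 34654000428702 .nil .nil) .nil)) (.node 10873806911446 (.node 16644563519557 (.node 30532543415937 .nil .nil) (.node 55745158387160 .nil .nil)) (.node 22691476412288 (.node 38978225973088 .nil .nil) .nil))))))))

/-- Part of `setKey`. -/
noncomputable def setKey_r_l_l_r_r : Arr ℕ :=
  (.node 216601946075 (.node 295939070198 (.node 437069994009 (.node 779241216042 (.node 1465244895320 (.node 2826616588346 (.node 5515415377961 (.node 11010171197509 (.node 22894112065430 .nil .nil) (.node 39184350979895 .nil .nil)) (.node 16781968894019 (.node 30733785097955 .nil .nil) (.node 56299912472054 .nil .nil))) (.node 8259428133065 (.node 13892749277245 (.node 26748928284386 .nil .nil) (.node 43583219381912 .nil .nil)) (.node 19733317224447 (.node 34857607530286 .nil .nil) .nil))) (.node 4196241877160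 (.node 6883345127656 (.node 12451133237328 (.node 24826225026961 .nil .nil) (.node 41381394134808 .nil .nil)) (.node 18286384052346 (.node 32729888749214 .nil .nil) (.node 71281228219625 .nil .nil))) (.node 9634137909367 (.node 15335354812565 (.node 28738032834445 .nil .nil) (.node 49287640933972 .nil .nil)) (.node 21177867057188 (.node 36988481570571 .nil .nil) .nil)))) (.node 2150039038204 (.node 3512267733104 (.node 6202291185782 (.node 11757882996897 (.node 23863935477526 .nil .nil) (.node 40289248024272 .nil .nil)) (.node 17536391776199 (.node 31760769455928 .nil .nil) (.node 60009673893344 .nil .nil))) (.node 8946808952956 (.node 14585915258983 (.node 27773949065112 .nil .nil) (.node 45920067798645 .nil .nil)) (.node 20483813894242 (.node 35951564982198 .nil .nil) .nil))) (.node 4829243729998 (.node 7571278067930 (.node 13200136640758 (.node 25794070128284 .nil .nil) (.node 42480300087144 .nil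 .nil)) (.node 18982300526572 (.node 33820827432728 .nil .nil) .nil)) (.node 10321951807673 (.node 16086187345925 (.node 29762923054925 .nil .nil) (.node 53135143486940 .nil .nil)) (.node 21932287371438 (.node 38085041944233 .nil .nil) .nil))))) (.node 1122351814768 (.node 1808322222139 (.node 3168636983342 (.node 5858962245728 (.node 11356015962264 (.node 23382361376658 .nil .nil) (.node 39739274553039 .nil .nil)) (.node 17185631881205 (.node 31221029418695 .nil .nil) (.node 58084019152294 .nil .nil))) (.node 8602339682360 (.node 14240557811682 (.node 27290833115060 .nil .nil) (.node 44336903505500 .nil .nil)) (.node 20078724372616 (.node 35403857487693 .nil .nil) .nil))) (.node 4486015445118 (.node 7227949107416 (.node 12798924978138 (.node 25306573416342 .nil .nil) (.node 41930678351727 .nil .nil)) (.node 18633954138330 (.node 33273486931755 .nil .nil) .nil)) (.node 9977918318775 (.node 15682826582074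 (.node 29224975845127 .nil .nil) (.node 51214000191058 .nil .nil)) (.node 21583308777525 (.node 37535687624521 .nil .nil) .nil)))) (.node 2487514011856 (.node 3855395317920 (.node 6540821547255 (.node 12105422411869 (.node 24344887572319 .nil .nil) (.node 40832007595773 .nil .nil)) (.node 17882286123009 (.node 32244353230724 .nil .nil) (.node 62482938004820 .nil .nil))) (.node 9291092617397 (.node 14988067109087 (.node 28255454861215 .nil .nil) (.node 47504239166980 .nil .nil)) (.node 20832860448883 (.node 36442988168899 .nil .nil) .nil))) (.node 5172522399832 (.node 7915060930695 (.node 13546249959640 (.node 26275559601796 .nil .nil) (.node 43033530590877 .nil .nil)) (.node 19386230986866 (.node 34311510410892 .nil .nil) .nil)) (.node 10665565907135 (.node 16437046044827 (.node 30250182219592 .nil .nil) (.node 54717066536445 .nil .nil)) (.node 22352760055732 (.node 38634662172504 .nil .nil) .nil))))))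 (.node 629186746462 (.node 972582934574 (.node 1655935867100 (.node 2974991730912 (.node 5713437960342 (.node 11210072975575 (.node 23106946480053 .nil .nil) (.node 39459228776254 .nil .nil)) (.node 16986702927821 (.node 31004282947508 .nil .nil) (.node 57122416133586 .nil .nil))) (.node 8454618495110 (.node 14093640468725 (.node 27022312761180 .nil .nil) (.node 43858315196062 .nil .nil)) (.node 19934058051732 (.node 35131596490513 .nil .nil) .nil))) (.node 4347150051509 (.node 7029106079757 (.node 12653148600511 (.node 25092816648050 .nil .nil) (.node 41656305510179 .nil .nil)) (.node 18432075286542 (.node 33001795901233 .nil .nil) (.node 73479714731210 .nil .nil))) (.node 9833821391017 (.node 15536263792655 (.node 28954192692917 .nil .nil) (.node 50250988398142 .nil .nil)) (.node 21382700083317 (.node 37261145351935 .nil .nil) .nil)))) (.node 2289038485740 (.node 3661028866239 (.node 6394946074850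 (.node 11904129263594 (.node 24075680630493 .nil .nil) (.node 40563874567864 .nil .nil)) (.node 17736879900785 (.node 31977782179524 .nil .nil) (.node 61038436464105 .nil .nil))) (.node 9142853064860 (.node 14787996469426 (.node 27985004672872 .nil .nil) (.node 46744768788033 .nil .nil)) (.node 20628128045101 (.node 36225939478464 .nil .nil) .nil))) (.node 5026662156485 (.node 7767323089040 (.node 13345912178747 (.node 26060356052869 .nil .nil) (.node 42755766671111 .nil .nil)) (.node 19184098215946 (.node 34095638222614 .nil .nil) .nil)) (.node 10521284569288 (.node 16232298444747 (.node 29978155611992 .nil .nil) (.node 53958083003885 .nil .nil)) (.node 22141670123401 (.node 38359968847711 .nil .nil) .nil))))) (.node 1315845072875 (.node 1997973440705 (.node 3318052341974 (.node 6056465373200 (.node 11558449072335 (.node 23589812463377 .nil .nil) (.node 40014454273738 .nil .nil)) (.node 17331036698703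 (.node 31489531377447 .nil .nil) (.node 59046947263950 .nil .nil))) (.node 8801972533498 (.node 14440542918680 (.node 27503651198792 .nil .nil) (.node 45159843018350 .nil .nil)) (.node 20283087906946 (.node 35678802511689 .nil .nil) .nil))) (.node 4684003637499 (.node 7372820858895 (.node 12999027210320 (.node 25579236079500 .nil .nil) (.node 42205826496260 .nil .nil)) (.node 18836710058144 (.node 33548297721641 .nil .nil) .nil)) (.node 10176177563901 (.node 15888213256314 (.node 29493091731390 .nil .nil) (.node 52242242774625 .nil .nil)) (.node 21727404546121 (.node 37810264659619 .nil .nil) .nil)))) (.node 2632099096802 (.node 4004139960497 (.node 6686397933563 (.node 12251953784839 (.node 24557757400785 .nil .nil) (.node 41106834741080 .nil .nil)) (.node 18084097640677 (.node 32516396365756 .nil .nil) (.node 64681424340320 .nil .nil))) (.node 9489334900986 (.node 15133508212716 (.node 28466277349095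 .nil .nil) (.node 48326457263705 .nil .nil)) (.node 21033552836682 (.node 36716305979029 .nil .nil) .nil))) (.node 5369974749252 (.node 8061424568332 (.node 13693769836611 (.node 26540872542064 .nil .nil) (.node 43308609959566 .nil .nil)) (.node 19531451975663 (.node 34585297733277 .nil .nil) .nil)) (.node 10865015933162 (.node 16635976697855 (.node 30465601611454 .nil .nil) (.node 55540727596465 .nil .nil)) (.node 22623411210101 (.node 38909574801070 .nil .nil) .nil))))))) (.node 366555162699 (.node 556222961900 (.node 898260551885 (.node 1535474358302 (.node 2900132976822 (.node 5585274837168 (.node 11084460984318 (.node 22970681718714 .nil .nil) (.node 39321890604849 .nil .nil)) (.node 16910787508220 (.node 30868454115200 .nil .nil) (.node 56711524664831 .nil .nil))) (.node 8331253221348 (.node 13965695854631 (.node 26885880637186 .nil .nil) (.node 43720910046861 .nil .nil)) (.node 19806262880229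 (.node 34993822066451 .nil .nil) .nil))) (.node 4268735588471 (.node 6955670456507 (.node 12524498598031 (.node 24962859788073 .nil .nil) (.node 41518898419564 .nil .nil)) (.node 18359092852974 (.node 32865480652611 .nil .nil) (.node 72380471342330 .nil .nil))) (.node 9705290516458 (.node 15408351782965 (.node 28873392101307 .nil .nil) (.node 49768023148085 .nil .nil)) (.node 21308430674010 (.node 37123739961081 .nil .nil) .nil)))) (.node 2221695572028 (.node 3590732527814 (.node 6271932749994 (.node 11830611634265 (.node 23993103738755 .nil .nil) (.node 40426737284814 .nil .nil)) (.node 17606637795265 (.node 31897434798002 .nil .nil) (.node 60556762985870 .nil .nil))) (.node 9018161821794 (.node 14713542293508 (.node 27848338863902 .nil .nil) (.node 46332485473863 .nil .nil)) (.node 20557881919611 (.node 36088836278191 .nil .nil) .nil))) (.node 4957188696065 (.node 7644712908762 (.node 13273318483911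 (.node 25923319801724 .nil .nil) (.node 42617706997538 .nil .nil)) (.node 19111051135115 (.node 33958232839954 .nil .nil) .nil)) (.node 10394731563163 (.node 16162151512212 (.node 29844308387479 .nil .nil) (.node 53545598391800 .nil .nil)) (.node 22001862907970 (.node 38222529926993 .nil .nil) .nil))))) (.node 1193067907089 (.node 1877746088059 (.node 3242991880396 (.node 5928084539433 (.node 11484096022520 (.node 23458883208915 .nil .nil) (.node 39876663080655 .nil .nil)) (.node 17261545859136 (.node 31356237448853 .nil .nil) (.node 58565625791933 .nil .nil))) (.node 8674882967697 (.node 14366003075120 (.node 27366983833350 .nil .nil) (.node 44747358410360 .nil .nil)) (.node 20208935790733 (.node 35540925675382 .nil .nil) .nil))) (.node 4614026913946 (.node 7300426688573 (.node 12925325805813 (.node 25443289847693 .nil .nil) (.node 42068052145923 .nil .nil)) (.node 18706752038917 (.node 33410892306221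 .nil .nil) .nil)) (.node 10051218102430 (.node 15811208787980 (.node 29357665855364 .nil .nil) (.node 51758523008525 .nil .nil)) (.node 21657678047398 (.node 37673060611758 .nil .nil) .nil)))) (.node 2557340932288 (.node 3925792544824 (.node 6614541043757 (.node 12177915893836 (.node 24481386383253 .nil .nil) (.node 40969494939499 .nil .nil)) (.node 18011589986453 (.node 32380584273806 .nil .nil) (.node 63582181164380 .nil .nil))) (.node 9364392482949 (.node 15061079935198 (.node 28390546032545 .nil .nil) (.node 47914844735096 .nil .nil)) (.node 20902787651716 (.node 36578699277975 .nil .nil) .nil))) (.node 5295233186030 (.node 7986917898219 (.node 13619631093953 (.node 26411924579993 .nil .nil) (.node 43171137210013 .nil .nil)) (.node 19458808567794 (.node 34448345441936 .nil .nil) .nil)) (.node 10739319023663 (.node 16507023927374 (.node 30384784406459 .nil .nil) (.node 55128444282295 .nil .nil))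 (.node 22489007769535 (.node 38772067579730 .nil .nil) .nil)))))) (.node 708860811423 (.node 1051232102656 (.node 1728664553559 (.node 3097082243315 (.node 5783296907517 (.node 11283705755834 (.node 23246047139669 .nil .nil) (.node 39596719146662 .nil .nil)) (.node 17056714020810 (.node 31138453100360 .nil .nil) (.node 57602529949099 .nil .nil))) (.node 8529192073212 (.node 14167241242760 (.node 27156530472860 .nil .nil) (.node 43995586483870 .nil .nil)) (.node 20008813439151 (.node 35267475588856 .nil .nil) .nil))) (.node 4422229141468 (.node 7155456833550 (.node 12724852590832 (.node 25176098109139 .nil .nil) (.node 41793710868261 .nil .nil)) (.node 18561429665948 (.node 33137622644607 .nil .nil) (.node 74578957862105 .nil .nil))) (.node 9907120478275 (.node 15612513282201 (.node 29089736009372 .nil .nil) (.node 50732527670879 .nil .nil)) (.node 21452207892613 (.node 37398919657284 .nil .nil) .nil))))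 (.node 2413762885780 (.node 3736174962659 (.node 6469385992240 (.node 12031788140788 (.node 24207650010955 .nil .nil) (.node 40701380531895 .nil .nil)) (.node 17809152514288 (.node 32110488979273 .nil .nil) (.node 61518986388890 .nil .nil))) (.node 9217561176092 (.node 14861732460637 (.node 28121622980440 .nil .nil) (.node 47090513036910 .nil .nil)) (.node 20758691739762 (.node 36361603041005 .nil .nil) .nil))) (.node 5102544337065 (.node 7842618226665 (.node 13417952700537 (.node 26191892170595 .nil .nil) (.node 42893254543202 .nil .nil)) (.node 19257580922844 (.node 34175866308283 .nil .nil) .nil)) (.node 10594163337427 (.node 16361132341250 (.node 30113833842427 .nil .nil) (.node 54306779604443 .nil .nil)) (.node 22278219917198 (.node 38497307146073 .nil .nil) .nil))))) (.node 1394544679154 (.node 2072094087288 (.node 3392359888852 (.node 6126106691765 (.node 11630374144115 (.node 23726831724375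 .nil .nil) (.node 40151826089675 .nil .nil)) (.node 17460442691570 (.node 31624772966204 .nil .nil) (.node 59529342092719 .nil .nil))) (.node 8874248759326 (.node 14512967428283 (.node 27640352208664 .nil .nil) (.node 45511122548309 .nil .nil)) (.node 20353366882467 (.node 35815568750504 .nil .nil) .nil))) (.node 4758913865878 (.node 7498953582591 (.node 13073014593493 (.node 25657838986910 .nil .nil) (.node 42343164761862 .nil .nil)) (.node 18909455435772 (.node 33684677920687 .nil .nil) .nil)) (.node 10249376757699 (.node 15957586622615 (.node 29630381836113 .nil .nil) (.node 52722910213649 .nil .nil)) (.node 21858186524716 (.node 37947685934829 .nil .nil) .nil)))) (.node 2755783288968 (.node 4078396807146 (.node 6811020621826 (.node 12377113098418 (.node 24689104795547 .nil .nil) (.node 41244205471587 .nil .nil)) (.node 18157113554958 (.node 32649778448165 .nil .nil) (.node 65780667598160 .nil .nil)))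 (.node 9561208883219 (.node 15261486045425 (.node 28602691303274 .nil .nil) (.node 48806051178020 .nil .nil)) (.node 21107805440124 (.node 36852990391943 .nil .nil) .nil))) (.node 5441125800181 (.node 8186231445734 (.node 13820256446422 (.node 26674605303701 .nil .nil) (.node 43445763655319 .nil .nil)) (.node 19660773333104 (.node 34721326122733 .nil .nil) .nil)) (.node 10937844345068 (.node 16711739639958 (.node 30599214221090 .nil .nil) (.node 55887881008540 .nil .nil)) (.node 22759843305359 (.node 39046962222943 .nil .nil) .nil))))))))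

/-- Part of `setKey`. -/
noncomputable def setKey_r_l_l_r : Arr ℕ :=
  .node 94361704468 setKey_r_l_l_r_l setKey_r_l_l_r_r

/-- Part of `setKey`. -/
noncomputable def setKey_r_l_l : Arr ℕ :=
  .node 79346878623 setKey_r_l_l_l setKey_r_l_l_r

/-- Part of `setKey`. -/
noncomputable def setKey_r_l_r_l_l : Arr ℕ :=
  (.node 158449694968 (.node 228462102676 (.node 418784020715 (.node 760855165130 (.node 1398354106390 (.node 2763029637305 (.node 5447668156583 (.node 10944806135958 (.node 22765060134835 .nil .nil) (.node 39115112445611 .nil .nil)) (.node 16714071767058 (.node 30663505786612 .nil .nil) (.node 56090298897855 .nil .nil))) (.node 8194082678760 (.node 13827466885304 (.node 26680024172331 .nil .nil) (.node 43511917115062 .nil .nil)) (.node 19665738442740 (.node 34786739140476 .nil .nil) .nil))) (.node 4131380525122 (.node 6818030266564 (.node 12385903663063 (.node 24756869314299 .nil .nil) (.node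 41312188110648 .nil .nil)) (.node 18218906028109 (.node 32659305441093 .nil .nil) (.node 70594016699630 .nil .nil))) (.node 9567783450730 (.node 15268697028808 (.node 28668777027498 .nil .nil) (.node 49009073014325 .nil .nil)) (.node 21112201406413 (.node 36917110040434 .nil .nil) .nil)))) (.node 2084223088702 (.node 3453411051715 (.node 6134393141415 (.node 11691629942812 (.node 23794376226713 .nil .nil) (.node 40212725139367 .nil .nil)) (.node 17468559472768 (.node 31688074680140 .nil .nil) (.node 59732380558846 .nil .nil))) (.node 8880220760032 (.node 14574291306740 (.node 27703116433325 .nil .nil) (.node 45709733017190 .nil .nil)) (.node 20415697782995 (.node 35826408388280 .nil .nil) .nil))) (.node 4819716196355 (.node 7505392625853 (.node 13134050715842 (.node 25725401065113 .nil .nil) (.node 42411110729583 .nil .nil)) (.node 18914654357488 (.node 33694209271483 .nil .nil) .nil)) (.node 10255734073302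 (.node 16018020890681 (.node 29639340803740 .nil .nil) (.node 52863905547719 .nil .nil)) (.node 21863887345704 (.node 38015567517347 .nil .nil) .nil))))) (.node 1055729666071 (.node 1740340664445 (.node 3105754212555 (.node 5791098099857 (.node 11344861599986 (.node 23306076694415 .nil .nil) (.node 39663691089832 .nil .nil)) (.node 17117565835326 (.node 31149238601449 .nil .nil) (.node 57807312995765 .nil .nil))) (.node 8536304629740 (.node 14173682174071 (.node 27161009903402 .nil .nil) (.node 44067359540816 .nil .nil)) (.node 20012639659984 (.node 35333813257984 .nil .nil) .nil))) (.node 4476587952288 (.node 7163407194163 (.node 12733879355387 (.node 25237637211878 .nil .nil) (.node 41861608482584 .nil .nil)) (.node 18566241056991 (.node 33202987337656 .nil .nil) .nil)) (.node 9913393305739 (.node 15615986092051 (.node 29152951838531 .nil .nil) (.node 50937059133043 .nil .nil)) (.node 21514940909795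 (.node 37465911375652 .nil .nil) .nil)))) (.node 2420203841722 (.node 3788403935281 (.node 6477135272068 (.node 12039401547982 (.node 24275984025328 .nil .nil) (.node 40762466047784 .nil .nil)) (.node 17814589900789 (.node 32174059222814 .nil .nil) (.node 61795961210225 .nil .nil))) (.node 9224269916263 (.node 14922183673793 (.node 28186114832281 .nil .nil) (.node 47295581345330 .nil .nil)) (.node 20764812093485 (.node 36369989273408 .nil .nil) .nil))) (.node 5157827807465 (.node 7849259681947 (.node 13480264562825 (.node 26205967427226 .nil .nil) (.node 42961557309120 .nil .nil)) (.node 19318752970867 (.node 34241514223336 .nil .nil) .nil)) (.node 10601192028307 (.node 16369150531524 (.node 30179164792655 .nil .nil) (.node 54507973002725 .nil .nil)) (.node 22283503732665 (.node 38565355648838 .nil .nil) .nil)))))) (.node 572411709539 (.node 913860643060 (.node 1591259183204 (.node 2959542651125 (.node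 5645757315326 (.node 11144757803221 (.node 23035677595519 .nil .nil) (.node 39389469443822 .nil .nil)) (.node 16918518585462 (.node 30934609418046 .nil .nil) (.node 56850121614725 .nil .nil))) (.node 8391668644025 (.node 14026699864057 (.node 26953759770475 .nil .nil) (.node 43786710894275 .nil .nil)) (.node 19866076104935 (.node 35060560058251 .nil .nil) .nil))) (.node 4284353947632 (.node 7017061615619 (.node 12586844600390 (.node 24970241820374 .nil .nil) (.node 41587232458594 .nil .nil)) (.node 18364244817925 (.node 32929736435586 .nil .nil) (.node 72792503215310 .nil .nil))) (.node 9767316953117 (.node 15468298758213 (.node 28882218989207 .nil .nil) (.node 49974382855730 .nil .nil)) (.node 21314433058979 (.node 37190396036947 .nil .nil) .nil)))) (.node 2275887802472 (.node 3598786516949 (.node 6332080916538 (.node 11837119346848 (.node 24002010761108 .nil .nil) (.node 40487653263280 .nil .nil))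 (.node 17669083105403 (.node 31906899269253 .nil .nil) (.node 60695124223470 .nil .nil))) (.node 9079753172995 (.node 14721325545450 (.node 27915815450475 .nil .nil) (.node 46469588964933 .nil .nil)) (.node 20562613397453 (.node 36097227171464 .nil .nil) .nil))) (.node 4965105928323 (.node 7705330079760 (.node 13279775950891 (.node 25991351203727 .nil .nil) (.node 42686275417910 .nil .nil)) (.node 19116385273861 (.node 33967342691984 .nil .nil) .nil)) (.node 10457060792411 (.node 16164567631893 (.node 29907692168958 .nil .nil) (.node 53684765115860 .nil .nil)) (.node 22072447256464 (.node 38290679105357 .nil .nil) .nil))))) (.node 1257172465918 (.node 1934655187034 (.node 3251245197524 (.node 5988734818490 (.node 11492013795294 (.node 23520891524919 .nil .nil) (.node 39938031966137 .nil .nil)) (.node 17264196560920 (.node 31419116021620 .nil .nil) (.node 58771733902778 .nil .nil))) (.node 8736138242267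 (.node 14374875121876 (.node 27434613159718 .nil .nil) (.node 44886525134420 .nil .nil)) (.node 20215189915818 (.node 35607800002473 .nil .nil) .nil))) (.node 4622531352748 (.node 7360976918768 (.node 12932387661889 (.node 25504697399150 .nil .nil) (.node 42136385570607 .nil .nil)) (.node 18769265580190 (.node 33477666154267 .nil .nil) .nil)) (.node 10111366969374 (.node 15819812567145 (.node 29423080781755 .nil .nil) (.node 51899131803238 .nil .nil)) (.node 21662376912835 (.node 37741008447151 .nil .nil) .nil)))) (.node 2618478557322 (.node 3941545187287 (.node 6673430087873 (.node 12239959103714 (.node 24487796090591 .nil .nil) (.node 41037610739561 .nil .nil)) (.node 18016418191582 (.node 32446622377773 .nil .nil) (.node 63994447533440 .nil .nil))) (.node 9423954315285 (.node 15066918029418 (.node 28397322934014 .nil .nil) (.node 48053357602318 .nil .nil)) (.node 20965319362775 (.node 36642821031665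 .nil .nil) .nil))) (.node 5303720392950 (.node 8048390613000 (.node 13681105684728 (.node 26469705050013 .nil .nil) (.node 43236384671436 .nil .nil)) (.node 19463269603292 (.node 34512265738020 .nil .nil) .nil)) (.node 10799199647681 (.node 16567726229624 (.node 30394248738452 .nil .nil) (.node 55265816143285 .nil .nil)) (.node 22554054240127 (.node 38840033281704 .nil .nil) .nil))))))) (.node 299178113042 (.node 491714275433 (.node 835143575693 (.node 1518496925915 (.node 2837485697254 (.node 5575999031444 (.node 11071493179621 (.node 22901492811681 .nil .nil) (.node 39252617500458 .nil .nil)) (.node 16842621110327 (.node 30799887685449 .nil .nil) (.node 56437384971764 .nil .nil))) (.node 8317213087880 (.node 13901439301629 (.node 26816892626731 .nil .nil) (.node 43648718304971 .nil .nil)) (.node 19737778571220 (.node 34923154667401 .nil .nil) .nil))) (.node 4209677691059 (.node 6891028387927 (.node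 12513008728312 (.node 24893939111695 .nil .nil) (.node 41449593567026 .nil .nil)) (.node 18291430414549 (.node 32793876342550 .nil .nil) (.node 71693259826430 .nil .nil))) (.node 9692474685590 (.node 15342466795604 (.node 28800548448095 .nil .nil) (.node 49493715490385 .nil .nil)) (.node 21240130062575 (.node 37053324191611 .nil .nil) .nil)))) (.node 2155341719577 (.node 3523740866754 (.node 6257406478565 (.node 11764943210696 (.node 23870378043092 .nil .nil) (.node 40350449227692 .nil .nil)) (.node 17538638227478 (.node 31770382546639 .nil .nil) (.node 60214054331893 .nil .nil))) (.node 9004508493950 (.node 14648025860256 (.node 27779064354662 .nil .nil) (.node 46059871975003 .nil .nil)) (.node 20490370074766 (.node 35960123311773 .nil .nil) .nil))) (.node 4889156098250 (.node 7578794743822 (.node 13207181662276 (.node 25854851790732 .nil .nil) (.node 42548534908648 .nil .nil)) (.node 19043707373635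 (.node 33830071535246 .nil .nil) .nil)) (.node 10383191771303 (.node 16094036043902 (.node 29773691533104 .nil .nil) (.node 53274729473506 .nil .nil)) (.node 21936650397644 (.node 38152921671400 .nil .nil) .nil))))) (.node 1178406205400 (.node 1860433836230 (.node 3180445640919 (.node 5919059982350 (.node 11418361895000 (.node 23388553197275 .nil .nil) (.node 39800945452968 .nil .nil)) (.node 17193212287015 (.node 31283641321257 .nil .nil) (.node 58290110490023 .nil .nil))) (.node 8611247441929 (.node 14301593958588 (.node 27297927403368 .nil .nil) (.node 44478653167209 .nil .nil)) (.node 20140886935775 (.node 35470327535531 .nil .nil) .nil))) (.node 4546598213884 (.node 7235616872448 (.node 12859005065394 (.node 25374369380225 .nil .nil) (.node 41999148091154 .nil .nil)) (.node 18639240116228 (.node 33340193662745 .nil .nil) .nil)) (.node 10039006779645 (.node 15743109494892 (.node 29287838959503 .nil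 .nil) (.node 51417458087550 .nil .nil)) (.node 21589311350887 (.node 37603316766502 .nil .nil) .nil)))) (.node 2494324713695 (.node 3866684217524 (.node 6546726627501 (.node 12112937072678 (.node 24405387048830 .nil .nil) (.node 40899804395298 .nil .nil)) (.node 17944095287336 (.node 32310120433600 .nil .nil) (.node 62895204463970 .nil .nil))) (.node 9351644256508 (.node 14995062224934 (.node 28260066989928 .nil .nil) (.node 47641912944134 .nil .nil)) (.node 20837206095824 (.node 36505717421904 .nil .nil) .nil))) (.node 5232535873597 (.node 7923784738804 (.node 13553143883928 (.node 26335753860984 .nil .nil) (.node 43099532900036 .nil .nil)) (.node 19391128913920 (.node 34374793221926 .nil .nil) .nil)) (.node 10725933320447 (.node 16439277774872 (.node 30312813053765 .nil .nil) (.node 54856988222892 .nil .nil)) (.node 22419919579052 (.node 38702829262509 .nil .nil) .nil)))))) (.node 641835808816 (.node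 984946440298 (.node 1670782613625 (.node 3031500007477 (.node 5721741322338 (.node 11217387268075 (.node 23176924297113 .nil .nil) (.node 39526941943532 .nil .nil)) (.node 16988815431709 (.node 31014887777990 .nil .nil) (.node 57262119785864 .nil .nil))) (.node 8464513681627 (.node 14100684146876 (.node 27086301411219 .nil .nil) (.node 43923613202111 .nil .nil)) (.node 19940949575850 (.node 35198252820233 .nil .nil) .nil))) (.node 4354315102161 (.node 7090158708883 (.node 12660830820435 (.node 25100901468061 .nil .nil) (.node 41724605564732 .nil .nil)) (.node 18493649660056 (.node 33066808547102 .nil .nil) (.node 73891746342110 .nil .nil))) (.node 9840630368438 (.node 15544213305447 (.node 29018163197712 .nil .nil) (.node 50456224265796 .nil .nil)) (.node 21386827659215 (.node 37327801452369 .nil .nil) .nil)))) (.node 2350008035534 (.node 3717922883661 (.node 6403281938680 (.node 11965198858442 (.node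 24138863769340 .nil .nil) (.node 40624689719204 .nil .nil)) (.node 17741556844777 (.node 32038683391751 .nil .nil) (.node 61178139686336 .nil .nil))) (.node 9152212613240 (.node 14849202706675 (.node 28052668720981 .nil .nil) (.node 46883230938680 .nil .nil)) (.node 20690508482795 (.node 36235336816276 .nil .nil) .nil))) (.node 5035133732968 (.node 7777890498620 (.node 13407150393518 (.node 26069753267853 .nil .nil) (.node 42823679453027 .nil .nil)) (.node 19189163272160 (.node 34104227878557 .nil .nil) .nil)) (.node 10527573448888 (.node 16292898621567 (.node 30042998654899 .nil .nil) (.node 54095488394735 .nil .nil)) (.node 22207085045660 (.node 38428052072103 .nil .nil) .nil))))) (.node 1327772162186 (.node 2012516305146 (.node 3374912592014 (.node 6064549796016 (.node 11616553080920 (.node 23657373341591 .nil .nil) (.node 40075722655660 .nil .nil)) (.node 17392293185582 (.node 31554728494897 .nil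 .nil) (.node 59252334130613 .nil .nil))) (.node 8809100032202 (.node 14446481270759 (.node 27568310564763 .nil .nil) (.node 45297248413295 .nil .nil)) (.node 20287886624715 (.node 35745104508862 .nil .nil) .nil))) (.node 4692056594517 (.node 7433100978400 (.node 13005468043400 (.node 25589169993364 .nil .nil) (.node 42273890281317 .nil .nil)) (.node 18841910294518 (.node 33612153034520 .nil .nil) .nil)) (.node 10183491188842 (.node 15890394204191 (.node 29504065906358 .nil .nil) (.node 52382700975671 .nil .nil)) (.node 21789751740635 (.node 37878412674852 .nil .nil) .nil)))) (.node 2688775006325 (.node 4058836445360 (.node 6745738275055 (.node 12312905934976 (.node 24619782539020 .nil .nil) (.node 41175017740057 .nil .nil)) (.node 18089568425975 (.node 32526196061904 .nil .nil) (.node 65093690770805 .nil .nil))) (.node 9496631863411 (.node 15194829535443 (.node 28533837637484 .nil .nil) (.node 48466529867274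 .nil .nil)) (.node 21039789967523 (.node 36780058580814 .nil .nil) .nil))) (.node 5378026674240 (.node 8121169049730 (.node 13754856610006 (.node 26603806070720 .nil .nil) (.node 43374461388469 .nil .nil)) (.node 19592724973616 (.node 34649872414498 .nil .nil) .nil)) (.node 10871707580606 (.node 16643843938242 (.node 30527777236831 .nil .nil) (.node 55678015600057 .nil .nil)) (.node 22690453067661 (.node 38977488185066 .nil .nil) .nil))))))))

/-- Part of `setKey`. -/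
noncomputable def setKey_r_l_r_l_r : Arr ℕ :=
  (.node 211233605825 (.node 285388142666 (.node 435442186382 (.node 778184173706 (.node 1463314434292 (.node 2825677101116 (.node 5514760501413 (.node 11008175183971 (.node 22833394022305 .nil .nil) (.node 39183815149221 .nil .nil)) (.node 16781297838189 (.node 30731400931205 .nil .nil) (.node 56295048390095 .nil .nil))) (.node 8257298360557 (.node 13890669770770 (.node 26748408121096 .nil .nil) (.node 43580535903928 .nil .nil)) (.node 19730365167716 (.node 34854739326734 .nil .nil) .nil))) (.node 4148475066338 (.node 6880729336015 (.node 12449439197256 (.node 24825320216350 .nil .nil) (.node 41380890814263 .nil .nil)) (.node 18227024119798 (.node 32726716725043 .nil .nil) (.node 71143822796015 .nil .nil))) (.node 9631553706215 (.node 15332386908116 (.node 28736290649945 .nil .nil) (.node 49218871129685 .nil .nil)) (.node 21177262954556 (.node 36985059886831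 .nil .nil) .nil)))) (.node 2140931287073 (.node 3509214873770 (.node 6195563321597 (.node 11702600677379 (.node 23855698323335 .nil .nil) (.node 40281461389224 .nil .nil)) (.node 17529732114476 (.node 31702753412790 .nil .nil) (.node 60006872991125 .nil .nil))) (.node 8945399150803 (.node 14583853045740 (.node 27710749271788 .nil .nil) (.node 45853663225436 .nil .nil)) (.node 20425140914126 (.node 35894054573745 .nil .nil) .nil))) (.node 4828337379492 (.node 7568763258897 (.node 13143175505982 (.node 25786619168628 .nil .nil) (.node 42479846979440 .nil .nil)) (.node 18979214833664 (.node 33761536399000 .nil .nil) .nil)) (.node 10320493045989 (.node 16027095099420 (.node 29706500314782 .nil .nil) (.node 53067313026533 .nil .nil)) (.node 21927190632680 (.node 38084270220973 .nil .nil) .nil))))) (.node 1121312028794 (.node 1806324578550 (.node 3168267872339 (.node 5853241366769 (.node 11354590472263 (.node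 23320353490656 .nil .nil) (.node 39732393785255 .nil .nil)) (.node 17126791153689 (.node 31217756800745 .nil .nil) (.node 58015350011299 .nil .nil))) (.node 8600109107146 (.node 14237854415056 (.node 27229561788151 .nil .nil) (.node 44271354132078 .nil .nil)) (.node 20078321883248 (.node 35401792464818 .nil .nil) .nil))) (.node 4485763655837 (.node 7224948025368 (.node 12795802400972 (.node 25306238859079 .nil .nil) (.node 41930311178007 .nil .nil)) (.node 18631071881342 (.node 33271423842080 .nil .nil) .nil)) (.node 9976643987691 (.node 15681620080589 (.node 29220545693557 .nil .nil) (.node 51208633005590 .nil .nil)) (.node 21524971472836 (.node 37534614079267 .nil .nil) .nil)))) (.node 2482717223058 (.node 3804609464283 (.node 6538322892980 (.node 12103023487193 (.node 24344115193750 .nil .nil) (.node 40831168751399 .nil .nil)) (.node 17879130155230 (.node 32242241922857 .nil .nil) (.node 62345582769530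 .nil .nil))) (.node 9289113856215 (.node 14932466214919 (.node 28253006432165 .nil .nil) (.node 47496808404560 .nil .nil)) (.node 20827947505880 (.node 36438624876352 .nil .nil) .nil))) (.node 5172254099520 (.node 7912310401048 (.node 13543884622071 (.node 26274620028560 .nil .nil) (.node 43030310348478 .nil .nil)) (.node 19326199830488 (.node 34307415631646 .nil .nil) .nil)) (.node 10664107280605 (.node 16430337583225 (.node 30247496411065 .nil .nil) (.node 54650813023662 .nil .nil)) (.node 22351619401640 (.node 38634058352453 .nil .nil) .nil)))))) (.node 628784625620 (.node 968674015460 (.node 1605552465938 (.node 2969825274036 (.node 5707516475630 (.node 11207892490407 (.node 23103726016394 .nil .nil) (.node 39458205693677 .nil .nil)) (.node 16980060071985 (.node 31000108451645 .nil .nil) (.node 57056263275907 .nil .nil))) (.node 8401581955196 (.node 14036394186871 (.node 27018990880667 .nil .nil)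 (.node 43855463933633 .nil .nil)) (.node 19875234318287 (.node 35129550116618 .nil .nil) .nil))) (.node 4338008696890 (.node 7026337241143 (.node 12650196269303 (.node 25037618886367 .nil .nil) (.node 41655935154017 .nil .nil)) (.node 18428684716255 (.node 32998254659461 .nil .nil) (.node 73342309307600 .nil .nil))) (.node 9777884895241 (.node 15478580668446 (.node 28949477267216 .nil .nil) (.node 50182838982247 .nil .nil)) (.node 21377569118420 (.node 37259098732372 .nil .nil) .nil)))) (.node 2287964997857 (.node 3660022134992 (.node 6341374019643 (.node 11902298368189 (.node 24070278592231 .nil .nil) (.node 40556355958703 .nil .nil)) (.node 17677217818625 (.node 31973587089139 .nil .nil) (.node 60969700214250 .nil .nil))) (.node 9089917261887 (.node 14785481582750 (.node 27984300005230 .nil .nil) (.node 46676401587769 .nil .nil)) (.node 20627909683340 (.node 36165929866887 .nil .nil) .nil))) (.node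 5026260281445 (.node 7714638903397 (.node 13343715096629 (.node 26054419670885 .nil .nil) (.node 42754978121525 .nil .nil)) (.node 19180642977922 (.node 34035491628702 .nil .nil) .nil)) (.node 10516773083240 (.node 16231409571784 (.node 29974664693645 .nil .nil) (.node 53891812439535 .nil .nil)) (.node 22140630321031 (.node 38359381800782 .nil .nil) .nil))))) (.node 1310543841485 (.node 1948059445277 (.node 3312281774272 (.node 5997524568230 (.node 11555784079445 (.node 23589207447451 .nil .nil) (.node 40006734669754 .nil .nil)) (.node 17330618816461 (.node 31487063488396 .nil .nil) (.node 58978982376944 .nil .nil))) (.node 8745296742525 (.node 14438160287971 (.node 27503112640368 .nil .nil) (.node 45095602067042 .nil .nil)) (.node 20278325860580 (.node 35676368259005 .nil .nil) .nil))) (.node 4682813749376 (.node 7369833871418 (.node 12995807258595 (.node 25520517850758 .nil .nil) (.node 42205088266032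 .nil .nil)) (.node 18777416919011 (.node 33546368849692 .nil .nil) .nil)) (.node 10121130149903 (.node 15880548423790 (.node 29489588447015 .nil .nil) (.node 52173506516578 .nil .nil)) (.node 21726649649249 (.node 37809744696993 .nil .nil) .nil)))) (.node 2631025400042 (.node 4002999118015 (.node 6682774276069 (.node 12248832657515 (.node 24551900714908 .nil .nil) (.node 41106313434986 .nil .nil)) (.node 18081517393996 (.node 32512373040935 .nil .nil) (.node 64544069207405 .nil .nil))) (.node 9435076196352 (.node 15131224561862 (.node 28465285945194 .nil .nil) (.node 48259398620685 .nil .nil)) (.node 20974795966414 (.node 36711523727090 .nil .nil) .nil))) (.node 5369371310090 (.node 8057129396263 (.node 13691087210469 (.node 26537267038102 .nil .nil) (.node 43305204786890 .nil .nil)) (.node 19527762765815 (.node 34581169719073 .nil .nil) .nil)) (.node 10808827979787 (.node 16576599267359 (.node 30461540427560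 .nil .nil) (.node 55472662271440 .nil .nil)) (.node 22622153082746 (.node 38908735977130 .nil .nil) .nil))))))) (.node 364574312700 (.node 506342979612 (.node 848497711126 (.node 1534417041511 (.node 2899528984768 (.node 5584873031719 (.node 11081020885116 (.node 22969541146544 .nil .nil) (.node 39321320204073 .nil .nil)) (.node 16851342981140 (.node 30867162855336 .nil .nil) (.node 56707532998085 .nil .nil))) (.node 8328971049094 (.node 13963446347968 (.node 26885461219126 .nil .nil) (.node 43717538420425 .nil .nil)) (.node 19802908854265 (.node 34991823808396 .nil .nil) .nil))) (.node 4267796133956 (.node 6953340741680 (.node 12523376162773 (.node 24955277047670 .nil .nil) (.node 41518296270641 .nil .nil)) (.node 18356328265761 (.node 32861939783539 .nil .nil) (.node 72243065918720 .nil .nil))) (.node 9704366942328 (.node 15406387828915 (.node 28816283662030 .nil .nil) (.node 49699957790285 .nil .nil))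 (.node 21249422202832 (.node 37121559123798 .nil .nil) .nil)))) (.node 2220605429859 (.node 3581557602418 (.node 6271044257899 (.node 11827726350540 (.node 23938325620443 .nil .nil) (.node 40419151931307 .nil .nil)) (.node 17605897803898 (.node 31838397875841 .nil .nil) (.node 60488663868913 .nil .nil))) (.node 9016650803391 (.node 14711696713971 (.node 27847532205928 .nil .nil) (.node 46267154408992 .nil .nil)) (.node 20553136609520 (.node 36028457383557 .nil .nil) .nil))) (.node 4897996736595 (.node 7641742723220 (.node 13271137347782 (.node 25923118614391 .nil .nil) (.node 42617237612263 .nil .nil)) (.node 19051925596137 (.node 33898639988367 .nil .nil) .nil)) (.node 10393088092275 (.node 16155459819583 (.node 29839609608022 .nil .nil) (.node 53479529125353 .nil .nil)) (.node 22001292752930 (.node 38221657921255 .nil .nil) .nil))))) (.node 1191457409063 (.node 1877276211350 (.node 3238228834340 (.node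 5927816005705 (.node 11482133022961 (.node 23452272760614 .nil .nil) (.node 39869681702823 .nil .nil)) (.node 17255004780604 (.node 31351589263121 .nil .nil) (.node 58497258550724 .nil .nil))) (.node 8673204394170 (.node 14311389505613 (.node 27366245824322 .nil .nil) (.node 44683251660392 .nil .nil)) (.node 20150414125004 (.node 35539063752618 .nil .nil) .nil))) (.node 4608206239970 (.node 7297506416843 (.node 12868263979138 (.node 25442216576907 .nil .nil) (.node 42067850786577 .nil .nil)) (.node 18703545604332 (.node 33408896358170 .nil .nil) .nil)) (.node 10048534640716 (.node 15752988846098 (.node 29355571029845 .nil .nil) (.node 51692839188090 .nil .nil)) (.node 21652379867360 (.node 37672019470117 .nil .nil) .nil)))) (.node 2556736964812 (.node 3924735608891 (.node 6614322665581 (.node 12175483766910 (.node 24420519683797 .nil .nil) (.node 40968507098913 .nil .nil)) (.node 17951944681480 (.node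 32378387240882 .nil .nil) (.node 63444826031465 .nil .nil))) (.node 9360903759965 (.node 15058028861438 (.node 28328417777506 .nil .nil) (.node 47909293016645 .nil .nil)) (.node 20902150391851 (.node 36574118319864 .nil .nil) .nil))) (.node 5241325840449 (.node 7984971106447 (.node 13617669937295 (.node 26403601057662 .nil .nil) (.node 43168285939394 .nil .nil)) (.node 19455621535800 (.node 34443563042595 .nil .nil) .nil)) (.node 10735327729646 (.node 16506537408611 (.node 30327307192011 .nil .nil) (.node 55063331227031 .nil .nil)) (.node 22485955475318 (.node 38771531966115 .nil .nil) .nil)))))) (.node 707651565822 (.node 1041486751821 (.node 1728027752420 (.node 3044382230746 (.node 5782274775115 (.node 11280956520530 (.node 23245157296017 .nil .nil) (.node 39595678193387 .nil .nil)) (.node 17055992936389 (.node 31080654964383 .nil .nil) (.node 57533793699244 .nil .nil))) (.node 8526910298362 (.node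 14164038154235 (.node 27153427699640 .nil .nil) (.node 43992366241469 .nil .nil)) (.node 20003515095260 (.node 35265863288744 .nil .nil) .nil))) (.node 4416372512975 (.node 7152638040320 (.node 12723176933323 (.node 25169235134357 .nil .nil) (.node 41793308260155 .nil .nil)) (.node 18501734340600 (.node 33134552844223 .nil .nil) (.node 74441552438495 .nil .nil))) (.node 9903329966065 (.node 15605737703491 (.node 29085020849915 .nil .nil) (.node 50663942444634 .nil .nil)) (.node 21451821897877 (.node 37396504147794 .nil .nil) .nil)))) (.node 2409887471870 (.node 3734564759527 (.node 6468916430855 (.node 11974424090784 (.node 24207163737899 .nil .nil) (.node 40693392414627 .nil .nil)) (.node 17806505228433 (.node 32106830464903 .nil .nil) (.node 61450350695909 .nil .nil))) (.node 9216084232399 (.node 14858529900513 (.node 28118049486752 .nil .nil) (.node 47085011388020 .nil .nil)) (.node 20699800704975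 (.node 36304039519891 .nil .nil) .nil))) (.node 5096370493691 (.node 7839966918908 (.node 13416309114928 (.node 26138388981381 .nil .nil) (.node 42892382148452 .nil .nil)) (.node 19253958313997 (.node 34172845074152 .nil .nil) .nil)) (.node 10591379527898 (.node 16301872334873 (.node 30111500179371 .nil .nil) (.node 54238127216091 .nil .nil)) (.node 22215455381418 (.node 38496754767529 .nil .nil) .nil))))) (.node 1384899295380 (.node 2068118550740 (.node 3391806040032 (.node 6125788514408 (.node 11628596193366 (.node 23726613804864 .nil .nil) (.node 40144458905515 .nil .nil)) (.node 17401165776923 (.node 31623177369533 .nil .nil) (.node 59460672939439 .nil .nil))) (.node 8872034682863 (.node 14511324080359 (.node 27636409456535 .nil .nil) (.node 45442486937172 .nil .nil)) (.node 20352612505713 (.node 35811713042165 .nil .nil) .nil))) (.node 4754283342066 (.node 7493988431990 (.node 13069793052743 (.node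 25656765613713 .nil .nil) (.node 42342592976742 .nil .nil)) (.node 18906570315926 (.node 33625774978752 .nil .nil) .nil)) (.node 10247362947253 (.node 15957217908847 (.node 29572315301581 .nil .nil) (.node 52654375126635 .nil .nil)) (.node 21799245055947 (.node 37947148924707 .nil .nil) .nil)))) (.node 2701120661715 (.node 4073429608638 (.node 6804948498590 (.node 12375603337463 (.node 24688300533550 .nil .nil) (.node 41243720443674 .nil .nil)) (.node 18153941125336 (.node 32593490052747 .nil .nil) (.node 65643312420200 .nil .nil))) (.node 9560001165284 (.node 15204323371120 (.node 28602390992692 .nil .nil) (.node 48737348474403 .nil .nil)) (.node 21102758222060 (.node 36848761284429 .nil .nil) .nil))) (.node 5439012542660 (.node 8184487200942 (.node 13816113076280 (.node 26611489195801 .nil .nil) (.node 43443080177335 .nil .nil)) (.node 19600540764122 (.node 34718239713079 .nil .nil) .nil)) (.node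 10935028287445 (.node 16705165191282 (.node 30595136108426 .nil .nil) (.node 55883251369460 .nil .nil)) (.node 22756706633630 (.node 39046224434921 .nil .nil) .nil))))))))

/-- Part of `setKey`. -/
noncomputable def setKey_r_l_r_l : Arr ℕ :=
  .node 92113434701 setKey_r_l_r_l_l setKey_r_l_r_l_r

/-- Part of `setKey`. -/
noncomputable def setKey_r_l_r_r_l : Arr ℕ :=
  (.node 160581363797 (.node 231699986461 (.node 431834351869 (.node 766608914524 (.node 1453216905200 (.node 2769605122268 (.node 5507413678150 (.node 11003595729116 (.node 22829015861131 .nil .nil) (.node 39121117824728 .nil .nil)) (.node 16773901441137 (.node 30671743284927 .nil .nil) (.node 56163027289488 .nil .nil))) (.node 8252317309179 (.node 13833172760572 (.node 26744280844180 .nil .nil) (.node 43515824907920 .nil .nil)) (.node 19669226629084 (.node 34793670407887 .nil .nil) .nil))) (.node 4141696080074 (.node 6822997960720 (.node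 12444306032888 (.node 24763059816154 .nil .nil) (.node 41315912861345 .nil .nil)) (.node 18222694164694 (.node 32721399658279 .nil .nil) (.node 70868961699050 .nil .nil))) (.node 9626488887545 (.node 15273026066543 (.node 28675320510260 .nil .nil) (.node 49083830990343 .nil .nil)) (.node 21171460925675 (.node 36924141991614 .nil .nil) .nil)))) (.node 2135378831555 (.node 3460273928153 (.node 6194139199490 (.node 11696862779475 (.node 23795702593268 .nil .nil) (.node 40221317248700 .nil .nil)) (.node 17469868472348 (.node 31694649857798 .nil .nil) (.node 59870607848960 .nil .nil))) (.node 8939360975099 (.node 14579390273689 (.node 27709222332253 .nil .nil) (.node 45783819769463 .nil .nil)) (.node 20421667371149 (.node 35885747455873 .nil .nil) .nil))) (.node 4821761075451 (.node 7511769425929 (.node 13138478966851 (.node 25779508217705 .nil .nil) (.node 42415541843628 .nil .nil)) (.node 18975189137556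 (.node 33754353420155 .nil .nil) .nil)) (.node 10315411130601 (.node 16025333340285 (.node 29700189366157 .nil .nil) (.node 52995708392960 .nil .nil)) (.node 21867947751371 (.node 38022377883353 .nil .nil) .nil))))) (.node 1110005102636 (.node 1793643202775 (.node 3112766114017 (.node 5850860476526 (.node 11349659199575 (.node 23314833680222 .nil .nil) (.node 39671947503300 .nil .nil)) (.node 17124509591592 (.node 31210357495729 .nil .nil) (.node 57879152129527 .nil .nil))) (.node 8593231665260 (.node 14232891263163 (.node 27227966510959 .nil .nil) (.node 44197468411520 .nil .nil)) (.node 20072217798875 (.node 35339851396902 .nil .nil) .nil))) (.node 4478415534335 (.node 7217433090200 (.node 12791175075870 (.node 25245354362584 .nil .nil) (.node 41865366734510 .nil .nil)) (.node 18570470598647 (.node 33207535077132 .nil .nil) .nil)) (.node 9971411323067 (.node 15674440398916 (.node 29213033056085 .nil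 .nil) (.node 51074011666033 .nil .nil)) (.node 21520608647272 (.node 37473075300054 .nil .nil) .nil)))) (.node 2426645186793 (.node 3798601963719 (.node 6532351465700 (.node 12044234377253 (.node 24277006071703 .nil .nil) (.node 40767314585256 .nil .nil)) (.node 17875207932050 (.node 32181240325771 .nil .nil) (.node 62070772098395 .nil .nil))) (.node 9284115941538 (.node 14926760405175 (.node 28190609766244 .nil .nil) (.node 47366095275648 .nil .nil)) (.node 20768503408591 (.node 36432687519472 .nil .nil) .nil))) (.node 5164067547335 (.node 7904728500365 (.node 13484441188497 (.node 26266028038020 .nil .nil) (.node 42965851014806 .nil .nil)) (.node 19322476726262 (.node 34302299899657 .nil .nil) .nil)) (.node 10658840762603 (.node 16370608584730 (.node 30184398280428 .nil .nil) (.node 54578352793087 .nil .nil)) (.node 22347509671824 (.node 38571882006233 .nil .nil) .nil)))))) (.node 574542493720 (.node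 916830881866 (.node 1602650302546 (.node 2963921311800 (.node 5653122607183 (.node 11148584220633 (.node 23040038737840 .nil .nil) (.node 39395794519763 .nil .nil)) (.node 16920045684755 (.node 30939238856471 .nil .nil) (.node 56982494594540 .nil .nil))) (.node 8396682549452 (.node 14032048494777 (.node 26954784347981 .nil .nil) (.node 43790518580871 .nil .nil)) (.node 19872246872233 (.node 35067927905927 .nil .nil) .nil))) (.node 4333647259820 (.node 7021522213091 (.node 12592094570580 (.node 25031829870494 .nil .nil) (.node 41590639806122 .nil .nil)) (.node 18425030969378 (.node 32937473095314 .nil .nil) (.node 73067448214730 .nil .nil))) (.node 9772548126917 (.node 15475510610024 (.node 28943403009983 .nil .nil) (.node 50108853007910 .nil .nil)) (.node 21318124906448 (.node 37197694641807 .nil .nil) .nil)))) (.node 2281926248642 (.node 3649924790361 (.node 6339679778940 (.node 11896496163017 (.node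 24069153441681 .nil .nil) (.node 40496513742532 .nil .nil)) (.node 17672854141162 (.node 31966909216684 .nil .nil) (.node 60832244635030 .nil .nil))) (.node 9084197595263 (.node 14780500011251 (.node 27978061424555 .nil .nil) (.node 46541730063972 .nil .nil)) (.node 20621839313135 (.node 36159585408888 .nil .nil) .nil))) (.node 4966632388676 (.node 7709789780169 (.node 13338950666470 (.node 26000010770050 .nil .nil) (.node 42689966741155 .nil .nil)) (.node 19120611477483 (.node 34029619029786 .nil .nil) .nil)) (.node 10460817938510 (.node 16224162523200 (.node 29915594139333 .nil .nil) (.node 53756419888588 .nil .nil)) (.node 22076808488892 (.node 38296786253524 .nil .nil) .nil))))) (.node 1259556042810 (.node 1945727612989 (.node 3306512074842 (.node 5996350781552 (.node 11550835718385 (.node 23580887517065 .nil .nil) (.node 39946523379385 .nil .nil)) (.node 17323707484219 (.node 31427690858183 .nil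 .nil) (.node 58907092989350 .nil .nil))) (.node 8740985985158 (.node 14378482079878 (.node 27436121200484 .nil .nil) (.node 44960930829883 .nil .nil)) (.node 20219116820428 (.node 35612246816602 .nil .nil) .nil))) (.node 4623404177500 (.node 7365169965275 (.node 12936865978503 (.node 25511942317951 .nil .nil) (.node 42140127168172 .nil .nil)) (.node 18773257717763 (.node 33481456813873 .nil .nil) .nil)) (.node 10115810183356 (.node 15821725095953 (.node 29428467271415 .nil .nil) (.node 52036151551515 .nil .nil)) (.node 21721082570975 (.node 37746375935712 .nil .nil) .nil)))) (.node 2624382748878 (.node 3992750389401 (.node 6678411430101 (.node 12244051097839 (.node 24550660630255 .nil .nil) (.node 41041773053602 .nil .nil)) (.node 18020680931335 (.node 32451033798401 .nil .nil) (.node 64269258540365 .nil .nil))) (.node 9428547979472 (.node 15126193924306 (.node 28460724164505 .nil .nil) (.node 48184254613100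 .nil .nil)) (.node 20971087263908 (.node 36707445929889 .nil .nil) .nil))) (.node 5309726591047 (.node 8052701284415 (.node 13686153914581 (.node 26473765119808 .nil .nil) (.node 43240930432646 .nil .nil)) (.node 19524307466290 (.node 34576842319628 .nil .nil) .nil)) (.node 10803189262535 (.node 16575107688386 (.node 30455198164910 .nil .nil) (.node 55337403626987 .nil .nil)) (.node 22558482405285 (.node 38846558504670 .nil .nil) .nil))))))) (.node 353973778400 (.node 503960553549 (.node 846266235033 (.node 1531748534522 (.node 2893624870987 (.node 5577725872376 (.node 11076155496688 (.node 22965431457677 .nil .nil) (.node 39258472924886 .nil .nil)) (.node 16849782335605 (.node 30806666270354 .nil .nil) (.node 56572341622240 .nil .nil))) (.node 8324375685145 (.node 13959070296248 (.node 26878616893370 .nil .nil) (.node 43653230519941 .nil .nil)) (.node 19799051081830 (.node 34930656732805 .nil .nil)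 .nil))) (.node 4215919794145 (.node 6948894984431 (.node 12518141892679 (.node 24895633327851 .nil .nil) (.node 41453318301346 .nil .nil)) (.node 18295760369653 (.node 32801007019717 .nil .nil) (.node 71968204825850 .nil .nil))) (.node 9699553765319 (.node 15401123153875 (.node 28807926785927 .nil .nil) (.node 49564699186794 .nil .nil)) (.node 21245730355364 (.node 37060624828044 .nil .nil) .nil)))) (.node 2209516288114 (.node 3530335254501 (.node 6263512082615 (.node 11768450238617 (.node 23932722046746 .nil .nil) (.node 40358873568960 .nil .nil)) (.node 17598468364331 (.node 31830881077049 .nil .nil) (.node 60351526847987 .nil .nil))) (.node 9011453098006 (.node 14652622850025 (.node 27842903193503 .nil .nil) (.node 46196103083633 .nil .nil)) (.node 20493877163982 (.node 36022045800310 .nil .nil) .nil))) (.node 4896503842955 (.node 7636928620766 (.node 13211878201405 (.node 25863779284638 .nil .nil)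 (.node 42552947185323 .nil .nil)) (.node 19047699240974 (.node 33891607881600 .nil .nil) .nil)) (.node 10388759791826 (.node 16095831349275 (.node 29835213129659 .nil .nil) (.node 53408193000950 .nil .nil)) (.node 21995893336295 (.node 38159749875413 .nil .nil) .nil))))) (.node 1189107374330 (.node 1866086738001 (.node 3234487646450 (.node 5921071364346 (.node 11423293167688 (.node 23450763020123 .nil .nil) (.node 39809268991674 .nil .nil)) (.node 17195493849114 (.node 31346892715836 .nil .nil) (.node 58361027388831 .nil .nil))) (.node 8668207650848 (.node 14306557118671 (.node 27361447704478 .nil .nil) (.node 44609953023605 .nil .nil)) (.node 20146487212201 (.node 35474774300512 .nil .nil) .nil))) (.node 4554332526652 (.node 7293113882638 (.node 12864001910979 (.node 25382005106334 .nil .nil) (.node 42002839185069 .nil .nil)) (.node 18699774584957 (.node 33344219129653 .nil .nil) .nil)) (.node 10044844587101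 (.node 15751076317290 (.node 29294284142240 .nil .nil) (.node 51554863494780 .nil .nil)) (.node 21593674168260 (.node 37610598098647 .nil .nil) .nil)))) (.node 2550899869835 (.node 3873093986271 (.node 6606824953898 (.node 12171760510992 (.node 24413993174786 .nil .nil) (.node 40904787052199 .nil .nil)) (.node 17947681941725 (.node 32316446033743 .nil .nil) (.node 63170015327570 .nil .nil))) (.node 9357749557457 (.node 15000967636989 (.node 28327496627963 .nil .nil) (.node 47776617686570 .nil .nil)) (.node 20896650209495 (.node 36569973430179 .nil .nil) .nil))) (.node 5240016836776 (.node 7979905194218 (.node 13612587317495 (.node 26344480204418 .nil .nil) (.node 43103307040392 .nil .nil)) (.node 19394885744598 (.node 34439353014032 .nil .nil) .nil)) (.node 10732207069272 (.node 16499040278650 (.node 30319151208324 .nil .nil) (.node 54990636107257 .nil .nil)) (.node 22481895827360 (.node 38709253990102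 .nil .nil) .nil)))))) (.node 693930297575 (.node 1035665942735 (.node 1673013966867 (.node 3037471058102 (.node 5722613135521 (.node 11276158929137 (.node 23177730365240 .nil .nil) (.node 39533049018066 .nil .nil)) (.node 17048762767410 (.node 31074279225102 .nil .nil) (.node 57397746914772 .nil .nil))) (.node 8468707772568 (.node 14104979470456 (.node 27091485374279 .nil .nil) (.node 43927906907797 .nil .nil)) (.node 19943937013711 (.node 35204326770318 .nil .nil) .nil))) (.node 4406124271654 (.node 7094772557794 (.node 12716333078600 (.node 25168531576637 .nil .nil) (.node 41728045180585 .nil .nil)) (.node 18497504807136 (.node 33072259626823 .nil .nil) (.node 74166691341530 .nil .nil))) (.node 9844808038542 (.node 15547316918301 (.node 29079921530719 .nil .nil) (.node 50593864496706 .nil .nil)) (.node 21446271822035 (.node 37334194464392 .nil .nil) .nil)))) (.node 2355845630190 (.node 3728272242874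 (.node 6408567187493 (.node 11971001063614 (.node 24145692083927 .nil .nil) (.node 40633986221753 .nil .nil)) (.node 17745920514050 (.node 32099888449325 .nil .nil) (.node 61312945305059 .nil .nil))) (.node 9155652069354 (.node 14854217832605 (.node 28054010816261 .nil .nil) (.node 46952906352236 .nil .nil)) (.node 20696109389870 (.node 36297076488007 .nil .nil) .nil))) (.node 5094392760335 (.node 7781832161318 (.node 13411913271527 (.node 26129126066037 .nil .nil) (.node 42827372132004 .nil .nil)) (.node 19249261783176 (.node 34165630363567 .nil .nil) .nil)) (.node 10534436767746 (.node 16300447836100 (.node 30049408165651 .nil .nil) (.node 54166438626803 .nil .nil)) (.node 22211027289975 (.node 38434124170975 .nil .nil) .nil))))) (.node 1330406172704 (.node 2015788918821 (.node 3385161267384 (.node 6065406015537 (.node 11623598286797 (.node 23663682549466 .nil .nil) (.node 40083928708798 .nil .nil))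 (.node 17399856777343 (.node 31560850966246 .nil .nil) (.node 59389856949687 .nil .nil))) (.node 8813865228412 (.node 14506594859172 (.node 27572706043704 .nil .nil) (.node 45371100358269 .nil .nil)) (.node 20347028564195 (.node 35750222501724 .nil .nil) .nil))) (.node 4751348861065 (.node 7437714634887 (.node 13064509949924 (.node 25648844371850 .nil .nil) (.node 42277532575403 .nil .nil)) (.node 18846169909217 (.node 33618459715367 .nil .nil) .nil)) (.node 10189731018792 (.node 15949251127405 (.node 29563807512449 .nil .nil) (.node 52516969719405 .nil .nil)) (.node 21795184650279 (.node 37883932415710 .nil .nil) .nil)))) (.node 2694679038146 (.node 4063197882453 (.node 6751056787509 (.node 12317300537426 (.node 24680332040060 .nil .nil) (.node 41179178428065 .nil .nil)) (.node 18150220097611 (.node 32586038454151 .nil .nil) (.node 65368501663070 .nil .nil))) (.node 9501093259403 (.node 15199994333383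 (.node 28535297161060 .nil .nil) (.node 48600848717406 .nil .nil)) (.node 21043532216270 (.node 36844431808427 .nil .nil) .nil))) (.node 5432638576880 (.node 8125496227994 (.node 13759789905894 (.node 26610113693515 .nil .nil) (.node 43378402727567 .nil .nil)) (.node 19597052364808 (.node 34711933036295 .nil .nil) .nil)) (.node 10877195339790 (.node 16645301970976 (.node 30588831545150 .nil .nil) (.node 55750408508830 .nil .nil)) (.node 22694730311603 (.node 38983830050514 .nil .nil) .nil))))))))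

/-- Part of `setKey`. -/
noncomputable def setKey_r_l_r_r_r : Arr ℕ :=
  (.node 216802617497 (.node 296913168524 (.node 486044375240 (.node 781120251927 (.node 1466301438032 (.node 2831178385607 (.node 5516002269290 (.node 11013391419539 (.node 22897215330183 .nil .nil) (.node 39189820520151 .nil .nil)) (.node 16782774470673 (.node 30738299160202 .nil .nil) (.node 56365344552357 .nil .nil))) (.node 8261542979741 (.node 13895735081011 (.node 26812279084949 .nil .nil) (.node 43584577996430 .nil .nil)) (.node 19734256576499 (.node 34862121776772 .nil .nil) .nil))) (.node 4199512828009 (.node 6885727852697 (.node 12454673467350 (.node 24827031308003 .nil .nil) (.node 41384615556783 .nil .nil)) (.node 18287642277966 (.node 32787317843795 .nil .nil) (.node 71418633610475 .nil .nil))) (.node 9635916707823 (.node 15337651579060 (.node 28740601431877 .nil .nil) (.node 49356343629395 .nil .nil)) (.node 21180937656269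 (.node 36992626538181 .nil .nil) .nil)))) (.node 2152187803772 (.node 3513425299547 (.node 6202575804587 (.node 11759677778136 (.node 23864220784360 .nil .nil) (.node 40290053506747 .nil .nil)) (.node 17537195108473 (.node 31763082225535 .nil .nil) (.node 60078359819744 .nil .nil))) (.node 8948620462171 (.node 14642994010355 (.node 27777824691986 .nil .nil) (.node 45985768359500 .nil .nil)) (.node 20484400478420 (.node 35953529431878 .nil .nil) .nil))) (.node 4883017017575 (.node 7573927590086 (.node 13202753411265 (.node 25795144009354 .nil .nil) (.node 42484278101670 .nil .nil)) (.node 18983407331310 (.node 33823005849469 .nil .nil) .nil)) (.node 10324402153591 (.node 16086723594298 (.node 29767468578634 .nil .nil) (.node 53139404055995 .nil .nil)) (.node 21932590057505 (.node 38091080578778 .nil .nil) .nil))))) (.node 1123560101917 (.node 1808775112788 (.node 3174004181192 (.node 5859280709792 (.node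 11413564303602 (.node 23383436113663 .nil .nil) (.node 39740650198723 .nil .nil)) (.node 17186268538941 (.node 31278424835900 .nil .nil) (.node 58152755402149 .nil .nil))) (.node 8604602271934 (.node 14242686801998 (.node 27293684303762 .nil .nil) (.node 44343210329652 .nil .nil)) (.node 20081342355408 (.node 35406407440104 .nil .nil) .nil))) (.node 4544804747270 (.node 7229878745236 (.node 12802481346557 (.node 25313570592467 .nil .nil) (.node 41934069429924 .nil .nil)) (.node 18634809354475 (.node 33275516434228 .nil .nil) .nil)) (.node 9980805744608 (.node 15684722341908 (.node 29229003212485 .nil .nil) (.node 51282618979927 .nil .nil)) (.node 21583643605220 (.node 37541811549909 .nil .nil) .nil)))) (.node 2488453810357 (.node 3856569669780 (.node 6545670314084 (.node 12108104243405 (.node 24345340757773 .nil .nil) (.node 40836050835114 .nil .nil)) (.node 17883292596214 (.node 32247760103247 .nil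 .nil) (.node 62620393764170 .nil .nil))) (.node 9292269201383 (.node 14990214879263 (.node 28259028404050 .nil .nil) (.node 47568999888470 .nil .nil)) (.node 20833447688236 (.node 36501457315565 .nil .nil) .nil))) (.node 5172823824558 (.node 7917340551364 (.node 13548933687440 (.node 26329364666210 .nil .nil) (.node 43034536945304 .nil .nil)) (.node 19387371776117 (.node 34370751006473 .nil .nil) .nil)) (.node 10667698792407 (.node 16437801158756 (.node 30251892905812 .nil .nil) (.node 54784008340940 .nil .nil)) (.node 22415709534074 (.node 38640618256090 .nil .nil) .nil)))))) (.node 639217465592 (.node 982127044856 (.node 1659760814133 (.node 2976065419480 (.node 5713924008125 (.node 11212386781409 (.node 23108187625408 .nil .nil) (.node 39464497215188 .nil .nil)) (.node 16987256686533 (.node 31006582945590 .nil .nil) (.node 57189844080047 .nil .nil))) (.node 8459750598857 (.node 14095301904380 (.node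 27023084463928 .nil .nil) (.node 43859271554693 .nil .nil)) (.node 19934778800360 (.node 35135624066701 .nil .nil) .nil))) (.node 4348240435386 (.node 7085076138148 (.node 12655547304005 (.node 25099996829456 .nil .nil) (.node 41659376055976 .nil .nil)) (.node 18432947521542 (.node 33005974660745 .nil .nil) (.node 73617120122060 .nil .nil))) (.node 9835129796831 (.node 15537001453638 (.node 29011218851676 .nil .nil) (.node 50318818858566 .nil .nil)) (.node 21383085648022 (.node 37266430891664 .nil .nil) .nil)))) (.node 2344171034782 (.node 3666130307051 (.node 6400599394378 (.node 11905721395359 (.node 24130509145985 .nil .nil) (.node 40565216446147 .nil .nil)) (.node 17737819355260 (.node 32034406205227 .nil .nil) (.node 61106652984710 .nil .nil))) (.node 9147919210463 (.node 14789827196898 (.node 27985811347228 .nil .nil) (.node 46809513014870 .nil .nil)) (.node 20631349647309 (.node 36228340238152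 .nil .nil) .nil))) (.node 5028305676532 (.node 7772522874891 (.node 13347673151638 (.node 26060490282880 .nil .nil) (.node 42758669444781 .nil .nil)) (.node 19185306097660 (.node 34098355279641 .nil .nil) .nil)) (.node 10523415668755 (.node 16233303881750 (.node 29982854723202 .nil .nil) (.node 53963685414311 .nil .nil)) (.node 22144890587062 (.node 38365488957139 .nil .nil) .nil))))) (.node 1316381337717 (.node 2002838583260 (.node 3319125829855 (.node 6057136109622 (.node 11560750045149 (.node 23596422801107 .nil .nil) (.node 40015226074810 .nil .nil)) (.node 17332899256343 (.node 31494615987847 .nil .nil) (.node 59114928723379 .nil .nil))) (.node 8803951950011 (.node 14443025319973 (.node 27504389256964 .nil .nil) (.node 45167374411312 .nil .nil)) (.node 20283876255858 (.node 35681519806299 .nil .nil) .nil))) (.node 4690764363937 (.node 7427800910078 (.node 13001056794696 (.node 25580376782716 .nil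 .nil) (.node 42208863418022 .nil .nil)) (.node 18837884401820 (.node 33550159509298 .nil .nil) .nil)) (.node 10179046901721 (.node 15888481658992 (.node 29495660582628 .nil .nil) (.node 52308413007365 .nil .nil)) (.node 21731079608259 (.node 37815112185567 .nil .nil) .nil)))) (.node 2684698290425 (.node 4009945524206 (.node 6740354758911 (.node 12307504703663 (.node 24618959517587 .nil .nil) (.node 41110475749040 .nil .nil)) (.node 18085238421719 (.node 32517941528367 .nil .nil) (.node 64818880165190 .nil .nil))) (.node 9491046660083 (.node 15135486482543 (.node 28527951423395 .nil .nil) (.node 48394422048289 .nil .nil)) (.node 21034022058200 (.node 36775729113004 .nil .nil) .nil))) (.node 5371047139584 (.node 8116019001545 (.node 13749841934584 (.node 26541645780824 .nil .nil) (.node 43309616379528 .nil .nil)) (.node 19532022659034 (.node 34645545015051 .nil .nil) .nil)) (.node 10867264415766 (.node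 16636462479479 (.node 30523013793606 .nil .nil) (.node 55607752996310 .nil .nil)) (.node 22626463496128 (.node 38915294754525 .nil .nil) .nil))))))) (.node 366974797862 (.node 560249235554 (.node 903595325420 (.node 1585488828620 (.node 2905970165997 (.node 5644215650315 (.node 11140062586860 (.node 23031517448090 .nil .nil) (.node 39327209174741 .nil .nil)) (.node 16911323805752 (.node 30873622214486 .nil .nil) (.node 56777493673385 .nil .nil))) (.node 8335061342208 (.node 13967775406194 (.node 26886333675240 .nil .nil) (.node 43721916466823 .nil .nil)) (.node 19806464468946 (.node 34999225202312 .nil .nil) .nil))) (.node 4277944068295 (.node 6957685966805 (.node 12581460019447 (.node 24963496216466 .nil .nil) (.node 41522020996784 .nil .nil)) (.node 18359982012640 (.node 32869424543427 .nil .nil) (.node 72517876733180 .nil .nil))) (.node 9710893545458 (.node 15411169491027 (.node 28876094613333 .nil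 .nil) (.node 49836792944180 .nil .nil)) (.node 21308832758000 (.node 37129159734926 .nil .nil) .nil)))) (.node 2222702594070 (.node 3591755835576 (.node 6272771999795 (.node 11833461504192 (.node 24000854357800 .nil .nil) (.node 40427576272575 .nil .nil)) (.node 17607340922901 (.node 31899279677322 .nil .nil) (.node 60559111087567 .nil .nil))) (.node 9022088132618 (.node 14716728555679 (.node 27911119640471 .nil .nil) (.node 46397028410975 .nil .nil)) (.node 20559206979723 (.node 36090882713463 .nil .nil) .nil))) (.node 4957641254999 (.node 7645952948324 (.node 13275749390548 (.node 25931374839446 .nil .nil) (.node 42621683443365 .nil .nil)) (.node 19112393287749 (.node 33960344131455 .nil .nil) .nil)) (.node 10451290077438 (.node 16162706876360 (.node 29900328441680 .nil .nil) (.node 53550211134926 .nil .nil)) (.node 22005353093068 (.node 38228452570838 .nil .nil) .nil))))) (.node 1243753199840 (.node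 1879876700177 (.node 3244199987380 (.node 5982461470955 (.node 11487047829590 (.node 23519365105491 .nil .nil) (.node 39878005241529 .nil .nil)) (.node 17261916121037 (.node 31412593039160 .nil .nil) (.node 58634328479164 .nil .nil))) (.node 8679615068145 (.node 14369760397297 (.node 27428238522290 .nil .nil) (.node 44754654987836 .nil .nil)) (.node 20209589631200 (.node 35543544121177 .nil .nil) .nil))) (.node 4614211102925 (.node 7302439495781 (.node 12927171655650 (.node 25450657556120 .nil .nil) (.node 42071541880483 .nil .nil)) (.node 18707976374275 (.node 33412921825078 .nil .nil) .nil)) (.node 10104288491630 (.node 15811812198507 (.node 29361022412606 .nil .nil) (.node 51763219330618 .nil .nil)) (.node 21657946945634 (.node 37679300794072 .nil .nil) .nil)))) (.node 2562708596968 (.node 3935000844490 (.node 6615026735272 (.node 12180332222432 (.node 24482259842803 .nil .nil) (.node 40973523302057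 .nil .nil)) (.node 18012831537191 (.node 32382481958713 .nil .nil) (.node 63719636985155 .nil .nil))) (.node 9416993085560 (.node 15062622447808 (.node 28392491116434 .nil .nil) (.node 47982071641639 .nil .nil)) (.node 20905908799440 (.node 36638709680034 .nil .nil) .nil))) (.node 5301104535709 (.node 7990422607951 (.node 13621846579351 (.node 26413132457612 .nil .nil) (.node 43172060014214 .nil .nil)) (.node 19459076597763 (.node 34508089272079 .nil .nil) .nil)) (.node 10791717910670 (.node 16508014024727 (.node 30387470153551 .nil .nil) (.node 55195268388320 .nil .nil)) (.node 22490249308088 (.node 38777990239957 .nil .nil) .nil)))))) (.node 709900949567 (.node 1053213243482 (.node 1739400083699 (.node 3099682654256 (.node 5789806139555 (.node 11285887776834 (.node 23246265505541 .nil .nil) (.node 39601785276113 .nil .nil)) (.node 17057518135326 (.node 31141923080120 .nil .nil) (.node 57671299745194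 .nil .nil))) (.node 8532646848655 (.node 14169386842299 (.node 27159718152030 .nil .nil) (.node 43996592838295 .nil .nil)) (.node 20009619187823 (.node 35271333197606 .nil .nil) .nil))) (.node 4422765766633 (.node 7158021589229 (.node 12727872989251 (.node 25230222038900 .nil .nil) (.node 41796781430439 .nil .nil)) (.node 18562385909911 (.node 33140895237959 .nil .nil) (.node 74716363252955 .nil .nil))) (.node 9908982270069 (.node 15612917385165 (.node 29148506822495 .nil .nil) (.node 50800442471950 .nil .nil)) (.node 21455530362831 (.node 37402930714247 .nil .nil) .nil)))) (.node 2414132004973 (.node 3784025655470 (.node 6471431149811 (.node 12034287257818 (.node 24213086037725 .nil .nil) (.node 40702688917178 .nil .nil)) (.node 17810427451613 (.node 32114952947383 .nil .nil) (.node 61587722638745 .nil .nil))) (.node 9220697290825 (.node 14915893073960 (.node 28122076215080 .nil .nil) (.node 47159115101803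 .nil .nil)) (.node 20759211178220 (.node 36364387378928 .nil .nil) .nil))) (.node 5103718828177 (.node 7844947953903 (.node 13475181893880 (.node 26197593589639 .nil .nil) (.node 42896074835630 .nil .nil)) (.node 19257849186270 (.node 34234098292651 .nil .nil) .nil)) (.node 10595959011429 (.node 16361601316992 (.node 30118077314835 .nil .nil) (.node 54373788243338 .nil .nil)) (.node 22279243384707 (.node 38502826866400 .nil .nil) .nil))))) (.node 1395887806615 (.node 2081085151474 (.node 3443212699794 (.node 6127515093240 (.node 11634501986299 (.node 23727116109714 .nil .nil) (.node 40152631412413 .nil .nil)) (.node 17461029435437 (.node 31626769045285 .nil .nil) (.node 59595696870790 .nil .nil))) (.node 8877167003725 (.node 14515250116738 (.node 27640989542217 .nil .nil) (.node 45577426896385 .nil .nil)) (.node 20356589320139 (.node 35817181054713 .nil .nil) .nil))) (.node 4759919831216 (.node 7500731561934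 (.node 13074170738823 (.node 25717480040323 .nil .nil) (.node 42346268825253 .nil .nil)) (.node 18910529095671 (.node 33686774806387 .nil .nil) .nil)) (.node 10251992610920 (.node 15959130454048 (.node 29631857829727 .nil .nil) (.node 52791612917266 .nil .nil)) (.node 21858454436060 (.node 37952635119325 .nil .nil) .nil)))) (.node 2756722768006 (.node 4080024274899 (.node 6812899395610 (.node 12380736518209 (.node 24695229884113 .nil .nil) (.node 41247881123503 .nil .nil)) (.node 18158271129592 (.node 32653902677932 .nil .nil) (.node 65918123296085 .nil .nil))) (.node 9563456006216 (.node 15263532210388 (.node 28603749832417 .nil .nil) (.node 48875072570913 .nil .nil)) (.node 21108560259131 (.node 36911493035750 .nil .nil) .nil))) (.node 5446594844810 (.node 8189854967940 (.node 13823040710598 (.node 26678277932912 .nil .nil) (.node 43447155816077 .nil .nil)) (.node 19661545105450 (.node 34726024464055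 .nil .nil) .nil)) (.node 10939589916774 (.node 16712595134574 (.node 30603191531194 .nil .nil) (.node 55956533396892 .nil .nil)) (.node 22760715818883 (.node 39052566308561 .nil .nil) .nil))))))))

/-- Part of `setKey`. -/
noncomputable def setKey_r_l_r_r : Arr ℕ :=
  .node 144308664560 setKey_r_l_r_r_l setKey_r_l_r_r_r

/-- Part of `setKey`. -/
noncomputable def setKey_r_l_r : Arr ℕ :=
  .node 90082158848 setKey_r_l_r_l setKey_r_l_r_r

/-- Part of `setKey`. -/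
noncomputable def setKey_r_l : Arr ℕ :=
  .node 79162947560 setKey_r_l_l setKey_r_l_r

/-- Part of `setKey`. -/
noncomputable def setKey_r_r_l_l_l : Arr ℕ :=
  (.node 148100216897 (.node 228210464907 (.node 417341688005 (.node 712350464025 (.node 1397565511714 (.node 2762828077258 (.node 5447299573865 (.node 10942727448546 (.node 22764439656355 .nil .nil) (.node 39114743441070 .nil .nil)) (.node 16713401898952 (.node 30662027126671 .nil .nil) (.node 56024749417954 .nil .nil))) (.node 8192554055860 (.node 13826847897654 (.node 26679906793273 .nil .nil) (.node 43510457599683 .nil .nil)) (.node 19664731744265 (.node 34785969538831 .nil .nil) .nil))) (.node 4130860456031 (.node 6817025157274 (.node 12383133423807 (.node 24756751476575 .nil .nil) (.node 41311651362634 .nil .nil)) (.node 18218385963092 (.node 32657980475188 .nil .nil) (.node 70525280449775 .nil .nil))) (.node 9567214012400 (.node 15267390539817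 (.node 28667554400090 .nil .nil) (.node 48947381618191 .nil .nil)) (.node 21109415184546 (.node 36915700615050 .nil .nil) .nil)))) (.node 2083418007677 (.node 3444621953088 (.node 6133839554732 (.node 11690740177115 (.node 23786995627910 .nil .nil) (.node 40212221790136 .nil .nil)) (.node 17467873572806 (.node 31632977155789 .nil .nil) (.node 59665975932373 .nil .nil))) (.node 8879917758556 (.node 14520988321779 (.node 27642080114413 .nil .nil) (.node 45648276497967 .nil .nil)) (.node 20415245453393 (.node 35823724648076 .nil .nil) .nil))) (.node 4814314322150 (.node 7504773425298 (.node 13132977555472 (.node 25718033930099 .nil .nil) (.node 42411012089583 .nil .nil)) (.node 18914620999654 (.node 33692145890975 .nil .nil) .nil)) (.node 10254726608970 (.node 16017870162010 (.node 29637326235393 .nil .nil) (.node 52861590828442 .nil .nil)) (.node 21863718869163 (.node 38015230842688 .nil .nil) .nil)))))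 (.node 1054857406494 (.node 1740072409171 (.node 3105385375942 (.node 5790981056561 (.node 11290955085814 (.node 23251751458527 .nil .nil) (.node 39663288231872 .nil .nil)) (.node 17117431883867 (.node 31146537821995 .nil .nil) (.node 57742904526209 .nil .nil))) (.node 8535799019708 (.node 14171888924627 (.node 27160825538296 .nil .nil) (.node 44065581631000 .nil .nil)) (.node 20010155452589 (.node 35332754069440 .nil .nil) .nil))) (.node 4476102051845 (.node 7161310222494 (.node 12731093518396 (.node 25237536163656 .nil .nil) (.node 41861289592650 .nil .nil)) (.node 18565603596519 (.node 33199668447005 .nil .nil) .nil)) (.node 9911147128793 (.node 15614259333065 (.node 29151658465143 .nil .nil) (.node 50871006778915 .nil .nil)) (.node 21514790369380 (.node 37465710118661 .nil .nil) .nil)))) (.node 2419767896247 (.node 3787866974355 (.node 6477018093637 (.node 12037355866350 (.node 24275378935708 .nil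 .nil) (.node 40761946007360 .nil .nil)) (.node 17814019532807 (.node 32172782184382 .nil .nil) (.node 61727241762155 .nil .nil))) (.node 9223582226521 (.node 14920706762941 (.node 28184303720360 .nil .nil) (.node 47228992275986 .nil .nil)) (.node 20764426066005 (.node 36369117284083 .nil .nil) .nil))) (.node 5104255355044 (.node 7847834093709 (.node 13478269286418 (.node 26205917333135 .nil .nil) (.node 42961322231499 .nil .nil)) (.node 19318484568122 (.node 34237589100328 .nil .nil) .nil)) (.node 10599095556221 (.node 16368645351566 (.node 30176615388980 .nil .nil) (.node 54444788839841 .nil .nil)) (.node 22282933622692 (.node 38564887160481 .nil .nil) .nil)))))) (.node 570799945977 (.node 913424341240 (.node 1591192102997 (.node 2907178264791 (.node 5645154203840 (.node 11143567890515 (.node 23035107194764 .nil .nil) (.node 39389385488114 .nil .nil)) (.node 16918317340805 (.node 30931405739840 .nil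 .nil) (.node 56846313788844 .nil .nil))) (.node 8390863935499 (.node 14026079279068 (.node 26950489577373 .nil .nil) (.node 43785368880843 .nil .nil)) (.node 19865523316853 (.node 35059539191553 .nil .nil) .nil))) (.node 4279420238020 (.node 7015484086527 (.node 12585083676699 (.node 24968882636512 .nil .nil) (.node 41586529208130 .nil .nil)) (.node 18363691386891 (.node 32929118005027 .nil .nil) (.node 72723766965455 .nil .nil))) (.node 9766847281150 (.node 15468231395483 (.node 28880942401289 .nil .nil) (.node 49909236151827 .nil .nil)) (.node 21314181818461 (.node 37189423642340 .nil .nil) .nil)))) (.node 2275485120668 (.node 3597343832035 (.node 6331963725921 (.node 11836465473655 (.node 24001542342376 .nil .nil) (.node 40486931834812 .nil .nil)) (.node 17668563036261 (.node 31903106037593 .nil .nil) (.node 60694168376720 .nil .nil))) (.node 9078745942221 (.node 14719664330793 (.node 27915597268845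 .nil .nil) (.node 46465731106400 .nil .nil)) (.node 20559810914381 (.node 36095346329388 .nil .nil) .nil))) (.node 4960559233265 (.node 7704424298479 (.node 13278854318048 (.node 25985649870695 .nil .nil) (.node 42685705082694 .nil .nil)) (.node 19116184242173 (.node 33965445367543 .nil .nil) .nil)) (.node 10454846994454 (.node 16164082374595 (.node 29905961990030 .nil .nil) (.node 53618947392973 .nil .nil)) (.node 22071944406917 (.node 38290108819213 .nil .nil) .nil))))) (.node 1247594797123 (.node 1934169413600 (.node 3250305698013 (.node 5988433414197 (.node 11490821765214 (.node 23520437651350 .nil .nil) (.node 39937461639096 .nil .nil)) (.node 17262468245570 (.node 31418360792971 .nil .nil) (.node 58703970354660 .nil .nil))) (.node 8735099037673 (.node 14373566384364 (.node 27434409944943 .nil .nil) (.node 44823391237691 .nil .nil)) (.node 20215022594135 (.node 35550121408198 .nil .nil) .nil)))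 (.node 4622061668514 (.node 7359098206462 (.node 12931900131559 (.node 25451949201039 .nil .nil) (.node 42136083547975 .nil .nil)) (.node 18768695261276 (.node 33421008606906 .nil .nil) .nil)) (.node 10110310655962 (.node 15819662882763 (.node 29419141142360 .nil .nil) (.node 51895928395280 .nil .nil)) (.node 21659288975410 (.node 37740487145276 .nil .nil) .nil)))) (.node 2615928490235 (.node 3941242820589 (.node 6671618509055 (.node 12237912938744 (.node 24482979948442 .nil .nil) (.node 41037327173420 .nil .nil)) (.node 18016032155879 (.node 32390333871814 .nil .nil) (.node 63925728163175 .nil .nil))) (.node 9422310410228 (.node 15066213701688 (.node 28396583249769 .nil .nil) (.node 48051025942054 .nil .nil)) (.node 20964984621089 (.node 36641057572742 .nil .nil) .nil))) (.node 5302344444160 (.node 8047031543974 (.node 13625873905654 (.node 26468530780060 .nil .nil) (.node 43236133205698 .nil .nil))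 (.node 19463236151253 (.node 34510603089785 .nil .nil) .nil)) (.node 10798075627514 (.node 16567642392721 (.node 30392317835038 .nil .nil) (.node 55263971091935 .nil .nil)) (.node 22553551017851 (.node 38839797495564 .nil .nil) .nil))))))) (.node 298288621644 (.node 491579816080 (.node 834926155760 (.node 1516786141385 (.node 2837217126639 (.node 5575512946700 (.node 11070755309730 (.node 22900989433774 .nil .nil) (.node 39252130850646 .nil .nil)) (.node 16842470266968 (.node 30798495541057 .nil .nil) (.node 56434818803166 .nil .nil))) (.node 8266610305029 (.node 13899223660621 (.node 26816758548275 .nil .nil) (.node 43648433292993 .nil .nil)) (.node 19737677719519 (.node 34921999599367 .nil .nil) .nil))) (.node 4209241364680 (.node 6888931850289 (.node 12457793533966 (.node 24886574344055 .nil .nil) (.node 41449056704336 .nil .nil)) (.node 18290776197330 (.node 32792918181749 .nil .nil) (.node 71624523576575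 .nil .nil))) (.node 9640479520779 (.node 15339968686046 (.node 28748050761409 .nil .nil) (.node 49427327686152 .nil .nil)) (.node 21239895722089 (.node 37052200560552 .nil .nil) .nil)))) (.node 2153999890453 (.node 3523053131959 (.node 6203918346285 (.node 11762932066408 (.node 23869622916828 .nil .nil) (.node 40349946009509 .nil .nil)) (.node 17538034014250 (.node 31768738813589 .nil .nil) (.node 60147683128742 .nil .nil))) (.node 8953486211080 (.node 14646416406545 (.node 27778914793265 .nil .nil) (.node 46057540298355 .nil .nil)) (.node 20489648863316 (.node 35957873796910 .nil .nil) .nil))) (.node 4888904996952 (.node 7578256631903 (.node 13205704481004 (.node 25854801655679 .nil .nil) (.node 42548381935470 .nil .nil)) (.node 19043438876816 (.node 33828191008498 .nil .nil) .nil)) (.node 10379501738120 (.node 16093566261390 (.node 29770906912597 .nil .nil) (.node 53272615986650 .nil .nil)) (.node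 21933629384880 (.node 38152703358778 .nil .nil) .nil))))) (.node 1175050504415 (.node 1811274635295 (.node 3175379900596 (.node 5913758775530 (.node 11416685045781 (.node 23383804966697 .nil .nil) (.node 39800324704180 .nil .nil)) (.node 17193129506767 (.node 31281393735474 .nil .nil) (.node 58222682424817 .nil .nil))) (.node 8608964831297 (.node 14301073656025 (.node 27297543128897 .nil .nil) (.node 44474376005210 .nil .nil)) (.node 20140417906780 (.node 35412799858370 .nil .nil) .nil))) (.node 4545441298640 (.node 7233736792166 (.node 12857864796160 (.node 25373480318860 .nil .nil) (.node 41998676760426 .nil .nil)) (.node 18638720235529 (.node 33283536123580 .nil .nil) .nil)) (.node 10035585788015 (.node 15742975436941 (.node 29287235434420 .nil .nil) (.node 51351154140716 .nil .nil)) (.node 21589076261023 (.node 37603166877355 .nil .nil) .nil)))) (.node 2494156908773 (.node 3866046494924 (.node 6546290485415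 (.node 12110454397004 (.node 24351682787030 .nil .nil) (.node 40899467065199 .nil .nil)) (.node 17943575103625 (.node 32309267314473 .nil .nil) (.node 62826484888955 .nil .nil))) (.node 9297301719044 (.node 14994104580273 (.node 28259715082081 .nil .nil) (.node 47639111640620 .nil .nil)) (.node 20834454018148 (.node 36504275240677 .nil .nil) .nil))) (.node 5232401922148 (.node 7921686358096 (.node 13551735121983 (.node 26334898354045 .nil .nil) (.node 43098190886604 .nil .nil)) (.node 19389954734086 (.node 34373063464827 .nil .nil) .nil)) (.node 10722881189990 (.node 16438690203709 (.node 30258134755017 .nil .nil) (.node 54854471943675 .nil .nil)) (.node 22417135241090 (.node 38702341695290 .nil .nil) .nil)))))) (.node 641198254144 (.node 984443447391 (.node 1669522815231 (.node 3031231518792 (.node 5721103444132 (.node 11216128370778 (.node 23176454592415 .nil .nil) (.node 39526758270627 .nil .nil))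 (.node 16988529997868 (.node 31011952260768 .nil .nil) (.node 57260324734418 .nil .nil))) (.node 8463944145040 (.node 14099107961060 (.node 27084725012405 .nil .nil) (.node 43923378124492 .nil .nil)) (.node 19940446799985 (.node 35196927817475 .nil .nil) .nil))) (.node 4354063063018 (.node 7088464930768 (.node 12658548013257 (.node 25100532430747 .nil .nil) (.node 41724000155500 .nil .nil)) (.node 18493163214905 (.node 33065749854120 .nil .nil) (.node 73823010092255 .nil .nil))) (.node 9839273130110 (.node 15544045516912 (.node 29015747843840 .nil .nil) (.node 50389115143710 .nil .nil)) (.node 21384528431171 (.node 37326661293799 .nil .nil) .nil)))) (.node 2345513203812 (.node 3715339724975 (.node 6402728454387 (.node 11964327065596 (.node 24138461034284 .nil .nil) (.node 40624286877628 .nil .nil)) (.node 17741120604399 (.node 32037322590091 .nil .nil) (.node 61175439340959 .nil .nil))) (.node 9150702016730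 (.node 14795362846714 (.node 28049011304338 .nil .nil) (.node 46878215718485 .nil .nil)) (.node 20690089445529 (.node 36233523328785 .nil .nil) .nil))) (.node 5035016124562 (.node 7776245250288 (.node 13403628484670 (.node 26069686277766 .nil .nil) (.node 42823159560038 .nil .nil)) (.node 19188961875948 (.node 34102347249485 .nil .nil) .nil)) (.node 10527222761574 (.node 16292714342554 (.node 30042296149836 .nil .nil) (.node 54032388109736 .nil .nil)) (.node 22146534557613 (.node 38427599214252 .nil .nil) .nil))))) (.node 1327185111192 (.node 2012348901618 (.node 3374509996177 (.node 6059282352370 (.node 11564910065669 (.node 23656770565954 .nil .nil) (.node 40075152197563 .nil .nil)) (.node 17392225978484 (.node 31554441119678 .nil .nil) (.node 59185761813908 .nil .nil))) (.node 8808464562229 (.node 14446246569955 (.node 27567673206681 .nil .nil) (.node 45236110661167 .nil .nil)) (.node 20284764809381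 (.node 35687493531314 .nil .nil) .nil))) (.node 4691855382580 (.node 7431357835296 (.node 13004865587155 (.node 25588314658442 .nil .nil) (.node 42273623140161 .nil .nil)) (.node 18841004263437 (.node 33557910922933 .nil .nil) .nil)) (.node 10183020546279 (.node 15889001396362 (.node 29501549946506 .nil .nil) (.node 52379329603096 .nil .nil)) (.node 21789684951117 (.node 37877959644990 .nil .nil) .nil)))) (.node 2688103946372 (.node 4010801457113 (.node 6743945205792 (.node 12311128393674 (.node 24619681892103 .nil .nil) (.node 41174714095468 .nil .nil)) (.node 18089031661571 (.node 32524787349132 .nil .nil) (.node 65024971322735 .nil .nil))) (.node 9495070992599 (.node 15194125875165 (.node 28533688297267 .nil .nil) (.node 48463560722016 .nil .nil)) (.node 21039437732008 (.node 36779086030567 .nil .nil) .nil))) (.node 5377892087968 (.node 8120698214629 (.node 13753398556696 (.node 26542719391520 .nil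 .nil) (.node 43373035419332 .nil .nil)) (.node 19592557205550 (.node 34648765527810 .nil .nil) .nil)) (.node 10870769793127 (.node 16643390629835 (.node 30525966178038 .nil .nil) (.node 55676455699925 .nil .nil)) (.node 22688020699040 (.node 38977135777550 .nil .nil) .nil))))))))

/-- Part of `setKey`. -/
noncomputable def setKey_r_r_l_l_r : Arr ℕ :=
  (.node 163064408083 (.node 285304641500 (.node 435257858124 (.node 777563539610 (.node 1463045830906 (.node 2825006049357 (.node 5509828503797 (.node 11007152072787 (.node 22832806737829 .nil .nil) (.node 39183446136484 .nil .nil)) (.node 16780794607750 (.node 30730311092129 .nil .nil) (.node 56231763539343 .nil .nil))) (.node 8255840720928 (.node 13889377761466 (.node 26748189923116 .nil .nil) (.node 43579277715137 .nil .nil)) (.node 19729861941286 (.node 34853649131271 .nil .nil) .nil))) (.node 4147133065193 (.node 6879723325441 (.node 12447862663197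 (.node 24825202861840 .nil .nil) (.node 41380354066249 .nil .nil)) (.node 18226487404546 (.node 32724534392689 .nil .nil) (.node 71075120100590 .nil .nil))) (.node 9629911578644 (.node 15331614173406 (.node 28731845756765 .nil .nil) (.node 49151761679998 .nil .nil)) (.node 21176826783835 (.node 36984153708376 .nil .nil) .nil)))) (.node 2140830541872 (.node 3461062592467 (.node 6194809387190 (.node 11700754438182 (.node 23801775994579 .nil .nil) (.node 40280958039991 .nil .nil)) (.node 17529664907382 (.node 31700371580564 .nil .nil) (.node 59941860226474 .nil .nil))) (.node 8942951454749 (.node 14582124738607 (.node 27710361659237 .nil .nil) (.node 45851365095030 .nil .nil)) (.node 20422321047727 (.node 35891957565073 .nil .nil) .nil))) (.node 4827650123925 (.node 7567823427790 (.node 13142505564123 (.node 25786149095307 .nil .nil) (.node 42479748339440 .nil .nil)) (.node 18978208475130 (.node 33759505078002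 .nil .nil) .nil)) (.node 10319672178777 (.node 16026558072870 (.node 29705961838337 .nil .nil) (.node 53064411096575 .nil .nil)) (.node 21927107119179 (.node 38083933546303 .nil .nil) .nil))))) (.node 1119934798080 (.node 1797333743673 (.node 3165784938740 (.node 5852368668922 (.node 11353449904218 (.node 23319816947420 .nil .nil) (.node 39731990927295 .nil .nil)) (.node 17125014136776 (.node 31214049662739 .nil .nil) (.node 57948425381261 .nil .nil))) (.node 8598616393690 (.node 14236229232700 (.node 27229293246257 .nil .nil) (.node 44266171115135 .nil .nil)) (.node 20077785081975 (.node 35399228434175 .nil .nil) .nil))) (.node 4485629831227 (.node 7224411187213 (.node 12794965489734 (.node 25306071365393 .nil .nil) (.node 41930025842505 .nil .nil)) (.node 18630518274148 (.node 33215118599870 .nil .nil) .nil)) (.node 9976141891678 (.node 15681552889807 (.node 29219136255888 .nil .nil) (.node 51144794195551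 .nil .nil)) (.node 21521950677048 (.node 37534412814086 .nil .nil) .nil)))) (.node 2482381691030 (.node 3804357728224 (.node 6538122258473 (.node 12101917169643 (.node 24336684345215 .nil .nil) (.node 40830682257215 .nil .nil)) (.node 17878425635046 (.node 32241317484454 .nil .nil) (.node 62276863391075 .nil .nil))) (.node 9287505225670 (.node 14930384824406 (.node 28191330797415 .nil .nil) (.node 47434831525503 .nil .nil)) (.node 20827545151647 (.node 36436477986635 .nil .nil) .nil))) (.node 5171314141351 (.node 7911202552041 (.node 13488535623672 (.node 26267437021048 .nil .nil) (.node 43030008161993 .nil .nil)) (.node 19325998442468 (.node 34305252026115 .nil .nil) .nil)) (.node 10663504373847 (.node 16430153287840 (.node 30190488569552 .nil .nil) (.node 54648363832830 .nil .nil)) (.node 22351099447210 (.node 38633589855919 .nil .nil) .nil)))))) (.node 625227593960 (.node 966963247310 (.node 1604311271444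 (.node 2968650942648 (.node 5653977540783 (.node 11204068493405 (.node 23103256188813 .nil .nil) (.node 39458088191729 .nil .nil)) (.node 16979909245010 (.node 30946235365068 .nil .nil) (.node 57052421899693 .nil .nil))) (.node 8399989471203 (.node 14034483533777 (.node 27017598715805 .nil .nil) (.node 43854121920201 .nil .nil)) (.node 19872767170704 (.node 35128191567620 .nil .nil) .nil))) (.node 4337421576229 (.node 7024978380937 (.node 12595802814470 (.node 25033038657274 .nil .nil) (.node 41655231903553 .nil .nil)) (.node 18428265117926 (.node 32997315307449 .nil .nil) (.node 73273606620365 .nil .nil))) (.node 9777061902391 (.node 15476835944504 (.node 28947917231944 .nil .nil) (.node 50181581182536 .nil .nil)) (.node 21377317873775 (.node 37258126345955 .nil .nil) .nil)))) (.node 2287293917424 (.node 3659535993017 (.node 6340635453609 (.node 11899749345501 (.node 24070110377815 .nil .nil) (.node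 40555668084667 .nil .nil)) (.node 17676664350732 (.node 31969947141896 .nil .nil) (.node 60904050316724 .nil .nil))) (.node 9086864525409 (.node 14784123521050 (.node 27983966017366 .nil .nil) (.node 46672862258810 .nil .nil)) (.node 20627054254166 (.node 36164049024811 .nil .nil) .nil))) (.node 5025690056720 (.node 7713464768645 (.node 13342506203352 (.node 26001151399559 .nil .nil) (.node 42754407786309 .nil .nil)) (.node 19180374575179 (.node 34033610999630 .nil .nil) .nil)) (.node 10465281079302 (.node 16231038728332 (.node 29974161881001 .nil .nil) (.node 53826682492338 .nil .nil)) (.node 22138399127450 (.node 38358811514638 .nil .nil) .nil))))) (.node 1261770602514 (.node 1946448791676 (.node 3311811995850 (.node 5996669765682 (.node 11554358573086 (.node 23588670646169 .nil .nil) (.node 40006164342711 .nil .nil)) (.node 17330500220975 (.node 31485925119798 .nil .nil) (.node 58977506543025 .nil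 .nil))) (.node 8743754680281 (.node 14436919392500 (.node 27499792373663 .nil .nil) (.node 45030472132162 .nil .nil)) (.node 20277840058462 (.node 35618824111813 .nil .nil) .nil))) (.node 4682763163801 (.node 7368978385032 (.node 12995101628653 (.node 25520467297939 .nil .nil) (.node 42204786243400 .nil .nil)) (.node 18777383159792 (.node 33489208219318 .nil .nil) .nil)) (.node 10121028323367 (.node 15880414382219 (.node 29434842801871 .nil .nil) (.node 52107487516227 .nil .nil)) (.node 21726548490404 (.node 37809189848891 .nil .nil) .nil)))) (.node 2626026846398 (.node 3994528802871 (.node 6682320537654 (.node 12248480413781 (.node 24551079835403 .nil .nil) (.node 41106063423275 .nil .nil)) (.node 18080963782741 (.node 32458768164545 .nil .nil) (.node 64475349693815 .nil .nil))) (.node 9432390555788 (.node 15129850931247 (.node 28465168480107 .nil .nil) (.node 48257134052899 .nil .nil)) (.node 20972043937902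 (.node 36709793822597 .nil .nil) .nil))) (.node 5363935889645 (.node 8056710645744 (.node 13689459234878 (.node 26535103383485 .nil .nil) (.node 43304953321156 .nil .nil)) (.node 19527561590772 (.node 34580062832385 .nil .nil) .nil)) (.node 10808290146346 (.node 16576028710965 (.node 30459074533216 .nil .nil) (.node 55471102240250 .nil .nil)) (.node 22621632952207 (.node 38908500199179 .nil .nil) .nil))))))) (.node 363131648253 (.node 505839798295 (.node 847943919657 (.node 1533981145175 (.node 2895235393600 (.node 5584386349136 (.node 11079813212230 (.node 22966824097654 .nil .nil) (.node 39320867100501 .nil .nil)) (.node 16851075889089 (.node 30865873168189 .nil .nil) (.node 56643996530058 .nil .nil))) (.node 8327979854027 (.node 13961903933660 (.node 26885057066860 .nil .nil) (.node 43717253408451 .nil .nil)) (.node 19802003122173 (.node 34990836487938 .nil .nil) .nil))) (.node 4264961345705 (.node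 6952753313938 (.node 12520605890749 (.node 24901472016085 .nil .nil) (.node 41517759407951 .nil .nil)) (.node 18355774511248 (.node 32861488559918 .nil .nil) (.node 72174363231485 .nil .nil))) (.node 9703761594562 (.node 15404795926572 (.node 28813482739352 .nil .nil) (.node 49696368404015 .nil .nil)) (.node 21247156045994 (.node 37120653846245 .nil .nil) .nil)))) (.node 2218741733628 (.node 3581003991151 (.node 6270943529083 (.node 11826988775418 (.node 23933358413727 .nil .nil) (.node 40418648713126 .nil .nil)) (.node 17605226772610 (.node 31834436888409 .nil .nil) (.node 60422024299994 .nil .nil))) (.node 9015461337216 (.node 14656716318709 (.node 27847079200620 .nil .nil) (.node 46263782778440 .nil .nil)) (.node 20552701159511 (.node 36026542946094 .nil .nil) .nil))) (.node 4897896138819 (.node 7640669693990 (.node 13269426448555 (.node 25922648508304 .nil .nil) (.node 42617118185325 .nil .nil))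 (.node 19051824961512 (.node 33896709109496 .nil .nil) .nil)) (.node 10391074089138 (.node 16155309090912 (.node 29838198835067 .nil .nil) (.node 53476895704565 .nil .nil)) (.node 22001124907072 (.node 38221406062393 .nil .nil) .nil))))) (.node 1190853347385 (.node 1876991363134 (.node 3237826144352 (.node 5927698495583 (.node 11428628895736 (.node 23452155275064 .nil .nil) (.node 39869027399603 .nil .nil)) (.node 17254870829149 (.node 31349406553981 .nil .nil) (.node 58494608381360 .nil .nil))) (.node 8672333600898 (.node 14309394782171 (.node 27365910472483 .nil .nil) (.node 44678655719030 .nil .nil)) (.node 20147376941104 (.node 35481351612103 .nil .nil) .nil))) (.node 4554751694973 (.node 7296685357271 (.node 12867609856104 (.node 25435994691440 .nil .nil) (.node 42067379464041 .nil .nil)) (.node 18703176472814 (.node 33352305911481 .nil .nil) .nil)) (.node 10046621014200 (.node 15751663081616 (.node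 29354344531900 .nil .nil) (.node 51626082113112 .nil .nil)) (.node 21652246075494 (.node 37671903135397 .nil .nil) .nil)))) (.node 2555763943632 (.node 3924014139546 (.node 6609557797111 (.node 12175247841516 (.node 24419059832544 .nil .nil) (.node 40968169768816 .nil .nil)) (.node 17951424894986 (.node 32375101605725 .nil .nil) (.node 63376106517875 .nil .nil))) (.node 9359996229839 (.node 15056887453876 (.node 28328251402017 .nil .nil) (.node 47847030924927 .nil .nil)) (.node 20901797492898 (.node 36572455524231 .nil .nil) .nil))) (.node 5241225103447 (.node 7983763626120 (.node 13615674660895 (.node 26403416823665 .nil .nil) (.node 43166943925962 .nil .nil)) (.node 19455353063547 (.node 34441866839930 .nil .nil) .nil)) (.node 10734302156992 (.node 16506018965450 (.node 30325512488595 .nil .nil) (.node 55059741578680 .nil .nil)) (.node 22485301233533 (.node 38771077945145 .nil .nil) .nil)))))) (.node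 697755301950 (.node 1041369057436 (.node 1724940499160 (.node 3043610536158 (.node 5782174210197 (.node 11279212529692 (.node 23237373998990 .nil .nil) (.node 39595460966061 .nil .nil)) (.node 17055856949379 (.node 31080301057776 .nil .nil) (.node 57466734433790 .nil .nil))) (.node 8523321198725 (.node 14163551791066 (.node 27092307199791 .nil .nil) (.node 43992064054986 .nil .nil)) (.node 20002979039347 (.node 35264573814528 .nil .nil) .nil))) (.node 4415852746934 (.node 7098815428612 (.node 12722070206419 (.node 25168967665481 .nil .nil) (.node 41792702859115 .nil .nil)) (.node 18501231097862 (.node 33133951350558 .nil .nil) (.node 74372849743070 .nil .nil))) (.node 9902659016686 (.node 15605670324381 (.node 29083209565929 .nil .nil) (.node 50661879686672 .nil .nil)) (.node 21451520116827 (.node 37395363997416 .nil .nil) .nil)))) (.node 2357858633962 (.node 3729731569856 (.node 6463648778465 (.node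 11973870880881 (.node 24207046244153 .nil .nil) (.node 40692989573051 .nil .nil)) (.node 17805918128192 (.node 32105356527389 .nil .nil) (.node 61383811704260 .nil .nil))) (.node 9214171818236 (.node 14857438738475 (.node 28117412136855 .nil .nil) (.node 47021642602091 .nil .nil)) (.node 20697031239848 (.node 36302226032402 .nil .nil) .nil))) (.node 5095364851910 (.node 7836025792655 (.node 13414564563007 (.node 26137382573697 .nil .nil) (.node 42891895818085 .nil .nil)) (.node 19252784113676 (.node 34169775408928 .nil .nil) .nil)) (.node 10590020819143 (.node 16301286578117 (.node 30110495651660 .nil .nil) (.node 54236114482572 .nil .nil)) (.node 22214817802171 (.node 38496335472294 .nil .nil) .nil))))) (.node 1384547768300 (.node 2066676136130 (.node 3391537678298 (.node 6125436504065 (.node 11627856521419 (.node 23725673531287 .nil .nil) (.node 40143888447420 .nil .nil)) (.node 17400628607024 (.node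 31618701145910 .nil .nil) (.node 59459532707208 .nil .nil))) (.node 8870658279675 (.node 14509950588867 (.node 27634413721520 .nil .nil) (.node 45440524682755 .nil .nil)) (.node 20352428001361 (.node 35756196234929 .nil .nil) .nil))) (.node 4753058371835 (.node 7441523554320 (.node 13069439740133 (.node 25656698361498 .nil .nil) (.node 42342325835586 .nil .nil)) (.node 18906201245848 (.node 33624953194120 .nil .nil) .nil)) (.node 10245819832495 (.node 15957050144887 (.node 29569917081229 .nil .nil) (.node 52587634878030 .nil .nil)) (.node 21796207741024 (.node 37946662348605 .nil .nil) .nil)))) (.node 2700852099290 (.node 4072959830217 (.node 6755100628988 (.node 12321898170360 (.node 24688133064444 .nil .nil) (.node 41243416799083 .nil .nil)) (.node 18153253361875 (.node 32591408187135 .nil .nil) (.node 65574592853375 .nil .nil))) (.node 9557786192121 (.node 15202815231956 (.node 28598666311583 .nil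 .nil) (.node 48671580771957 .nil .nil)) (.node 21102406772775 (.node 36847788725992 .nil .nil) .nil))) (.node 5438710982725 (.node 8181015513185 (.node 13764084234246 (.node 26611321468716 .nil .nil) (.node 43441855534786 .nil .nil)) (.node 19600440297428 (.node 34717952526212 .nil .nil) .nil)) (.node 10934474401804 (.node 16705081321623 (.node 30593645381452 .nil .nil) (.node 55819144766877 .nil .nil)) (.node 22696323856309 (.node 39045838481165 .nil .nil) .nil))))))))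

/-- Part of `setKey`. -/
noncomputable def setKey_r_r_l_l : Arr ℕ :=
  .node 91878660182 setKey_r_r_l_l_l setKey_r_r_l_l_r

/-- Part of `setKey`. -/
noncomputable def setKey_r_r_l_r_l : Arr ℕ :=
  (.node 159792928917 (.node 230441863185 (.node 422961215617 (.node 766541768813 (.node 1449794222300 (.node 2768665671902 (.node 5507246176412 (.node 11002304125125 (.node 22828462143373 .nil .nil) (.node 39116201912064 .nil .nil)) (.node 16773784017048 (.node 30669948790403 .nil .nil) (.node 56159202878888 .nil .nil))) (.node 8198343763972 (.node 13830604814412 (.node 26743542835099 .nil .nil) (.node 43515053434521 .nil .nil)) (.node 19669193271250 (.node 34792110581392 .nil .nil) .nil))) (.node 4141024909518 (.node 6822325692504 (.node 12388889520143 (.node 24757841053589 .nil .nil) (.node 41313260259172 .nil .nil)) (.node 18222073493713 (.node 32718481143590 .nil .nil) (.node 70800225449195 .nil .nil)))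 (.node 9623101192310 (.node 15271517927379 (.node 28671898728262 .nil .nil) (.node 49081365083735 .nil .nil)) (.node 21171176298617 (.node 36923555014274 .nil .nil) .nil)))) (.node 2086639040535 (.node 3454920800444 (.node 6188703766760 (.node 11695820929231 (.node 23795567974232 .nil .nil) (.node 40221099112130 .nil .nil)) (.node 17469331310639 (.node 31694295615366 .nil .nil) (.node 59803448436180 .nil .nil))) (.node 8935805790335 (.node 14577713686559 (.node 27709121996561 .nil .nil) (.node 45778435720805 .nil .nil)) (.node 20420912613459 (.node 35884860299073 .nil .nil) .nil))) (.node 4820386302155 (.node 7509570742362 (.node 13137001785579 (.node 25726541682333 .nil .nil) (.node 42411850598164 .nil .nil)) (.node 18975021377682 (.node 33753802041112 .nil .nil) .nil)) (.node 10313582954750 (.node 16024863565965 (.node 29699451606962 .nil .nil) (.node 52932608243144 .nil .nil)) (.node 21864943990879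 (.node 38016857982764 .nil .nil) .nil))))) (.node 1109737052120 (.node 1791731132615 (.node 3111961053397 (.node 5850357286925 (.node 11347982342166 (.node 23314733418240 .nil .nil) (.node 39671108716229 .nil .nil)) (.node 17124393256911 (.node 31209420224314 .nil .nil) (.node 57877827192225 .nil .nil))) (.node 8542410971123 (.node 14232337443034 (.node 27225266722710 .nil .nil) (.node 44136095790671 .nil .nil)) (.node 20071614593147 (.node 35337872095070 .nil .nil) .nil))) (.node 4477861964028 (.node 7167316850682 (.node 12790537214147 (.node 25244834342612 .nil .nil) (.node 41862615009018 .nil .nil)) (.node 18569967355909 (.node 33205874714387 .nil .nil) .nil)) (.node 9970304084221 (.node 15674373019806 (.node 29160401151683 .nil .nil) (.node 51008479278627 .nil .nil)) (.node 21520373565600 (.node 37467086550697 .nil .nil) .nil)))) (.node 2425840126173 (.node 3797947967667 (.node 6478057486499 (.node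 12041751701579 (.node 24276638054158 .nil .nil) (.node 40763489429238 .nil .nil)) (.node 17874654378047 (.node 32179191674698 .nil .nil) (.node 62002052724035 .nil .nil))) (.node 9280258447520 (.node 14925587941411 (.node 28190359230295 .nil .nil) (.node 47363059517015 .nil .nil)) (.node 20765767489703 (.node 36432148559785 .nil .nil) .nil))) (.node 5163833169982 (.node 7854326990855 (.node 13483099551802 (.node 26260594866020 .nil .nil) (.node 42965448533660 .nil .nil)) (.node 19321302525939 (.node 34299448444685 .nil .nil) .nil)) (.node 10657230616831 (.node 16369989281733 (.node 30182502975232 .nil .nil) (.node 54576675698150 .nil .nil)) (.node 22346889369468 (.node 38566194472757 .nil .nil) .nil)))))) (.node 573183531043 (.node 916243744873 (.node 1602046363770 (.node 2962814093363 (.node 5653038528640 (.node 11148466730975 (.node 23039367493566 .nil .nil) (.node 39390710720272 .nil .nil)) (.node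 16919778592705 (.node 30937190365055 .nil .nil) (.node 56918857864582 .nil .nil))) (.node 8396248373299 (.node 14030405273825 (.node 26954616887041 .nil .nil) (.node 43790250194575 .nil .nil)) (.node 19871744096370 (.node 35064168253265 .nil .nil) .nil))) (.node 4286148810727 (.node 7020683426022 (.node 12589811763402 (.node 25031562483498 .nil .nil) (.node 41587888146162 .nil .nil)) (.node 18424510769295 (.node 32935055873786 .nil .nil) (.node 72998711964875 .nil .nil))) (.node 9771476224113 (.node 15475342821487 (.node 28942415509340 .nil .nil) (.node 50045550937711 .nil .nil)) (.node 21315892295849 (.node 37194991945527 .nil .nil) .nil)))) (.node 2281187887312 (.node 3649220180046 (.node 6333690304759 (.node 11895624370171 (.node 24061806434180 .nil .nil) (.node 40495658174150 .nil .nil)) (.node 17672417900784 (.node 31965703501612 .nil .nil) (.node 60766577821109 .nil .nil))) (.node 9083291867215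 (.node 14725419014134 (.node 27917041567517 .nil .nil) (.node 46539163911739 .nil .nil)) (.node 20621387126841 (.node 36158178612979 .nil .nil) .nil))) (.node 4966329923746 (.node 7709035763925 (.node 13337558636791 (.node 25992022497147 .nil .nil) (.node 42687265318640 .nil .nil)) (.node 19120578017254 (.node 34028325574574 .nil .nil) .nil)) (.node 10459038496950 (.node 16224045340767 (.node 29914152027777 .nil .nil) (.node 53755044590995 .nil .nil)) (.node 22076405983160 (.node 38291485353634 .nil .nil) .nil))))) (.node 1259103013007 (.node 1945390766322 (.node 3305975293992 (.node 5995847100591 (.node 11496173815814 (.node 23527585904340 .nil .nil) (.node 39946288453316 .nil .nil)) (.node 17323573524574 (.node 31425913292424 .nil .nil) (.node 58841946305946 .nil .nil))) (.node 8740095944937 (.node 14377727313980 (.node 27435686561539 .nil .nil) (.node 44958850967067 .nil .nil)) (.node 20216113190959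 (.node 35611123316467 .nil .nil) .nil))) (.node 4623320344662 (.node 7364398274783 (.node 12936162891730 (.node 25511674087291 .nil .nil) (.node 42137727723235 .nil .nil)) (.node 18772351985671 (.node 33481236801406 .nil .nil) .nil)) (.node 10114788493417 (.node 15820365785231 (.node 29426402105219 .nil .nil) (.node 51969947924035 .nil .nil)) (.node 21720831399998 (.node 37741712033508 .nil .nil) .nil)))) (.node 2620089141371 (.node 3990150531245 (.node 6677035571440 (.node 12243331115075 (.node 24550223267741 .nil .nil) (.node 41038266296139 .nil .nil)) (.node 18020127598601 (.node 32449605887881 .nil .nil) (.node 64200539026775 .nil .nil))) (.node 9427929159796 (.node 15125288937440 (.node 28459248727970 .nil .nil) (.node 48122093852173 .nil .nil)) (.node 20970701482151 (.node 36649213470410 .nil .nil) .nil))) (.node 5309323978815 (.node 8052196874464 (.node 13684662306839 (.node 26472943085399 .nil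 .nil) (.node 43240259471000 .nil .nil)) (.node 19524038977661 (.node 34519262262985 .nil .nil) .nil)) (.node 10802218055778 (.node 16574687926219 (.node 30454311089989 .nil .nil) (.node 55335240091086 .nil .nil)) (.node 22557962119101 (.node 38841341736620 .nil .nil) .nil))))))) (.node 350081317100 (.node 503675451492 (.node 845459626235 (.node 1522405439622 (.node 2890839943415 (.node 5577054619902 (.node 11075452172398 (.node 22962831513500 .nil .nil) (.node 39253674428154 .nil .nil)) (.node 16849581090950 (.node 30804617914139 .nil .nil) (.node 56570345530850 .nil .nil))) (.node 8322932394170 (.node 13957845420245 (.node 26817630988001 .nil .nil) (.node 43652559550103 .nil .nil)) (.node 19798480762916 (.node 34926712510296 .nil .nil) .nil))) (.node 4215651244015 (.node 6947419302059 (.node 12516565358622 (.node 24894927722399 .nil .nil) (.node 41450617022190 .nil .nil)) (.node 18295223654401 (.node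 32800168535686 .nil .nil) (.node 71899468575995 .nil .nil))) (.node 9698345109716 (.node 15400350419165 (.node 28807391909718 .nil .nil) (.node 49562401424975 .nil .nil)) (.node 21245445560414 (.node 37057787914033 .nil .nil) .nil)))) (.node 2208980178920 (.node 3530050267094 (.node 6263378212921 (.node 11767780870099 (.node 23932671727381 .nil .nil) (.node 40358571558597 .nil .nil)) (.node 17598401157237 (.node 31829807654708 .nil .nil) (.node 60285088535972 .nil .nil))) (.node 9011050469380 (.node 14650928080938 (.node 27842383390617 .nil .nil) (.node 46129749018146 .nil .nil)) (.node 20491057297584 (.node 36020773205749 .nil .nil) .nil))) (.node 4896403224708 (.node 7636257728701 (.node 13211208259548 (.node 25862772823707 .nil .nil) (.node 42549237684070 .nil .nil)) (.node 19047498074121 (.node 33890450380730 .nil .nil) .nil)) (.node 10387083872196 (.node 16095294322725 (.node 29831625750350 .nil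 .nil) (.node 53345008973249 .nil .nil)) (.node 21995776292931 (.node 38154230884016 .nil .nil) .nil))))) (.node 1188469770494 (.node 1865952737336 (.node 3182425090257 (.node 5919965022395 (.node 11422152607833 (.node 23450662401876 .nil .nil) (.node 39808514078400 .nil .nil)) (.node 17193716832200 (.node 31290872735410 .nil .nil) (.node 58359869916610 .nil .nil))) (.node 8666664581114 (.node 14304965482555 (.node 27359535818675 .nil .nil) (.node 44548261627471 .nil .nil)) (.node 20146319890520 (.node 35473717892853 .nil .nil) .nil))) (.node 4553962883238 (.node 7292140996589 (.node 12863398824157 (.node 25381954852503 .nil .nil) (.node 42000085858150 .nil .nil)) (.node 18699254532195 (.node 33343076501385 .nil .nil) .nil)) (.node 10042563663899 (.node 15750960187339 (.node 29293678540552 .nil .nil) (.node 51488358270510 .nil .nil)) (.node 21590653380663 (.node 37604490880839 .nil .nil) .nil)))) (.node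 2549859735696 (.node 3872792180693 (.node 6606774573135 (.node 12169847892135 (.node 24413523592948 .nil .nil) (.node 40900859393898 .nil .nil)) (.node 17947329452264 (.node 32313628382981 .nil .nil) (.node 63101295883595 .nil .nil))) (.node 9355301861396 (.node 14998953326675 (.node 28324157564817 .nil .nil) (.node 47772105549410 .nil .nil)) (.node 20896281712705 (.node 36512227841716 .nil .nil) .nil))) (.node 5234413795571 (.node 7978479384779 (.node 13557171210229 (.node 26344429753995 .nil .nil) (.node 43103038654096 .nil .nil)) (.node 19394684356578 (.node 34381789730507 .nil .nil) .nil)) (.node 10729791899675 (.node 16498889537695 (.node 30318733903696 .nil .nil) (.node 54925120640466 .nil .nil)) (.node 22421513095090 (.node 38703684720299 .nil .nil) .nil)))))) (.node 692152461515 (.node 986959861785 (.node 1672476641353 (.node 3037135448250 (.node 5722361850002 (.node 11222587725811 (.node 23177562810118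 .nil .nil) (.node 39528100284066 .nil .nil)) (.node 17048645503057 (.node 31073019197363 .nil .nil) (.node 57394828387775 .nil .nil))) (.node 8467601934315 (.node 14103152674772 (.node 27091049011035 .nil .nil) (.node 43927504426651 .nil .nil)) (.node 19941503428751 (.node 35202110838508 .nil .nil) .nil))) (.node 4405604087948 (.node 7092790438096 (.node 12664505518085 (.node 25161519351665 .nil .nil) (.node 41725275019112 .nil .nil)) (.node 18496867346664 (.node 33069861291792 .nil .nil) (.node 74097955091675 .nil .nil))) (.node 9842711668844 (.node 15545572194359 (.node 29077372217135 .nil .nil) (.node 50526302115432 .nil .nil)) (.node 21446003775617 (.node 37331877578509 .nil .nil) .nil)))) (.node 2351316637896 (.node 3719701170259 (.node 6408432576643 (.node 11968452040926 (.node 24144349779678 .nil .nil) (.node 40633214527168 .nil .nil)) (.node 17745400600587 (.node 32046484883139 .nil .nil) (.node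 61246406297030 .nil .nil))) (.node 9155031287791 (.node 14852826216473 (.node 28053707376487 .nil .nil) (.node 46951916869173 .nil .nil)) (.node 20695689816150 (.node 36296120735480 .nil .nil) .nil))) (.node 5089125095660 (.node 7780523423900 (.node 13410573051847 (.node 26129058748294 .nil .nil) (.node 42824603666154 .nil .nil)) (.node 19248993380429 (.node 34164793829133 .nil .nil) .nil)) (.node 10532455778452 (.node 16299942647949 (.node 30047496074986 .nil .nil) (.node 54164191090160 .nil .nil)) (.node 22210624579457 (.node 38428940166914 .nil .nil) .nil))))) (.node 1329617856533 (.node 2015520393277 (.node 3384708348100 (.node 6065321785479 (.node 11622691973319 (.node 23658515158802 .nil .nil) (.node 40083609908936 .nil .nil)) (.node 17399137322950 (.node 31558032795430 .nil .nil) (.node 59322395260394 .nil .nil))) (.node 8812339861473 (.node 14503408486445 (.node 27572286838602 .nil .nil) (.node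 45365951108720 .nil .nil)) (.node 20346425251974 (.node 35748308555642 .nil .nil) .nil))) (.node 4751013492740 (.node 7436589308104 (.node 13063804319982 (.node 25648777336708 .nil .nil) (.node 42275131590497 .nil .nil)) (.node 18846069057518 (.node 33617753192312 .nil .nil) .nil)) (.node 10186996762737 (.node 15949117077644 (.node 29563088033628 .nil .nil) (.node 52450363655756 .nil .nil)) (.node 21795016173740 (.node 37879101519529 .nil .nil) .nil)))) (.node 2694410815675 (.node 4062677829697 (.node 6748892723356 (.node 12315421939792 (.node 24626460096210 .nil .nil) (.node 41175604545357 .nil .nil)) (.node 18149700032598 (.node 32585099069371 .nil .nil) (.node 65299782284615 .nil .nil))) (.node 9498863814619 (.node 15198687836202 (.node 28535013582562 .nil .nil) (.node 48596588402240 .nil .nil)) (.node 21040780187757 (.node 36786568779458 .nil .nil) .nil))) (.node 5379166771369 (.node 8124390381545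 (.node 13758195492925 (.node 26609575229295 .nil .nil) (.node 43377631254170 .nil .nil)) (.node 19596045998082 (.node 34656768374465 .nil .nil) .nil)) (.node 10876875380783 (.node 16644731414582 (.node 30534337861309 .nil .nil) (.node 55746802169276 .nil .nil)) (.node 22692164216695 (.node 38978746136346 .nil .nil) .nil))))))))

/-- Part of `setKey`. -/
noncomputable def setKey_r_r_l_r_r : Arr ℕ :=
  (.node 216702003352 (.node 296139958526 (.node 437640292374 (.node 779761461269 (.node 1465680791656 (.node 2830910195902 (.node 5515834579033 (.node 11011378870395 (.node 22896678418319 .nil .nil) (.node 39184938161919 .nil .nil)) (.node 16782104602568 (.node 30736099714843 .nil .nil) (.node 56363751085520 .nil .nil))) (.node 8260050266251 (.node 13894340962509 (.node 26809914189755 .nil .nil) (.node 43583739381403 .nil .nil)) (.node 19733350537228 (.node 34858194311000 .nil .nil) .nil))) (.node 4199059884099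 (.node 6884116822241 (.node 12451869640894 (.node 24826930624236 .nil .nil) (.node 41381962954595 .nil .nil)) (.node 18287088666707 (.node 32732019152577 .nil .nil) (.node 71349930915050 .nil .nil))) (.node 9635209844935 (.node 15336093231147 (.node 28739308058485 .nil .nil) (.node 49289167087228 .nil .nil)) (.node 21178151434401 (.node 36990513215109 .nil .nil) .nil)))) (.node 2151869180004 (.node 3512854906993 (.node 6202442233957 (.node 11758638569446 (.node 23864019343129 .nil .nil) (.node 40289801815745 .nil .nil)) (.node 17536524077185 (.node 31762111248190 .nil .nil) (.node 60076380571127 .nil .nil))) (.node 8947712981197 (.node 14588013639672 (.node 27774385121174 .nil .nil) (.node 45922399475291 .nil .nil)) (.node 20483931387967 (.node 35952573703925 .nil .nil) .nil))) (.node 4829394647133 (.node 7572989683863 (.node 13201680250895 (.node 25795076589213 .nil .nil) (.node 42480586848019 .nil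 .nil)) (.node 18983306864616 (.node 33821747677115 .nil .nil) .nil)) (.node 10323413309422 (.node 16086606411865 (.node 29766510426044 .nil .nil) (.node 53137223509406 .nil .nil)) (.node 21932422211647 (.node 38085594232619 .nil .nil) .nil))))) (.node 1122972506191 (.node 1808573524115 (.node 3169307990104 (.node 5859113302090 (.node 11359926200311 (.node 23382965282712 .nil .nil) (.node 39739811411654 .nil .nil)) (.node 17186134579292 (.node 31275858515780 .nil .nil) (.node 58085763696011 .nil .nil))) (.node 8603798612103 (.node 14240658532316 (.node 27292745009044 .nil .nil) (.node 44341013050900 .nil .nil)) (.node 20078858148014 (.node 35405331953522 .nil .nil) .nil))) (.node 4539503536355 (.node 7228803721420 (.node 12799695583293 (.node 25307277989780 .nil .nil) (.node 41931317704441 .nil .nil)) (.node 18634440222957 (.node 33274440898444 .nil .nil) .nil)) (.node 9979831945291 (.node 15682962028489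 (.node 29225581446815 .nil .nil) (.node 51280555873920 .nil .nil)) (.node 21583375693884 (.node 37535789254311 .nil .nil) .nil)))) (.node 2487984040125 (.node 3856049678397 (.node 6545586415726 (.node 12106058561773 (.node 24345240045343 .nil .nil) (.node 40832225679093 .nil .nil)) (.node 17882722228232 (.node 32245378459453 .nil .nil) (.node 62551674254675 .nil .nil))) (.node 9291932674171 (.node 14988906952657 (.node 28258760378108 .nil .nil) (.node 47565511108175 .nil .nil)) (.node 20833061243041 (.node 36499008431855 .nil .nil) .nil))) (.node 5172623136834 (.node 7916268402832 (.node 13546971965472 (.node 26275643152022 .nil .nil) (.node 43034134513306 .nil .nil)) (.node 19387103373376 (.node 34314160596658 .nil .nil) .nil)) (.node 10666625034221 (.node 16437316261834 (.node 30250415023993 .nil .nil) (.node 54719515719085 .nil .nil)) (.node 22413209909150 (.node 38634897168182 .nil .nil) .nil))))))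 (.node 638948870398 (.node 972700145787 (.node 1659358664660 (.node 2975830517980 (.node 5713538525260 (.node 11211482503120 (.node 23107617421241 .nil .nil) (.node 39459446970127 .nil .nil)) (.node 16987120699524 (.node 31005576529677 .nil .nil) (.node 57123673794041 .nil .nil))) (.node 8458207602938 (.node 14094849148889 (.node 27022749124424 .nil .nil) (.node 43859003201165 .nil .nil)) (.node 19934192425085 (.node 35133408143083 .nil .nil) .nil))) (.node 4347636263120 (.node 7081772193920 (.node 12653819926556 (.node 25099828881214 .nil .nil) (.node 41656624396017 .nil .nil)) (.node 18432427636748 (.node 33003691484922 .nil .nil) (.node 73548417434825 .nil .nil))) (.node 9834156894404 (.node 15536934090908 (.node 29010864601017 .nil .nil) (.node 50251911013916 .nil .nil)) (.node 21382783858780 (.node 37263694640952 .nil .nil) .nil)))) (.node 2341117671680 (.node 3665862055912 (.node 6400213727240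 (.node 11905134622834 (.node 24077022942936 .nil .nil) (.node 40564394424005 .nil .nil)) (.node 17737265731686 (.node 32031185741615 .nil .nil) (.node 61040298374602 .nil .nil))) (.node 9146375264424 (.node 14788702488620 (.node 27985308112646 .nil .nil) (.node 46748056495647 .nil .nil)) (.node 20628513609806 (.node 36227418040055 .nil .nil) .nil))) (.node 5027667798267 (.node 7771230669052 (.node 13347439499240 (.node 26060423362422 .nil .nil) (.node 42756001568495 .nil .nil)) (.node 19184131926018 (.node 34097028278189 .nil .nil) .nil)) (.node 10522676885721 (.node 16232785078211 (.node 29980571236118 .nil .nil) (.node 53961286616562 .nil .nil)) (.node 22142441834366 (.node 38360188049072 .nil .nil) .nil))))) (.node 1316230613028 (.node 1999415855315 (.node 3318723143911 (.node 6057002125419 (.node 11559524468829 (.node 23594979854041 .nil .nil) (.node 40014991156931 .nil .nil)) (.node 17331204495425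 (.node 31490856302432 .nil .nil) (.node 59048557684118 .nil .nil))) (.node 8803147241481 (.node 14441934551195 (.node 27504069117799 .nil .nil) (.node 45163784541824 .nil .nil)) (.node 20283725297746 (.node 35679605860217 .nil .nil) .nil))) (.node 4684523612416 (.node 7423541196950 (.node 13000737036518 (.node 25580326123407 .nil .nil) (.node 42206430418660 .nil .nil)) (.node 18837381175390 (.node 33549973051261 .nil .nil) .nil)) (.node 10177938618603 (.node 15888313895032 (.node 29494903555962 .nil .nil) (.node 52244003956287 .nil .nil)) (.node 21727991679025 (.node 37810448283363 .nil .nil) .nil)))) (.node 2632334178514 (.node 4004592629957 (.node 6736245794975 (.node 12303848491085 (.node 24611629352825 .nil .nil) (.node 41107002545996 .nil .nil)) (.node 18084517112020 (.node 32517335750536 .nil .nil) (.node 64750160590175 .nil .nil))) (.node 9490375714800 (.node 15134112536529 (.node 28466527397731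 .nil .nil) (.node 48327060907634 .nil .nil)) (.node 21033720559743 (.node 36717949720265 .nil .nil) .nil))) (.node 5370309855425 (.node 8114559875323 (.node 13695381538821 (.node 26541410998094 .nil .nil) (.node 43308945434262 .nil .nil)) (.node 19531922032599 (.node 34588032124610 .nil .nil) .nil)) (.node 10865502697655 (.node 16636345088146 (.node 30518921140040 .nil .nil) (.node 55544149509521 .nil .nil)) (.node 22626044397489 (.node 38910044440230 .nil .nil) .nil))))))) (.node 366705936525 (.node 560115406820 (.node 899971320035 (.node 1536916863008 (.node 2901172922547 (.node 5638813772015 (.node 11138485311730 (.node 22971117979563 .nil .nil) (.node 39322410678009 .nil .nil)) (.node 16911206525015 (.node 30870502606616 .nil .nil) (.node 56776235693510 .nil .nil))) (.node 8332879259771 (.node 13966803797976 (.node 26886048098126 .nil .nil) (.node 43721245513365 .nil .nil)) (.node 19806430709725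 (.node 34995465549650 .nil .nil) .nil))) (.node 4269238872157 (.node 6957081642992 (.node 12526496237581 (.node 24963127175060 .nil .nil) (.node 41519353272045 .nil .nil)) (.node 18359528868069 (.node 32867428341408 .nil .nil) (.node 72449174045945 .nil .nil))) (.node 9708476651570 (.node 15408704935901 (.node 28873813444446 .nil .nil) (.node 49771763652115 .nil .nil)) (.node 21308581591175 (.node 37126473844529 .nil .nil) .nil)))) (.node 2221964113956 (.node 3591370180785 (.node 6272671316028 (.node 11830912432352 (.node 24000450738079 .nil .nil) (.node 40427274254022 .nil .nil)) (.node 17606736717865 (.node 31898275526452 .nil .nil) (.node 60558356374930 .nil .nil))) (.node 9021214566464 (.node 14715119110162 (.node 27909358729130 .nil .nil) (.node 46335890658847 .nil .nil)) (.node 20558318004309 (.node 36089475917556 .nil .nil) .nil))) (.node 4957490485392 (.node 7644947609566 (.node 13274139682956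 (.node 25931308074625 .nil .nil) (.node 42617940387685 .nil .nil)) (.node 19112124807306 (.node 33959153084345 .nil .nil) .nil)) (.node 10397182388222 (.node 16162336032907 (.node 29845851473611 .nil .nil) (.node 53548902933910 .nil .nil)) (.node 22002332080303 (.node 38222967133858 .nil .nil) .nil))))) (.node 1241841129680 (.node 1879356741662 (.node 3243595843774 (.node 5928821856428 (.node 11485655877661 (.node 23512184805260 .nil .nil) (.node 39877216782015 .nil .nil)) (.node 17261763971120 (.node 31358518679242 .nil .nil) (.node 58566581724645 .nil .nil))) (.node 8677533300808 (.node 14368887736485 (.node 27367351453539 .nil .nil) (.node 44752642209310 .nil .nil)) (.node 20209003100292 (.node 35542387066612 .nil .nil) .nil))) (.node 4614111053951 (.node 7301181470851 (.node 12926264707312 (.node 25443357046663 .nil .nil) (.node 42068788561765 .nil .nil)) (.node 18707422939146 (.node 33411779196810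 .nil .nil) .nil)) (.node 10053131966472 (.node 15811678132366 (.node 29359764567800 .nil .nil) (.node 51762380703263 .nil .nil)) (.node 21657845794979 (.node 37673193576264 .nil .nil) .nil)))) (.node 2562406594796 (.node 3934296414400 (.node 6614658062476 (.node 12180047050728 (.node 24482175649603 .nil .nil) (.node 40969595651945 .nil .nil)) (.node 18012277799050 (.node 32381291276066 .nil .nil) (.node 63650917414235 .nil .nil))) (.node 9365903710214 (.node 15061918722267 (.node 28392021469079 .nil .nil) (.node 47977995712070 .nil .nil)) (.node 20903156721763 (.node 36580477236939 .nil .nil) .nil))) (.node 5300668614665 (.node 7988090820768 (.node 13620437817408 (.node 26412008576659 .nil .nil) (.node 43171791660686 .nil .nil)) (.node 19458875566075 (.node 34450526013130 .nil .nil) .nil)) (.node 10739655731216 (.node 16507392899134 (.node 30386145118023 .nil .nil) (.node 55132033922456 .nil .nil))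 (.node 22489595164583 (.node 38772420978341 .nil .nil) .nil)))))) (.node 709447940239 (.node 1052609333369 (.node 1737621883126 (.node 3099581958229 (.node 5783968159991 (.node 11284680108127 (.node 23246164985585 .nil .nil) (.node 39596802979504 .nil .nil)) (.node 17057266255915 (.node 31141069756218 .nil .nil) (.node 57604139845115 .nil .nil))) (.node 8530802276369 (.node 14167810664675 (.node 27159263815536 .nil .nil) (.node 43996190406297 .nil .nil)) (.node 20009082378360 (.node 35270142645990 .nil .nil) .nil))) (.node 4422497519582 (.node 7156295612433 (.node 12726898788530 (.node 25176651634391 .nil .nil) (.node 41793977722727 .nil .nil)) (.node 18561865918522 (.node 33137876195128 .nil .nil) (.node 74647660557530 .nil .nil))) (.node 9907354306773 (.node 15612850194383 (.node 29091916605116 .nil .nil) (.node 50796148401695 .nil .nil)) (.node 21453264681028 (.node 37400613828366 .nil .nil) .nil))))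 (.node 2413964200088 (.node 3736460453841 (.node 6469620205745 (.node 12033180940268 (.node 24208219510685 .nil .nil) (.node 40701917222591 .nil .nil)) (.node 17809722931429 (.node 32112537622156 .nil .nil) (.node 61521804166586 .nil .nil))) (.node 9219203324132 (.node 14864065542137 (.node 28121907070819 .nil .nil) (.node 47158024980020 .nil .nil)) (.node 20758859528263 (.node 36363613554607 .nil .nil) .nil))) (.node 5103618611239 (.node 7843557439505 (.node 13420167997456 (.node 26197325342595 .nil .nil) (.node 42893339916009 .nil .nil)) (.node 19257647790058 (.node 34233261700877 .nil .nil) .nil)) (.node 10594801682517 (.node 16361450592409 (.node 30115628111698 .nil .nil) (.node 54371859277250 .nil .nil)) (.node 22278756812678 (.node 38497676416769 .nil .nil) .nil))))) (.node 1395081402614 (.node 2072261851257 (.node 3440528943275 (.node 6126827071741 (.node 11632085264419 (.node 23726966343411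 .nil .nil) (.node 40152346166983 .nil .nil)) (.node 17460962228339 (.node 31625676834685 .nil .nil) (.node 59594388383135 .nil .nil))) (.node 8876696455380 (.node 14513908480042 (.node 27640519653212 .nil .nil) (.node 45573619295810 .nil .nil)) (.node 20353467504806 (.node 35816944056200 .nil .nil) .nil))) (.node 4759634684067 (.node 7499322824672 (.node 13073568282580 (.node 25710805509995 .nil .nil) (.node 42343834285922 .nil .nil)) (.node 18909522397198 (.node 33686071998239 .nil .nil) .nil)) (.node 10251689715937 (.node 15957704099977 (.node 29630916601784 .nil .nil) (.node 52726164108856 .nil .nil)) (.node 21858320570437 (.node 37947804223143 .nil .nil) .nil)))) (.node 2756555020402 (.node 4079738816481 (.node 6812026632400 (.node 12379159984147 (.node 24694357112537 .nil .nil) (.node 41244340795214 .nil .nil)) (.node 18157734365188 (.node 32652696962856 .nil .nil) (.node 65849403848015 .nil .nil)))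 (.node 9562851010792 (.node 15262828550110 (.node 28603431061243 .nil .nil) (.node 48808885540469 .nil .nil)) (.node 21108124080220 (.node 36855271483073 .nil .nil) .nil))) (.node 5446057805990 (.node 8187607893963 (.node 13821581600759 (.node 26675846690708 .nil .nil) (.node 43446317201052 .nil .nil)) (.node 19661176027180 (.node 34724011775628 .nil .nil) .nil)) (.node 10939036354670 (.node 16712091912325 (.node 30601446971034 .nil .nil) (.node 55952910263741 .nil .nil)) (.node 22760329914249 (.node 39047448839961 .nil .nil) .nil))))))))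

/-- Part of `setKey`. -/
noncomputable def setKey_r_r_l_r : Arr ℕ :=
  .node 142530894020 setKey_r_r_l_r_l setKey_r_r_l_r_r

/-- Part of `setKey`. -/
noncomputable def setKey_r_r_l : Arr ℕ :=
  .node 89713445112 setKey_r_r_l_l setKey_r_r_l_r

/-- Part of `setKey`. -/
noncomputable def setKey_r_r_r_l_l : Arr ℕ :=
  (.node 158818408704 (.node 229284083796 (.node 422676482015 (.node 762666543335 (.node 1399108868127 (.node 2763297827012 (.node 5501341280495 (.node 10947223406586 (.node 22825426147220 .nil .nil) (.node 39115263403696 .nil .nil)) (.node 16715111565341 (.node 30665249752921 .nil .nil) (.node 56093435344354 .nil .nil))) (.node 8194250524638 (.node 13828273256606 (.node 26680191891226 .nil .nil) (.node 43512067962548 .nil .nil)) (.node 19665805404166 (.node 34788015871768 .nil .nil) .nil))) (.node 4131934132310 (.node 6818870270096 (.node 12386221283439 (.node 24757036783405 .nil .nil) (.node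 41312589330280 .nil .nil)) (.node 18219459631207 (.node 32661186053789 .nil .nil) (.node 70662752949485 .nil .nil))) (.node 9570869950520 (.node 15269202090017 (.node 28669296584590 .nil .nil) (.node 49013870151215 .nil .nil)) (.node 21113191368645 (.node 36918705354494 .nil .nil) .nil)))) (.node 2084491614246 (.node 3453897525431 (.node 6135131797542 (.node 11693139130459 (.node 23795316508479 .nil .nil) (.node 40213547169700 .nil .nil)) (.node 17469029283935 (.node 31691980785594 .nil .nil) (.node 59734745732563 .nil .nil))) (.node 8883507169414 (.node 14575768041441 (.node 27705212815258 .nil .nil) (.node 45715083519608 .nil .nil)) (.node 20419120465895 (.node 35882426042301 .nil .nil) .nil))) (.node 4820051556490 (.node 7506686511085 (.node 13134822787092 (.node 25725468309138 .nil .nil) (.node 42411330492211 .nil .nil)) (.node 18914721695712 (.node 33749558445845 .nil .nil) .nil)) (.node 10258366654497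 (.node 16018121197775 (.node 29641554974398 .nil .nil) (.node 52927005705725 .nil .nil)) (.node 21864154974377 (.node 38015935559422 .nil .nil) .nil))))) (.node 1104368638160 (.node 1742018476051 (.node 3106223982787 (.node 5791315839138 (.node 11345818216454 (.node 23313658673056 .nil .nil) (.node 39663925782454 .nil .nil)) (.node 17117867636930 (.node 31149592491676 .nil .nil) (.node 57809879262688 .nil .nil))) (.node 8537410467991 (.node 14175562594295 (.node 27222130403255 .nil .nil) (.node 44128765720190 .nil .nil)) (.node 20014032144327 (.node 35335154767696 .nil .nil) .nil))) (.node 4476672108665 (.node 7163760252904 (.node 12787853359349 (.node 25237870712732 .nil .nil) (.node 41861808355172 .nil .nil)) (.node 18566643751128 (.node 33204197181216 .nil .nil) .nil)) (.node 9916196399101 (.node 15616304687127 (.node 29156155471670 .nil .nil) (.node 50939743028772 .nil .nil)) (.node 21518833371095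 (.node 37466750011227 .nil .nil) .nil)))) (.node 2424665737455 (.node 3796941359293 (.node 6477269882918 (.node 12040510490710 (.node 24276151322464 .nil .nil) (.node 40762801616654 .nil .nil)) (.node 17815143516146 (.node 32175533160328 .nil .nil) (.node 61864663905650 .nil .nil))) (.node 9227222022207 (.node 14923271833833 (.node 28186752190354 .nil .nil) (.node 47297577502231 .nil .nil)) (.node 20765164304438 (.node 36373748909699 .nil .nil) .nil))) (.node 5163162556430 (.node 7850568419365 (.node 13480951535839 (.node 26206856906371 .nil .nil) (.node 42961825900212 .nil .nil)) (.node 19319122049086 (.node 34241851348640 .nil .nil) .nil)) (.node 10603173017601 (.node 16369368192976 (.node 30180639119268 .nil .nil) (.node 54509650089472 .nil .nil)) (.node 22283939985324 (.node 38565691311861 .nil .nil) .nil)))))) (.node 572663248974 (.node 915136833663 (.node 1600585591029 (.node 2962310735941 (.node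 5646428567800 (.node 11146232916173 (.node 23038461876151 .nil .nil) (.node 39390358333231 .nil .nil)) (.node 16918971590742 (.node 30935865558951 .nil .nil) (.node 56913641084360 .nil .nil))) (.node 8393111935002 (.node 14027991341080 (.node 26954163922741 .nil .nil) (.node 43786979276488 .nil .nil)) (.node 19869498832880 (.node 35061315299185 .nil .nil) .nil))) (.node 4284622497762 (.node 7018201843917 (.node 12587732363502 (.node 25023979751285 .nil .nil) (.node 41587332675438 .nil .nil)) (.node 18364982917121 (.node 32931281757970 .nil .nil) (.node 72861239465165 .nil .nil))) (.node 9768959113445 (.node 15468533184710 (.node 28884986365645 .nil .nil) (.node 49976848234096 .nil .nil)) (.node 21314533513381 (.node 37190830184324 .nil .nil) .nil)))) (.node 2276424583322 (.node 3599037958118 (.node 6332214778040 (.node 11840878634999 (.node 24006944372446 .nil .nil) (.node 40488022566819 .nil .nil))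 (.node 17669552830576 (.node 31908676835014 .nil .nil) (.node 60698042844597 .nil .nil))) (.node 9080155801621 (.node 14721913092050 (.node 27916234909543 .nil .nil) (.node 46473060906597 .nil .nil)) (.node 20563267770312 (.node 36100112103104 .nil .nil) .nil))) (.node 4965206538380 (.node 7705934018586 (.node 13281620772933 (.node 25991821309816 .nil .nil) (.node 42686443181870 .nil .nil)) (.node 19116452263952 (.node 33969137260239 .nil .nil) .nil)) (.node 10457629997290 (.node 16165657774098 (.node 29909452916567 .nil .nil) (.node 53686693975534 .nil .nil)) (.node 22073051301771 (.node 38290880542462 .nil .nil) .nil))))) (.node 1257810077946 (.node 1934789449791 (.node 3303190350065 (.node 5989841152249 (.node 11492164806620 (.node 23520975464229 .nil .nil) (.node 39938535294899 .nil .nil)) (.node 17264498411541 (.node 31420795127592 .nil .nil) (.node 58773243610521 .nil .nil))) (.node 8737330120650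 (.node 14376033400876 (.node 27434948503367 .nil .nil) (.node 44890601023075 .nil .nil)) (.node 20215391221935 (.node 35608137660155 .nil .nil) .nil))) (.node 4623034874006 (.node 7361648224463 (.node 12932922620101 (.node 25510533384075 .nil .nil) (.node 42136551667562 .nil .nil)) (.node 18769399851104 (.node 33478133454782 .nil .nil) .nil)) (.node 10113530505312 (.node 15820030253215 (.node 29424273725270 .nil .nil) (.node 51901345859142 .nil .nil)) (.node 21662829504455 (.node 37741125858988 .nil .nil) .nil)))) (.node 2619585783949 (.node 3941779933149 (.node 6674504386575 (.node 12240932403389 (.node 24489222379222 .nil .nil) (.node 41037929645921 .nil .nil)) (.node 18017089251543 (.node 32447828092841 .nil .nil) (.node 64063150237055 .nil .nil))) (.node 9426033838150 (.node 15070676985844 (.node 28397541099240 .nil .nil) (.node 48115401107015 .nil .nil)) (.node 20968943368160 (.node 36646125356803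 .nil .nil) .nil))) (.node 5308853725355 (.node 8049011587045 (.node 13682464168167 (.node 26472169838447 .nil .nil) (.node 43236653393596 .nil .nil)) (.node 19463537874912 (.node 34515066599260 .nil .nil) .nil)) (.node 10801344940249 (.node 16567944087755 (.node 30396009887436 .nil .nil) (.node 55268499645934 .nil .nil)) (.node 22554708481912 (.node 38840720180980 .nil .nil) .nil))))))) (.node 300402690078 (.node 500386015488 (.node 835211008060 (.node 1521919608815 (.node 2838425147620 (.node 5576099596366 (.node 11072785172668 (.node 22901995788220 .nil .nil) (.node 39252667877148 .nil .nil)) (.node 16842788419790 (.node 30800271443841 .nil .nil) (.node 56502749943203 .nil .nil))) (.node 8320952985849 (.node 13953518487605 (.node 26817144370951 .nil .nil) (.node 43648987027131 .nil .nil)) (.node 19738818308056 (.node 34923977017203 .nil .nil) .nil))) (.node 4210331797686 (.node 6891700656143 (.node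 12514082085103 (.node 24894022919965 .nil .nil) (.node 41450046531356 .nil .nil)) (.node 18291815954658 (.node 32796140758797 .nil .nil) (.node 71761996076285 .nil .nil))) (.node 9696198133921 (.node 15344346904576 (.node 28804655851452 .nil .nil) (.node 49496030389767 .nil .nil)) (.node 21243687094235 (.node 37053863237358 .nil .nil) .nil)))) (.node 2204081526980 (.node 3528339064814 (.node 6262841894915 (.node 11766068709457 (.node 23924401018760 .nil .nil) (.node 40351153883041 .nil .nil)) (.node 17538906548242 (.node 31825480087370 .nil .nil) (.node 60216335517094 .nil .nil))) (.node 9007996631291 (.node 14649133434914 (.node 27779485521643 .nil .nil) (.node 46123240859210 .nil .nil)) (.node 20490571045030 (.node 35962840884921 .nil .nil) .nil))) (.node 4890396686588 (.node 7631393851505 (.node 13208219900106 (.node 25855321864051 .nil .nil) (.node 42548668741429 .nil .nil)) (.node 19043975788610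 (.node 33831731885773 .nil .nil) .nil)) (.node 10384348723430 (.node 16094539368541 (.node 29775605683864 .nil .nil) (.node 53276323046849 .nil .nil)) (.node 21938361624515 (.node 38153340950268 .nil .nil) .nil))))) (.node 1178808444966 (.node 1862379448535 (.node 3181250701539 (.node 5919563180141 (.node 11418595506406 (.node 23389089740511 .nil .nil) (.node 39801247270828 .nil .nil)) (.node 17193312569439 (.node 31286106789716 .nil .nil) (.node 58291385120242 .nil .nil))) (.node 8664315721977 (.node 14302953052191 (.node 27298281137925 .nil .nil) (.node 44479575713354 .nil .nil)) (.node 20143974189035 (.node 35470799345405 .nil .nil) .nil))) (.node 4547118237951 (.node 7286135793815 (.node 12860649355212 (.node 25374553597838 .nil .nil) (.node 41999265523466 .nil .nil)) (.node 18639643023346 (.node 33341197961135 .nil .nil) .nil)) (.node 10040114018492 (.node 15743444633795 (.node 29289248388982 .nil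 .nil) (.node 51419789751853 .nil .nil)) (.node 21589646244016 (.node 37604088293213 .nil .nil) .nil)))) (.node 2495129774315 (.node 3867304667336 (.node 6601054169315 (.node 12114883991553 (.node 24412650125211 .nil .nil) (.node 40900205225837 .nil .nil)) (.node 17944632080444 (.node 32311531706140 .nil .nil) (.node 62963907167585 .nil .nil))) (.node 9353020659694 (.node 14996068485171 (.node 28321709127590 .nil .nil) (.node 47706472388180 .nil .nil)) (.node 20838413907912 (.node 36508719933189 .nil .nil) .nil))) (.node 5232770242760 (.node 7973431195790 (.node 13553816274898 (.node 26343221876378 .nil .nil) (.node 43099801290439 .nil .nil)) (.node 19391162623992 (.node 34377560520541 .nil .nil) .nil)) (.node 10727543421164 (.node 16440367855643 (.node 30316048156604 .nil .nil) (.node 54921480840650 .nil .nil)) (.node 22420506658726 (.node 38703064098472 .nil .nil) .nil)))))) (.node 642288977948 (.node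 985567131721 (.node 1671386552401 (.node 3032540133426 (.node 5721909143633 (.node 11218461059025 (.node 23177310889814 .nil .nil) (.node 39527696631593 .nil .nil)) (.node 16989855266842 (.node 31068811147070 .nil .nil) (.node 57327752680879 .nil .nil))) (.node 8466091313287 (.node 14101641906232 (.node 27087727130517 .nil .nil) (.node 43923881793203 .nil .nil)) (.node 19941117622417 (.node 35199089547130 .nil .nil) .nil))) (.node 4402366761125 (.node 7090762926125 (.node 12661115955309 (.node 25107361859284 .nil .nil) (.node 41724790073138 .nil .nil)) (.node 18494169831478 (.node 33068368660247 .nil .nil) (.node 73960482591965 .nil .nil))) (.node 9841839458420 (.node 15544632715343 (.node 29019624396437 .nil .nil) (.node 50457851393565 .nil .nil)) (.node 21388303935430 (.node 37328774715114 .nil .nil) .nil)))) (.node 2350612179140 (.node 3718627493978 (.node 6408114047051 (.node 11966407272467 (.node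 24138913761100 .nil .nil) (.node 40624790210481 .nil .nil)) (.node 17742244739296 (.node 32042289792756 .nil .nil) (.node 61244058375560 .nil .nil))) (.node 9153972398268 (.node 14850443589857 (.node 28053002708845 .nil .nil) (.node 46885310977559 .nil .nil)) (.node 20693864183780 (.node 36237601621684 .nil .nil) .nil))) (.node 5035284658290 (.node 7778408560844 (.node 13408425895943 (.node 26123122366310 .nil .nil) (.node 42823848605484 .nil .nil)) (.node 19189431990226 (.node 34106492569273 .nil .nil) .nil)) (.node 10529185204292 (.node 16293099747530 (.node 30044107687747 .nil .nil) (.node 54097735923188 .nil .nil)) (.node 22209466877840 (.node 38428354041518 .nil .nil) .nil))))) (.node 1328258721855 (.node 2014463772774 (.node 3375432792100 (.node 6065053485167 (.node 11620511066281 (.node 23657910151061 .nil .nil) (.node 40075873597360 .nil .nil)) (.node 17392644868295 (.node 31556070270779 .nil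 .nil) (.node 59254464509331 .nil .nil))) (.node 8809990604931 (.node 14449533053021 (.node 27571649513239 .nil .nil) (.node 45302364100222 .nil .nil)) (.node 20288590882767 (.node 35746163681018 .nil .nil) .nil))) (.node 4692106881115 (.node 7433872660700 (.node 13007448672269 (.node 25589254100613 .nil .nil) (.node 42274009098020 .nil .nil)) (.node 18841943615489 (.node 33615237068728 .nil .nil) .nil)) (.node 10184546433211 (.node 15890679285790 (.node 29560419112889 .nil .nil) (.node 52445818394120 .nil .nil)) (.node 21793308719060 (.node 37878630799122 .nil .nil) .nil)))) (.node 2693035100365 (.node 4061486704715 (.node 6747114125526 (.node 12313643034844 (.node 24620636972950 .nil .nil) (.node 41175352874848 .nil .nil)) (.node 18089987549192 (.node 32581075736360 .nil .nil) (.node 65162393466230 .nil .nil))) (.node 9497284229327 (.node 15196172150808 (.node 28533988607849 .nil .nil) (.node 48531525506600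 .nil .nil)) (.node 21039907747982 (.node 36782205478714 .nil .nil) .nil))) (.node 5378429286472 (.node 8122376513673 (.node 13756065486899 (.node 26605869045659 .nil .nil) (.node 43374645790387 .nil .nil)) (.node 19593228200043 (.node 34653763958497 .nil .nil) .nil)) (.node 10872733120496 (.node 16644162230222 (.node 30530276677415 .nil .nil) (.node 55681202353639 .nil .nil)) (.node 22690973198204 (.node 38978058462966 .nil .nil) .nil))))))))

/-- Part of `setKey`. -/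
noncomputable def setKey_r_r_r_l_r : Arr ℕ :=
  (.node 213044910320 (.node 285555923015 (.node 435711047717 (.node 778670753850 (.node 1464640940160 (.node 2825844848720 (.node 5515297548425 (.node 11008626559157 (.node 22833813174193 .nil .nil) (.node 39183999653538 .nil .nil)) (.node 16781549467739 (.node 30732208506609 .nil .nil) (.node 56296608302502 .nil .nil))) (.node 8258876483645 (.node 13892194814165 (.node 26748642723660 .nil .nil) (.node 43580888110770 .nil .nil)) (.node 19731036293154 (.node 34855611565877 .nil .nil) .nil))) (.node 4148726970324 (.node 6881602091033 (.node 12450981259490 (.node 24825520457619 .nil .nil) (.node 41381292033895 .nil .nil)) (.node 18227409778693 (.node 32728008136518 .nil .nil) (.node 71212525491440 .nil .nil))) (.node 9632158701639 (.node 15333829036049 (.node 28737479731113 .nil .nil) (.node 49220363744891 .nil .nil)) (.node 21177396607142 (.node 36986636343110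 .nil .nil) .nil)))) (.node 2149703932148 (.node 3511915436102 (.node 6196217788664 (.node 11753958488150 (.node 23862877595544 .nil .nil) (.node 40282249873315 .nil .nil)) (.node 17530117368005 (.node 31760515602367 .nil .nil) (.node 60007862650250 .nil .nil))) (.node 8945869699150 (.node 14584507668436 (.node 27771819128750 .nil .nil) (.node 45915841107560 .nil .nil)) (.node 20425862395847 (.node 35949118428920 .nil .nil) .nil))) (.node 4828656081071 (.node 7570439276766 (.node 13145860622336 (.node 25794003265168 .nil .nil) (.node 42480033195828 .nil .nil)) (.node 18979282102261 (.node 33763482093259 .nil .nil) .nil)) (.node 10320829454448 (.node 16028185208863 (.node 29709989189320 .nil .nil) (.node 53070600713662 .nil .nil)) (.node 21930747668435 (.node 38084638263037 .nil .nil) .nil))))) (.node 1121915947097 (.node 1808102787315 (.node 3168435677226 (.node 5858575927458 (.node 11355831691385 (.node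 23374779389840 .nil .nil) (.node 39732628477877 .nil .nil)) (.node 17127025911836 (.node 31218127447709 .nil .nil) (.node 58017077761421 .nil .nil))) (.node 8601650612450 (.node 14239416330294 (.node 27229712607017 .nil .nil) (.node 44274608264757 .nil .nil)) (.node 20078455904407 (.node 35402515969789 .nil .nil) .nil))) (.node 4485847713907 (.node 7226573261040 (.node 12798135588957 (.node 25306339907301 .nil .nil) (.node 41930511058787 .nil .nil)) (.node 18631675832425 (.node 33272562341806 .nil .nil) .nil)) (.node 9977315977326 (.node 15682105215049 (.node 29221553915723 .nil .nil) (.node 51213178656264 .nil .nil)) (.node 21525424064456 (.node 37535452706652 .nil .nil) .nil)))) (.node 2482817919083 (.node 3852745173155 (.node 6540066736372 (.node 12103913273365 (.node 24344720275183 .nil .nil) (.node 40831504320269 .nil .nil)) (.node 17879532898517 (.node 32243818784548 .nil .nil) (.node 62414285473145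 .nil .nil))) (.node 9289685117045 (.node 14986893129969 (.node 28254750435224 .nil .nil) (.node 47500297193045 .nil .nil)) (.node 20831303133155 (.node 36440908420741 .nil .nil) .nil))) (.node 5172304119946 (.node 7914455910632 (.node 13545210755046 (.node 26274703677081 .nil .nil) (.node 43030578955954 .nil .nil)) (.node 19326266705894 (.node 34308857816925 .nil .nil) .nil)) (.node 10664628152418 (.node 16430505138380 (.node 30248421009231 .nil .nil) (.node 54714081089000 .nil .nil)) (.node 22352106022820 (.node 38634394007286 .nil .nil) .nil)))))) (.node 629119617131 (.node 972298029035 (.node 1654191532235 (.node 2974756641008 (.node 5712985446410 (.node 11209586600138 (.node 23104497727357 .nil .nil) (.node 39459061028656 .nil .nil)) (.node 16980193810640 (.node 31003345659711 .nil .nil) (.node 57119967094250 .nil .nil))) (.node 8403764045823 (.node 14038358497269 (.node 27021858408304 .nil .nil)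 (.node 43855732283078 .nil .nil)) (.node 19876626720712 (.node 35130386851705 .nil .nil) .nil))) (.node 4346529360065 (.node 7028567971927 (.node 12652242413796 (.node 25038944515797 .nil .nil) (.node 41656035379053 .nil .nil)) (.node 18429355768022 (.node 32998994614058 .nil .nil) (.node 73411012011215 .nil .nil))) (.node 9829880105105 (.node 15478832236570 (.node 28951089489555 .nil .nil) (.node 50246258402855 .nil .nil)) (.node 21381126035420 (.node 37259532887939 .nil .nil) .nil)))) (.node 2288367683801 (.node 3660424870092 (.node 6341474695220 (.node 11903004444753 (.node 24070747010974 .nil .nil) (.node 40556725262244 .nil .nil)) (.node 17677620742131 (.node 31974343607964 .nil .nil) (.node 60971595679177 .nil .nil))) (.node 9090790836233 (.node 14786538821668 (.node 27984484607852 .nil .nil) (.node 46679437706778 .nil .nil)) (.node 20628043786395 (.node 36168814806719 .nil .nil) .nil))) (.node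 5026394241084 (.node 7716535797757 (.node 13344669014223 (.node 26059936491408 .nil .nil) (.node 42755145885485 .nil .nil)) (.node 19181515356240 (.node 34037789865658 .nil .nil) .nil)) (.node 10519959202048 (.node 16231944808539 (.node 29976428418813 .nil .nil) (.node 53895351645618 .nil .nil)) (.node 22141200295822 (.node 38359583246077 .nil .nil) .nil))))) (.node 1312489445600 (.node 1948612950034 (.node 3313020135602 (.node 6051164166380 (.node 11556973992151 (.node 23589678294789 .nil .nil) (.node 40007237990324 .nil .nil)) (.node 17330852161625 (.node 31487852271475 .nil .nil) (.node 59044498380200 .nil .nil))) (.node 8747847944185 (.node 14438831569092 (.node 27503315863333 .nil .nil) (.node 45099057358407 .nil .nil)) (.node 20281413130220 (.node 35677460977401 .nil .nil) .nil))) (.node 4682913798350 (.node 7372232411232 (.node 12997618440220 (.node 25573400102765 .nil .nil) (.node 42205254371177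 .nil .nil)) (.node 18777584748507 (.node 33546836158397 .nil .nil) .nil)) (.node 10172991195245 (.node 15880917133505 (.node 29492590647124 .nil .nil) (.node 52175301252672 .nil .nil)) (.node 21727152924737 (.node 37809828562598 .nil .nil) .nil)))) (.node 2631260309734 (.node 4003703548105 (.node 6684182317164 (.node 12250677962803 (.node 24557018830553 .nil .nil) (.node 41106665895778 .nil .nil)) (.node 18082037467234 (.node 32515308328742 .nil .nil) (.node 64612771902830 .nil .nil))) (.node 9485695789175 (.node 15131796682791 (.node 28466025637629 .nil .nil) (.node 48321727112810 .nil .nil)) (.node 20975718868934 (.node 36714861606660 .nil .nil) .nil))) (.node 5369807231134 (.node 8059091814474 (.node 13691253770387 (.node 26538441299859 .nil .nil) (.node 43305473525434 .nil .nil)) (.node 19527829653505 (.node 34585061263074 .nil .nil) .nil)) (.node 10863338694912 (.node 16577706174484 (.node 30463840712322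 .nil .nil) (.node 55475480356241 .nil .nil)) (.node 22622723405694 (.node 38909456430835 .nil .nil) .nil))))))) (.node 366270027878 (.node 554747078855 (.node 849822947352 (.node 1535004141647 (.node 2899797207237 (.node 5585006831751 (.node 11082094581806 (.node 22970111616931 .nil .nil) (.node 39321404127003 .nil .nil)) (.node 16852449843223 (.node 30868204676879 .nil .nil) (.node 56708757423530 .nil .nil))) (.node 8330430138515 (.node 13964521650232 (.node 26885595313966 .nil .nil) (.node 43717807158969 .nil .nil)) (.node 19802942490609 (.node 34992612595570 .nil .nil) .nil))) (.node 4268215523434 (.node 6955101481114 (.node 12523626690665 (.node 24962725488445 .nil .nil) (.node 41518782781211 .nil .nil)) (.node 18356865050685 (.node 32864122115893 .nil .nil) (.node 72311768622335 .nil .nil))) (.node 9704970799186 (.node 15407278397476 (.node 28869251143520 .nil .nil) (.node 49703161587222 .nil .nil))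 (.node 21250898593733 (.node 37122194605953 .nil .nil) .nil)))) (.node 2220890507387 (.node 3582127994972 (.node 6271379179685 (.node 11829001865246 (.node 23939114292947 .nil .nil) (.node 40419856578466 .nil .nil)) (.node 17606436419523 (.node 31840125175486 .nil .nil) (.node 60490760549849 .nil .nil))) (.node 9017373476960 (.node 14713106335715 (.node 27847902705412 .nil .nil) (.node 46328325719645 .nil .nil)) (.node 20556559407080 (.node 36031409415869 .nil .nil) .nil))) (.node 4951719713000 (.node 7642378520782 (.node 13271943235576 (.node 25923168749444 .nil .nil) (.node 42617371445046 .nil .nil)) (.node 19052395653073 (.node 33900401010384 .nil .nil) .nil)) (.node 10393256847321 (.node 16155593697485 (.node 29842394236719 .nil .nil) (.node 53482833511863 .nil .nil)) (.node 22001527396440 (.node 38222043653883 .nil .nil) .nil))))) (.node 1192212449308 (.node 1877477800021 (.node 3242891376826 (.node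 5927983405215 (.node 11483576137705 (.node 23457641539289 .nil .nil) (.node 39869983520683 .nil .nil)) (.node 17255273027780 (.node 31354624989012 .nil .nil) (.node 58497929336293 .nil .nil))) (.node 8673710036970 (.node 14313588365311 (.node 27366663661415 .nil .nil) (.node 44686857958983 .nil .nil)) (.node 20151185475536 (.node 35539401410300 .nil .nil) .nil))) (.node 4613507442695 (.node 7298581448851 (.node 12871721039862 (.node 25443072083842 .nil .nil) (.node 42068001773321 .nil .nil)) (.node 18704199952605 (.node 33409900656560 .nil .nil) .nil)) (.node 10049508440031 (.node 15753273927699 (.node 29357047039837 .nil .nil) (.node 51694784816727 .nil .nil)) (.node 21656272312280 (.node 37672790988638 .nil .nil) .nil)))) (.node 2557072574664 (.node 3925255600278 (.node 6614373017699 (.node 12177193289908 (.node 24474089752445 .nil .nil) (.node 40968907921262 .nil .nil)) (.node 17952682846212 (.node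 32379647305517 .nil .nil) (.node 63513528726890 .nil .nil))) (.node 9361273862109 (.node 15059873990593 (.node 28328803247975 .nil .nil) (.node 47913335391784 .nil .nil)) (.node 20902652950693 (.node 36577389090565 .nil .nil) .nil))) (.node 5241526528173 (.node 7986043246787 (.node 13618289834205 (.node 26404490119031 .nil .nil) (.node 43168554297029 .nil .nil)) (.node 19456695216181 (.node 34446330349403 .nil .nil) .nil)) (.node 10736401487832 (.node 16506822649941 (.node 30381515749190 .nil .nil) (.node 55126565701085 .nil .nil)) (.node 22488622217138 (.node 38771766793898 .nil .nil) .nil)))))) (.node 707920169208 (.node 1050695379196 (.node 1728530569266 (.node 3044684224726 (.node 5782626703550 (.node 11281257208040 (.node 23245627000727 .nil .nil) (.node 39596399327018 .nil .nil)) (.node 17056511199316 (.node 31083624027845 .nil .nil) (.node 57535403587068 .nil .nil))) (.node 8528453294282 (.node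 14165463840793 (.node 27155004123038 .nil .nil) (.node 43992634848945 .nil .nil)) (.node 20006937782255 (.node 35267087636352 .nil .nil) .nil))) (.node 4416976693433 (.node 7154382534852 (.node 12724518340725 (.node 25169604163475 .nil .nil) (.node 41793526322993 .nil .nil)) (.node 18502388553715 (.node 33136081516335 .nil .nil) (.node 74510255133920 .nil .nil))) (.node 9904973846555 (.node 15605938575560 (.node 29087469541174 .nil .nil) (.node 50730363963000 .nil .nil)) (.node 21452006828067 (.node 37397477418729 .nil .nil) .nil)))) (.node 2413091879018 (.node 3734833002476 (.node 6469335644233 (.node 11978216916981 (.node 24207566472955 .nil .nil) (.node 40693492905906 .nil .nil)) (.node 17807058962483 (.node 32107486742276 .nil .nil) (.node 61452514399683 .nil .nil))) (.node 9217225680897 (.node 14858831677413 (.node 28121354987262 .nil .nil) (.node 47089959622220 .nil .nil)) (.node 20701008549831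 (.node 36306337871539 .nil .nil) .nil))) (.node 5097008371956 (.node 7841225570316 (.node 13417484142551 (.node 26138455963278 .nil .nil) (.node 42892551309099 .nil .nil)) (.node 19253992011770 (.node 34173349955228 .nil .nil) .nil)) (.node 10592118364180 (.node 16302962497558 (.node 30112070084495 .nil .nil) (.node 54303844017653 .nil .nil)) (.node 22275804542870 (.node 38497056745124 .nil .nil) .nil))))) (.node 1385016965189 (.node 2071541286875 (.node 3392074270699 (.node 6125939234879 (.node 11629335349220 (.node 23726714517299 .nil .nil) (.node 40144576300975 .nil .nil)) (.node 17401434064927 (.node 31623431190322 .nil .nil) (.node 59527027238393 .nil .nil))) (.node 8872872556769 (.node 14512162871523 (.node 27637046822805 .nil .nil) (.node 45508505765499 .nil .nil)) (.node 20352897689721 (.node 35814648346354 .nil .nil) .nil))) (.node 4758863509662 (.node 7497107970222 (.node 13070328060103 (.node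 25657771980438 .nil .nil) (.node 42342745347875 .nil .nil)) (.node 18906973010002 (.node 33683422050068 .nil .nil) .nil)) (.node 10248101701639 (.node 15957437667267 (.node 29626993862435 .nil .nil) (.node 52656371127885 .nil .nil)) (.node 21800889141188 (.node 37947333502737 .nil .nil) .nil)))) (.node 2753400985850 (.node 4078128580581 (.node 6809308875008 (.node 12376743799021 (.node 24688384464673 .nil .nil) (.node 41244055578463 .nil .nil)) (.node 18154360236259 (.node 32594898765519 .nil .nil) (.node 65712015123815 .nil .nil))) (.node 9560672077823 (.node 15206572771319 (.node 28602573887339 .nil .nil) (.node 48740149290614 .nil .nil)) (.node 21106382317535 (.node 36850908174137 .nil .nil) .nil))) (.node 5439816943871 (.node 8185711536327 (.node 13819182082212 (.node 26672508774335 .nil .nil) (.node 43443465938609 .nil .nil)) (.node 19601547102166 (.node 34720067929904 .nil .nil) .nil)) (.node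 10936873297857 (.node 16705416587465 (.node 30596882892513 .nil .nil) (.node 55884543022532 .nil .nil)) (.node 22759189456763 (.node 39046794712821 .nil .nil) .nil))))))))

/-- Part of `setKey`. -/
noncomputable def setKey_r_r_r_l : Arr ℕ :=
  .node 92902254624 setKey_r_r_r_l_l setKey_r_r_r_l_r

/-- Part of `setKey`. -/
noncomputable def setKey_r_r_r_r_l : Arr ℕ :=
  (.node 160816138318 (.node 279936301250 (.node 433277008124 (.node 776455309553 (.node 1453736396883 (.node 2769873701073 (.node 5507715246275 (.node 11004401661981 (.node 22829468874625 .nil .nil) (.node 39122644502226 .nil .nil)) (.node 16774119282890 (.node 30726236960570 .nil .nil) (.node 56226345694670 .nil .nil))) (.node 8253508876298 (.node 13887213861110 (.node 26747651643244 .nil .nil) (.node 43516244555395 .nil .nil)) (.node 19670233032664 (.node 34849338443525 .nil .nil) .nil))) (.node 4142165858493 (.node 6873651202205 (.node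 12445379344624 (.node 24763932579538 .nil .nil) (.node 41316986226346 .nil .nil)) (.node 18223113259233 (.node 32722605373355 .nil .nil) (.node 70937697948905 .nil .nil))) (.node 9628703905763 (.node 15275275466744 (.node 28675875989150 .nil .nil) (.node 49146478401080 .nil .nil)) (.node 21175085012960 (.node 36981904246705 .nil .nil) .nil)))) (.node 2136854796500 (.node 3460542289887 (.node 6194524764263 (.node 11697937332200 (.node 23795818805152 .nil .nil) (.node 40221904434872 .nil .nil)) (.node 17470136760352 (.node 31696863971099 .nil .nil) (.node 59873157531049 .nil .nil))) (.node 8940737357808 (.node 14580430706727 (.node 27709692229456 .nil .nil) (.node 45786067719719 .nil .nil)) (.node 20421868349605 (.node 35887258912597 .nil .nil) .nil))) (.node 4823019591922 (.node 7565206317309 (.node 13139517204681 (.node 25785947891592 .nil .nil) (.node 42415793374887 .nil .nil)) (.node 18975591815256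 (.node 33755831568165 .nil .nil) .nil)) (.node 10316452296667 (.node 16025836664926 (.node 29701464577912 .nil .nil) (.node 52998576776678 .nil .nil)) (.node 21869591836612 (.node 38022730368724 .nil .nil) .nil))))) (.node 1110155868285 (.node 1796730456035 (.node 3112933918939 (.node 5850994468915 (.node 11349892810981 (.node 23315018434334 .nil .nil) (.node 39672484193996 .nil .nil)) (.node 17124609865824 (.node 31211751708428 .nil .nil) (.node 57944718386615 .nil .nil))) (.node 8596552444068 (.node 14234216802336 (.node 27228454401885 .nil .nil) (.node 44202617882221 .nil .nil)) (.node 20075640477680 (.node 35341950064279 .nil .nil) .nil))) (.node 4484656261295 (.node 7221592213758 (.node 12792919128140 (.node 25298924742515 .nil .nil) (.node 41866456802992 .nil .nil)) (.node 18571091257332 (.node 33210470459134 .nil .nil) .nil)) (.node 9972217186313 (.node 15674641279175 (.node 29217695983448 .nil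 .nil) (.node 51076091491936 .nil .nil)) (.node 21520943548591 (.node 37473527908061 .nil .nil) .nil)))) (.node 2478590175485 (.node 3803820640240 (.node 6537686226950 (.node 12046181296130 (.node 24281721566944 .nil .nil) (.node 40767616419504 .nil .nil)) (.node 17875795212340 (.node 32183655642808 .nil .nil) (.node 62139474793820 .nil .nil))) (.node 9284552083646 (.node 14927433926617 (.node 28190778918695 .nil .nil) (.node 47428105713230 .nil .nil)) (.node 20769711253447 (.node 36434330838873 .nil .nil) .nil))) (.node 5165006080252 (.node 7908451756284 (.node 13485113546707 (.node 26266296285064 .nil .nil) (.node 42966689801871 .nil .nil)) (.node 19322510108670 (.node 34302549559202 .nil .nil) .nil)) (.node 10659428157622 (.node 16371665201173 (.node 30185974814506 .nil .nil) (.node 54581271659991 .nil .nil)) (.node 22348029826954 (.node 38572469057246 .nil .nil) .nil)))))) (.node 575045683227 (.node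 917519140883 (.node 1603153274978 (.node 2968181168324 (.node 5653575727144 (.node 11150679865387 (.node 23100236928920 .nil .nil) (.node 39395878029020 .nil .nil)) (.node 16921152546840 (.node 30942358472533 .nil .nil) (.node 56985044272596 .nil .nil))) (.node 8397707307141 (.node 14032972765233 (.node 26955036378855 .nil .nil) (.node 43791038314136 .nil .nil)) (.node 19872414926994 (.node 35069521106625 .nil .nil) .nil))) (.node 4336465225880 (.node 7023133243551 (.node 12592413251694 (.node 25032198911904 .nil .nil) (.node 41591713154732 .nil .nil)) (.node 18425567746110 (.node 32938982610634 .nil .nil) (.node 73136184464585 .nil .nil))) (.node 9773389191149 (.node 15475896457296 (.node 28945164474240 .nil .nil) (.node 50113213982272 .nil .nil)) (.node 21319601289157 (.node 37199120254665 .nil .nil) .nil)))) (.node 2282396027064 (.node 3650444843080 (.node 6339780507756 (.node 11897704568852 (.node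 24069557061415 .nil .nil) (.node 40497000335028 .nil .nil)) (.node 17673508489439 (.node 31967984674591 .nil .nil) (.node 60835314066867 .nil .nil))) (.node 9085353498816 (.node 14781740931298 (.node 27979721705370 .nil .nil) (.node 46606994372163 .nil .nil)) (.node 20625262110695 (.node 36160795195132 .nil .nil) .nil))) (.node 4966732986452 (.node 7710864763029 (.node 13339991836632 (.node 26000077534869 .nil .nil) (.node 42690218284715 .nil .nil)) (.node 19121081599955 (.node 34030254745458 .nil .nil) .nil)) (.node 10461858830301 (.node 16224296392910 (.node 29969031145295 .nil .nil) (.node 53822237615570 .nil .nil)) (.node 22077311600573 (.node 38297272649431 .nil .nil) .nil))))) (.node 1260160104488 (.node 1945978914965 (.node 3306914748454 (.node 5996451387514 (.node 11552278779882 (.node 23587983935312 .nil .nil) (.node 39947060348593 .nil .nil)) (.node 17323975731395 (.node 31481295742775 .nil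 .nil) (.node 58909441218000 .nil .nil))) (.node 8742226004146 (.node 14380847097948 (.node 27496941225905 .nil .nil) (.node 45023997634130 .nil .nil)) (.node 20219888170960 (.node 35614192633626 .nil .nil) .nil))) (.node 4676908943585 (.node 7366948714642 (.node 12938745944080 (.node 25519527757471 .nil .nil) (.node 42141183764131 .nil .nil)) (.node 18773291489272 (.node 33484475832129 .nil .nil) .nil)) (.node 10117238130671 (.node 15821976623124 (.node 29429758662461 .nil .nil) (.node 52038751266372 .nil .nil)) (.node 21724975015895 (.node 37748070385370 .nil .nil) .nil)))) (.node 2625557080266 (.node 3993438304316 (.node 6679215696075 (.node 12245058705485 (.node 24550794463051 .nil .nil) (.node 41042041329325 .nil .nil)) (.node 18021419096067 (.node 32454422050549 .nil .nil) (.node 64337961235790 .nil .nil))) (.node 9429875922916 (.node 15127469439002 (.node 28461193811872 .nil .nil) (.node 48189404091995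 .nil .nil)) (.node 20971171498125 (.node 36708018300651 .nil .nil) .nil))) (.node 5309776713848 (.node 8053925398672 (.node 13687362791476 (.node 26473916045102 .nil .nil) (.node 43241232500356 .nil .nil)) (.node 19525381146675 (.node 34577611786154 .nil .nil) .nil)) (.node 10804130195521 (.node 16575459534798 (.node 30455784814478 .nil .nil) (.node 55403221550515 .nil .nil)) (.node 22558868129718 (.node 38846743217879 .nil .nil) .nil))))))) (.node 354124093578 (.node 504178419851 (.node 846920423561 (.node 1532017129716 (.node 2894295922750 (.node 5583563835565 (.node 11078268459212 (.node 22965968353157 .nil .nil) (.node 39260200785620 .nil .nil)) (.node 16850268887125 (.node 30808293201610 .nil .nil) (.node 56575310603658 .nil .nil))) (.node 8325933848816 (.node 13960261830597 (.node 26880881117084 .nil .nil) (.node 43653532579459 .nil .nil)) (.node 19799722207272 (.node 34932115732163 .nil .nil)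 .nil))) (.node 4217161136087 (.node 6949801936865 (.node 12519683954913 (.node 24895734003428 .nil .nil) (.node 41454391633577 .nil .nil)) (.node 18296112482310 (.node 32858872174369 .nil .nil) (.node 72036941075705 .nil .nil))) (.node 9700457801950 (.node 15402565285906 (.node 28809639757561 .nil .nil) (.node 49630835791415 .nil .nil)) (.node 21245830817958 (.node 37062151403186 .nil .nil) .nil)))) (.node 2209684002943 (.node 3577934358695 (.node 6264299571454 (.node 11772276410355 (.node 23932923487975 .nil .nil) (.node 40359410468533 .nil .nil)) (.node 17598820063430 (.node 31832155928322 .nil .nil) (.node 60353824794019 .nil .nil))) (.node 9013095237857 (.node 14653176842193 (.node 27846560642900 .nil .nil) (.node 46198334244391 .nil .nil)) (.node 20494565099463 (.node 36023255586558 .nil .nil) .nil))) (.node 4896838764718 (.node 7638237579213 (.node 13214563317759 (.node 25863846704777 .nil .nil)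 (.node 42553265825448 .nil .nil)) (.node 19047766435847 (.node 33892146538268 .nil .nil) .nil)) (.node 10389465114726 (.node 16096887904288 (.node 29836204836681 .nil .nil) (.node 53410792875498 .nil .nil)) (.node 21999450363860 (.node 38160001160928 .nil .nil) .nil))))) (.node 1189779736722 (.node 1875111069943 (.node 3236886665310 (.node 5921944070385 (.node 11424534386810 (.node 23451198146458 .nil .nil) (.node 39809855940299 .nil .nil)) (.node 17195728607259 (.node 31348283025317 .nil .nil) (.node 58428086183359 .nil .nil))) (.node 8670186457225 (.node 14308152580149 (.node 27362386999200 .nil .nil) (.node 44614548964967 .nil .nil)) (.node 20146688526512 (.node 35476736890655 .nil .nil) .nil))) (.node 4554466351262 (.node 7293650720791 (.node 12865228068936 (.node 25383162762886 .nil .nil) (.node 42003862259375 .nil .nil)) (.node 18700378527850 (.node 33347875882748 .nil .nil) .nil)) (.node 10045346683116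 (.node 15751327557792 (.node 29297705907910 .nil .nil) (.node 51557094520365 .nil .nil)) (.node 21594160314312 (.node 37610782209760 .nil .nil) .nil)))) (.node 2551168350330 (.node 3873312159708 (.node 6607025596595 (.node 12172431849427 (.node 24414144083732 .nil .nil) (.node 40905021826735 .nil .nil)) (.node 17948352993496 (.node 32318712825481 .nil .nil) (.node 63238718031185 .nil .nil))) (.node 9358085904460 (.node 15053298481190 (.node 28327764653905 .nil .nil) (.node 47778445698682 .nil .nil)) (.node 20900005828580 (.node 36570478708461 .nil .nil) .nil))) (.node 5240956794943 (.node 7981013096471 (.node 13613946984421 (.node 26398067369825 .nil .nil) (.node 43103860328087 .nil .nil)) (.node 19394952570856 (.node 34439820658598 .nil .nil) .nil)) (.node 10732809976030 (.node 16499207841995 (.node 30320528529246 .nil .nil) (.node 54993789793746 .nil .nil)) (.node 22484177225616 (.node 38709807728337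 .nil .nil) .nil)))))) (.node 697487329235 (.node 1037410261220 (.node 1674255161361 (.node 3038444079282 (.node 5776219179245 (.node 11277014849543 (.node 23182478665436 .nil .nil) (.node 39533400893145 .nil .nil)) (.node 17048896514255 (.node 31075285649205 .nil .nil) (.node 57398199457278 .nil .nil))) (.node 8471358130247 (.node 14106859898872 (.node 27091820713783 .nil .nil) (.node 43928745694864 .nil .nil)) (.node 19945362970568 (.node 35205953689293 .nil .nil) .nil))) (.node 4406744946745 (.node 7095123597454 (.node 12719586896048 (.node 25168699533071 .nil .nil) (.node 41729118529195 .nil .nil)) (.node 18497907501271 (.node 33074274563736 .nil .nil) (.node 74235427591385 .nil .nil))) (.node 9847829280762 (.node 15547534931993 (.node 29081160914864 .nil .nil) (.node 50595004819047 .nil .nil)) (.node 21449828739035 (.node 37336173602504 .nil .nil) .nil)))) (.node 2356785129699 (.node 3728724838607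 (.node 6408683767978 (.node 11971707140178 (.node 24199211841410 .nil .nil) (.node 40634523063988 .nil .nil)) (.node 17746323437556 (.node 32103058564912 .nil .nil) (.node 61315058677190 .nil .nil))) (.node 9158620022842 (.node 14855241525283 (.node 28054514050843 .nil .nil) (.node 47015621105240 .nil .nil)) (.node 20696428054581 (.node 36298030753667 .nil .nil) .nil))) (.node 5094962976870 (.node 7783979092086 (.node 13412417787960 (.node 26129192986495 .nil .nil) (.node 42827623642796 .nil .nil)) (.node 19250268379210 (.node 34167223494544 .nil .nil) .nil)) (.node 10585475786855 (.node 16300631943120 (.node 30051791840924 .nil .nil) (.node 54169290327518 .nil .nil)) (.node 22213811447725 (.node 38434644338396 .nil .nil) .nil))))) (.node 1379246536910 (.node 2016594466844 (.node 3385748142285 (.node 6066227263653 (.node 11624972150999 (.node 23665125496532 .nil .nil) (.node 40084415375027 .nil .nil))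 (.node 17400326588512 (.node 31562462938776 .nil .nil) (.node 59391097964009 .nil .nil))) (.node 8816114452477 (.node 14507265870003 (.node 27572956284773 .nil .nil) (.node 45373817779797 .nil .nil)) (.node 20350115833835 (.node 35752151476003 .nil .nil) .nil))) (.node 4751466068050 (.node 7438536575033 (.node 13066321143835 (.node 25648911673209 .nil .nil) (.node 42278656231076 .nil .nil)) (.node 18846270646233 (.node 33620623394624 .nil .nil) .nil)) (.node 10189832845328 (.node 15949619828930 (.node 29565939771121 .nil .nil) (.node 52519066359373 .nil .nil)) (.node 21795452270762 (.node 37885425419996 .nil .nil) .nil)))) (.node 2699912562921 (.node 4071701846204 (.node 6751476971494 (.node 12317804988372 (.node 24687561549726 .nil .nil) (.node 41179446752942 .nil .nil)) (.node 18150773717089 (.node 32586644223792 .nil .nil) (.node 65437204366685 .nil .nil))) (.node 9503778899967 (.node 15200499394594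 (.node 28596654118820 .nil .nil) (.node 48602878068340 .nil .nil)) (.node 21044421564358 (.node 36844970817258 .nil .nil) .nil))) (.node 5438074005515 (.node 8127710595151 (.node 13759956465812 (.node 26610415585105 .nil .nil) (.node 43378788828804 .nil .nil)) (.node 19597119653874 (.node 34714782136252 .nil .nil) .nil)) (.node 10929123330185 (.node 16646408869907 (.node 30592270010180 .nil .nil) (.node 55813861090775 .nil .nil)) (.node 22695417845694 (.node 38984114915035 .nil .nil) .nil))))))))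

/-- Part of `setKey`. -/
noncomputable def setKey_r_r_r_r_r : Arr ℕ :=
  (.node 227236374774 (.node 297198352531 (.node 487520266475 (.node 829557868745 (.node 1466771662877 (.node 2831379937464 (.node 5516370852008 (.node 11015322081283 (.node 22897802565506 .nil .nil) (.node 39191380752081 .nil .nil)) (.node 16783814260766 (.node 30740697347790 .nil .nil) (.node 56368615167477 .nil .nil))) (.node 8262918826019 (.node 13896943654883 (.node 26813017094046 .nil .nil) (.node 43584997594753 .nil .nil)) (.node 19734290016251 (.node 34863513724602 .nil .nil) .nil))) (.node 4199999330424 (.node 6886732961987 (.node 12454890440810 (.node 24831410136800 .nil .nil) (.node 41385688921768 .nil .nil)) (.node 18288162334824 (.node 32790502819763 .nil .nil) (.node 71487336305900 .nil .nil))) (.node 9636486154345 (.node 15338575702051 (.node 28744023213875 .nil .nil) (.node 49357903337083 .nil .nil)) (.node 21181894064069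 (.node 37048898430695 .nil .nil) .nil)))) (.node 2152992876603 (.node 3521996277957 (.node 6203095845032 (.node 11761305393102 (.node 23864304289604 .nil .nil) (.node 40290607138487 .nil .nil)) (.node 17537733724099 (.node 31764241561379 .nil .nil) (.node 60144278381975 .nil .nil))) (.node 8948923455455 (.node 14644403578852 (.node 27777925027678 .nil .nil) (.node 45989592794635 .nil .nil)) (.node 20487823161320 (.node 35955288995698 .nil .nil) .nil))) (.node 4888485992450 (.node 7575187134593 (.node 13203525482515 (.node 25848210913130 .nil .nil) (.node 42484496070313 .nil .nil)) (.node 18983474735070 (.node 33823544489757 .nil .nil) .nil)) (.node 10327035762728 (.node 16086823893200 (.node 29769196242753 .nil .nil) (.node 53204785542627 .nil .nil)) (.node 21932824701015 (.node 38091466618579 .nil .nil) .nil))))) (.node 1124432361496 (.node 1809043368062 (.node 3174440126665 (.node 5859381835818 (.node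 11414554466309 (.node 23383536375645 .nil .nil) (.node 39741186889419 .nil .nil)) (.node 17186570340545 (.node 31279647512481 .nil .nil) (.node 58154499945868 .nil .nil))) (.node 8606080632814 (.node 14244852115456 (.node 27297004570479 .nil .nil) (.node 44408826631788 .nil .nil)) (.node 20082768394183 (.node 35408218691359 .nil .nil) .nil))) (.node 4545324202143 (.node 7231723984958 (.node 12853738485830 (.node 25314057058007 .nil .nil) (.node 41935193052834 .nil .nil)) (.node 18635497248990 (.node 33279106062078 .nil .nil) .nil)) (.node 9982515407005 (.node 15685007382552 (.node 29281735751510 .nil .nil) (.node 51346038400535 .nil .nil)) (.node 21587536066520 (.node 37542230603486 .nil .nil) .nil)))) (.node 2488822646972 (.node 3857106630706 (.node 6545838340142 (.node 12109213186133 (.node 24345708775321 .nil .nil) (.node 40836352669346 .nil .nil)) (.node 17883879766001 (.node 32250177689235 .nil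 .nil) (.node 62689096467785 .nil .nil))) (.node 9293056493668 (.node 14991841319060 (.node 28259312412515 .nil .nil) (.node 47572975416835 .nil .nil)) (.node 20833950255270 (.node 36502646048680 .nil .nil) .nil))) (.node 5226530502890 (.node 7918215202796 (.node 13549587138782 (.node 26334613292924 .nil .nil) (.node 43035442857613 .nil .nil)) (.node 19387807963196 (.node 34371084375975 .nil .nil) .nil)) (.node 10670616320048 (.node 16438119946326 (.node 30254643971882 .nil .nil) (.node 54786524505478 .nil .nil)) (.node 22416128509838 (.node 38641171760861 .nil .nil) .nil)))))) (.node 640158116000 (.node 982563338484 (.node 1659827591300 (.node 3028245346550 (.node 5714594212093 (.node 11212857567343 (.node 23108590450606 .nil .nil) (.node 39464614278875 .nil .nil)) (.node 16987808495699 (.node 31007908022038 .nil .nil) (.node 57192342947321 .nil .nil))) (.node 8460489377787 (.node 14096761145370 (.node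 27023353054962 .nil .nil) (.node 43859791353494 .nil .nil)) (.node 19938201536495 (.node 35137217439438 .nil .nil) .nil))) (.node 4353526437851 (.node 7086183913456 (.node 12656468613357 (.node 25100114355950 .nil .nil) (.node 41660449404582 .nil .nil)) (.node 18433685620738 (.node 33007182079693 .nil .nil) (.node 73685822825675 .nil .nil))) (.node 9837244082119 (.node 15537235888325 (.node 29013500036947 .nil .nil) (.node 50320546625053 .nil .nil)) (.node 21383304124452 (.node 37267822950090 .nil .nil) .nil)))) (.node 2344573732962 (.node 3667472259044 (.node 6400683296815 (.node 11909514213366 (.node 24137856128928 .nil .nil) (.node 40565736584883 .nil .nil)) (.node 17738289088623 (.node 32035611920299 .nil .nil) (.node 61107591984610 .nil .nil))) (.node 9148824201425 (.node 14790128973798 (.node 28046764119980 .nil .nil) (.node 46814494688823 .nil .nil)) (.node 20631970473928 (.node 36229328050052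 .nil .nil) .nil))) (.node 5033841641642 (.node 7773882013674 (.node 13350189258820 (.node 26068612675210 .nil .nil) (.node 42758954542757 .nil .nil)) (.node 19185339475983 (.node 34098990995313 .nil .nil) .nil)) (.node 10525460633812 (.node 16234360469521 (.node 29984296834758 .nil .nil) (.node 54026785699310 .nil .nil)) (.node 22145561528250 (.node 38366008899288 .nil .nil) .nil))))) (.node 1325841983730 (.node 2003408390186 (.node 3319796910290 (.node 6057437522105 (.node 11560867502043 (.node 23649590212490 .nil .nil) (.node 40015763044018 .nil .nil)) (.node 17333201106966 (.node 31496393553608 .nil .nil) (.node 59117059106198 .nil .nil))) (.node 8805395265559 (.node 14444516497587 (.node 27504823904099 .nil .nil) (.node 45228545721965 .nil .nil)) (.node 20284194986106 (.node 35683415217956 .nil .nil) .nil))) (.node 4691234056363 (.node 7429679675631 (.node 13001591810248 (.node 25580645013376 .nil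 .nil) (.node 42209886459565 .nil .nil)) (.node 18838018672730 (.node 33553178535746 .nil .nil) .nil)) (.node 10180069672989 (.node 15888734971843 (.node 29497538873161 .nil .nil) (.node 52311314482800 .nil .nil)) (.node 21731565754311 (.node 37816773080793 .nil .nil) .nil)))) (.node 2687164483714 (.node 4010247890904 (.node 6742166337730 (.node 12308243195907 (.node 24619396880112 .nil .nil) (.node 41110744032931 .nil .nil)) (.node 18085623978212 (.node 32520709244728 .nil .nil) (.node 64887582868805 .nil .nil))) (.node 9492690565142 (.node 15137668749302 (.node 28529359783832 .nil .nil) (.node 48395746821751 .nil .nil)) (.node 21037646071775 (.node 36776268121833 .nil .nil) .nil))) (.node 5372423096566 (.node 8117243488492 (.node 13751166859496 (.node 26542501369663 .nil .nil) (.node 43309985539714 .nil .nil)) (.node 19532290865118 (.node 34646314481577 .nil .nil) .nil)) (.node 10869746677842 (.node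 16636646783180 (.node 30523934414765 .nil .nil) (.node 55609279350202 .nil .nil)) (.node 22627017344936 (.node 38915445913304 .nil .nil) .nil))))))) (.node 368367298586 (.node 560383367303 (.node 903913334942 (.node 1587233171675 (.node 2906238720232 (.node 5644735281299 (.node 11140616075253 (.node 23034000299910 .nil .nil) (.node 39328903489235 .nil .nil)) (.node 16911491123405 (.node 30875452741272 .nil .nil) (.node 56780227360256 .nil .nil))) (.node 8385915791495 (.node 13969756022800 (.node 26947319596985 .nil .nil) (.node 43722285618817 .nil .nil)) (.node 19807571298262 (.node 35000784856770 .nil .nil) .nil))) (.node 4278380386484 (.node 6959999518802 (.node 12583506217187 (.node 24964252092152 .nil .nil) (.node 41523094328999 .nil .nil)) (.node 18360653072597 (.node 32924723226455 .nil .nil) (.node 72586579436795 .nil .nil))) (.node 9763894278394 (.node 15413049608191 (.node 28876629481352 .nil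 .nil) (.node 49840499901972 .nil .nil)) (.node 21312389789660 (.node 37130350450380 .nil .nil) .nil)))) (.node 2224044415002 (.node 3592477124801 (.node 6326109173990 (.node 11834368825432 (.node 24000954939190 .nil .nil) (.node 40428113163958 .nil .nil)) (.node 17607609243665 (.node 31900135585649 .nil .nil) (.node 60626153149935 .nil .nil))) (.node 9073211197565 (.node 14717836130337 (.node 27911605897105 .nil .nil) (.node 46400886269510 .nil .nil)) (.node 20559341082780 (.node 36092092499707 .nil .nil) .nil))) (.node 4957858801865 (.node 7648269256710 (.node 13276907558974 (.node 25932381382292 .nil .nil) (.node 42621968520874 .nil .nil)) (.node 19112661702728 (.node 33960882788123 .nil .nil) .nil)) (.node 10452397324474 (.node 16163242104924 (.node 29904320456525 .nil .nil) (.node 53614301095415 .nil .nil)) (.node 22007064319939 (.node 38228737418975 .nil .nil) .nil))))) (.node 1247108909015 (.node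 1929136539845 (.node 3249232193752 (.node 5987762677775 (.node 11488271296728 (.node 23519465715548 .nil .nil) (.node 39878558635724 .nil .nil)) (.node 17262149458010 (.node 31416448837555 .nil .nil) (.node 58635267651043 .nil .nil))) (.node 8730637047920 (.node 14370666567634 (.node 27430150383507 .nil .nil) (.node 44816061113975 .nil .nil)) (.node 20212676884460 (.node 35545489930009 .nil .nil) .nil))) (.node 4615267387643 (.node 7304319576063 (.node 12928915769366 (.node 25450741356189 .nil .nil) (.node 42072598509217 .nil .nil)) (.node 18708379281393 (.node 33416578578171 .nil .nil) .nil)) (.node 10107474860285 (.node 15812147329220 (.node 29363775424144 .nil .nil) (.node 51829892367975 .nil .nil)) (.node 21658450221122 (.node 37679518467807 .nil .nil) .nil)))) (.node 2563480291556 (.node 3935437256882 (.node 6615462877358 (.node 12182092695606 (.node 24482729424641 .nil .nil) (.node 40973758076577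 .nil .nil)) (.node 18013368338491 (.node 32385736120053 .nil .nil) (.node 63788339680580 .nil .nil))) (.node 9420598651130 (.node 15063764920354 (.node 28396215781173 .nil .nil) (.node 47983580984951 .nil .nil)) (.node 20907116611528 (.node 36639282042604 .nil .nil) .nil))) (.node 5301272053827 (.node 7992487434227 (.node 13622518970321 (.node 26413216454273 .nil .nil) (.node 43172613367445 .nil .nil)) (.node 19459143944181 (.node 34508556908453 .nil .nil) .nil)) (.node 10795810338985 (.node 16509070559260 (.node 30387853911939 .nil .nil) (.node 55197113439670 .nil .nil)) (.node 22550615357330 (.node 38778510423762 .nil .nil) .nil)))))) (.node 710538512431 (.node 1053649119343 (.node 1739585972284 (.node 3100018178092 (.node 5790444017761 (.node 11287061887104 (.node 23246433068855 .nil .nil) (.node 39602103588570 .nil .nil)) (.node 17058557970457 (.node 31143382062990 .nil .nil) (.node 57674201822594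 .nil .nil))) (.node 8533216377052 (.node 14170378156087 (.node 27160221640514 .nil .nil) (.node 43997498750606 .nil .nil)) (.node 20009753208984 (.node 35273582954127 .nil .nil) .nil))) (.node 4423051352018 (.node 7159330314456 (.node 12729920317412 (.node 25237284701990 .nil .nil) (.node 41797854779045 .nil .nil)) (.node 18562872535093 (.node 33142776129167 .nil .nil) (.node 74785065948380 .nil .nil))) (.node 9909701728461 (.node 15613368957002 (.node 29149695952811 .nil .nil) (.node 50802404714022 .nil .nil)) (.node 21457006630854 (.node 37404909852359 .nil .nil) .nil)))) (.node 2418828114126 (.node 3786692614303 (.node 6472018188536 (.node 12035210577942 (.node 24214428333784 .nil .nil) (.node 40703225767603 .nil .nil)) (.node 17810830194902 (.node 32168591144750 .nil .nil) (.node 61590540416441 .nil .nil))) (.node 9221670094969 (.node 14918593145006 (.node 28122309707617 .nil .nil) (.node 47222483887730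 .nil .nil)) (.node 20762566887395 (.node 36365894502281 .nil .nil) .nil))) (.node 5103869982823 (.node 7846593202235 (.node 13476474480615 (.node 26197644248948 .nil .nil) (.node 42896359900838 .nil .nil)) (.node 19258117855188 (.node 34235207345983 .nil .nil) .nil)) (.node 10596276152503 (.node 16361802451145 (.node 30120125912708 .nil .nil) (.node 54376102913441 .nil .nil)) (.node 22279646111605 (.node 38503380588251 .nil .nil) .nil))))) (.node 1396508420233 (.node 2081252555002 (.node 3443615295629 (.node 6133588482165 (.node 11688207538419 (.node 23732217542364 .nil .nil) (.node 40153151624884 .nil .nil)) (.node 17461347563720 (.node 31629587216101 .nil .nil) (.node 59597474510293 .nil .nil))) (.node 8878106257531 (.node 14516004948032 (.node 27641442293559 .nil .nil) (.node 45579657709098 .nil .nil)) (.node 20357293578191 (.node 35819764287213 .nil .nil) .nil))) (.node 4760541026381 (.node 7502173538458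 (.node 13076151367694 (.node 25717547075465 .nil .nil) (.node 42347358926510 .nil .nil)) (.node 18910596028414 (.node 33689175234312 .nil .nil) .nil)) (.node 10252529338473 (.node 15959381981213 (.node 29633032435432 .nil .nil) (.node 52794866812471 .nil .nil)) (.node 21862011422675 (.node 37954161669851 .nil .nil) .nil)))) (.node 2757393827955 (.node 4127555979425 (.node 6814642432231 (.node 12382144346339 (.node 24749034743675 .nil .nil) (.node 41248149456548 .nil .nil)) (.node 18158723799047 (.node 32655447582507 .nil .nil) (.node 65986825991510 .nil .nil))) (.node 9565435205752 (.node 15264874846231 (.node 28603999864675 .nil .nil) (.node 48878678914576 .nil .nil)) (.node 21108693911717 (.node 36913369208758 .nil .nil) .nil))) (.node 5446679128106 (.node 8190407334124 (.node 13823727761540 (.node 26678816388940 .nil .nil) (.node 43447541868162 .nil .nil)) (.node 19661847021677 (.node 34783417649088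 .nil .nil) .nil)) (.node 10940662102196 (.node 16712813217884 (.node 30660553385796 .nil .nil) (.node 56020723869170 .nil .nil)) (.node 22763433080745 (.node 39052817610460 .nil .nil) .nil))))))))

/-- Part of `setKey`. -/
noncomputable def setKey_r_r_r_r : Arr ℕ :=
  .node 147865651175 setKey_r_r_r_r_l setKey_r_r_r_r_r

/-- Part of `setKey`. -/
noncomputable def setKey_r_r_r : Arr ℕ :=
  .node 90805057677 setKey_r_r_r_l setKey_r_r_r_r

/-- Part of `setKey`. -/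
noncomputable def setKey_r_r : Arr ℕ :=
  .node 79246297234 setKey_r_r_l setKey_r_r_r

/-- Part of `setKey`. -/
noncomputable def setKey_r : Arr ℕ :=
  .node 75605969135 setKey_r_l setKey_r_r

/-- The sets, four lines packed in fields of twelve bits, in increasing order. -/
noncomputable def setKey : Arr ℕ :=
  .node 73828198595 setKey_l setKey_r

/-- Part of `setTab`. -/
noncomputable def setTab_l_l_l_l_l : Arr ℕ :=
  (.node 0x14815a6085c5c (.node 0x7ef32585d50fd6 (.node 0xc552eb15fb20ee (.node 0x9e1a1b45bea184 (.node 0xac6af10593a11d (.node 0x2eb461a11f9c87 (.node 0xa46f1837c28802 (.node 0xb2bad5d4a4ac19 (.node 0x6b50c36c5d9cd1 .nil .nil) (.node 0x247d8bebd914d8 .nil .nil)) (.node 0xcf9f2400b2c4b8 (.node 0x4cec031aaff6cc .nil .nil) (.node 0xe56f784e34ed7f .nil .nil))) (.node 0x971633827997b1 (.node 0xb632b272a276ab (.node 0x5fa0129968696b .nil .nil) (.node 0x136d3528b49133 .nil .nil)) (.node 0x53c054a6e1db35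 (.node 0x3e7067fb351d5a .nil .nil) .nil))) (.node 0x8bee4ab1526354 (.node 0xa2b6f6534eb683 (.node 0x82767f83867347 (.node 0x27083a852c1bd .nil .nil) (.node 0xa5969085a8da8 .nil .nil)) (.node 0xc0b670a164d62b (.node 0x56b49569f66b5e .nil .nil) (.node 0xe9cf5aadf0ed27 .nil .nil))) (.node 0x91c268f4799906 (.node 0x8a50a235c845d (.node 0x5e3426990c5a7e .nil .nil) (.node 0xd2a7484db90ab3 .nil .nil)) (.node 0xa32aa3f1d3e812 (.node 0x39ec962b48b513 .nil .nil) .nil)))) (.node 0x80a254a5c21427 (.node 0x2c45a4e699e2d8 (.node 0xa8d2977778c9a1 (.node 0x61b189852eb11b (.node 0x798c835cd70182 .nil .nil) (.node 0x1634f8681152e9 .nil .nil)) (.node 0x5afd5fb05bd8b6 (.node 0x3ba9c25a3dcb20 .nil .nil) (.node 0xdec37fde6f37a1 .nil .nil))) (.node 0x8ffb0ce43597c8 (.node 0xa92211a2b34f37 (.node 0x6468e55940a98f .nil .nil) (.node 0xd45f744e84f699 .nil .nil)) (.node 0xcfb32491dd84af (.node 0x4e95aeb9c6d5d9 .nil .nil) .nil)))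 (.node 0xaae6b0f761c984 (.node 0x89fe8842c13195 (.node 0xc1c2bdd294d09a (.node 0x672cc01d118551 .nil .nil) (.node 0x4a147983b511c .nil .nil)) (.node 0xbcab4546ea9bd1 (.node 0x2a886dfae028ea .nil .nil) .nil)) (.node 0x9282b743c4d8d2 (.node 0xc2632df040148c (.node 0x348187bb0de641 .nil .nil) (.node 0xd4375b8d6e0acd .nil .nil)) (.node 0x1dcd2d41fbe450 (.node 0x23955f1c081476 .nil .nil) .nil))))) (.node 0x9b9b1cd64120f4 (.node 0xa1aab8c5e020ab (.node 0x3e9da600ff9c56 (.node 0x9eae5f671347cb (.node 0xcb1296450f6897 (.node 0x7c7139dc90c063 .nil .nil) (.node 0x20514fabac12a5 .nil .nil)) (.node 0xc4b72330c91507 (.node 0x467c041b793709 .nil .nil) (.node 0xe3f36c4d905157 .nil .nil))) (.node 0xb6bb1f14ddf58c (.node 0xb6cf1f03f43773 (.node 0x62b0a4b958d9d6 .nil .nil) (.node 0x10f4a7f8ef50b6 .nil .nil)) (.node 0xa48b18d1fa695e (.node 0x51f4507a2c64bb .nil .nil) .nil))) (.node 0xc6da00c667639a (.node 0xa34e6db5027678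 (.node 0xc6af437407e7b3 (.node 0x718112dc9c02ec .nil .nil) (.node 0x7e8ee48a2d1f6 .nil .nil)) (.node 0x383c58313965b4 (.node 0x53d055ab764e9d .nil .nil) (.node 0xe67782ad394d0a .nil .nil))) (.node 0x9d9eae033437da (.node 0xb5df1a80595154 (.node 0x46f1810b521ed6 .nil .nil) (.node 0xd7bf945e89758f .nil .nil)) (.node 0xcffb2851b044ca (.node 0x37317b69dda58f .nil .nil) .nil)))) (.node 0x965f39310f570b (.node 0x4fe80ba67be34a (.node 0x7d9eefb78d06f2 (.node 0xb81c8d2d00356 (.node 0x7788181c7b8252 .nil .nil) (.node 0x188d1d97fd951d .nil .nil)) (.node 0x84d70ad196b298 (.node 0x29043ddac1b9e3 .nil .nil) (.node 0xdd43973d9d8ace .nil .nil))) (.node 0x936292a58056f4 (.node 0x4831a0752931cc (.node 0x5cf48ae9766d46 .nil .nil) (.node 0xd43f506dd72bcc .nil .nil)) (.node 0x25196a51bae3f7 (.node 0x340470fb0637ff .nil .nil) .nil))) (.node 0x9e221a773c48ea (.node 0x86af3e4587f20b (.node 0x278873d317d9ce (.node 0x65ad1bbcf94650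 .nil .nil) (.node 0xbf819487e90b7 .nil .nil)) (.node 0xcbfab5e6fa1b85 (.node 0x4015e60ac16c24 .nil .nil) .nil)) (.node 0x90df382364d756 (.node 0x5cdc8a609c97df (.node 0x2ff80b0b9f13a6 .nil .nil) (.node 0xdcb77efe6ab846 .nil .nil)) (.node 0x6d69625c531f79 (.node 0x2628115bf8d3e2 .nil .nil) .nil)))))) (.node 0xe595965e5224d (.node 0xd80c435a321e7 (.node 0x64a11f75a9e16e (.node 0x8a6ecbb0e014a7 (.node 0x14094d67c44853 (.node 0x47719ba4c0d6fc (.node 0x7010da2c3e1fe7 .nil .nil) (.node 0x1eb0a34bba514e .nil .nil)) (.node 0x5e59cb9000986e (.node 0x3f1c53ca0b558f .nil .nil) (.node 0xe4037ded8711e7 .nil .nil))) (.node 0xa64242c46a3a5a (.node 0x984a7b63f57a0c (.node 0x24948889775e6f .nil .nil) (.node 0x1164eb28cb91e0 .nil .nil)) (.node 0xcab68976b89c2c (.node 0x3d283219bf63e3 .nil .nil) .nil))) (.node 0x970a335658d7aa (.node 0xc026a144b80ba4 (.node 0x3c41bcd4f81a8e (.node 0x7a9d46ac8900aa .nil .nil) (.node 0x98cbec8955380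 .nil .nil)) (.node 0x87ee36017cf241 (.node 0x2c65a52b69b68d .nil .nil) (.node 0xe7ff722d3111f3 .nil .nil))) (.node 0x590cb0f38ff14f (.node 0xbd0a2df2dacaa4 (.node 0x4b1dbac98bb754 .nil .nil) (.node 0xd6c36a7d9f50d5 .nil .nil)) (.node 0x1b5820f256e5a7 (.node 0x3539b71b8924fc .nil .nil) .nil)))) (.node 0xc5064b16196095 (.node 0x943e76f6a658b5 (.node 0x89ae85400686bd (.node 0xa5ca42a3b4385a (.node 0x77e9eeacc6c117 .nil .nil) (.node 0x195ce807f59471 .nil .nil)) (.node 0xc47a4d406e5615 (.node 0x4054080ad83858 .nil .nil) (.node 0xdf2f734dea2e54 .nil .nil))) (.node 0xa156718283ba14 (.node 0x884aae95507323 (.node 0x5b84d5594d3434 .nil .nil) (.node 0xda9b620e12ed3b .nil .nil)) (.node 0x8eaf04226fb162 (.node 0x2dc42d099e68c2 .nil .nil) .nil))) (.node 0x27884177d069b (.node 0xa03a3c043f7a43 (.node 0x9a4e63837a77f2 (.node 0x6659244cf305a8 .nil .nil) (.node 0x23593286d0a79 .nil .nil)) (.node 0x4d31dad6cedb1b (.node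 0x57583a3acc3909 .nil .nil) .nil)) (.node 0x3b61c1655431ad (.node 0xb51aa5a0179589 (.node 0x2df9d2d98335f5 .nil .nil) (.node 0xe083a53e6c378a .nil .nil)) (.node 0xcebaeea20ac447 (.node 0x1c596e2bea89e2 .nil .nil) .nil))))) (.node 0x558c796445d05 (.node 0x933e8ce25cd6e9 (.node 0x8709fc90d3cae3 (.node 0x20214f0729c753 (.node 0x874639f346b268 (.node 0x7364fa1c86029e .nil .nil) (.node 0x15650d78075161 .nil .nil)) (.node 0xac9af140870d4d (.node 0x3d9dd56a531c52 .nil .nil) (.node 0xe317518d628ce5 .nil .nil))) (.node 0x77c9ee539dc10e (.node 0x1a842404412fef (.node 0x59ad50e944b440 .nil .nil) (.node 0xd50f9aae883562 .nil .nil)) (.node 0x1f68df523664bd (.node 0x4f58018a874f33 .nil .nil) .nil))) (.node 0x7f1b29b79f4949 (.node 0xbdeb1743a751c0 (.node 0x844faa57203ee (.node 0x67c0b65d1b864a .nil .nil) (.node 0x645144824cac4 .nil .nil)) (.node 0xbe36392149cac5 (.node 0x29ad8379ffcc36 .nil .nil) .nil)) (.node 0x5bb4d7344c7148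 (.node 0x63fcae10965676 (.node 0x39185fdab4104c .nil .nil) (.node 0xd7cb94be26e9eb .nil .nil)) (.node 0x8caf20a22830e6 (.node 0x2218ad6c1e0b14 .nil .nil) .nil)))) (.node 0x89369b50edd584 (.node 0x97b6386682d77b (.node 0x8d6a4a9750c910 (.node 0xbe53137314cdbb (.node 0x76081e0cc84233 .nil .nil) (.node 0x94200848cbf8 .nil .nil)) (.node 0x356c47a152a593 (.node 0x55b576baf64a07 .nil .nil) (.node 0xe8679e2e0aa842 .nil .nil))) (.node 0x60300ee4d2f0fb (.node 0xcae2cca4ad669a (.node 0x5e8dcc9963ad99 .nil .nil) (.node 0xd22369ed741198 .nil .nil)) (.node 0xcff728024b84cd (.node 0x38e1a24a98de2a .nil .nil) .nil))) (.node 0x1814b777224886 (.node 0xc1967783e68e54 (.node 0xc92e7e44eaec3d (.node 0x677d3fdd1e4546 .nil .nil) (.node 0x12453208d7d0e7 .nil .nil)) (.node 0xc1028d16cddbe8 (.node 0x3b384b9a45ddbb .nil .nil) .nil)) (.node 0x2fcc0a351d720d (.node 0xc2b24f802ccc76 (.node 0x513c643b16379e .nil .nil) (.node 0xe5db697de7ad4d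 .nil .nil)) (.node 0xd050e48b59f41 (.node 0x1aa024fbc84b60 .nil .nil) .nil))))))) (.node 0xb5e6e375cf6079 (.node 0x5f601265ebe234 (.node 0x8fda2d61e157c0 (.node 0xc596254631a1b3 (.node 0x8fe70cb12917ca (.node 0x8ec25127ba480a (.node 0xbd8232049fd40b (.node 0x6dc8cfac2e1f68 .nil .nil) (.node 0x23295c0c010cac .nil .nil)) (.node 0xc26b2d40aed11b (.node 0x2e344faa0c398e .nil .nil) (.node 0xdd876e9d418acf .nil .nil))) (.node 0xc7a63b12766a7e (.node 0xb12e7a229a68db (.node 0x5c4c7b18f1b3e5 .nil .nil) (.node 0xd5d1998b9111a .nil .nil)) (.node 0xbd470d37085ae7 (.node 0x3a2030d9bdb980 .nil .nil) .nil))) (.node 0x3d0030e65022a8 (.node 0x929ab6935218d6 (.node 0xcb26963488e715 (.node 0x72b9435cb302d6 .nil .nil) (.node 0x43cbbb8328c5d .nil .nil)) (.node 0x471897a174a4b6 (.node 0x2751840b2d1f20 .nil .nil) (.node 0xe6d7701d4f4d24 .nil .nil))) (.node 0xcac6cce482ab02 (.node 0x978a37a2dfd780 (.node 0x37a46a69d4101a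 .nil .nil) (.node 0xd32f80ad9691b4 .nil .nil)) (.node 0xceaeee81c9844d (.node 0x4be9bedb8cde01 .nil .nil) .nil)))) (.node 0xadaeac461ce09d (.node 0x9562deb6ac1675 (.node 0x8ae24c677309aa (.node 0xa9433293bb36e0 (.node 0x7569654c6c41fc .nil .nil) (.node 0x16990458144fd7 .nil .nil)) (.node 0xa97f32a07391e9 (.node 0x44ac357af02892 .nil .nil) (.node 0xdd8b6eae2e2ae9 .nil .nil))) (.node 0xa73e7b5430ae6b (.node 0x4cc8020548575c (.node 0x5a4ce23935aa4d .nil .nil) (.node 0xd54fa36d4b9602 .nil .nil)) (.node 0x26bc0d71a0a571 (.node 0x508de44b80e829 .nil .nil) .nil))) (.node 0x256deb27838682 (.node 0xc812afd2c9660f (.node 0xab47d540843f0 (.node 0x1450a8d7e245b1 .nil .nil) (.node 0x9f4817851d612 .nil .nil)) (.node 0xc7b23b36d69b3a (.node 0x280db18a5df79d .nil .nil) .nil)) (.node 0xa3f71b53bf118d (.node 0x60380f00b6d74e (.node 0x328dc33b412e46 .nil .nil) (.node 0xdf9b510df12c89 .nil .nil)) (.node 0x8cbb20f214f0e5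 (.node 0x2410795bd1d28c .nil .nil) .nil))))) (.node 0xc48f23f63d6110 (.node 0xad6ac755db60be (.node 0x96ee33310a57b2 (.node 0x98ae4417ae48b3 (.node 0x2a3c6d32f1581d (.node 0x724cc64caa431d .nil .nil) (.node 0x190cde18025395 .nil .nil)) (.node 0x591cb130481916 (.node 0x42a9955b22b735 .nil .nil) (.node 0xe4c76ecdae8cb2 .nil .nil))) (.node 0xb16e5e532ca6e0 (.node 0xbe2238e569ccee (.node 0x63b1544928abcb .nil .nil) (.node 0xd6336dae38e796 .nil .nil)) (.node 0xd1aeecb1f083fe (.node 0x338ddf8aa3d143 .nil .nil) .nil))) (.node 0x1390aae740474b (.node 0xc649fdf3aea8ee (.node 0x7ac905456d82af (.node 0x7ccd373c9b4308 .nil .nil) (.node 0x784f1e89a1509 .nil .nil)) (.node 0x824ac3414fb1a6 (.node 0x58e0936b29caa0 .nil .nil) .nil)) (.node 0xa20a9172accaf0 (.node 0xc3272fa0540d8e (.node 0x36286e8a19b994 .nil .nil) (.node 0xd333532e36acf7 .nil .nil)) (.node 0x210d1df1e824ab (.node 0x2010b01ba64e2b .nil .nil) .nil))))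 (.node 0x934292d0fc56f1 (.node 0x37097a86746337 (.node 0xb0d2bc77558908 (.node 0xa8926322cdf7d6 (.node 0x7759c80c7240d9 .nil .nil) (.node 0xb95c9887614a2 .nil .nil)) (.node 0xbf3746019f5119 (.node 0x5810422a6a6557 .nil .nil) (.node 0xe8bb531e106cf4 .nil .nil))) (.node 0x9aa69873de9454 (.node 0x84fb3d7525f219 (.node 0x61d58ac900ab88 .nil .nil) (.node 0xdb479b1dad8ce1 .nil .nil)) (.node 0x8ea7047254f164 (.node 0x48cc611a9237b3 .nil .nil) .nil))) (.node 0x852df9a041478d (.node 0xc802afe3eeebd9 (.node 0x9ba31c24f034cc (.node 0x68510bfce44518 .nil .nil) (.node 0xfd4d168ead0ce .nil .nil)) (.node 0x38445816bc5bac (.node 0x450dacaae79df8 .nil .nil) .nil)) (.node 0xa2923ef2eccdd2 (.node 0xd11a537030c3cf (.node 0x32183be9e54a3b .nil .nil) (.node 0xe09b599d48910c .nil .nil)) (.node 0x6b81180c22a00a (.node 0x25b9ec0bf20f5c .nil .nil) .nil)))))) (.node 0xb392f8f5b7219a (.node 0x7d3248a5a04e57 (.node 0x133534f5aee15f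 (.node 0x80aa4620f0c444 (.node 0x807e54b71b07de (.node 0x942a76751298c0 (.node 0x6c6930cc449c71 .nil .nil) (.node 0x2189531c1415ce .nil .nil)) (.node 0xb30e7300cd9325 (.node 0x3cdddd59a56a7a .nil .nil) (.node 0xe41753ed5d5126 .nil .nil))) (.node 0x337ddf24dff44e (.node 0x5d51663f5840f (.node 0x5ad55d29195959 .nil .nil) (.node 0xe855a08dc5100 .nil .nil)) (.node 0x22a8d5c215a486 (.node 0x3f959629efa55b .nil .nil) .nil))) (.node 0xc82aafb660e384 (.node 0x51d85035045a17 (.node 0x9fbad124f635a9 (.node 0x7bc4efaca5402b .nil .nil) (.node 0x5d916e81c0df7 .nil .nil)) (.node 0xc0ba71418494d5 (.node 0x54459f2b6c6543 .nil .nil) (.node 0xe63f809d6811a8 .nil .nil))) (.node 0x9f2ebb833b359e (.node 0x621ca1407596d6 (.node 0x34f4401b93a788 .nil .nil) (.node 0xd86795dd86cd7c .nil .nil)) (.node 0x99de8131b8a65a (.node 0x4ab043a993e4a5 .nil .nil) .nil)))) (.node 0x58b092c0d85d77 (.node 0xca6686a673e30a (.node 0x16dcc0c78e0715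 (.node 0xc09a70d45c0e3c (.node 0x76fc146c7dc25f .nil .nil) (.node 0x15c901e80c4e26 .nil .nil)) (.node 0x4a2974f18da4a8 (.node 0x53049b0a36f6fd .nil .nil) (.node 0xdcd7977d4a14fa .nil .nil))) (.node 0x1fc8af5579ae9c (.node 0xb612e3c3d2277c (.node 0x1d4529e91d5c76 .nil .nil) (.node 0xda3f50fe2daa97 .nil .nil)) (.node 0xd16245c26643ae (.node 0x32cc4d4b5838b9 .nil .nil) .nil))) (.node 0x8e36218736c8c1 (.node 0x2f0598d58b736c (.node 0xb2b6d5b37195dc (.node 0x68e1036cefc612 .nil .nil) (.node 0x29f38840500c .nil .nil)) (.node 0xbb62d986c61b5e (.node 0x537d7eea50774a .nil .nil) .nil)) (.node 0x84f33d436c7210 (.node 0xc42ae9201311df (.node 0x52b1d0a9862446 .nil .nil) (.node 0xdccf770e6bf86a .nil .nil)) (.node 0x6fc9594c411df2 (.node 0x1a41ce3bc2d196 .nil .nil) .nil))))) (.node 0x804b27c59954b9 (.node 0xf2ccdf5c6e288 (.node 0x87e63621358f11 (.node 0x34907172f076a (.node 0xb33eba23406c3b (.node 0x344fbc884406a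 .nil .nil) (.node 0x19dd2617fa55e1 .nil .nil)) (.node 0xc57aeb008e90b9 (.node 0x4301d3aa58658d .nil .nil) (.node 0xe307960da90d7e .nil .nil))) (.node 0xb7dc8c395c4a8 (.node 0xa4b26c743e37f7 (.node 0x64e91fe94827c7 .nil .nil) (.node 0xd447851e83b4d8 .nil .nil)) (.node 0xa9773221d82d17 (.node 0x2f4d995b004d50 .nil .nil) .nil))) (.node 0x8c972087974929 (.node 0x3d083155419aa7 (.node 0x9cc335028ef8e6 (.node 0x6a98b3dd0504fc .nil .nil) (.node 0x92144888c8eda .nil .nil)) (.node 0x4c0c8f970bdc23 (.node 0x2bb19e79b18a20 .nil .nil) .nil)) (.node 0x568c74445c36c (.node 0xaeaf37c0384c82 (.node 0x4875a10a759547 .nil .nil) (.node 0xd4a3678d80d4f3 .nil .nil)) (.node 0xce6647f22b842e (.node 0x1e4ca01bb10fc3 .nil .nil) .nil)))) (.node 0x46b980f0e55d75 (.node 0xcc962bd68b6319 (.node 0x2b8d9d72fd740a (.node 0x3a9432c37dd75f (.node 0x78bc86dc620149 .nil .nil) (.node 0x1c88858645303 .nil .nil)) (.node 0x81be7cc168318b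 (.node 0x54c45bb9b72882 .nil .nil) (.node 0xe923a46ddd695a .nil .nil))) (.node 0x2259284cc448c (.node 0xbbcaabc4b21487 (.node 0x60540fd9117421 .nil .nil) (.node 0xd227582d210b4b .nil .nil)) (.node 0x1cfd88223ca3c1 (.node 0x4a3975ea20f5c3 .nil .nil) .nil))) (.node 0x7e8e083721485e (.node 0x2d842c6421b39b (.node 0x27ddb0a48f96b5 (.node 0x5dd1cfb9031a05 .nil .nil) (.node 0xf64ce48c711f9 .nil .nil)) (.node 0xc7b63b86f5daf6 (.node 0x4370283a715cf2 .nil .nil) .nil)) (.node 0x81ae7ca5197188 (.node 0x61bd89c01ad77f (.node 0x314de10a839c65 .nil .nil) (.node 0xdd5b96de0ae8d5 .nil .nil)) (.node 0x6f04cd6c4cde08 (.node 0x1bf48cdbe08dde .nil .nil) .nil))))))))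

/-- Part of `setTab`. -/
noncomputable def setTab_l_l_l_l_r : Arr ℕ :=
  (.node 0xad66c7b60b625d (.node 0x94ead782429910 (.node 0x7f6a09d5f455f8 (.node 0x805327a6235190 (.node 0x1134ea662ce1a7 (.node 0x83f22a7122545f (.node 0x6f137f7b94806 (.node 0x15c15449b43bc (.node 0x706d342c265f9c .nil .nil) (.node 0x1da52b2c050c93 .nil .nil)) (.node 0x5cd88a70a997c6 (.node 0x51ad979a11de7a .nil .nil) (.node 0xdf4b765e6e3808 .nil .nil))) (.node 0x2bd85cd271d6cf (.node 0x60e96ee297309d (.node 0x619877c8f599d4 .nil .nil) (.node 0x1300f4f8e5cedc .nil .nil)) (.node 0xc9f68026e29b20 (.node 0x4621d6bb5e5f23 .nil .nil) .nil))) (.node 0x92ce74a694d6bd (.node 0x9f26b9b34fba1c (.node 0x4cdc02348459e1 (.node 0x7499679cdb41d0 .nil .nil) (.node 0x850fb582e0c77 .nil .nil)) (.node 0x82967f91707341 (.node 0x29f47309f9f606 .nil .nil) (.node 0xe7b354ada64f89 .nil .nil))) (.node 0x3cf431247d972f (.node 0xc0a67103614bd7 (.node 0x49746989d2cb1f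 .nil .nil) (.node 0xd543954e1fa639 .nil .nil)) (.node 0x1cf98851c7a5b9 (.node 0x474c982b4a5eed .nil .nil) .nil)))) (.node 0x60e56ed61be096 (.node 0xc9d680d69da2e3 (.node 0x1604f71770c9bc (.node 0xc7c70f25342633 (.node 0x745c7fdcd0418f .nil .nil) (.node 0x17554ab7d54fbe .nil .nil)) (.node 0xc3a305f0608a76 (.node 0x3c0c3d8aeb1545 .nil .nil) (.node 0xe123702da80d35 .nil .nil))) (.node 0x516597342dd93c (.node 0x83126072bab1f9 (.node 0x6434ae892f99d0 .nil .nil) (.node 0xd8a76a3d9f8f7b .nil .nil)) (.node 0xadd6acd1ac2b9e (.node 0x31b9bc39ccea9c .nil .nil) .nil))) (.node 0x7fef2b975dc962 (.node 0x638953a2c3f17e (.node 0xa00e8fa412f87a (.node 0x660ce60cf405d2 .nil .nil) (.node 0x29884b856562a .nil .nil)) (.node 0x47109756d5db49 (.node 0x57d1b8ba612e17 .nil .nil) .nil)) (.node 0x33e07093bd5a70 (.node 0xd1cf0090bf03e6 (.node 0x4c9d742b123881 .nil .nil) (.node 0xe00b6b8e3867bc .nil .nil)) (.node 0xd1664551fe03b0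 (.node 0x1cbc766bd5d273 .nil .nil) .nil))))) (.node 0x1120ea7639610f (.node 0x2e98fc5d81e84 (.node 0x89da86510193e3 (.node 0x15a100d7ac88b0 (.node 0xa6464382fbf525 (.node 0x7c28ed5caec33a .nil .nil) (.node 0x14e0b487e753ad .nil .nil)) (.node 0xa5f641e044d2ad (.node 0x3aec338b7eacb8 .nil .nil) (.node 0xe0cf694e3f2d4e .nil .nil))) (.node 0x36306ef32a581c (.node 0x150155565843e (.node 0x5bd0d809572635 .nil .nil) (.node 0xd6cf650df1ad69 .nil .nil)) (.node 0x22acd5e1eea55e (.node 0x2ec4626a29cb3a .nil .nil) .nil))) (.node 0x8ad24cd74a0720 (.node 0x5df425b3a9713a (.node 0x9d42a7040136aa (.node 0x4e4ca589a82f4 .nil .nil) (.node 0x508cbb89e94f0 .nil .nil)) (.node 0xbff203213d0ec3 (.node 0x279874cb27d2b1 .nil .nil) .nil)) (.node 0x32b44cb2ab344f (.node 0x5af95fd04ed8cf (.node 0x49d891da18353e .nil .nil) (.node 0xd9174a6d599630 .nil .nil)) (.node 0xa0b2f4f1e6295d (.node 0x20bce31ba24e44 .nil .nil) .nil)))) (.node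 0x7e2626b0f74374 (.node 0xcd65ff367e634e (.node 0x1bac8c075388f2 (.node 0xbdae32e2d45038 (.node 0x767dc52c774102 .nil .nil) (.node 0xf9c6587a948a .nil .nil)) (.node 0x38a1a1a19b2447 (.node 0x56f1c01ac324ff .nil .nil) (.node 0xe847552de867a4 .nil .nil))) (.node 0x2b085673dcb1ef (.node 0xc75715e52da83f (.node 0x60a08e0971ae7f .nil .nil) (.node 0xd747847e8cf67f .nil .nil)) (.node 0xd02a08e1bd435e (.node 0x4c5c900b0beaa9 .nil .nil) .nil))) (.node 0x815aed47a5c7ab (.node 0x5b4cd403e970c8 (.node 0xca4287031c2896 (.node 0x6ae9557d018669 .nil .nil) (.node 0x108928e8ab0ff4 .nil .nil)) (.node 0xbc8f4537021b76 (.node 0x3c5dbd3ae4f8d3 .nil .nil) .nil)) (.node 0x39d895e2eb596c (.node 0xc56aeb60a21368 (.node 0x4ed43729e40a6d .nil .nil) (.node 0xe10f661d238fe2 .nil .nil)) (.node 0x70c8f2fc5adf8d (.node 0x1b15cb2bf60f76 .nil .nil) .nil)))))) (.node 0xc39f05a5e96254 (.node 0xc2964f45a761e9 (.node 0x9ba71c45aa6178 (.node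 0x9586aa5116d8f1 (.node 0xb012f5c7c68850 (.node 0xaf92a804c213c0 (.node 0xf70d0b8e75fad .nil .nil) (.node 0x1f45220c1015b5 .nil .nil)) (.node 0xc36e0bd005cac6 (.node 0x4194662a040ee9 .nil .nil) (.node 0xddc7763d99127c .nil .nil))) (.node 0x96b5f5e46cd85a (.node 0x9ada130418f92e (.node 0x61256ff97a2c4e .nil .nil) (.node 0x12a89e78c28e8f .nil .nil)) (.node 0xaee618221faae6 (.node 0x442c0639c3a3d1 .nil .nil) .nil))) (.node 0x4cd801c65d237d (.node 0xa46b18a4be7774 (.node 0xcc023054fce790 (.node 0x73fd094c8c00be .nil .nil) (.node 0x6b53ba8208e11 .nil .nil)) (.node 0x3509b69181e420 (.node 0x2bd05cbb6af9c3 .nil .nil) (.node 0xe75b4e7d2b0f3b .nil .nil))) (.node 0xacca59c392abf7 (.node 0x9e461b507f8f19 (.node 0x4b9c387b97e8a0 .nil .nil) (.node 0xd7277cad6314a9 .nil .nil)) (.node 0xd02608b2588361 (.node 0x359c48999824b7 .nil .nil) .nil)))) (.node 0x8fef0c212fd7ce (.node 0x3dcc28f66ee301 (.node 0xb47a6bd76706c6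 (.node 0x76cf1145804c5 (.node 0x75adf25cc14132 .nil .nil) (.node 0x1824b8b7df4e3f .nil .nil)) (.node 0x8202c1e188f364 (.node 0x2cf499aa336aba .nil .nil) (.node 0xdc7f725d699203 .nil .nil))) (.node 0x9e6f3612883913 (.node 0x4da5b233d05a40 (.node 0x5b01607924f445 .nil .nil) (.node 0xdaaf624e1da761 .nil .nil)) (.node 0x26b80d6263a409 (.node 0x52782b29a2a8d4 .nil .nil) .nil))) (.node 0x9d0ada677fc6af (.node 0x967f3994609709 (.node 0x4a944313701955 (.node 0x6a014c7d0b8593 .nil .nil) (.node 0xc65f04844cff3 .nil .nil)) (.node 0xc87ae1a6d05b0d (.node 0x2d397d4a4c3745 .nil .nil) .nil)) (.node 0xcd1b40f558a9f4 (.node 0x5e5dcb800d9857 (.node 0x2d642be984b9fe .nil .nil) (.node 0xe37f8e8de3662d .nil .nil)) (.node 0x6c009ccc381e21 (.node 0x268de8fbc6d17e .nil .nil) .nil))))) (.node 0xb3e21576466206 (.node 0xb7f684b600621a (.node 0x44cdac5133df26 (.node 0xa95732f72c0762 (.node 0x3ef453533d736f (.node 0x730cbd2cb9c090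 .nil .nil) (.node 0x14114de7f155f9 .nil .nil)) (.node 0x63f8ade089568f (.node 0x3dbc28aa56b9cb .nil .nil) (.node 0xdf3b59dd464eb0 .nil .nil))) (.node 0xa50e9f439f2a28 (.node 0xbd670d04439253 (.node 0x1ee51f3945dca7 .nil .nil) (.node 0xd74373de25aac4 .nil .nil)) (.node 0xd06e28b2384348 (.node 0x30dc30ba8b8f4c .nil .nil) .nil))) (.node 0x837aaf5020c92c (.node 0xa2cef6053fb81f (.node 0xbaaad4b5768fed (.node 0x6520dd0cff04f2 .nil .nil) (.node 0x36d0778880ec0 .nil .nil)) (.node 0xc1e2bde6b4dacf (.node 0x551da409ad0a06 .nil .nil) .nil)) (.node 0xa0aaf4b44fa83d (.node 0xc5ba24e09bcc0f (.node 0x48145a7ab5cb1e .nil .nil) (.node 0xdab37dfd3bd1e4 .nil .nil)) (.node 0x21091de22924f3 (.node 0x2280d30bb50fdc .nil .nil) .nil)))) (.node 0x8f9a2d311dd79f (.node 0x28adb506872313 (.node 0xb11e7a3307388d (.node 0x96b1f5f30b9859 (.node 0x74e07c3c654166 .nil .nil) (.node 0xac47e6868d31b .nil .nil)) (.node 0xc07e6a2157caac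 (.node 0x2ae978aaf7524c .nil .nil) (.node 0xe9e79e5dc06b68 .nil .nil))) (.node 0xaa369a44d62808 (.node 0x36106d4ae03ba (.node 0x5f45ed696073a1 .nil .nil) (.node 0xd3536c5dba9153 .nil .nil)) (.node 0xae1edbe2462ce4 (.node 0x47ad9c6a9d1e42 .nil .nil) .nil))) (.node 0xab2e1fa725c881 (.node 0x94dea8e4299649 (.node 0x83ee2aa4987250 (.node 0x6011eaa90719a6 .nil .nil) (.node 0x11c93f28cecdf4 .nil .nil)) (.node 0x3515b6b6f39b00 (.node 0x3e0c29aa6d1cda .nil .nil) .nil)) (.node 0xca9288a521e74a (.node 0xa5aec680241340 (.node 0x4fa5da5a80b920 .nil .nil) (.node 0xe5ab60ce402778 .nil .nil)) (.node 0x6f7d0f8c31dce8 (.node 0x24d889ebe48dc4 .nil .nil) .nil))))))) (.node 0x132134b5f6a0e4 (.node 0xa3426de5ee2236 (.node 0xa9d33136292155 (.node 0x8172edf636534a (.node 0x53b45510df5ec7 (.node 0x8c3e2457ccc826 (.node 0xaba6cf34ca3850 (.node 0x6e85283c562030 .nil .nil) (.node 0x22ecd63bbe5166 .nil .nil)) (.node 0xd0972640090398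 (.node 0x2e71aa3a0de50a .nil .nil) (.node 0xdf5f7f9e6f7889 .nil .nil))) (.node 0xb846c85475f617 (.node 0xb90657b420769c (.node 0x5d616c497fb383 .nil .nil) (.node 0xef91158d34e0e .nil .nil)) (.node 0x3a35ddc6b7dc38 (.node 0x3a61de1b63e5d0 .nil .nil) .nil))) (.node 0xcc222fe65522b0 (.node 0x216d5234b5aeac (.node 0x8a0e88348cb194 (.node 0x7b09069cb502b8 .nil .nil) (.node 0x3d0fe9890d367 .nil .nil)) (.node 0xc0726ac1778a78 (.node 0x5889710b315ea0 .nil .nil) (.node 0xe6474bbd810ef0 .nil .nil))) (.node 0x9cb735738e74bc (.node 0x1b88702d68459 (.node 0x361dafb98f2710 .nil .nil) (.node 0xda3b50cde0e8d3 .nil .nil)) (.node 0xb9f68a22616e43 (.node 0x34f847899679d5 .nil .nil) .nil)))) (.node 0x12649e2614e089 (.node 0x8c3623413823af (.node 0x7d1249076f46d9 (.node 0xaa0a9a13af7a24 (.node 0x792191bc69c1e5 .nil .nil) (.node 0x13c0abb7ec9459 .nil .nil)) (.node 0x6218a1206896ef (.node 0x413809bad326ba .nil .nil) (.node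 0xe0c3642d770a1d .nil .nil))) (.node 0x89ce85a281335a (.node 0xb8a65ae54aa6f0 (.node 0x622ca21950ebba .nil .nil) (.node 0xd8ab560d8ad59e .nil .nil)) (.node 0xcebeee01a28449 (.node 0x308de30b876b70 .nil .nil) .nil))) (.node 0x8c522407858684 (.node 0x87423a74673269 (.node 0xbe1a38c40cd5ac (.node 0x69bca9bd0e45c7 .nil .nil) (.node 0xb296628718a60 .nil .nil)) (.node 0xbe5f1346f11c01 (.node 0x293c3f3ad03905 .nil .nil) .nil)) (.node 0xa806b4555df7b4 (.node 0xc3f25230bbce0f (.node 0x4dd5b2eb425e03 .nil .nil) (.node 0xdf1b9f6e58e8b0 .nil .nil)) (.node 0x1dc92d2208e528 (.node 0x25456adbee89c8 .nil .nil) .nil))))) (.node 0xa03e3c564e61f0 (.node 0x80d2470605529f (.node 0x34a43fe0d21cff (.node 0x80c24647b74895 (.node 0xc862e172f62c3c (.node 0x7a5cb98c828279 .nil .nil) (.node 0x17b94197da5149 .nil .nil)) (.node 0xc2a24f504d500a (.node 0x3ed1a75b1d1e18 .nil .nil) (.node 0xdcc37eee3a670d .nil .nil))) (.node 0x8346e62326f330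 (.node 0x97a637d5619782 (.node 0x59f122c92c3406 .nil .nil) (.node 0xd7cf7bedc968f6 .nil .nil)) (.node 0xab421fd234e753 (.node 0x4d75db2aa5124e .nil .nil) .nil))) (.node 0xaf4edb0744c74f (.node 0xb196593a28355 (.node 0xca6a86e571a620 (.node 0x6899006ce2c62c .nil .nil) (.node 0x7193918294ade .nil .nil)) (.node 0x4c108f2146e4e7 (.node 0x564172d9fb8c50 .nil .nil) .nil)) (.node 0xad228342a8f602 (.node 0xd006087092436b (.node 0x36646ffa1b6589 .nil .nil) (.node 0xd9639b4d899418 .nil .nil)) (.node 0xd1baecc1ea43fd (.node 0x1f84e07c1a0afb .nil .nil) .nil)))) (.node 0x44000530eadd47 (.node 0xc846e0e678e340 (.node 0x14015974d490a (.node 0x26b00d5311affe (.node 0x785c1b9cce021c .nil .nil) (.node 0xcc81cb84d4c11 .nil .nil)) (.node 0x87a70e615bb289 (.node 0x286849fa67504a .nil .nil) (.node 0xe8939dddd7eb9b .nil .nil))) (.node 0x9d46a673daf66e (.node 0x734cf904a98295 (.node 0x5ca58d38fd6cc3 .nil .nil) (.node 0xd733739e8bb510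 .nil .nil)) (.node 0x251d6a2249e5ef (.node 0x387c594a945d11 .nil .nil) .nil))) (.node 0xb00ef577aac79b (.node 0x70137d3e28422 (.node 0x560d71a4e599c9 (.node 0x17293f47d4c52f .nil .nil) (.node 0xe18dae8be0ea9 .nil .nil)) (.node 0xc6fe00a6be5b99 (.node 0x456c46da419da3 .nil .nil) .nil)) (.node 0xac1e58d2e8f631 (.node 0x61b989b027d766 (.node 0x2fb84f8b19e747 .nil .nil) (.node 0xe14b8c5d3b0d68 .nil .nil)) (.node 0x6d14e95c4ae055 (.node 0x26fc0e1bcc4b7a .nil .nil) .nil)))))) (.node 0x89909f5ba1dac (.node 0x5ba0d7763fe0f1 (.node 0xc49f23b5b3e16b (.node 0x90bb38a0f69751 (.node 0x849e2fa06187c1 (.node 0x534d7da50a97a6 (.node 0x714d153c97004b .nil .nil) (.node 0x214d1eaba812be .nil .nil)) (.node 0x603c0f10c3d737 (.node 0x43f1d869ababd1 .nil .nil) (.node 0xe4e38bae6af759 .nil .nil))) (.node 0xb5c31a04e1d003 (.node 0xc002a163fa15c6 (.node 0x631d2c991519bd .nil .nil) (.node 0x10396328af900d .nil .nil)) (.node 0xce72479218442d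 (.node 0x41e1a879eb256d .nil .nil) .nil))) (.node 0x33dc705663638c (.node 0xa80eb3c505cca2 (.node 0x3ea9a63403596e (.node 0x71fcc97ca1c015 .nil .nil) (.node 0x574c808a751dd .nil .nil)) (.node 0x83fe2a3141f254 (.node 0x2c0c5dfb706482 .nil .nil) (.node 0xe7d35a1d4d9007 .nil .nil))) (.node 0xa10e5dd30fba54 (.node 0xc4fe23307ad31c (.node 0x39b57fcb51a9b9 .nil .nil) (.node 0xd73b73bd89cc16 .nil .nil)) (.node 0x1b5c20e1ade43f (.node 0x49257a29d9657d .nil .nil) .nil)))) (.node 0x830260f0da94c0 (.node 0x974b08166b97db (.node 0x8e032277928709 (.node 0xac7ef1a4567883 (.node 0xc3416d840823e .nil .nil) (.node 0x149157b7e29535 .nil .nil)) (.node 0xbef309a19294ef (.node 0x28f1b61ac65d23 .nil .nil) (.node 0xe5e75f5d3f0c19 .nil .nil))) (.node 0xc146d2a57c9069 (.node 0x87de3633ccb24a (.node 0x63752f991e5a65 .nil .nil) (.node 0xd2cfa1de96f613 .nil .nil)) (.node 0xb7e264d1c666c7 (.node 0x4e2844fb5c38b4 .nil .nil) .nil)))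 (.node 0x16c8c1073a08ef (.node 0xb47e6c158c8bd5 (.node 0x91ce69531f9905 (.node 0x66c149ed1545e9 .nil .nil) (.node 0x16416188310cf .nil .nil)) (.node 0x52282a76f85b96 (.node 0x40c1e7babbb800 .nil .nil) .nil)) (.node 0x9b521c8342ba72 (.node 0xaa469a50a60f4a (.node 0x50100c4b996401 .nil .nil) (.node 0xe21749ad564be6 .nil .nil)) (.node 0x6e58a68c299c42 (.node 0x1b7421bbfcd3ca .nil .nil) .nil))))) (.node 0x9069f772019868 (.node 0xc44a4d55cbe28b (.node 0x97fb12a6a0580a (.node 0x8c8b20d732c76f (.node 0x8427105537b2b0 (.node 0x7b5cfd1cbf8081 .nil .nil) (.node 0x16e8c237d252d1 .nil .nil)) (.node 0xd012095064c367 (.node 0x45a9b45a3b927e .nil .nil) (.node 0xdefb597da1110d .nil .nil))) (.node 0xbe0e39a39a4f53 (.node 0x3aa832f2b1d96f (.node 0x5920b1893a68aa .nil .nil) (.node 0xd4ff82bdb3cd95 .nil .nil)) (.node 0x1f6cdf61db6505 (.node 0x50e1ab7afc0d36 .nil .nil) .nil))) (.node 0x1398aa875e4989 (.node 0xca56872546ea06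 (.node 0x3c0fd72908429 (.node 0x6974f69ce9c569 .nil .nil) (.node 0x8bd0a4836d135 .nil .nil)) (.node 0xcd3b40d70d5c17 (.node 0x55746c0ada8deb .nil .nil) .nil)) (.node 0xbad294244a95de (.node 0x5918b1003b192f (.node 0x38199b2a7bea02 .nil .nil) (.node 0xda5761fd750e92 .nil .nil)) (.node 0xacd6599206e801 (.node 0x1e092e3c0c145e .nil .nil) .nil)))) (.node 0x84eb3d50e752a6 (.node 0x920670368e965b (.node 0xb9aece23006702 (.node 0x9b7a1cc37f5625 (.node 0x79f98ebcdd01a9 .nil .nil) (.node 0x30590485f0d8f .nil .nil)) (.node 0x490179015fe4fd (.node 0x2b3c5759bbf84e .nil .nil) (.node 0xe9777d7e0eee0d .nil .nil))) (.node 0xbed70934d04d23 (.node 0xae3e1bf35a78ca (.node 0x1ad025690b5daf .nil .nil) (.node 0xd9eb8e6e81f5d1 .nil .nil)) (.node 0xd17245723f43aa (.node 0x36bd864a2535c9 .nil .nil) .nil))) (.node 0x1e84a2b7bfc7ee (.node 0x9eba5f9423d282 (.node 0xa36a6e2492ea04 (.node 0x5ec423b96b2780 .nil .nil) (.node 0xdc0c538e14ec2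 .nil .nil)) (.node 0xc09e7176dedbb8 (.node 0x423c51fb3bb553 .nil .nil) .nil)) (.node 0x776016f4a34247 (.node 0xc5b22510200edb (.node 0x33442e7aa99ec2 .nil .nil) (.node 0xddff569e71f8b7 .nil .nil)) (.node 0x6cd13d4c341d33 (.node 0x1d21889bdd14bf .nil .nil) .nil))))))))

/-- Part of `setTab`. -/
noncomputable def setTab_l_l_l_l : Arr ℕ :=
  .node 0xb10279d610226e setTab_l_l_l_l_l setTab_l_l_l_l_r

/-- Part of `setTab`. -/
noncomputable def setTab_l_l_l_r_l : Arr ℕ :=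
  (.node 0x805f27860a5160 (.node 0x9f36bb45d4e06a (.node 0xb0965b5f05ecd (.node 0x5a24e10621a138 (.node 0xc38b0595952123 (.node 0x958aaa912398ea (.node 0x87b6354061c80e (.node 0x9ac612749b3a6f (.node 0xf0ccd78c31f9a .nil .nil) (.node 0x1d812afc06701b .nil .nil)) (.node 0xc5f72100b55134 (.node 0x4d14024aae28b4 .nil .nil) (.node 0xe3b38c1d94d435 .nil .nil))) (.node 0x9d66a682795484 (.node 0xcd2b4032a2ae3d (.node 0x5f941289676898 .nil .nil) (.node 0x12e0f448e4a3c5 .nil .nil)) (.node 0xbe863446e5db28 (.node 0x3e7867eb36ecac .nil .nil) .nil))) (.node 0x4badbe7693e35b (.node 0xc80eb0134f29bf (.node 0xcbe6b5f388adf8 (.node 0x748967acd841cd .nil .nil) (.node 0x880fb082c1a51 .nil .nil)) (.node 0x39cc96116e24a4 (.node 0x567c94c9f5d2fa .nil .nil) (.node 0xe76f4f7d7bcbd9 .nil .nil))) (.node 0x9bbb1c84790f84 (.node 0xa432141360b8c6 (.node 0x498068f9d1f723 .nil .nil) (.node 0xdba3793d4d0c98 .nil .nil)) (.node 0xceb2ee41d0044c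 (.node 0x3a0c963b46527d .nil .nil) .nil)))) (.node 0x985a7c35c2a292 (.node 0x90e738769bd74a (.node 0xb9de89b779899c (.node 0x853dfa953232f3 (.node 0x743c7fbcd1c195 .nil .nil) (.node 0x17714b77d85e11 .nil .nil)) (.node 0xd00e09305e4366 (.node 0x3be43d1aedf6b9 .nil .nil) (.node 0xe077932d31924b .nil .nil))) (.node 0xb606e3f4354ba2 (.node 0x4f75d902b7987f (.node 0x6408aec9333461 .nil .nil) (.node 0xd21762edc9a8e5 .nil .nil)) (.node 0x1a882421a72583 (.node 0x3195bbe9cdf6ec .nil .nil) .nil))) (.node 0x17b54147580971 (.node 0x990eff42c068ed (.node 0x1c487140e83f1 (.node 0x6704c05d130560 .nil .nil) (.node 0x2bc84885395d1 .nil .nil)) (.node 0xccff11a6e91bcd (.node 0x57a1b90a62b5e2 .nil .nil) .nil)) (.node 0xbb92df23c74e23 (.node 0x5dfc25d0bd5736 (.node 0x33c4702b03b991 .nil .nil) (.node 0xe16f7e9e737865 .nil .nil)) (.node 0xa5ea41f20067f0 (.node 0x1cd4768bd4ef50 .nil .nil) .nil))))) (.node 0x95c2019201d730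 (.node 0xc31b2f75e320b7 (.node 0x919269d1031901 (.node 0x8df322871307be (.node 0x55346bb2f79805 (.node 0x7c3cecbcac832e .nil .nil) (.node 0x1518b497e91c53 .nil .nil)) (.node 0x6458e40041992e (.node 0x4674042b7863f5 .nil .nil) (.node 0xe433827d3ecb82 .nil .nil))) (.node 0xafe23e04dc6b95 (.node 0xbbaedf63f3d5df (.node 0x1d40d719535c46 .nil .nil) (.node 0xd58f583e823486 .nil .nil)) (.node 0xd1b2ec61f703ff (.node 0x2ef8627a2a6b2c .nil .nil) .nil))) (.node 0x145d565746472e (.node 0x9a1ec55500adf7 (.node 0x5fcde9f3fc30bd (.node 0x71b512cc9cc2e0 .nil .nil) (.node 0x528cb589bccfa .nil .nil)) (.node 0x87f235a13b7244 (.node 0x27a8743b26f8d8 .nil .nil) .nil)) (.node 0xbd9e32b3349283 (.node 0xc4bb23805a8da7 (.node 0x46e5811b528db7 .nil .nil) (.node 0xd5676cad5b105e .nil .nil)) (.node 0x20394ee1e1a499 (.node 0x20c0e38ba2ee80 .nil .nil) .nil)))) (.node 0x843f10b10e936a (.node 0x940ed1767c56d4 (.node 0xa4ae6cb78a46fe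 (.node 0xaa1e9ae2d437db (.node 0x7675c4cc76c0fb .nil .nil) (.node 0x135c628775a98 .nil .nil)) (.node 0xbcbb451198d132 (.node 0x5719c00ac5a815 .nil .nil) (.node 0xe9139dae00e866 .nil .nil))) (.node 0x994a410580932d (.node 0xaf76a8152d3577 (.node 0x60bc8e89703453 .nil .nil) (.node 0xd6df5ffd4215e8 .nil .nil)) (.node 0x9ab69841bfe6b5 (.node 0x3400713b0565ad .nil .nil) .nil))) (.node 0x21595217a187a0 (.node 0xcccf11f589a9e3 (.node 0x9ad212a31bf6d2 (.node 0x659d1bacfac65e .nil .nil) (.node 0x107d2968a8e5ce .nil .nil)) (.node 0x47759bf6ffdb7b (.node 0x3fe1e5eac0d439 .nil .nil) .nil)) (.node 0xbeef09e3670b8b (.node 0xa8b262709f8f31 (.node 0x4ee83669e338bd .nil .nil) (.node 0xde838f6dd52e12 .nil .nil)) (.node 0x6d9561ac515cb9 (.node 0x1afdcb0bf7af2a .nil .nil) .nil)))))) (.node 0xaa5a6655e8a24a (.node 0xaeba18c5a561e3 (.node 0x7f2b2915aa0fef (.node 0x31e43b0111df3f (.node 0x811701f7c90846 (.node 0x97d712f4c29812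 (.node 0x7024d95c3ddca0 .nil .nil) (.node 0x1f21217c122eb3 .nil .nil)) (.node 0xd08b2610028399 (.node 0x4198658a03dd9b .nil .nil) (.node 0xdfe7a4ce677758 .nil .nil))) (.node 0x881f346a43a3 (.node 0x560c75414c43d (.node 0x61316fa977998f .nil .nil) (.node 0x12849f38c064e4 .nil .nil)) (.node 0x1e9ca2e21c2474 (.node 0x443005b9c4390d .nil .nil) .nil))) (.node 0xcacacc865a62bd (.node 0x490d7944baf45a (.node 0xb2569124fc35a4 (.node 0x34106b88400b8 .nil .nil) (.node 0x6b93be81e94ab .nil .nil)) (.node 0xbb36aa117e14bc (.node 0x2c89a5ab68a9cd .nil .nil) (.node 0xe7876c8d5a0cd7 .nil .nil))) (.node 0x88fa6703933305 (.node 0x5b58d4207c16ee (.node 0x4b19bab98ae47d .nil .nil) (.node 0xd763673d9e15b7 .nil .nil)) (.node 0x98827bf25aee53 (.node 0x35a048f998f75a .nil .nil) .nil)))) (.node 0x30a42f612cdd14 (.node 0xcb1a96b6a963bb (.node 0xb0565c76546b4 (.node 0xc05e6a73b45222 (.node 0x77f9eedcc7c11a .nil .nil) (.node 0x1858b8a7e0de02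 .nil .nil)) (.node 0x369d85718724ba (.node 0x405c079ad7a414 .nil .nil) (.node 0xe3c389be6137a6 .nil .nil))) (.node 0x3650722840409 (.node 0x9952413550a6df (.node 0x5b8cd4e94badda .nil .nil) (.node 0xd687703d690d30 .nil .nil)) (.node 0xd17e45e26cc3af (.node 0x2d982d399c63cb .nil .nil) .nil))) (.node 0xa1fa91d78006b2 (.node 0x28c84245e04c2 (.node 0xbde317237a90fb (.node 0x6a294cdd084581 .nil .nil) (.node 0xc7df0b841d1ff .nil .nil)) (.node 0xc0c2a3b6d31b10 (.node 0x57503a0acb2533 .nil .nil) .nil)) (.node 0xa71e7b355835d9 (.node 0xc3b705101991f8 (.node 0x2e25d28981e7af .nil .nil) (.node 0xdc536c6d5d9156 .nil .nil)) (.node 0x6bfc9d6c3b1fc6 (.node 0x2665e93bc7ef14 .nil .nil) .nil))))) (.node 0x80de466648126d (.node 0x12509dc5fce217 (.node 0x80f6475131842b (.node 0x803b27d72dc75c (.node 0x9f9a789346ec4b (.node 0x7368fa0c85429a .nil .nil) (.node 0x14394df7f3dccb .nil .nil)) (.node 0xc2e707208810d1 (.node 0x3dadd57a53ad70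 .nil .nil) (.node 0xe34b70fd4c9466 .nil .nil))) (.node 0x873e3aa39fb260 (.node 0xa35e6d84443917 (.node 0x599151a94326c0 .nil .nil) (.node 0xdaa79ccd9413b7 .nil .nil)) (.node 0xa78e1ea23b6741 (.node 0x30c0308a8e3518 .nil .nil) .nil))) (.node 0xa20292179d8955 (.node 0x36ad85353bf46e (.node 0x9e1e1aa57677d0 (.node 0x6540dd3cfdc4e6 .nil .nil) (.node 0x38507888711b2 .nil .nil)) (.node 0x36a18516b05ad4 (.node 0x54f1a3d9af7677 .nil .nil) .nil)) (.node 0x89269b344f71ea (.node 0xd01a086098c36a (.node 0x481c5a5ab55d6f .nil .nil) (.node 0xd20362fe887563 .nil .nil)) (.node 0xce7a483225042f (.node 0x2278d37bb43028 .nil .nil) .nil)))) (.node 0x27edb0d1191ce6 (.node 0xc952c2d684232f (.node 0x3895a18303f1fc (.node 0x4a9843330a339d (.node 0x76041e4ccb023a .nil .nil) (.node 0xae07dd866cdfb .nil .nil)) (.node 0x84db0a21553299 (.node 0x2acd784af9b4a3 .nil .nil) (.node 0xe8a3a59dfbea71 .nil .nil))) (.node 0x877f0e04d5b28a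 (.node 0xa1527193563a0a (.node 0x5e89cce9646beb .nil .nil) (.node 0xd63fa02e81b5c0 .nil .nil)) (.node 0x24498b524323d3 (.node 0x38d9a28a984c86 .nil .nil) .nil))) (.node 0x8c0306e7240872 (.node 0x1e94a29428aede (.node 0x5785b8049596cd (.node 0x6015ea09075aad .nil .nil) (.node 0x11a53e88ce64be .nil .nil)) (.node 0xccfb1126ca5be1 (.node 0x3b3c4c3a46138c .nil .nil) .nil)) (.node 0x83aab5151f31d5 (.node 0x5c798cb0215767 (.node 0x5134641b15a4df .nil .nil) (.node 0xdfeb705d3b4d32 .nil .nil)) (.node 0x6f5d0f4c329f46 (.node 0x24c8892be42f63 .nil .nil) .nil))))))) (.node 0xc49723a5d16080 (.node 0x7e622725ed4adc (.node 0xd7cc42627214d (.node 0x3b8fda6325d65 (.node 0x893a9c1127528d (.node 0x18711c67cac82e (.node 0x243d8b74c7afae (.node 0x6dfccffc2d5d60 .nil .nil) (.node 0x22b8d6ebbfaecb .nil .nil)) (.node 0x5f1dec80071856 (.node 0x2e69aa5a0ef908 .nil .nil) (.node 0xe21f492e426743 .nil .nil))) (.node 0x61b5899470f0da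 (.node 0x7ca536941cc2ff (.node 0x5c507af8f0daac .nil .nil) (.node 0xee510a8d2e4d0 .nil .nil)) (.node 0xc9fa8017071adb (.node 0x3a5ddefb64f7ac .nil .nil) .nil))) (.node 0x9649f676535822 (.node 0xba0ab7b3544f08 (.node 0x33142e148a59f9 (.node 0x7b0506acb542b4 .nil .nil) (.node 0x3f8fe088f9199 .nil .nil)) (.node 0x89ea862176f351 (.node 0x275584fb2dd575 .nil .nil) (.node 0xe6936a4d9e8ca5 .nil .nil))) (.node 0x585d70438a7438 (.node 0xbea63482e14abe (.node 0x35f1b05990b614 .nil .nil) (.node 0xdbd784dd9bd39c .nil .nil)) (.node 0x25ec10a25d6595 (.node 0x4bf5befb8de696 .nil .nil) .nil)))) (.node 0x91429f9242d688 (.node 0xcd074076afe3aa (.node 0x1a7424576bc6d1 (.node 0xc962c283bbab86 (.node 0x27483b85281d7 .nil .nil) (.node 0x13ccab47ee5db6 .nil .nil)) (.node 0xc3e6524074d62d (.node 0x4128095ad29cc2 .nil .nil) (.node 0xe02f6f0d9b0b9a .nil .nil))) (.node 0x64b51f427df108 (.node 0x8366e6454a7333 (.node 0x5a70e21934da7b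 .nil .nil) (.node 0xdbff6fae27a9e8 .nil .nil)) (.node 0xa4d26cd1a5ab8d (.node 0x2d602bf99ab9ff .nil .nil) .nil))) (.node 0x7f1f29a787468c (.node 0x788885c465c144 (.node 0xb2aad5e40cb876 (.node 0x69c0aa0d0d45b7 .nil .nil) (.node 0xb5d66686e5a26 .nil .nil)) (.node 0x30ac2f76ed5c0c (.node 0x2815b1fa5d646e .nil .nil) .nil)) (.node 0x56d5bfd55a5a14 (.node 0xd1d300a0b883e7 (.node 0x3259c35b408e80 .nil .nil) (.node 0xe15b775e723834 .nil .nil)) (.node 0xcea6ee72114446 (.node 0x25296aebef6f82 .nil .nil) .nil))))) (.node 0x132934e64ae1f9 (.node 0x5de425e603a222 (.node 0x830e60610751c9 (.node 0x13f14d77b2c8a0 (.node 0xac2a5882f5b520 (.node 0x7240c65cab4325 .nil .nil) (.node 0x17d941f7dd1f22 .nil .nil)) (.node 0xacda59804b52c6 (.node 0x429994cb23d1d3 .nil .nil) (.node 0xe3db76cda6d41b .nil .nil))) (.node 0x5a895c9323b09e (.node 0xbe018955f443f (.node 0x63b553f928ed76 .nil .nil) (.node 0xd5775b5e8576dc .nil .nil))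 (.node 0x21dcac622fe4cf (.node 0x4d4ddb9aa7f67c .nil .nil) .nil))) (.node 0x802f2707450743 (.node 0x9e965ef3a23a5e (.node 0xb35a5be571369d (.node 0x68b4fface1061b .nil .nil) (.node 0x74d3848269990 .nil .nil)) (.node 0xbdba3241504adf (.node 0x561572f9fe3629 .nil .nil) .nil)) (.node 0x445c3462a4737e (.node 0x5a38e0e08fd68e (.node 0x365c6f5a1c7857 .nil .nil) (.node 0xd95f8a1d320d16 .nil .nil)) (.node 0xb23ef7c1eca94b (.node 0x1f98dfac18305a .nil .nil) .nil)))) (.node 0x8655f8f0fa122b (.node 0x91ea6f9676165a (.node 0x88d266a0208913 (.node 0xbe023992ce1051 (.node 0x787c1b2ccdc20f .nil .nil) (.node 0xcdc1c584bd39d .nil .nil)) (.node 0x4a9042f1592581 (.node 0x28704a8a66771e .nil .nil) (.node 0xe9d7a04e056a82 .nil .nil))) (.node 0x2f6c4e93d69687 (.node 0xcd13401527ed13 (.node 0x24908898f95e3f .nil .nil) (.node 0xd96b8ede1a6e42 .nil .nil)) (.node 0xcfeb28325204cc (.node 0x48bc610a9310c6 .nil .nil) .nil))) (.node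 0x8950a17a74785 (.node 0xa56e8313e23a1a (.node 0xca828934f0ec4d (.node 0x68250cace70528 .nil .nil) (.node 0xe04dbb8bbe4f6 .nil .nil)) (.node 0xc1cabe16c15ba7 (.node 0x4505ad3ae70ad4 .nil .nil) .nil)) (.node 0x410408a2e473cd (.node 0xc52e4b90334c5c (.node 0x2f944eab1ab576 .nil .nil) (.node 0xe41b9c1de02c16 .nil .nil)) (.node 0x6bad185c215d7a (.node 0x26ec0dbbce6ff2 .nil .nil) .nil)))))) (.node 0xc2c707c5b921a3 (.node 0xafba3d45a021cc (.node 0xb90257a5b26161 (.node 0x4c148f80f25da4 (.node 0x9e6b36871a87e9 (.node 0xa2d2f6751253d9 (.node 0x7129152c954045 .nil .nil) (.node 0x21391ebba8f069 .nil .nil)) (.node 0xc32b2f20cf94ee (.node 0x3cec30c9a7b986 .nil .nil) (.node 0xe153862e3a2de0 .nil .nil))) (.node 0xb9125774e3397e (.node 0x9bab1cb3fa7778 (.node 0x62f12c7915b403 .nil .nil) (.node 0x100d6388ad65bc .nil .nil)) (.node 0xa3ba1712192af7 (.node 0x41e9a8b9ebf755 .nil .nil) .nil))) (.node 0x8b5e0a818ce38a (.node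 0x8fd62cc5059798 (.node 0xc7ae3b94f6e7a1 (.node 0x7bb8f02ca70032 .nil .nil) (.node 0x59cc7d8a54bfb .nil .nil)) (.node 0x48a060113fe5a2 (.node 0x2c2c5d7b72a84a .nil .nil) (.node 0xe7074cbd248b73 .nil .nil))) (.node 0xc72e37533ba739 (.node 0xb41215a0790f00 (.node 0x34b8402b934eb6 .nil .nil) (.node 0xd863999d359479 .nil .nil)) (.node 0xcfe72821b6c4cb (.node 0x494d79e9dc2962 .nil .nil) .nil)))) (.node 0x9582ab00dc18ef (.node 0x559d76166962eb (.node 0xabee8b47908711 (.node 0x4fccad45204c4 (.node 0x76c014fc7e4264 .nil .nil) (.node 0x14a15717e61e8b .nil .nil)) (.node 0x8a7ecc218f7374 (.node 0x53309b1a34d18a .nil .nil) (.node 0xe31f4acdf26813 .nil .nil))) (.node 0x9566de557ad683 (.node 0x324dc293ca1a58 (.node 0x63452f69212ad2 .nil .nil) (.node 0xd6db6c7d5b4fc8 .nil .nil)) (.node 0x1c2d6d21c163e5 (.node 0x32d04dfb57a56e .nil .nil) .nil))) (.node 0xa5d641d73708cd (.node 0x981ec0d58ef717 (.node 0x3cf031331db22f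 (.node 0x17f8b737ddc5e5 .nil .nil) (.node 0x1781688820dfa .nil .nil)) (.node 0xc8b668a6c59b52 (.node 0x53797e5a4fa413 .nil .nil) .nil)) (.node 0xc61341336ea6e2 (.node 0x60988db0a317c7 (.node 0x500c0ceb9a37ca .nil .nil) (.node 0xe473491dfc6b5c .nil .nil)) (.node 0x6e24a6ec2b201a (.node 0x1b88221bfd6fc6 .nil .nil) .nil))))) (.node 0xab571ed598212b (.node 0xb5266e75c86282 (.node 0x3f6d95a69e62c8 (.node 0xb21ef767308781 (.node 0x4ecc36153573bf (.node 0x7b74fc8cbd4070 .nil .nil) (.node 0x1718c217d2dcf3 .nil .nil)) (.node 0x63392ed06258ce (.node 0x45d9b48a3c2b2d .nil .nil) (.node 0xe2cf4ccd2690aa .nil .nil))) (.node 0x90f338c3981759 (.node 0xa6f2bed43b4ad7 (.node 0x595cb1a938daaf .nil .nil) (.node 0xdb4b64edf06d6a .nil .nil)) (.node 0xcfaf2461d704ae (.node 0x50e9ab3afb5e4b .nil .nil) .nil))) (.node 0x9d5ea667970932 (.node 0xaef334a54636fb (.node 0xba6e75128e90b2 (.node 0x6a78b3ed060511 .nil .nil) (.node 0x8d10b2833cde2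 .nil .nil)) (.node 0xbc0347d70e9c1f (.node 0x55706cdadb1ec0 .nil .nil) .nil)) (.node 0x91a66934481904 (.node 0xc5ff21d03994a4 (.node 0x37f59ada7cf6f1 .nil .nil) (.node 0xd89f535e37acf6 .nil .nil)) (.node 0x23795e22026462 (.node 0x1dd92dcc0faef7 .nil .nil) .nil)))) (.node 0x902f3a30e81727 (.node 0x4d99b2168da368 (.node 0xada6ad33023508 (.node 0xb3625c5381383f (.node 0x78dc86bc60c13f .nil .nil) (.node 0x33d90685c5a6b .nil .nil)) (.node 0xbb3aa9616b5613 (.node 0x2b045629ac39c6 .nil .nil) (.node 0xe857a1bdc6296c .nil .nil))) (.node 0xb5366e94d0f8ea (.node 0x495476356445c (.node 0x6058102912acd2 .nil .nil) (.node 0xd8c364ae49ab18 .nil .nil)) (.node 0xa5129eb23facd4 (.node 0x4a5975ca1e8a6e .nil .nil) .nil))) (.node 0xa61afdc71e886b (.node 0xb67e209425b8ab (.node 0x87c235e4927240 (.node 0x5ee423396c3460 .nil .nil) (.node 0xda0c4a8e023d7 .nil .nil)) (.node 0x2b799d46da5bc2 (.node 0x437427ba710a84 .nil .nil)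 .nil)) (.node 0x9cdf352519a819 (.node 0xad9ac7a01d9359 (.node 0x3141e1aa83d1d4 .nil .nil) (.node 0xe33b8bed800a02 .nil .nil)) (.node 0x6cb13dbc36603f (.node 0x1d0188fbdf2fb4 .nil .nil) .nil))))))))

/-- Part of `setTab`. -/
noncomputable def setTab_l_l_l_r_r : Arr ℕ :=
  (.node 0x5c618ca5d3a060 (.node 0xe4d59c5cd2077 (.node 0x9be6b335f360d7 (.node 0xac22592624613f (.node 0xa2bef6c62e21ae (.node 0x3fd1e57126dd2d (.node 0xb8925b77bb4818 (.node 0x96c9f5449e185d (.node 0x7081346c259ee0 .nil .nil) (.node 0x234d5bfc02700b .nil .nil)) (.node 0xcf832470ac44b9 (.node 0x51b597ca12ed92 .nil .nil) (.node 0xe29f4d8de4ad1d .nil .nil))) (.node 0x85e5fb0273b2d1 (.node 0x9bdeb3729bf53a (.node 0x616c7828f72aa3 .nil .nil) (.node 0xd3d1988b665cc .nil .nil)) (.node 0x44080527045aef (.node 0x4631d76b5f6acc .nil .nil) .nil))) (.node 0xc6a343e696e361 (.node 0x840fa535003d5 (.node 0x81a27d5486b184 (.node 0x72d5438cb0c2c7 .nil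 .nil) (.node 0x46cbb48309a39 .nil .nil)) (.node 0xbbfeac11710a5f (.node 0x2a1c7319f70b52 .nil .nil) (.node 0xe61fa4ad2889f4 .nil .nil))) (.node 0x9e5b3674823593 (.node 0xaa87d42dd0458 (.node 0x37a06af9d4dcde .nil .nil) (.node 0xd32b9b6d408c2f .nil .nil)) (.node 0xaf66dad1cd6823 (.node 0x475c989b4bab0f .nil .nil) .nil)))) (.node 0x7d8e56e61d0c5a (.node 0x51719716aaa3a1 (.node 0x80b246c775c9b3 (.node 0x7cad36a3b7c2fd (.node 0x7579648c6e01f5 .nil .nil) (.node 0x16bd0508175df9 .nil .nil)) (.node 0x5b5cd4406f16d7 (.node 0x449c359aefde5c .nil .nil) (.node 0xe203897d9154c7 .nil .nil))) (.node 0xb4666c04323555 (.node 0xb96ef072ba6dd6 (.node 0x1ee0e0b933dcd7 .nil .nil) (.node 0xd37fa40e8ef609 .nil .nil)) (.node 0xcea2ee31a90448 (.node 0x5079e43b7f5cdf .nil .nil) .nil))) (.node 0x8e4621b75c895e (.node 0xa4631842c8b5ca (.node 0xbd963234131593 (.node 0x65e4e62cf6c5dc .nil .nil) (.node 0xa0081584f15b8 .nil .nil))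 (.node 0xc12e8d66d99b40 (.node 0x27d03dca5b79e2 .nil .nil) .nil)) (.node 0xac3658f3c0b73d (.node 0xc46e4dc0c24df5 (.node 0x4c9573db11a418 .nil .nil) (.node 0xdc8f5cddac0b67 .nil .nil)) (.node 0x237d5e420f653a (.node 0x23f879dbd0ef40 .nil .nil) .nil))))) (.node 0xb8cef3163ca10b (.node 0x7d8a5675dc8e25 (.node 0x2fdc09e1065e65 (.node 0x8ed25077ae88a6 (.node 0xcbceb602fc6c4c (.node 0x4e0c5889ac30e .nil .nil) (.node 0x1914de38041c6b .nil .nil)) (.node 0xc53e4ac046cff1 (.node 0x3ab833ab7e107f .nil .nil) (.node 0xe46b490d9c8b1b .nil .nil))) (.node 0x8a1688132d7196 (.node 0x8f2a30e567d76a (.node 0x5bc0d859566c80 .nil .nil) (.node 0xd36f5a9d7e8f44 .nil .nil)) (.node 0xaea737f1f3e94c (.node 0x33bddfaaa46c36 .nil .nil) .nil))) (.node 0xa58ac6974a472c (.node 0xa1a6b8e3ae36ee (.node 0xc7eb0fe4016901 (.node 0x7ce136cc984303 .nil .nil) (.node 0x794f198974d14 .nil .nil)) (.node 0x33d470414d64f9 (.node 0x58c0939b2bb55f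 .nil .nil) .nil)) (.node 0xa7fab3a2aeb795 (.node 0x9ceb359052d16c (.node 0x4a08917a1727ae .nil .nil) (.node 0xd907904daed448 .nil .nil)) (.node 0xd1a6ecf1e3c3fc (.node 0x200cb08ba6ee90 .nil .nil) .nil)))) (.node 0x38385820f8dce5 (.node 0x8a864ce172a331 (.node 0x810b01075748fc (.node 0xf1c5d2c9c357 (.node 0x772dc84c7140e0 .nil .nil) (.node 0xbb9c96872dab0 .nil .nil)) (.node 0x87ab0ea19d3288 (.node 0x5838423a6c691b .nil .nil) (.node 0xe98b733de9a68c .nil .nil))) (.node 0xb32aba13e0b86e (.node 0x5d89cee522717d (.node 0x61ed8a0900f432 .nil .nil) (.node 0xd99b750e16664a .nil .nil)) (.node 0x1c296d525065dd (.node 0x4c2c908b0b55f0 .nil .nil) .nil))) (.node 0xa3eb1be7a307b0 (.node 0x82b29523ecf31b (.node 0x29858244eb99b1 (.node 0x6ac5562d03c67d .nil .nil) (.node 0xfa0d1c8e923c3 .nil .nil)) (.node 0xcdb3425701db6e (.node 0x3c4dbd1ae61329 .nil .nil) .nil)) (.node 0xa91611e2eef7c0 (.node 0x5c7d8cc02e577e (.node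 0x32143b59e51db0 .nil .nil) (.node 0xdc37a33e62b790 .nil .nil)) (.node 0x70f8f2dc591e69 (.node 0x2591ebebf3af3a .nil .nil) .nil)))))) (.node 0xead1035b52195 (.node 0x6f937e59c1d4c (.node 0x97723781e11778 (.node 0x882b1411150fab (.node 0x22fd5b471787d5 (.node 0x434c27851133dd (.node 0x6c5d30bc461fb3 .nil .nil) (.node 0x21ad525c162ea3 .nil .nil)) (.node 0x5df825c0ca574f (.node 0x3caddcd9a634da .nil .nil) (.node 0xe1bb7ade34a6a7 .nil .nil))) (.node 0xbd630d446e918e (.node 0xc0c6a384190a0c (.node 0x5ab95d891ae73a .nil .nil) (.node 0xe695a28daa4ad .nil .nil)) (.node 0xce6e47821ec42c (.node 0x3f8d96a9f07750 .nil .nil) .nil))) (.node 0x9332d3c65f189c (.node 0xacc659d4bc4cec (.node 0x44d9ac74f21a76 (.node 0x73e1092c8f80cc .nil .nil) (.node 0x60517381a1493 .nil .nil)) (.node 0x84022ac1837251 (.node 0x54499f1b6d3878 .nil .nil) (.node 0xe6f7a55d414a8c .nil .nil))) (.node 0x74c47c1337c15f (.node 0xc3620ca0815304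 (.node 0x4b7437fb9564c9 .nil .nil) (.node 0xd3bb5ace1ced2b .nil .nil)) (.node 0x25e810b1b4642d (.node 0x4aac43f994b760 .nil .nil) .nil)))) (.node 0x81927cd12e9197 (.node 0x96ddf5d6701853 (.node 0xb0dabc0766c6cb (.node 0xa69afe845c787f (.node 0x75d9f20cc24125 .nil .nil) (.node 0x15d501f80dde1a .nil .nil)) (.node 0xbd7f0dc18c1508 (.node 0x2cbc99ea32ce51 .nil .nil) (.node 0xdd2f8a0d960d1b .nil .nil))) (.node 0xc06a6a8288d3ab (.node 0x83d22af3d2f25a (.node 0x5b1560e923a99f .nil .nil) (.node 0xd27784ce9cf69e .nil .nil)) (.node 0x8ab2e802693172 (.node 0x525c2b59a0a3dd .nil .nil) .nil))) (.node 0x18751c773448cb (.node 0xbe8a3504620dee (.node 0x9c3ee43374791d (.node 0x6919029ced0606 .nil .nil) (.node 0x41f3083d51e6 .nil .nil)) (.node 0x3045e276c3db61 (.node 0x2d3d7c9a4b6425 .nil .nil) .nil)) (.node 0x60ed6ef369715d (.node 0x9d36da501115a2 (.node 0x52ddd11988e7f1 .nil .nil) (.node 0xdd0775ad510db3 .nil .nil))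 (.node 0x6fb158dc431fd9 (.node 0x1a29cdabc3ef04 .nil .nil) .nil))))) (.node 0x63252ea597a127 (.node 0xc5db2146016221 (.node 0x90c738d137975a (.node 0x8605ff40410772 (.node 0x846a2ef3403278 (.node 0x7320bc9cba0097 .nil .nil) (.node 0x19f52607fcdcb3 .nil .nil)) (.node 0xa6c6fe008d8d33 (.node 0x4309d39a597880 .nil .nil) (.node 0xdc834dce412d1c .nil .nil))) (.node 0xa5b641a375ba47 (.node 0x29243df43a33cb (.node 0x64f92089469a34 .nil .nil) (.node 0xda03746dadd353 .nil .nil)) (.node 0x21d8ac51d4e517 (.node 0x2f45996aff9e33 .nil .nil) .nil))) (.node 0xc3def87950925 (.node 0xa96332853d54e7 (.node 0x970bdb28a4428 (.node 0x1380aa67eb44fb .nil .nil) (.node 0x93944c88b91cb .nil .nil)) (.node 0xc675fdb6b2dac0 (.node 0x2b9d9d89b3f672 .nil .nil) .nil)) (.node 0x9a36636445ba30 (.node 0x645ce430349917 (.node 0x4855a0fa7834ec .nil .nil) (.node 0xda238e4d3f93e5 .nil .nil)) (.node 0x8d432c622eb0f6 (.node 0x1e54a07bb03038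 .nil .nil) .nil)))) (.node 0x8226c3c11a50d3 (.node 0x90473a8689571b (.node 0xaa7266830593c1 (.node 0xb9e689e30bd5f4 (.node 0x750c7cfc674169 .nil .nil) (.node 0x1dc8788624e15 .nil .nil)) (.node 0x37057a916664eb (.node 0x54b85bf9b55d9d .nil .nil) (.node 0xe80385bdec6e1e .nil .nil))) (.node 0xa2ae3d24cc3a49 (.node 0xaf033444b2f806 (.node 0x5f2ded295e2623 .nil .nil) (.node 0xd60b6e0e4ae994 .nil .nil)) (.node 0xd16e461245c3ab (.node 0x47b59cfa9c8c6c .nil .nil) .nil))) (.node 0x1610f7271cc863 (.node 0xbb2aa9e42b560f (.node 0xaf9ea7f498ea16 (.node 0x5db1cf990473e7 .nil .nil) (.node 0xf48cee8c3a51b .nil .nil)) (.node 0xbc2347a6f7daf8 (.node 0x3e08296a6cca6b .nil .nil) .nil)) (.node 0x5af15f8516711f (.node 0xc22e0ea0268ec1 (.node 0x4f91da3a81d15b .nil .nil) (.node 0xde479d2e74396b .nil .nil)) (.node 0x6ef8cd1c4e1f5b (.node 0x1c048c7be02f73 .nil .nil) .nil))))))) (.node 0xa0028f75fa20e0 (.node 0x941676025c98b1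 (.node 0xc3c251d62b615b (.node 0xa416147635a1bb (.node 0x938e8c40e2d890 (.node 0xb70a1017ce0832 (.node 0xbe6f13e4ca8c23 (.node 0x6eb527fc55dd1b .nil .nil) (.node 0x1ea4a3dbbbaedb .nil .nil)) (.node 0xc4f222700c4ae0 (.node 0x3f50545a0bee55 .nil .nil) (.node 0xe1139c3e292bd0 .nil .nil))) (.node 0xaf9aa73473ad32 (.node 0xa48718241ead00 (.node 0x5d416ce97d69c1 .nil .nil) (.node 0x1138ebb8c82509 .nil .nil)) (.node 0xbb1aaa06ba1c36 (.node 0x3d243189bff911 .nil .nil) .nil))) (.node 0x566494065662b6 (.node 0x94daa8b4b69651 (.node 0xc88a68348ee704 (.node 0x7a89463c88c0b1 .nil .nil) (.node 0x994be38941181 .nil .nil)) (.node 0x4bb5be617b640e (.node 0x5891708b32679c .nil .nil) (.node 0xe723a15d574ac0 .nil .nil))) (.node 0xa62afdb38d2642 (.node 0x8f463112d95768 (.node 0x356047998939d3 .nil .nil) (.node 0xd5a3845e96b5a0 .nil .nil)) (.node 0xd03a08f25f0360 (.node 0x353db7bb89f916 .nil .nil) .nil)))) (.node 0xaa96e23616a08d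 (.node 0x47799b96a523b6 (.node 0x8d5a4a276c86d4 (.node 0x70937c3af8353 (.node 0x791191fc6b01eb .nil .nil) (.node 0x1990e7d7f75d9e .nil .nil)) (.node 0xaa0331406d1202 (.node 0x401c069ab939ce .nil .nil) (.node 0xe187892d590a9b .nil .nil))) (.node 0xcb8ae7b2836ac0 (.node 0x33002de54e5744 (.node 0x6244a1a95168ba .nil .nil) (.node 0xd263749e9bb4ea .nil .nil)) (.node 0x1a8c24326a241b (.node 0x3061e2fb84e5c4 .nil .nil) .nil))) (.node 0x81867c9006c6a2 (.node 0x9a66645467e749 (.node 0x1ce9880377afbd (.node 0x6665253cf1059f .nil .nil) (.node 0x26193a869da0e .nil .nil)) (.node 0xcb3695e6efdbfa (.node 0x29443f4acf2545 .nil .nil) .nil)) (.node 0xb1227a055b14ff (.node 0x5f19ec9014186f (.node 0x4dcdb36b41d468 .nil .nil) (.node 0xdd175a2d70d014 .nil .nil)) (.node 0x8d372cd20e70f5 (.node 0x1c356d8beb6f92 .nil .nil) .nil))))) (.node 0xc58e24f64f21fa (.node 0xb5226ee6042224 (.node 0x941a7630d518bc (.node 0x9ae21337b5889c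 (.node 0x414c654343f37f (.node 0x7a24ba2c830287 .nil .nil) (.node 0x15850df80a1f3a .nil .nil)) (.node 0x5a3ce11082d677 (.node 0x3edda6db1c91ed .nil .nil) (.node 0xe11b519e7d37ef .nil .nil))) (.node 0xcb82e73329275d (.node 0xbd8e3215638cd5 (.node 0x5a0d23b92eee4f .nil .nil) (.node 0xda0773ed518dc9 .nil .nil)) (.node 0xd07228d231c349 (.node 0x4f34017a89f512 .nil .nil) .nil))) (.node 0x24358b479bc941 (.node 0x9129f4d3a4d84b (.node 0x9f228f328a3a02 (.node 0x67fcb69d194638 .nil .nil) (.node 0x67113b8221978 .nil .nil)) (.node 0x89a6c9714931b6 (.node 0x2999835a02762e .nil .nil) .nil)) (.node 0xc655fde2a96a6e (.node 0xc2260e70954bf6 (.node 0x39505f9ab4ec88 .nil .nil) (.node 0xd8d386cd35cbb3 .nil .nil)) (.node 0x203d4ef222a4e1 (.node 0x2204accc1c304a .nil .nil) .nil)))) (.node 0x946abce0efd6b0 (.node 0x3c3dbcf6816327 (.node 0xb4b29dc750091b (.node 0x8f77164312d7fb (.node 0xc301d5840c224 .nil .nil) (.node 0xb01fa84753b5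 .nil .nil)) (.node 0xbbf2ab615e4a92 (.node 0x55c5777af53740 .nil .nil) (.node 0xe933589dd127c8 .nil .nil))) (.node 0xad4e8383d8e687 (.node 0xb14e5eb4ad3647 (.node 0x5cb98d68f999b8 .nil .nil) (.node 0xd8c7648e0068ac .nil .nil)) (.node 0x8abae8724e7174 (.node 0x3878586a940ad2 .nil .nil) .nil))) (.node 0x8bf30627a98788 (.node 0x932ed3e3e518ab (.node 0xb6b71f64ea34c7 (.node 0x6785402d1c0530 .nil .nil) (.node 0x12193258d6249b .nil .nil)) (.node 0x4a8442d6c81bf7 (.node 0x4568473a41d373 .nil .nil) .nil)) (.node 0xb4431922e6a98b (.node 0xd10652f02a43ce (.node 0x2f00633aff798b .nil .nil) (.node 0xde5f995e75770c .nil .nil)) (.node 0x6d2ce9ec495f13 (.node 0x1ab0246bca6fe2 .nil .nil) .nil)))))) (.node 0x7e0b03c5be4b5a (.node 0x7ee725c6404a5b (.node 0xd88c415df60ae (.node 0x85a73fa0f3ca30 (.node 0x4eccaa71107b9 (.node 0xa602fd950ef68b (.node 0x7c953a9c904057 .nil .nil) (.node 0x20654fbbacf079 .nil .nil)) (.node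 0x9f62bb00c7130d (.node 0x43c5d829a92588 .nil .nil) (.node 0xdd9f6afd7350da .nil .nil))) (.node 0x3a9032d4da320f (.node 0x6a53b23ef440e (.node 0x62a0a57959b475 .nil .nil) (.node 0x10e0a848eda3d5 .nil .nil)) (.node 0x1e98a2c1f5254c (.node 0x5218511a2ee6c9 .nil .nil) .nil))) (.node 0x9552de16655674 (.node 0x53c854d4feb3fd (.node 0x86ab3e1405b202 (.node 0x721cc9aca18009 .nil .nil) (.node 0x7f0ee18a0cc14 .nil .nil)) (.node 0xbc7e0541438edd (.node 0x53e855bb7578b3 .nil .nil) (.node 0xe6aba0ad7589c0 .nil .nil))) (.node 0x9e080f32fc38b (.node 0x633d2eb05558b7 (.node 0x39817f8b514d39 .nil .nil) (.node 0xd213631e24aac7 .nil .nil)) (.node 0xb82a8481b22649 (.node 0x37517ba9e06950 .nil .nil) .nil)))) (.node 0x2aa977e10c5d8e (.node 0xc74715466c62f3 (.node 0x179d41578806fc (.node 0xbb16a984560e55 (.node 0x7780179c784251 .nil .nil) (.node 0x18bd1ce8011ea3 .nil .nil)) (.node 0x477d9be194a435 (.node 0x28f5b5fac7ee69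 .nil .nil) (.node 0xe58b68adbe4a82 .nil .nil))) (.node 0x48f179257ef25d (.node 0x9c06b343cbe76b (.node 0x5cec8ac974e69d .nil .nil) (.node 0xd6b3a76d929587 .nil .nil)) (.node 0xd03608d1c3c35f (.node 0x4e24457b5ba55c .nil .nil) .nil))) (.node 0x7fa229a73f48e2 (.node 0x54d5a325849894 (.node 0xb58616531fd592 (.node 0x66b9499d16c5fc .nil .nil) (.node 0xc1419d87d8e14 .nil .nil)) (.node 0xbd9a3276fd5b8e (.node 0x40b5e78abae5b1 .nil .nil) .nil)) (.node 0xc49eff362c45b (.node 0xc2f70760a89381 (.node 0x30040b4b9e789c .nil .nil) (.node 0xe4cf57de2f29cb .nil .nil)) (.node 0xe395958d9df76 (.node 0x261411cbf96fd6 .nil .nil) .nil))))) (.node 0xeb9102590a121 (.node 0xca81c25c01c75 (.node 0xc7e30fb6a222d5 (.node 0x18851c977689a4 (.node 0x9df2dcf5382af0 (.node 0x797882acd6c17a .nil .nil) (.node 0x1644f84811dcdb .nil .nil)) (.node 0xc43ee9e0670a5d (.node 0x3b8dc1ba3ff50d .nil .nil) (.node 0xde6f993dd6a88e .nil .nil)))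 (.node 0x41c9a7c4339abe (.node 0x95a6aa42b318f0 (.node 0x6480e5093f7420 .nil .nil) (.node 0xdb1b653e39a795 .nil .nil)) (.node 0xa9fb3181dead28 (.node 0x4e7dae59c9369f .nil .nil) .nil))) (.node 0x9a02c537618981 (.node 0x58417052be726c (.node 0xb5bf1a729538e2 (.node 0x695cf6bcea0576 .nil .nil) (.node 0x4bd4868384dc8 .nil .nil)) (.node 0x370d7af6e65bde (.node 0x2a7c6e5adf1c67 .nil .nil) .nil)) (.node 0x23095b03c4300e (.node 0xa49318e03ecc68 (.node 0x345d87db0eb5d3 .nil .nil) (.node 0xda5ba1ed2154dc .nil .nil)) (.node 0xd17a45420483b1 (.node 0x23855eec0baee7 .nil .nil) .nil)))) (.node 0x7efa08511e035b (.node 0xcb4e6206916374 (.node 0x5a30e13349f138 (.node 0x4f89d9338399fe (.node 0x79c98f5cde41b0 .nil .nil) (.node 0xa8169b857da83 .nil .nil)) (.node 0x8a3287b161b19b (.node 0x2b405789bb245e .nil .nil) (.node 0xe8ff78bdd4e6c2 .nil .nil))) (.node 0x3691852477f25f (.node 0xbb0aa9d35b0bf0 (.node 0x5e0026190f2a3d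 .nil .nil) (.node 0xd343a7ed7a54f5 .nil .nil)) (.node 0x244d8b21ce25cb (.node 0x36dd866a22ca87 .nil .nil) .nil))) (.node 0x7f172987c347f6 (.node 0x422c51b27833d9 (.node 0x516197229db35c (.node 0x1ad411e9655d7f .nil .nil) (.node 0x134d3548b1e5ba .nil .nil)) (.node 0xcaba8996dd1bb7 (.node 0x425052ab394e4f .nil .nil) .nil)) (.node 0x83d62a94a4f258 (.node 0x609c8da0b017de (.node 0x333c2f1aa90de9 .nil .nil) (.node 0xe2a7683d6014df .nil .nil)) (.node 0x6b24c3cc5e1ffc (.node 0x245d8b8bdb2fa4 .nil .nil) .nil))))))))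

/-- Part of `setTab`. -/
noncomputable def setTab_l_l_l_r : Arr ℕ :=
  .node 0xc5c721b613e27a setTab_l_l_l_r_l setTab_l_l_l_r_r

/-- Part of `setTab`. -/
noncomputable def setTab_l_l_l : Arr ℕ :=
  .node 0x11853e360f2276 setTab_l_l_l_l setTab_l_l_l_r

/-- Part of `setTab`. -/
noncomputable def setTab_l_l_r_l_l : Arr ℕ :=
  (.node 0x12609dd608e262 (.node 0xa1f291e5d6e06c (.node 0x933a9261b3d6e8 (.node 0xc41ae9c5bfa18e (.node 0x9cb335e594a118 (.node 0x8f9e2c812297a1 (.node 0xb5b71a27c00800 (.node 0xa31ea434a38c6f (.node 0x6b40c31c5d1e52 .nil .nil) (.node 0x1d952a9c06b01a .nil .nil)) (.node 0xb0febc60b349e8 (.node 0x4cf8026aaf7766 .nil .nil) (.node 0xde2f76be61f893 .nil .nil))) (.node 0xa1ceb9127a6d84 (.node 0xb80e8522a1371b (.node 0x5fbc132965da02 .nil .nil) (.node 0x12dcf4e8e36467 .nil .nil)) (.node 0xba06b7f6e41b2b (.node 0x3e80673b38eada .nil .nil) .nil))) (.node 0x52f09af692a35d (.node 0xa39a17834e392b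 (.node 0xb226f70387794f (.node 0x748d681cd941cb .nil .nil) (.node 0x860fba82d156d .nil .nil)) (.node 0x56c9bfe16da5a4 (.node 0x56ac94b9f42d71 .nil .nil) (.node 0xe6db8a6d508a28 .nil .nil))) (.node 0xac8ef1747aa83c (.node 0x81aa7cf3603180 (.node 0x497068d9d27523 .nil .nil) (.node 0xdb8b647db7ca99 .nil .nil)) (.node 0xb512a531d1672f (.node 0x39fc970b47f708 .nil .nil) .nil)))) (.node 0xa8c29725c46297 (.node 0x36a5856698a2de (.node 0x8c0b06977a4991 (.node 0x356847c52ed6ce (.node 0xaf87ec86dc189 .nil .nil) (.node 0x17894b37d71f06 .nil .nil)) (.node 0xb8faf3d0604a04 (.node 0x3b99c22a3ea496 .nil .nil) (.node 0xe2434eed448f30 .nil .nil))) (.node 0xcd87420438a82d (.node 0xa33a6c22b6fa2a (.node 0x649ce5393d1a7c .nil .nil) (.node 0xd5ab842db6cbcc .nil .nil)) (.node 0x6c253071a79fba (.node 0x4e81ae69c824e8 .nil .nil) .nil))) (.node 0x89aa8550c98961 (.node 0x931ed412bf58a1 (.node 0x53ac54e40ff1df (.node 0x6738bfcd10c550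 .nil .nil) (.node 0x2d084f8531ab6 .nil .nil)) (.node 0xcdb74226e8dbc8 (.node 0x2a606e1ae1d60a .nil .nil) .nil)) (.node 0xb3bef833c5a664 (.node 0x699ca8e0be85bd (.node 0x3451873b0f4a23 .nil .nil) (.node 0xe33f71ee4c2890 .nil .nil)) (.node 0xb8b25a81ffad18 (.node 0x1cc875dbd6ef53 .nil .nil) .nil))))) (.node 0xc54eebb643a100 (.node 0x9d92add5e2e0b2 (.node 0x92fad46102d8aa (.node 0x98b244471387c9 (.node 0xc0566ab50e8b24 (.node 0x7c8939fc938064 .nil .nil) (.node 0x151cb577ea5dcc .nil .nil)) (.node 0x6990a90042c5c0 (.node 0x468804ab77d280 .nil .nil) (.node 0xde77658d8f516f .nil .nil))) (.node 0x925ea214db1935 (.node 0xcaae88b3f4e7e8 (.node 0x62b8a4d958995e .nil .nil) (.node 0xd6ff5bce28a879 .nil .nil)) (.node 0xb76330c1f9ab7c (.node 0x2ec8623a29b610 .nil .nil) .nil))) (.node 0x1ba88c1747871e (.node 0x9119f435001844 (.node 0xbf1b461406ce87 (.node 0x71a9124c9dc2eb .nil .nil) (.node 0x51ccb089b0f5e .nil .nil))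 (.node 0x832e60813af1f7 (.node 0x2794748b27b621 .nil .nil) .nil)) (.node 0xaabae2b3336966 (.node 0x9bd71c10580d67 (.node 0x46e181cb54790c .nil .nil) (.node 0xd94fa5ed4249ff .nil .nil)) (.node 0x6fe4d8e1e25fec (.node 0x20a8e30ba3ae83 .nil .nil) .nil)))) (.node 0x973708c110d7e9 (.node 0x3b0c4ae67aa345 (.node 0xaaaae2078c0700 (.node 0xa52a82d2d574a0 (.node 0x7691c51c7500f2 .nil .nil) (.node 0x131c60879d97d .nil .nil)) (.node 0xba3eb89197cc0e (.node 0x56ddc0bac475fd .nil .nil) (.node 0xe94b4b4dcfa889 .nil .nil))) (.node 0xcb4a61f583aa3b (.node 0x2645e87529af1e (.node 0x1cdc8d796e1d07 .nil .nil) (.node 0xd21f5d6e8a34b8 .nil .nil)) (.node 0xa1d6b941bdabfe (.node 0x3414715b045638 .nil .nil) .nil))) (.node 0x8d7249a73d48dd (.node 0x90ef385586d755 (.node 0x70d3833168386 (.node 0x658d1b1cfb4664 .nil .nil) (.node 0x108129b8a9a42f .nil .nil)) (.node 0x53517de6ff5b7d (.node 0x4011e5babeadd5 .nil .nil) .nil)) (.node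 0xc7d30f8368a97b (.node 0xb34aba70a11573 (.node 0x4efc3739e19e76 .nil .nil) (.node 0xe0df819d8bcb4d .nil .nil)) (.node 0x6d8d621c51dd00 (.node 0x1b2dcb5bf42f2b .nil .nil) .nil)))))) (.node 0x808a5455e7d2d0 (.node 0x809653c5a49300 (.node 0xea91015a9217a (.node 0x8531fa10e0cd60 (.node 0x6f53817c5483a (.node 0xa8c697c4c5357d (.node 0x7004da0c3f1fea .nil .nil) (.node 0x1f1121ec136eb8 .nil .nil)) (.node 0xd18eec10030400 (.node 0x3f5464d9edb9be .nil .nil) (.node 0xe24ba7addc6a65 .nil .nil))) (.node 0x3be03c946b33f9 (.node 0x40e8089415b22e (.node 0x61056f797b7412 .nil .nil) (.node 0x128c9f08c0e40a .nil .nil)) (.node 0x6c2930521d1fbc (.node 0x44180659c4b4a4 .nil .nil) .nil))) (.node 0x93f6d1b65996d2 (.node 0x5910b0e4ba70de (.node 0xab07da4f703a5 (.node 0x7a99467c8bc0b3 .nil .nil) (.node 0x6c53b881fcdac .nil .nil)) (.node 0xbe3a39b17f52eb (.node 0x2c95a57b6aad5d .nil .nil) (.node 0xe63372bd650b3f .nil .nil)))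 (.node 0x33c8707390729c (.node 0x68d502607d4609 (.node 0x4b2dba698a1171 .nil .nil) (.node 0xd82f616da090bd .nil .nil)) (.node 0xaf62db4259abbe (.node 0x35b048a9975e2f .nil .nil) .nil)))) (.node 0x446834312d5c55 (.node 0xca06cb26a9a3bd (.node 0x1608f76764c6c5 (.node 0xc856e113b56c9f (.node 0x77f5eeecc40115 .nil .nil) (.node 0x1854b7f7e09e71 .nil .nil)) (.node 0x541d9ed188659e (.node 0x4068075ad6c9d2 .nil .nil) (.node 0xe2d7627e1d6cb9 .nil .nil))) (.node 0x2d1d7c3284b40c (.node 0xa122f9b5517704 (.node 0x5b88d5694bea5f .nil .nil) (.node 0xd327985e87765b .nil .nil)) (.node 0x8d7e4a526ff142 (.node 0x2db02c899ad343 .nil .nil) .nil))) (.node 0x7e7a07c78106a7 (.node 0x3c2dbcc45f169d (.node 0xa50a9ea379ed43 (.node 0x14554b87e2057c .nil .nil) (.node 0xc95f0084159ad .nil .nil)) (.node 0xbf1346d6d25b13 (.node 0x576c39eaca0d84 .nil .nil) .nil)) (.node 0xc51efd5530370 (.node 0xa1967210175249 (.node 0x2e09d26982b827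 .nil .nil) (.node 0xdc67546d8e0efe .nil .nil)) (.node 0x6be89d9c3a1fc3 (.node 0x2675e8ebc5ef13 .nil .nil) .nil))))) (.node 0x1124ea96456200 (.node 0x2ed8fa5fc1cec (.node 0x82ba94c0d40b2e (.node 0x159d00c7288769 (.node 0xabb2cea3473756 (.node 0x7398f92c858291 .nil .nil) (.node 0x14314dc7f39f02 .nil .nil)) (.node 0xd0df2ac0848385 (.node 0x3d89d51a54b7e5 .nil .nil) (.node 0xdf7b5f1d640ccc .nil .nil))) (.node 0x28a9b5639d56e5 (.node 0xb08a8e2444b6f3 (.node 0x599d50d9446913 .nil .nil) (.node 0xda9799cd568cae .nil .nil)) (.node 0x9f12fbe239a9c5 (.node 0x4f40011a88e5af .nil .nil) .nil))) (.node 0x8e9304579cc945 (.node 0x64a91f553b3098 (.node 0x82ae955575331a (.node 0x67d0b6ad1a864b .nil .nil) (.node 0x39d07b885d9c1 .nil .nil)) (.node 0x57303926b09ad0 (.node 0x29a982ea00a58a .nil .nil) .nil)) (.node 0x36a985444cda8f (.node 0xb1fe3f90998fe5 (.node 0x3890597a9839f6 .nil .nil) (.node 0xd6a36b5e3f6cb6 .nil .nil))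 (.node 0xb8ae5b0227ac10 (.node 0x2260d33bb6b024 .nil .nil) .nil)))) (.node 0x7dde451117c3a8 (.node 0xcda342e685a32e (.node 0x5e49cbe303717c (.node 0x5f70122309f0fa (.node 0x76341e6cc88228 .nil .nil) (.node 0xad07eb86695e9 .nil .nil)) (.node 0x8372e60154b33a (.node 0x2a9c6b4ada39db .nil .nil) (.node 0xe8878f9dcb2a4f .nil .nil))) (.node 0x29083de4d3730e (.node 0xa622fd64aa1346 (.node 0x5e71ccb96367fc .nil .nil) (.node 0xd4ef864dcdeddf .nil .nil)) (.node 0x6fe8d8c243dfee (.node 0x38d1a26a9ab831 .nil .nil) .nil))) (.node 0x7f520a5727887b (.node 0x39617f442857bd (.node 0xbba2df04e9cd3d (.node 0x5fe5eab909f397 .nil .nil) (.node 0x11a93e78cda563 .nil .nil)) (.node 0xc9327df6cb1be6 (.node 0x3b284bba47b82b .nil .nil) .nil)) (.node 0x1e90a3051daedf (.node 0x66e4bf3022c555 (.node 0x5140647b1490ae .nil .nil) (.node 0xddafa2ce7ff764 .nil .nil)) (.node 0x6f490fbc325f43 (.node 0x24d4897be62f60 .nil .nil) .nil)))))))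 (.node 0xa6d6bf85cfa07f (.node 0xd8cc465eb623d (.node 0x89d09e6261dc4 (.node 0x8fde38a22257c1 (.node 0x843b10a128cb95 (.node 0x1e80a2d7cbc822 (.node 0x2e55a964c6b388 (.node 0x6de0cfec2d9c59 .nil .nil) (.node 0x22bcd6dbbf6ec8 .nil .nil)) (.node 0x66fcbf4008c554 (.node 0x2e7daa7a0d1e17 .nil .nil) (.node 0xddf363bda454f9 .nil .nil))) (.node 0xbce201f274d037 (.node 0xb502a5f2990ba3 (.node 0x5c5c7b08f15988 .nil .nil) (.node 0xed91088d22551 .nil .nil)) (.node 0xc77f1517061adf (.node 0x3a55de5b6576fc .nil .nil) .nil))) (.node 0x951ad7e653d912 (.node 0xca5e86c355e703 (.node 0xc10a8d8487cbf1 (.node 0x88d05283342a6 .nil .nil) (.node 0x3f4fe488dcb31 .nil .nil)) (.node 0x85233d91767216 (.node 0x2765846b30ede1 .nil .nil) (.node 0xe7f3813db08b0d .nil .nil))) (.node 0xbbc2ab44810f07 (.node 0x9836c032e06b84 (.node 0x37946b19d5e5d7 .nil .nil) (.node 0xd2537a3d9ad3b4 .nil .nil)) (.node 0x6ffcd9225e5ff0 (.node 0x4bddbf7b8e7734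 .nil .nil) .nil)))) (.node 0xc39305761f20a6 (.node 0x96933976ac9705 (.node 0x9c32e4977489ba (.node 0x9236a243b89934 (.node 0x7545649c6fc207 .nil .nil) (.node 0x13d8ab97eedd0e .nil .nil)) (.node 0xaf2b3430734fb2 (.node 0x448434eaf24d04 .nil .nil) (.node 0xdf0b49ee7b37cd .nil .nil))) (.node 0xbf9b4404310def (.node 0x428ba85470372 (.node 0x5a60e199356b15 .nil .nil) (.node 0xdb5b90fdf5a603 .nil .nil)) (.node 0xb7a699b1a6696f (.node 0x5059e4bb824c85 .nil .nil) .nil))) (.node 0x1394aaf7824690 (.node 0xa9eb3172c65113 (.node 0x84762ea40b7274 (.node 0x69c4aa4d0cc5b9 .nil .nil) (.node 0xb4566c86f553f .nil .nil)) (.node 0x29818216ec5c09 (.node 0x2821b16a5b8fd0 .nil .nil) .nil)) (.node 0x7705c7455ac0da (.node 0xd0d72a90b9037e (.node 0x3285c3eb3f2be4 .nil .nil) (.node 0xded78f5dd56607 .nil .nil)) (.node 0xa97332c213ac0f (.node 0x252d6acbefaf85 .nil .nil) .nil))))) (.node 0x63212ec64ba1ed (.node 0xc2020e05dda0c8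 (.node 0x96a5f56108d860 (.node 0x8529f9b0824891 (.node 0x6a13ad2f043db (.node 0x7250c70ca8c31c .nil .nil) (.node 0x17e94237db9cae .nil .nil)) (.node 0xafee3d504c116d (.node 0x42c594eb2267f6 .nil .nil) (.node 0xdeb7822da59402 .nil .nil))) (.node 0xbb26a9b32d8d70 (.node 0x416864f56033c9 (.node 0x63b9541929edbb .nil .nil) (.node 0xd7ff529dc869c7 .nil .nil)) (.node 0x6c3d3042309fb6 (.node 0x4d24000a8739b2 .nil .nil) .nil))) (.node 0x1441587414736 (.node 0xa54e8233abcb09 (.node 0x2abd77a56d341c (.node 0x68a4ffcce1c61a .nil .nil) (.node 0x73938f828d045 .nil .nil)) (.node 0xbffa02d151509e (.node 0x58d0934b2ae417 .nil .nil) .nil)) (.node 0x98de5712a33a52 (.node 0x6a40b290908505 (.node 0x3670701a1adef1 .nil .nil) (.node 0xd6d352de98f552 .nil .nil)) (.node 0x8ac2e8f1edb177 (.node 0x1f9ce09c19f057 .nil .nil) .nil)))) (.node 0x8992c9a0fb0c47 (.node 0x911df4b676983c (.node 0x8b620ac75448f4 (.node 0x9d6aa6e2cd6c9d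 (.node 0x7745c83c73c0e7 .nil .nil) (.node 0xcd01d184b4f14 .nil .nil)) (.node 0x2aad77915a6500 (.node 0x288c4a4a64de48 .nil .nil) (.node 0xe9877bade12a1c .nil .nil))) (.node 0xa3ce1803d53a74 (.node 0xa1727295267716 (.node 0x61d98a28ffa781 .nil .nil) (.node 0xdb139bbd3753e6 .nil .nil)) (.node 0x9f5ebb52532baf (.node 0x48e4608a91aabd .nil .nil) .nil))) (.node 0x16e4c117a60792 (.node 0xb3725c33ebd423 (.node 0x99364124ef7896 (.node 0x685d0c0ce4851a .nil .nil) (.node 0xdfcdb98bc641c .nil .nil)) (.node 0xbe923456c0dba5 (.node 0x44fdac8ae978a5 .nil .nil) .nil)) (.node 0x984e7b72e33a0d (.node 0xa37a6dc031930e (.node 0x320c3b39e6a4dd .nil .nil) (.node 0xddbf66bdf167ad .nil .nil)) (.node 0x6b95189c226008 (.node 0x26d40dcbceeff1 .nil .nil) .nil)))))) (.node 0xa60afdd5b6a19d (.node 0x989a44059e61cd (.node 0x800b2b55b1d0fe (.node 0x439dd7d0f15e34 (.node 0x8d2f2cb71a07d7 (.node 0xb5cf1a9513e9ac (.node 0x7151157c96403b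 .nil .nil) (.node 0x21451e8ba97065 .nil .nil)) (.node 0xce92ee10cc8455 (.node 0x3cb5dc89a6cfb4 .nil .nil) (.node 0xde6365dd5c0f16 .nil .nil))) (.node 0x82f26024e271fb (.node 0x819e7cb3f9318a (.node 0x228cd589141efe .nil .nil) (.node 0x100163c8ae2441 .nil .nil)) (.node 0x9c9a19e21a2a95 (.node 0x41d1a899ec35dd .nil .nil) .nil))) (.node 0xc72636d661e385 (.node 0x874a3a3506b266 (.node 0x9ddedd94f5f90b (.node 0x7bd8f06ca60021 .nil .nil) (.node 0x5a0c7f8a65a80 .nil .nil)) (.node 0x29d871f13f6515 (.node 0x2c185d6b6fdd86 .nil .nil) (.node 0xe67b964da8c9db .nil .nil))) (.node 0x9d56a6d33a3902 (.node 0xced702d0780469 (.node 0x34e8406b91edf5 .nil .nil) (.node 0xd65f98bd345461 .nil .nil)) (.node 0x8cbf2021b7b0e3 (.node 0x491d79a9db36d1 .nil .nil) .nil)))) (.node 0x350db6a0d89eac (.node 0x8ba64e017fa2e9 (.node 0x7d5e565793870d (.node 0x43b1d7a452b408 (.node 0x76d014ec7d026a .nil .nil) (.node 0x14a956d7e59e73 .nil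 .nil)) (.node 0x86433c118ff22b (.node 0x531c9bea363928 .nil .nil) (.node 0xe3bb8b2dcbee76 .nil .nil))) (.node 0xb3565c757d765a (.node 0xbc0b47e3d389f2 (.node 0x634d2fd91ff3c3 .nil .nil) (.node 0xd207563e8d76c7 .nil .nil)) (.node 0x6c313011c21fb8 (.node 0x32e04dcb568a08 .nil .nil) .nil))) (.node 0xb8965aa738c8ce (.node 0x9a8698e58f76a6 (.node 0x7ca936331ec2fc (.node 0x68ed02ecef8613 .nil .nil) (.node 0x17016b8811076 .nil .nil)) (.node 0xcaf2cd36c45b50 (.node 0x538d7e2a4e91d2 .nil .nil) .nil)) (.node 0xa54682e36df84a (.node 0x65c4e5d0a445d9 (.node 0x501c0cab985c98 .nil .nil) (.node 0xe173771d6c53d1 .nil .nil)) (.node 0x6fd158ac409c8a (.node 0x1b9c21ebfd2fc7 .nil .nil) .nil))))) (.node 0xb39ef87598a12e (.node 0x80172b05cad130 (.node 0x4f85d9769ee2cb (.node 0x7da6ef97338774 (.node 0xbfea0313410f39 (.node 0x7b58fcfcbc807a .nil .nil) (.node 0x171cc177d35e63 .nil .nil)) (.node 0x6a58b2a0638504 (.node 0x45c1b4ba389d40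 .nil .nil) (.node 0xdfdb551d27d092 .nil .nil))) (.node 0x850b3da3993215 (.node 0xb79e99343ceabe (.node 0x5940b20939f396 .nil .nil) (.node 0xd5af840d6a12f0 .nil .nil)) (.node 0xa2a23eb1d8ea85 (.node 0x2f41990b00e552 .nil .nil) .nil))) (.node 0xb63eb1b7984934 (.node 0x8ad0a354104bf (.node 0xab7b1ea28d67c2 (.node 0x6a68b34d07850f .nil .nil) (.node 0x8c50a583390ee .nil .nil)) (.node 0xc012a1970f9c1d (.node 0x2bad9e29b264fb .nil .nil) .nil)) (.node 0xa7a31d744af6fa (.node 0xb8fef3303911e8 (.node 0x4869a15a76a522 .nil .nil) (.node 0xd6fb5bfdc42ae5 .nil .nil)) (.node 0x6ff0d8d202dff2 (.node 0x1df92e7c0c6ef6 .nil .nil) .nil)))) (.node 0x54199ec0e5dcb4 (.node 0xc88268868b2318 (.node 0x22d92f2fcc3d9 (.node 0x9cbb35a381b5b2 (.node 0x78ac86cc610147 .nil .nil) (.node 0x33190585e99f6 .nil .nil)) (.node 0xc17ed2816bd0e8 (.node 0x549c5bc9b88b87 .nil .nil) (.node 0xe807883dec297f .nil .nil))) (.node 0x9fb6d064d174b1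 (.node 0x2fd00a23579745 (.node 0x6040101912669c .nil .nil) (.node 0xdbe34abd2ad4c1 .nil .nil)) (.node 0xb65ab1f23fe6e9 (.node 0x4a71755a222671 .nil .nil) .nil))) (.node 0xa126f9e7200869 (.node 0x8386b5042431d0 (.node 0x1df2c48f048f (.node 0x5dbdcfe905ac3f .nil .nil) (.node 0xdacc528dee455 .nil .nil)) (.node 0x2e49a946da9bc1 (.node 0x4388285a74e754 .nil .nil) .nil)) (.node 0xa7bb1db51a38d9 (.node 0xb49a6b901ecdcb (.node 0x315de15a86ec15 .nil .nil) (.node 0xde177f4e60b814 .nil .nil)) (.node 0x13193498b1203d (.node 0x1d0588cbdfefb1 .nil .nil) .nil))))))))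

/-- Part of `setTab`. -/
noncomputable def setTab_l_l_r_l_r : Arr ℕ :=
  (.node 0xc34e0c660da269 (.node 0x14c15b5cc5f14 (.node 0xa7eeb425f260d8 (.node 0xa04a3cd623e13c (.node 0x7dc2efd62ecbf3 (.node 0x2e4da931261ef4 (.node 0x7fdb2ba7bd8813 (.node 0xa8ba9744a07674 (.node 0x7095340c255d61 .nil .nil) (.node 0x23395bac02b00a .nil .nil)) (.node 0x9d7aa650ad11d0 (.node 0x5199983a133967 .nil .nil) (.node 0xde9f921d2a4a81 .nil .nil))) (.node 0x801f12708424 (.node 0x38ada192979a74 (.node 0x61887838f8ab67 .nil .nil) (.node 0xd4119a8b7a52a .nil .nil)) (.node 0x31dc3b1704daea (.node 0x463dd71b622b6e .nil .nil) .nil))) (.node 0xc78a3be697a363 (.node 0x2d017c5350b26e (.node 0x90d44748303a6 (.node 0x72c9439cb242d0 .nil .nil) (.node 0x45cbbe8319555 .nil .nil)) (.node 0xc1ba77e1708e8e (.node 0x2a087279f978e1 .nil .nil) (.node 0xe7bf9b7d3fcba6 .nil .nil))) (.node 0x3c8fd647d048b (.node 0x2f804e22de19e7 (.node 0x375c69a9d3b9ee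 .nil .nil) (.node 0xd9c35dde97b56f .nil .nil)) (.node 0x8e9b0441cbb165 (.node 0x4760985b4de6a4 .nil .nil) .nil)))) (.node 0x11813dc61b2099 (.node 0xc61f41769ca2e2 (.node 0x27c83f77109a7 (.node 0xa17e71a5304b23 (.node 0x7440800cd3c19e .nil .nil) (.node 0x16a504b8161eee .nil .nil)) (.node 0x6a44b2b070850b (.node 0x3c003cdaeca4c3 .nil .nil) (.node 0xe1e77ffda94d4f .nil .nil))) (.node 0xb1165e42d0440 (.node 0xafd23dc2bbb964 (.node 0x642caef932ac6e .nil .nil) (.node 0xdb077afe352dff .nil .nil)) (.node 0xb516a591abe846 (.node 0x3191bc49ce55a7 .nil .nil) .nil))) (.node 0xb7ce65175a896b (.node 0x33e47082c47479 (.node 0xac068b24126c4a (.node 0x6608e6ccf585cf .nil .nil) (.node 0xa1c81b84e9a9e .nil .nil)) (.node 0xbda63266d85b43 (.node 0x57a5b88a631002 .nil .nil) .nil)) (.node 0x8852ae53bff321 (.node 0xd00a0910bf4365 (.node 0x4ca1745b1089d5 .nil .nil) (.node 0xe027498e7837b0 .nil .nil)) (.node 0x6c2d3032101fb7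 (.node 0x2404790bd2ef43 .nil .nil) .nil))))) (.node 0x80032bd63bd54c (.node 0xe5d59d5d920c2 (.node 0x7fd20611044478 (.node 0x7e2e2777b108ad (.node 0xab221f72fb37ae (.node 0x7c04ec9cafc33e .nil .nil) (.node 0x1910def8055de4 .nil .nil)) (.node 0xb40e1560450b9d (.node 0x3ae4330b7c29f1 .nil .nil) (.node 0xdcfb570e653803 .nil .nil))) (.node 0x230d5b532b300f (.node 0x83e22a8568b257 (.node 0x5bf0d82953d9ba .nil .nil) (.node 0xd4dfa5fe99b5b4 .nil .nil)) (.node 0xb44f19c1f2e9fc (.node 0x33ade00aa11c94 .nil .nil) .nil))) (.node 0xb9d68a4749072a (.node 0x4a7c4323a9b1ce (.node 0x90eb3863fdd753 (.node 0x7cd937ac9a0302 .nil .nil) (.node 0x7a0f148968f78 .nil .nil)) (.node 0x547c5b414c2439 (.node 0x55f09249fb39a5 .nil .nil) .nil)) (.node 0x87970e32adf280 (.node 0xac5a5900530b1d (.node 0x49e4914a17b7e4 .nil .nil) (.node 0xd57b62bd581618 .nil .nil)) (.node 0x9916ffe1e5686a (.node 0x1fe4afeba7ae93 .nil .nil) .nil))))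 (.node 0x3e3466b0f91f25 (.node 0xc98ec4167fe34f (.node 0x16d0c137520904 (.node 0x5799b812ca59fc (.node 0x13c15287f80d2 .nil .nil) (.node 0xbbdc9b8755995 .nil .nil)) (.node 0x8376e6e19db335 (.node 0x582841fa68dd71 .nil .nil) (.node 0xe9a7838e06a6f6 .nil .nil))) (.node 0x83ea2a43dff253 (.node 0xbf0b46652c1317 (.node 0x60d48e996f59bf .nil .nil) (.node 0xd27f86fda98e17 .nil .nil)) (.node 0x6fecd91250dff1 (.node 0x4c548fdb09ee48 .nil .nil) .nil))) (.node 0x8b372ef7a407a4 (.node 0x304de223ea738c (.node 0xc0caa3531a92ce (.node 0x6ae1560d00066c .nil .nil) (.node 0xf9cd208e865aa .nil .nil)) (.node 0xc7fb0fd7001b6d (.node 0x3c7dbdaae3ec18 .nil .nil) .nil)) (.node 0x828a7ee2edb342 (.node 0x65d8e5802f45d6 (.node 0x31cc3a89c6399e .nil .nil) (.node 0xddcf6dbe382c75 .nil .nil)) (.node 0x70e8f34c599cea (.node 0x25a1ec4bf02f3b .nil .nil) .nil)))))) (.node 0x5a20e0f5b5a192 (.node 0x906df7620e9869 (.node 0xc24f2d65ad617e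 (.node 0x8fe30c311757cc (.node 0x8b720b87c7c83f (.node 0x7ca1364511c2fe (.node 0x6c49310c471fb5 .nil .nil) (.node 0x217d52dc176ea8 .nil .nil)) (.node 0x66e0bf90cbc557 (.node 0x4180659a0524a0 .nil .nil) (.node 0xe27ba10e4969dd .nil .nil))) (.node 0xc641fdd46feb14 (.node 0xc9c27ff41aaca0 (.node 0x5aa95dd91c7382 .nil .nil) (.node 0xe615ab8da2587 .nil .nil)) (.node 0x8efe50821f3087 (.node 0x3f8596e9f0b5d8 .nil .nil) .nil))) (.node 0x3e3c66a65da37e (.node 0xc8ce9cf4bfeb55 (.node 0xbc1b4794fb54cf (.node 0x73d9095c8e40c8 .nil .nil) (.node 0x5f916c81b4d93 .nil .nil)) (.node 0x832a60e183f1f2 (.node 0x54399f0b6db4ae .nil .nil) (.node 0xe7579b0d2ccc24 .nil .nil))) (.node 0xb6d31f939249f0 (.node 0xcf5226607ec4a1 (.node 0x4b8c385b944f1c .nil .nil) (.node 0xd9f774ae01e8ad .nil .nil)) (.node 0x6c213001b49fb9 (.node 0x4abc4429931e47 .nil .nil) .nil)))) (.node 0x882f14012f1137 (.node 0x91be69067158fc (.node 0x8e83048767c6bb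 (.node 0xab531e645d35cf (.node 0x75bdf27cc1812e .nil .nil) (.node 0x15d901180d9e59 .nil .nil)) (.node 0xbf3f46718b0fdb (.node 0x2cec9a2a316acd .nil .nil) (.node 0xe5b37e0d6851ea .nil .nil))) (.node 0xcae6cc9289a688 (.node 0x1bc8773cf04dc (.node 0x5b256019252925 .nil .nil) (.node 0xd4977cedf82bef .nil .nil)) (.node 0x9c52e4b266ab1a (.node 0x52642b199f135c .nil .nil) .nil))) (.node 0x20254ed735c8bf (.node 0xc7823ba463ac7e (.node 0xb98acd7374b4d7 (.node 0x6a0d4cfd0a8591 .nil .nil) (.node 0x59f3b83cd9c5 .nil .nil)) (.node 0x3e99a676c31b66 (.node 0x2d497cca4a51b9 .nil .nil) .nil)) (.node 0xbcaf4595570cef (.node 0xb28a90c011d293 (.node 0x52c1d13985dcaf .nil .nil) (.node 0xe147990e7df938 .nil .nil)) (.node 0x10aca738ebdfd1 (.node 0x1a59ce0bc1ef03 .nil .nil) .nil))))) (.node 0xc4524d1649e20e (.node 0xa6d2bf45ffa21c (.node 0x8fa62d4136579d (.node 0xae8737d72bc761 (.node 0xcbc1bc33c83d7 (.node 0x7330bcccb84088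 .nil .nil) (.node 0x19fd25c7fc9eea .nil .nil)) (.node 0xcedf02708b446a (.node 0x42f1d45a59f62f .nil .nil) (.node 0xdcf79a3dffeb8f .nil .nil))) (.node 0x9fd6d1339e0a3e (.node 0x5eb4227439b13b (.node 0x64d91fd949f3f1 .nil .nil) (.node 0xd5a7841e93b50a .nil .nil)) (.node 0x6fe0d901d55ff3 (.node 0x30d4303a8d259d .nil .nil) .nil))) (.node 0x139caa97944936 (.node 0xc8d29cb5406e09 (.node 0x2fe40a528b9a5b (.node 0x6530dc9cfe84f8 .nil .nil) (.node 0x95144f88a59a9 .nil .nil)) (.node 0xc8fe9c66b3dac5 (.node 0x5501a469ade4e9 .nil .nil) .nil)) (.node 0xaf1734644ed579 (.node 0x6a5cb2c035850a (.node 0x48045acab6a490 .nil .nil) (.node 0xd3b7724d3a51fd .nil .nil)) (.node 0xa48f18b22cad7a (.node 0x1e6ca05bb2b034 .nil .nil) .nil)))) (.node 0x953ede811d567a (.node 0x39d0960687a311 (.node 0xcc5b0b8308e8b9 (.node 0xc6e601430f68a7 (.node 0x74f87c5c640160 .nil .nil) (.node 0x1ec8868621601 .nil .nil)) (.node 0x57ec415166e433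 (.node 0x2ad1785af8e5ea .nil .nil) (.node 0xe82f956e5ae637 .nil .nil))) (.node 0xb85ec824d515c4 (.node 0x89b285c4b1735b (.node 0x5f4dede95deab2 .nil .nil) (.node 0xd55783fe55a6f7 .nil .nil)) (.node 0x9dfedcd248acf5 (.node 0x479d9c3a9ef82c .nil .nil) .nil))) (.node 0x849a36606e885d (.node 0xa48318842ae9e1 (.node 0x97aa3874975785 (.node 0x26980d09021dc7 .nil .nil) (.node 0xf44cea8c46476 .nil .nil)) (.node 0xbbeaac06f69afb (.node 0x3e1c29ba70a742 .nil .nil) .nil)) (.node 0xbb9adf7520d502 (.node 0xa262d72025958c (.node 0x4fc5da7a806c69 .nil .nil) (.node 0xe54b9f4df9291d .nil .nil)) (.node 0x6eeccc8c4edf59 (.node 0x1bf88cabe22f70 .nil .nil) .nil))))))) (.node 0x7d424925f88df2 (.node 0xc28a4fc5efe243 (.node 0xb5a31a66286152 (.node 0x9976fcf634a1bf (.node 0x471c9740dede06 (.node 0xa90e1257cd0830 (.node 0xcd1f4044cbe6d1 (.node 0x6e91281c57202d .nil .nil) (.node 0x1ea0a3ebbb6ed8 .nil .nil)) (.node 0xa37e6e000b8a9d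 (.node 0x3f1453ea0ab538 .nil .nil) (.node 0xde37925d381495 .nil .nil))) (.node 0xb5fee3347537f8 (.node 0x929eb6d41d58da (.node 0x5d756c997c59d3 .nil .nil) (.node 0x1144eb68c8e488 .nil .nil)) (.node 0xbf2b46a6bb1c34 (.node 0x3d1c3229c074a9 .nil .nil) .nil))) (.node 0x8c7e246199e2b2 (.node 0x831e60d4b7b1f4 (.node 0x9eaa5fb48db74d (.node 0x7ae9062cb742bd .nil .nil) (.node 0x998be88924b4a .nil .nil)) (.node 0x2ca899517a24b3 (.node 0x589d70eb34a9c9 .nil .nil) (.node 0xe65799dd63cc58 .nil .nil))) (.node 0x93aa8c738b9888 (.node 0x87d635d2da7245 (.node 0x35e9af8991110f .nil .nil) (.node 0xd40f55adcf6cd6 .nil .nil)) (.node 0xa02a8f6260acd7 (.node 0x354db79b87dd0c .nil .nil) .nil)))) (.node 0x7f3b2906180fa4 (.node 0x584d7076a5a3b4 (.node 0xa53e82276e86e4 (.node 0x3aac32e3b0f3ff (.node 0x793191ac6a81da .nil .nil) (.node 0x1984e827f7dd26 .nil .nil)) (.node 0xce5647a06ac435 (.node 0x4110091ad54beb .nil .nil) (.node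 0xe16392fd578ab5 .nil .nil))) (.node 0x928ab6a28018d7 (.node 0xc0a270854b10b3 (.node 0x6238a1f9526b47 .nil .nil) (.node 0xd9fb8e3e4aa9a2 .nil .nil)) (.node 0x6ff8d8b26b5fef (.node 0x3071e35b840a9e .nil .nil) .nil))) (.node 0xabaece57848699 (.node 0x970e34146657b3 (.node 0x31d03ae376f1ae (.node 0x666124ccf0859d .nil .nil) (.node 0x24993e86ad527 .nil .nil)) (.node 0xc6f20106ee9bfc (.node 0x29483eaace0d6b .nil .nil) .nil)) (.node 0x9df6dd855c6cbf (.node 0x6980a9501585be (.node 0x4dc9b2cb43f84d .nil .nil) (.node 0xe1339d7e7cb732 .nil .nil)) (.node 0x8e1f22e20bf135 (.node 0x1c316e3bebaf95 .nil .nil) .nil))))) (.node 0xa90611664ee1f5 (.node 0xb042cf7606e22d (.node 0x58517010d1de04 (.node 0xb57a1687b6889f (.node 0xbb1ea9f2f45533 (.node 0x7a20b9fc808282 .nil .nil) (.node 0x15750e08089cc6 .nil .nil)) (.node 0x698ca93083c5bb (.node 0x3ec1a73b1eb761 .nil .nil) (.node 0xe57f687e492a77 .nil .nil))) (.node 0xb8d2f34328372a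 (.node 0xa252d6d562ede6 (.node 0x5a1523892b5a33 .nil .nil) (.node 0xd5bf73fe94f670 .nil .nil)) (.node 0x8e5e22023570d7 (.node 0x4d59db1aa6644c .nil .nil) .nil))) (.node 0xa88a628742c74d (.node 0xb0cebbf3a7f5ff (.node 0xb8e2f3956e4d06 (.node 0x172cb597d48632 .nil .nil) (.node 0x655140824502c .nil .nil)) (.node 0x8719fc6148b2e1 (.node 0x56257299fc6578 .nil .nil) .nil)) (.node 0x96cdf612a59861 (.node 0x98d2442092ce1a (.node 0x39245f8ab3b499 .nil .nil) (.node 0xd5d7900d348b99 .nil .nil)) (.node 0x6c393022239fbd (.node 0x2200ad8c1df047 .nil .nil) .nil)))) (.node 0x9101f510f0184a (.node 0x5295d056802320 (.node 0x80ca472751c917 (.node 0x842f106313f2b9 (.node 0x784c1b0ccf821f .nil .nil) (.node 0xbc204846cefb .nil .nil)) (.node 0xbeff09115d0d76 (.node 0x55b976caf5f4db .nil .nil) (.node 0xe96b4fcdf727db .nil .nil))) (.node 0xb26290b3d9b757 (.node 0x2aa177c4a9324e (.node 0x5ca98db8fb6679 .nil .nil) (.node 0xd27b875d56d384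 .nil .nil)) (.node 0xb06ecfd24f6835 (.node 0x386c595a9638a4 .nil .nil) .nil))) (.node 0x9efafb47aa4798 (.node 0xb8825ac3e7f6b7 (.node 0x4f8ca64e50491 (.node 0x67953ffd1cc531 .nil .nil) (.node 0x122132c8d5a575 .nil .nil)) (.node 0x44703426c95bf3 (.node 0x455c468a437830 .nil .nil) .nil)) (.node 0x939a8c32e5d891 (.node 0x9ff2d1102acb33 (.node 0x2f884f2b1b127f .nil .nil) (.node 0xdd377b3e206d9f .nil .nil)) (.node 0x6d00e9cc4a2057 (.node 0x1ac8249bcaefe1 .nil .nil) .nil)))))) (.node 0x133134d5bae18c (.node 0x132d34c63ee0f2 (.node 0x5de025f5dfa0a8 (.node 0x88ee6780f44a62 (.node 0x13f54d571047c6 (.node 0x564c7a509c470 (.node 0x6ed37b8258050 .nil .nil) (.node 0x20594f8bad7075 .nil .nil)) (.node 0xb4966bc0c7d61c (.node 0x43ddd819a80d02 .nil .nil) (.node 0xe49775dd95cdb0 .nil .nil))) (.node 0xa8b696c4d8ba3a (.node 0x3d59d493f072fd (.node 0x63092c2916a7c6 .nil .nil) (.node 0x10eca898ece598 .nil .nil)) (.node 0x6ff4d8f1f5dfed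 (.node 0x51e050ba2db571 .nil .nil) .nil))) (.node 0x909df79664186d (.node 0x9cae15d4fd3a7e (.node 0x1a11cd6403af0f (.node 0x7200ca3ca00014 .nil .nil) (.node 0x81cee08a1da68 .nil .nil)) (.node 0xbafa93c14494a5 (.node 0x53ec561b731d0a .nil .nil) (.node 0xe7df99ad55cb58 .nil .nil))) (.node 0x4d91b2233118f5 (.node 0x68c9025056460e (.node 0x39ad805b4fa9ab .nil .nil) (.node 0xd61348ad92ca66 .nil .nil)) (.node 0x8eb304a1b0f163 (.node 0x37197b59df76cd .nil .nil) .nil)))) (.node 0x86c33ea0da553b (.node 0x9316d3866b189a (.node 0x837e95b0afc6f0 (.node 0xcb1695c457a7e9 (.node 0x77a8176c7a824d .nil .nil) (.node 0x18b51cb8009e5b .nil .nil)) (.node 0x271183e19524c2 (.node 0x28d5b62ac87975 .nil .nil) (.node 0xdca75d5dbf4a69 .nil .nil))) (.node 0x639553b57e70ee (.node 0x979e3823cb5783 (.node 0x5ce48b997533c5 .nil .nil) (.node 0xd647a1cd5849cb .nil .nil)) (.node 0xb2c2d601c6e916 (.node 0x4e34458b5a8a22 .nil .nil) .nil)))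 (.node 0x34d07073b08d6 (.node 0xa8fa1155657a67 (.node 0xb16a5ea3206bb7 (.node 0x66b549ad1685fd .nil .nil) (.node 0xc1c19e87c905d .nil .nil)) (.node 0xbae293e6fcdb8c (.node 0x40c9e7faba163b .nil .nil) .nil)) (.node 0x2b899d136359ca (.node 0xade2ac80a74db1 (.node 0x2ff40a6b9ef5cd .nil .nil) (.node 0xe2936f4d93547f .nil .nil)) (.node 0x6e44a67c295d7b (.node 0x260011bbf92fd7 .nil .nil) .nil))))) (.node 0x55cc775905e6d (.node 0x94ee7071cd9911 (.node 0xc8ee9d36a322d4 (.node 0x2569eb3777898e (.node 0xaa2a9a3538f7a4 (.node 0x7994834cd4c174 .nil .nil) (.node 0x1640f798125e7b .nil .nil)) (.node 0xa4521460659060 (.node 0x3b5c45fa3cb9ae .nil .nil) (.node 0xe1b3708d3c52c4 .nil .nil))) (.node 0x5f0decf43370bc (.node 0xae733772b5b6df (.node 0x20ece3d93c9ecf .nil .nil) (.node 0xd53f934d309309 .nil .nil)) (.node 0x8ca32061de70e7 (.node 0x50cdab5afca564 .nil .nil) .nil))) (.node 0x7f4a0a3763897d (.node 0xc16ad3154593aa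 (.node 0x88b6e0729471c2 (.node 0x6950f64cea4577 .nil .nil) (.node 0x4c947a8381107 .nil .nil)) (.node 0x3fcde566e6dbdc (.node 0x556c6c8adc23db .nil .nil) .nil)) (.node 0x32fc2df3c3721c (.node 0xd1c700603d43ea (.node 0x37e99aea7d4f81 .nil .nil) (.node 0xd3efa23d22d4c3 .nil .nil)) (.node 0x8bda4e42057151 (.node 0x23a55f6c086ee6 .nil .nil) .nil)))) (.node 0x8a268880e68b7b (.node 0x96073b868fd734 (.node 0xbf8b4473019284 (.node 0xb49e9d4382fa3f (.node 0x79c18f7cde81ae .nil .nil) (.node 0xa8d69185a19de .nil .nil)) (.node 0x85f9fb616232d6 (.node 0x2b5056d9b9cbec .nil .nil) (.node 0xe8a77b4dfba6e5 .nil .nil))) (.node 0x5a2ce1247730a9 (.node 0x9bc31c535a29e0 (.node 0x5e0426490cb456 .nil .nil) (.node 0xdaeb666dbd8ee0 .nil .nil)) (.node 0x6c353061cf1fbb (.node 0x36ed85aa266682 .nil .nil) .nil))) (.node 0x1808b767be47fb (.node 0x782c1a2278c213 (.node 0xbfa3449493d425 (.node 0x5efc23596ad9a1 .nil .nil) (.node 0x13413558b3253c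 .nil .nil)) (.node 0xcbfeb676dcdbb3 (.node 0x4268528b3cae24 .nil .nil) .nil)) (.node 0x3e286694a2b34f (.node 0x66f8bfa0b1c556 (.node 0x33302e2aab3950 .nil .nil) (.node 0xe3235edd8b8ab6 .nil .nil)) (.node 0x6cc53d6c35dcd3 (.node 0x24598c2bdbefa1 .nil .nil) .nil))))))))

/-- Part of `setTab`. -/
noncomputable def setTab_l_l_r_l : Arr ℕ :=
  .node 0xb292d61612226c setTab_l_l_r_l_l setTab_l_l_r_l_r

/-- Part of `setTab`. -/
noncomputable def setTab_l_l_r_r_l : Arr ℕ :=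
  (.node 0x9a8e98560ba25f (.node 0xc21e0e95d7206f (.node 0x12549e35f0e0d4 (.node 0x1130ea8620e144 (.node 0x64a51f862de1a4 (.node 0x88f266f120cdab (.node 0x15fcf737b8c81e (.node 0x53c454c49c99cd (.node 0x707933bc269f9e .nil .nil) (.node 0x1d852b6c057017 .nil .nil)) (.node 0x6924f5d0aa8570 (.node 0x4ce4029ab00f01 .nil .nil) (.node 0xe19388ee1766d9 .nil .nil))) (.node 0xa7561da2703a7a (.node 0xbf0f4622a1501f (.node 0x61707818f67474 .nil .nil) (.node 0x130cf528e652ec .nil .nil)) (.node 0xc8b26806e35b24 (.node 0x3e4c678b384e69 .nil .nil) .nil))) (.node 0x9792389694577c (.node 0xa5de42834c4e84 (.node 0xc1cebe43871486 (.node 0x74b1678cda01c2 .nil .nil) (.node 0x858fad82acb7f .nil .nil)) (.node 0x86cf3ee16ff206 (.node 0x29cc71c9f6b9a4 .nil .nil) (.node 0xe60f8c6d200d58 .nil .nil))) (.node 0xa33e6d447cfa2b (.node 0xb6df1fa36069f2 (.node 0x49a46909d128a4 .nil .nil) (.node 0xd5f384adff69fd .nil .nil)) (.node 0x6da8cf31c85f70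 (.node 0x39f496bb46e5fb .nil .nil) .nil)))) (.node 0xc2df0775c5a29c (.node 0x950ad8869a9913 (.node 0x81827c80c9c9ae (.node 0x8f8316253097fc (.node 0x74307facd08197 .nil .nil) (.node 0x175d4a97d650e6 .nil .nil)) (.node 0xae661c505f1079 (.node 0x3c1c3ccaeeadb1 .nil .nil) (.node 0xe273887d32d263 .nil .nil))) (.node 0xa4561b640e7a69 (.node 0x3ccfdd2b704d8 (.node 0x6430ae99301aa8 .nil .nil) (.node 0xd4175dbe9576b8 .nil .nil)) (.node 0x9a6a6431ace981 (.node 0x31c5bc69ceeacb .nil .nil) .nil))) (.node 0xb0165a7594958 (.node 0xbb8edef2c2106a (.node 0x873a3a2411b264 (.node 0x6708c04d134561 .nil .nil) (.node 0x2a88538544bb1 .nil .nil)) (.node 0x433c2726d55b4b (.node 0x57ddb8ea63a7ac .nil .nil) .nil)) (.node 0x5a955ce3bcb0ae (.node 0xd0cb2a80bf837f (.node 0x4ca973bb101c62 .nil .nil) (.node 0xe4ff7eadb613a2 .nil .nil)) (.node 0x8d8649d1fef141 (.node 0x1ca0763bd7ef55 .nil .nil) .nil))))) (.node 0x6fd3806381e24 (.node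 0x941274e1b398b0 (.node 0x860f3c51008e13 (.node 0x215d51e7ad88a4 (.node 0x5d11612f683da (.node 0x7c00ecccad0339 .nil .nil) (.node 0x14f0b557e81629 .nil .nil)) (.node 0xa2aa3e80459155 (.node 0x3ab033cb7df696 .nil .nil) (.node 0xe20f767e0168e6 .nil .nil))) (.node 0xc152d334dd5532 (.node 0x3f105325667429 (.node 0x5bd8d8195773f4 .nil .nil) (.node 0xd9df6c2dbcd150 .nil .nil)) (.node 0x705d3331ef1fa4 (.node 0x2ef0631a28a700 .nil .nil) .nil))) (.node 0x7f4e0a274b8728 (.node 0xbce601e5014d22 (.node 0x38b1a1f3fcb3ac (.node 0x7191128c9fc2ef .nil .nil) (.node 0x530caf89b933c .nil .nil)) (.node 0xc176d2c13e148d (.node 0x27c4740b262cfe .nil .nil) .nil)) (.node 0x60f16e82aa711a (.node 0x669548d05005f4 (.node 0x46dd816b5323ca .nil .nil) (.node 0xd94b65fd5c9077 .nil .nil)) (.node 0x8e9f04e1e73167 (.node 0x20d8e3cba1ee85 .nil .nil) .nil)))) (.node 0x82c695810dce77 (.node 0x976f08067d17dc (.node 0x8bfb06578a06ed (.node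 0xb54e6f32d3acae (.node 0x7689c50c7400fd .nil .nil) (.node 0x12dc6687719df .nil .nil)) (.node 0x585570619ba4d4 (.node 0x5701c02ac28fb7 .nil .nil) (.node 0xe8176bae0227b7 .nil .nil))) (.node 0x74007ef3ddc190 (.node 0xa23ad7652cf8a2 (.node 0x60a88e296fa80c .nil .nil) (.node 0xd5f78fce4ca929 .nil .nil)) (.node 0xa02e8fd1c06905 (.node 0x4c448feb085ebb .nil .nil) .nil))) (.node 0x18791c47a047b6 (.node 0xbf934455888f87 (.node 0x98f2ff131b381e (.node 0x1384aa77eb0666 .nil .nil) (.node 0x10952988abd45a .nil .nil)) (.node 0xc04a6af7039b75 (.node 0x3c55bd5ae5b52d .nil .nil) .nil)) (.node 0x5b50d472ea70f9 (.node 0xa4d66c80a0cd98 (.node 0x4f043709e2aa26 .nil .nil) (.node 0xdce7992e64373e .nil .nil)) (.node 0x70dcf3ac5a1f90 (.node 0x1b19cb1bf6ef28 .nil .nil) .nil)))))) (.node 0xb7b66535e7a249 (.node 0xb6fe0f25a5e1e2 (.node 0xb1425e65ace174 (.node 0x28544991129e95 (.node 0xac76f1e7c8484e (.node 0xa0229034c3ee7a (.node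 0x7038d94c3c1e3a .nil .nil) (.node 0x1f0921dc13aebb .nil .nil)) (.node 0xafaaa7d0050ab7 (.node 0x4188657a05f915 .nil .nil) (.node 0xddb3918d4fccfe .nil .nil))) (.node 0x8661f9746df2c5 (.node 0x827a7ed4183340 (.node 0x613d6f89781aab .nil .nil) (.node 0x12909e98c10d8d .nil .nil)) (.node 0xb596169220aa84 (.node 0x44440649c250c7 .nil .nil) .nil))) (.node 0xcbd6b5d65aa2c3 (.node 0xa0ce5d94bf751b (.node 0xb4ba9e34fbf907 (.node 0x73dd09ac8c40c6 .nil .nil) (.node 0x6d53bf81ecf45 .nil .nil)) (.node 0x52f49ae180a4a1 (.node 0x2c61a56b6a11a0 .nil .nil) (.node 0xe6e7888d428dbd .nil .nil))) (.node 0x920a6f73919664 (.node 0xcecb02e07e8468 (.node 0x4b6038bb96b575 .nil .nil) (.node 0xd7875dad9cd5d0 .nil .nil)) (.node 0xb2c6d5925a2ce7 (.node 0x35ac482996d205 .nil .nil) .nil)))) (.node 0x910df4a1311841 (.node 0x4ebc36266e6302 (.node 0x7db6ef276906be (.node 0x3ca9dc2458b3e8 (.node 0x13815387fc120 .nil .nil) (.node 0x1830b817de5319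 .nil .nil)) (.node 0x85af3f7189723b (.node 0x2ce899da2f9ea7 .nil .nil) (.node 0xe5c765ed5c4ee5 .nil .nil))) (.node 0xb1ce3fe28976b6 (.node 0xbb0ea94551109b (.node 0x5b98d5094a9a62 .nil .nil) (.node 0xd6738aed8592a8 .nil .nil)) (.node 0x6da4cf92645f72 (.node 0x52482af9a1b545 .nil .nil) .nil))) (.node 0x8b272e877e469f (.node 0xa22ad7446335df (.node 0x60f56e936ff0db (.node 0x6a2d4c4d09c584 .nil .nil) (.node 0xc71f0d84255ba .nil .nil)) (.node 0xcdbf42c6d11b0b (.node 0x2d257cea4cb501 .nil .nil) .nil)) (.node 0x90db38b555d752 (.node 0x65dce5e00ec5d8 (.node 0x2dfdd21983cc9e .nil .nil) (.node 0xdff74fee1c67e2 .nil .nil)) (.node 0x6c1c9cdc39dcbb (.node 0x267de94bc4ef11 .nil .nil) .nil))))) (.node 0xa5be41c6476203 (.node 0x7eaa07e5ffcb0e (.node 0x310de0c1335e67 (.node 0x8a92e8172c4757 (.node 0xbc460573478f52 (.node 0x736cf9ec8742a0 .nil .nil) (.node 0x141d4e37f01332 .nil .nil)) (.node 0x65d0e5c08a85d5 (.node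 0x3d79d5aa55d158 .nil .nil) (.node 0xdf677fad4e147e .nil .nil))) (.node 0x8fb62cf39e979c (.node 0xcd61fee4456922 (.node 0x59995169442792 .nil .nil) (.node 0xd84b4fbe42e7dd .nil .nil)) (.node 0x8b920b923bf0c7 (.node 0x30f0304a8f2779 .nil .nil) .nil))) (.node 0xb25e90f79e8957 (.node 0xa39217554035f2 (.node 0xa9b210c575ec8c (.node 0x6548dc7cfc44e3 .nil .nil) (.node 0x3a507a8865a69 .nil .nil)) (.node 0xbe671356b5dacc (.node 0x5529a389b02d0b .nil .nil) .nil)) (.node 0xacfaf2b450b946 (.node 0xb93e5740994e00 (.node 0x480c5afab737d4 .nil .nil) (.node 0xd3b399bd9b8c62 .nil .nil)) (.node 0x6f310e8229df50 (.node 0x2248d35bb7b027 .nil .nil) .nil)))) (.node 0x317dbb21185c6c (.node 0x8ace4bc15f630c (.node 0xa4ea9f63083573 (.node 0x85d9fbb30cb2d7 (.node 0x75147cac65c158 .nil .nil) (.node 0xad47ea866536d .nil .nil)) (.node 0xbd730d61568d5d (.node 0x2ad578faf97777 .nil .nil) (.node 0xe9cb6d9e36e8cf .nil .nil))) (.node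 0x975b0824d497e3 (.node 0x2dd5d184ae9866 (.node 0x269c0d195c1df7 .nil .nil) (.node 0xd2bb550d280ef9 .nil .nil)) (.node 0x9c56e4724666d8 (.node 0x38c9a2aa9a24ec .nil .nil) .nil))) (.node 0x9b6a1d6724c87f (.node 0xb90a57642c765e (.node 0xc4defc495048e (.node 0x6005ea890aed47 .nil .nil) (.node 0x11d93f08d014d7 .nil .nil)) (.node 0x3b69c126f2db04 (.node 0x3b344bda46e49f .nil .nil) .nil)) (.node 0x954ede651ed678 (.node 0x9dbead90254de5 (.node 0x4f99da1a8134c6 .nil .nil) (.node 0xdfab965daa12ae .nil .nil)) (.node 0x6f690f5c301d48 (.node 0x24ec896be6ef6b .nil .nil) .nil))))))) (.node 0x5f641275f7e0de (.node 0xb2d672e5ece23e (.node 0x7ee325662a8f56 (.node 0xd78c4463321c2 (.node 0x7f8e28f0dd04c7 (.node 0x7deb03d7cfc82b (.node 0x86233c34c9b221 (.node 0x11e526c8d5602a .nil .nil) (.node 0x22dcd66bbdaec5 .nil .nil)) (.node 0xd192ec20098401 (.node 0x2e81a98a0c8d82 .nil .nil) (.node 0xe0e3816df7ebc3 .nil .nil))) (.node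 0x4df0448471b19e (.node 0x55a976541c1a15 (.node 0x5c287ad8f2e888 .nil .nil) (.node 0xee91138d494be .nil .nil)) (.node 0x4d9db256b75c3d (.node 0x3a6dde9b634db4 .nil .nil) .nil))) (.node 0xcdc1ffa65422aa (.node 0x42e9d334b51982 (.node 0x35d07348903a7 (.node 0x7b11065cb6c2ab .nil .nil) (.node 0x400fea88f1963 .nil .nil)) (.node 0xba36b861770ea8 (.node 0x2745842b2ee5ae .nil .nil) (.node 0xe72f97bd8b4e0b .nil .nil))) (.node 0x1fc4afb38aee9f (.node 0x51186382d799ff (.node 0x3625afe991ed5e .nil .nil) (.node 0xd803693d4bca1b .nil .nil)) (.node 0xa32ea472602bae (.node 0x4bcdbecb8f5189 .nil .nil) .nil)))) (.node 0xcac1c36141efd (.node 0xccdf11c6aee3a8 (.node 0x18691c276a86dd (.node 0xaed21893b8ceb8 (.node 0x7925920c6ac1e7 .nil .nil) (.node 0x13b0abd7ebd4ba .nil .nil)) (.node 0x6518dc2069c4f1 (.node 0x4140094ad5a776 .nil .nil) (.node 0xe22f4a1d75ca03 .nil .nil))) (.node 0x470897727eb29e (.node 0xb19efa854b770a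 (.node 0x6248a1d95133b2 .nil .nil) (.node 0xd42f55de9234b2 .nil .nil)) (.node 0x9d2ada41a56834 (.node 0x3055e36b867657 .nil .nil) .nil))) (.node 0xa312a49786c694 (.node 0x3181bb546499b0 (.node 0xa73a7ac40c2c3a (.node 0x69b0aa5d0f45c5 .nil .nil) (.node 0xb4d66e86f9431 .nil .nil)) (.node 0xba2ab7c6f05c03 (.node 0x292c3f1ad0b554 .nil .nil) .nil)) (.node 0xaba2cf055e7491 (.node 0xd01608a0b8c364 (.node 0x32944c6b41799b .nil .nil) (.node 0xe55371cd434b1a .nil .nil)) (.node 0x6b04c2b209dffe (.node 0x255d6afbecef83 .nil .nil) .nil))))) (.node 0x7d7a56064ccdbe (.node 0x1325350602a22b (.node 0x83f62a61080c94 (.node 0x8910a07b34889 (.node 0xa7761df2f4f7a9 (.node 0x7a4cb9cc82c27f .nil .nil) (.node 0x17c14177db4ff0 .nil .nil)) (.node 0x9e4a1b104b8bb7 (.node 0x3e8c514b1c39bb .nil .nil) (.node 0xdecf715d9a4be7 .nil .nil))) (.node 0x30b42fa3247459 (.node 0x87ce3585627247 (.node 0x20e91da92a9e9f .nil .nil) (.node 0xd9db5e3d78cb19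 .nil .nil)) (.node 0xb3c6f8d23329b4 (.node 0x4d85db8aa8ed3c .nil .nil) .nil))) (.node 0x8cd60cf743873c (.node 0x45244663a35926 (.node 0x9ccf354570b8f8 (.node 0x6889004ce2062d .nil .nil) (.node 0x72538e8284c48 .nil .nil)) (.node 0x2b1856a145a44b (.node 0x562d7239fd7816 .nil .nil) .nil)) (.node 0x1541562a384db (.node 0xa07a3c40930fcc (.node 0x366c6fba1a0b6a .nil .nil) (.node 0xd5279fed8893ff .nil .nil)) (.node 0xb972f0f1ebe858 (.node 0x1f74dfdc1bb05b .nil .nil) .nil)))) (.node 0x4c757310ebddd7 (.node 0xcc530b3678a341 (.node 0x17b140e74c091d (.node 0x57e0418311333e (.node 0x786c1b8cccc216 .nil .nil) (.node 0xce01c784acbe2 .nil .nil)) (.node 0x887eae715b332a (.node 0x28944a0a656673 .nil .nil) (.node 0xe8b7625e1be915 .nil .nil))) (.node 0x29483c3d5840b (.node 0xaaf2b155245390 (.node 0x5c8d8da8fcf3a4 .nil .nil) (.node 0xd8db86ddfb2ab4 .nil .nil)) (.node 0x6e7126e24aa036 (.node 0x382857da93f9f0 .nil .nil)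 .nil))) (.node 0x7ec725f7ab878f (.node 0x53617dc3e359fd (.node 0xc00ea104efcd57 (.node 0x68350c9ce7c529 .nil .nil) (.node 0xe30db08bc8da6 .nil .nil)) (.node 0xccb62b86bf9b9a (.node 0x44f1accae8a502 .nil .nil) .nil)) (.node 0x7053822e38457 (.node 0x6984a8f02905bc (.node 0x2fc44f4b1ba6da .nil .nil) (.node 0xdcff9d5e657942 .nil .nil)) (.node 0x6bb918cc219efb (.node 0x26e00e7bcc2ff4 .nil .nil) .nil)))))) (.node 0x97763792221779 (.node 0xc3560c25a1a1d9 (.node 0xaeff3455b16165 (.node 0x942276e0f658bb (.node 0xaf0b34971807e7 (.node 0xa56abec2f67a1b (.node 0x713915bc968042 .nil .nil) (.node 0x21351f2ba9b064 .nil .nil)) (.node 0x693cf5c0c48571 (.node 0x43d5d8b9a8def2 .nil .nil) (.node 0xe067a65e4a6ad8 .nil .nil))) (.node 0xcb466154e4ad34 (.node 0xc9027dc3fb27d6 (.node 0x62fd2ce915ee3e .nil .nil) (.node 0x10356398b05472 .nil .nil)) (.node 0x8af24c1218b097 (.node 0x41f1a829ea1236 .nil .nil) .nil))) (.node 0x2b145656622392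 (.node 0xb82284a5072bd7 (.node 0xbf9744d4f554e8 (.node 0x6e8c8c825c002 .nil .nil) (.node 0x580c7e8a51182 .nil .nil)) (.node 0x89529b914171e7 (.node 0x2c145d4b6f55db .nil .nil) (.node 0xe6a7917d780cf1 .nil .nil))) (.node 0x982ac0a3384a25 (.node 0xcf4e26807844a0 (.node 0x397d802b50f6c4 .nil .nil) (.node 0xd7af7c5d88cbfd .nil .nil)) (.node 0x6e7d2741aea038 (.node 0x493179f9d88d1f .nil .nil) .nil)))) (.node 0x9462bd90db96af (.node 0x4a8842e66822ed (.node 0x9a0ac58791c713 (.node 0xa7af1d245735d4 (.node 0x76d814dc7f026f .nil .nil) (.node 0x148d5777e3d4a1 .nil .nil)) (.node 0xbcb34561918fc2 (.node 0x53209b6a3523ff .nil .nil) (.node 0xde5b5d3e74f7d7 .nil .nil))) (.node 0xa92a11d57bab33 (.node 0xaac7db3c8c4dd (.node 0x63412fe92166e4 .nil .nil) (.node 0xdadf66ee51ac84 .nil .nil)) (.node 0xb13279c1c42bed (.node 0x4e3c45db5a1e45 .nil .nil) .nil))) (.node 0x860200608208de (.node 0xc60741458fee4d (.node 0xb73b30532235ae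 (.node 0x66d5498d1405eb .nil .nil) (.node 0x18415c8818a18 .nil .nil)) (.node 0x41606516f89b91 (.node 0x40cde76ab99c9b .nil .nil) .nil)) (.node 0xae0adca36bd391 (.node 0x9fae78e0a7955b (.node 0x50200c1b989577 .nil .nil) (.node 0xdc8b5cce76b7bc .nil .nil)) (.node 0x6e30a63c2a201c (.node 0x1b84214bfe2fcb .nil .nil) .nil))))) (.node 0xc2572dd59be137 (.node 0xa3466d75ca2283 (.node 0x92ea74c6a0d6bb (.node 0xa12af95730077e (.node 0x1c256d15362f9d (.node 0x7b50fd4cbec078 .nil .nil) (.node 0x16fcc197d14dd9 .nil .nil)) (.node 0x99a6fcc066ca1e (.node 0x45d5b4ca3a6c49 .nil .nil) (.node 0xe3874e6da210f4 .nil .nil))) (.node 0xcd2f40839ba98c (.node 0x7b28fbd2b24072 (.node 0x5958b1b93959d7 .nil .nil) (.node 0xd3af9ade9f7651 .nil .nil)) (.node 0x6ce8e8e1dc205e (.node 0x50d5abdafdb970 .nil .nil) .nil))) (.node 0x1a7024475fc975 (.node 0x9516d7c5435921 (.node 0x4fec0bf291da43 (.node 0x6960f6cce88567 .nil .nil) (.node 0x8d90af83650d6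 .nil .nil)) (.node 0xcbb2e7c70c5c12 (.node 0x558c6caaddea89 .nil .nil) .nil)) (.node 0xc9e280644babe8 (.node 0x6500dc303cc4f0 (.node 0x38219afa7da7bd .nil .nil) (.node 0xd24b7a5e9e35db .nil .nil)) (.node 0x995640a2062d29 (.node 0x1e012e2c0e2ef2 .nil .nil) .nil)))) (.node 0x93d6d250e956db (.node 0x3fc9e5468d236b (.node 0x968f3962fed710 (.node 0xca4a8733826b64 (.node 0x78b886ac638151 .nil .nil) (.node 0x32190c85d8c7d .nil .nil)) (.node 0x28504941606445 (.node 0x2b2c5769bc76bf .nil .nil) (.node 0xe9537a9ddaa67b .nil .nil))) (.node 0xa8e29704cfaaef (.node 0x8a0687d359f190 (.node 0x60480f5911a935 .nil .nil) (.node 0xd957839e506d8d .nil .nil)) (.node 0xb4d29d62422d06 (.node 0x4a51756a2023d0 .nil .nil) .nil))) (.node 0x8aa2e8e720885b (.node 0xc8c69cc426a933 (.node 0x8f2631c491576d (.node 0x5ef823196a9aaa .nil .nil) (.node 0xdbcc578e1d2d4 .nil .nil)) (.node 0xbf834436df1bba (.node 0x4364281a72a5c7 .nil .nil)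 .nil)) (.node 0xafda3dd5184c54 (.node 0xb0be8ec01f15a5 (.node 0x3131e12a8463cc .nil .nil) (.node 0xdc13520ddb6ac9 .nil .nil)) (.node 0x6ca53d2c36a042 (.node 0x1d0d893bdf6fba .nil .nil) .nil))))))))

/-- Part of `setTab`. -/
noncomputable def setTab_l_l_r_r_r : Arr ℕ :=
  (.node 0xf28cd85d2e063 (.node 0x7d464975d00c8d (.node 0xc4464db5f5a0dd (.node 0xc51e4b6625e146 (.node 0xb6f20ff630a1aa (.node 0x9542dea12a1681 (.node 0xb1de4057bbc816 (.node 0xcca22ba4a0eb24 (.node 0x6ddcd05c2f1f66 .nil .nil) (.node 0x23495c5c017007 .nil .nil)) (.node 0xa1927240acc9ce (.node 0x5189985a1414e2 .nil .nil) (.node 0xdf8f511e6978a8 .nil .nil))) (.node 0x96b9f5b272985e (.node 0xb9d28a929bb8a7 (.node 0x1cd879f8f01d37 .nil .nil) (.node 0xd5119d8b88d5c .nil .nil)) (.node 0xbaca9397095ae4 (.node 0x4605d73b614fcd .nil .nil) .nil))) (.node 0x511063565162a7 (.node 0xafc23e3355762b (.node 0xb36e5bf487b748 (.node 0x72a1434cb042cd .nil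 .nil) (.node 0x464bb082f4b65 .nil .nil)) (.node 0x28b5b5117425b6 (.node 0x2a0072c9f8e3f2 .nil .nil) (.node 0xe77f5a5d74506b .nil .nil))) (.node 0xb1d6406481785e (.node 0x83da2a52e0f255 (.node 0x37906a99d637ad .nil .nil) (.node 0xdb2377cd97d1cd .nil .nil)) (.node 0x9d2ed9d1cae71d (.node 0x4730980b4d52f8 .nil .nil) .nil)))) (.node 0x9d8ead761ea09c (.node 0x3a39ddf6abe39e (.node 0x9f8278777209b7 (.node 0x29d47233b6981f (.node 0x7565656c6cc1fe .nil .nil) (.node 0x169104381550ff .nil .nil)) (.node 0xce4a4810714434 (.node 0x44b4352af2e997 .nil .nil) (.node 0xde3b923de1ae26 .nil .nil))) (.node 0x9f8a792431f957 (.node 0xc0626a12bbcfec (.node 0x5a48e1d936b3d7 .nil .nil) (.node 0xd4e3a41d9d0a4b .nil .nil)) (.node 0x6e7926d1a1a037 (.node 0x5095e47b82e7ce .nil .nil) .nil))) (.node 0xb2aed5f75cc966 (.node 0xa0e65d12c7b897 (.node 0x2bd45d3409b1cf (.node 0x65e8e69cf605e2 .nil .nil) (.node 0xa1481e84fcb97 .nil .nil))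 (.node 0xc6fa00d6d75b3f (.node 0x27fdb1ca5e7668 .nil .nil) .nil)) (.node 0x9ec65f73bfabf8 (.node 0x65c0e570b7c5d7 (.node 0x3255c31b3ff6ac .nil .nil) (.node 0xdc235f9d385403 .nil .nil)) (.node 0x8b432ec2127125 (.node 0x23ec798bd3ef45 .nil .nil) .nil))))) (.node 0xa11af9963ae10a (.node 0x985e7bc5daa0bc (.node 0x2a406d1105de1d (.node 0xac2e5867b008b4 (.node 0xc0927132fa954b (.node 0x7278c6fcaa8312 .nil .nil) (.node 0x18fcdec8031611 .nil .nil)) (.node 0x65cce5904985da (.node 0x4291951b2335bd .nil .nil) (.node 0xdd6b571dafcc99 .nil .nil))) (.node 0x945276b32bd8bd (.node 0xb0ae8e75692df6 (.node 0x63a553c92873b7 .nil .nil) (.node 0xd4076a2d71519b .nil .nil)) (.node 0x9b4733e1f32b6b (.node 0x33b5e04aa1ebf6 .nil .nil) .nil))) (.node 0x88d66120af873f (.node 0xadfadbc3ad7937 (.node 0xb7929a03fe4bd6 (.node 0x7cf1372c9942f8 .nil .nil) (.node 0x78cf138971355 .nil .nil)) (.node 0x8565fa014f32f1 (.node 0x58d892eb2b7890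 .nil .nil) .nil)) (.node 0xb54a6e62ad6b62 (.node 0xb6eb1f70518d80 (.node 0x49dc91ba18ce35 .nil .nil) (.node 0xd26f878e29e87a .nil .nil)) (.node 0x6cece8c1e92059 (.node 0x1ff4b0bba5ee95 .nil .nil) .nil)))) (.node 0x914aa000fc969a (.node 0x2848495674e335 (.node 0x9f46bb67540906 (.node 0xad2e83e2cf349b (.node 0x7741c86c71c0e4 .nil .nil) (.node 0xbc1c9287299f7 .nil .nil)) (.node 0xc1b278019e4bf5 (.node 0x582441da68907c .nil .nil) (.node 0xe89f6d5dd6272b .nil .nil))) (.node 0xa59ec653df2c1a (.node 0x41b5a7b522969c (.node 0x61dd8aa9012d98 .nil .nil) (.node 0xd697982e90356e .nil .nil)) (.node 0xa21a91f255e847 (.node 0x48dc60ba905da0 .nil .nil) .nil))) (.node 0xab6b1ec7a287af (.node 0xb74330b3ed77e0 (.node 0x768f0a4eb0490 (.node 0x6ad555ad02467b .nil .nil) (.node 0xfc8d158ea0bdf .nil .nil)) (.node 0x2a4c6d06bcdbaa (.node 0x44bc45ea4139af .nil .nil) .nil)) (.node 0x9e361a82ed6cde (.node 0xb2869100314b4c (.node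 0x32003b89e73879 .nil .nil) (.node 0xe05b6a6d9f0eb1 .nil .nil)) (.node 0x1110ea38c7a006 (.node 0x25b5ebdbf2ef38 .nil .nil) .nil)))))) (.node 0x812b01e5b6d3dc (.node 0xebd10059ca1ca (.node 0x3bcfdb5ae5e0d (.node 0x826e7f0113cf77 (.node 0x187d1c5716c7eb (.node 0xaca259a515764a (.node 0x6c71317c451e09 .nil .nil) (.node 0x218552fc17aeab .nil .nil)) (.node 0x9dc2ade0ce5634 (.node 0x3ce9dd29a767f4 .nil .nil) (.node 0xdf23997e7ab95c .nil .nil))) (.node 0x5ba8d784df7178 (.node 0x42d1d313f6b2ed (.node 0x5add5d091919d1 .nil .nil) (.node 0xe9d5a38ddd31d .nil .nil)) (.node 0x6b00c29216e005 (.node 0x3fa59609ee921e .nil .nil) .nil))) (.node 0x972233465f97ad (.node 0x794c8225054177 (.node 0x1c08764f103a4 (.node 0x7bb4f01ca48028 .nil .nil) (.node 0x5e917081a4f2c .nil .nil)) (.node 0xbdb632c185d2d3 (.node 0x545d9f8b6b4a39 .nil .nil) (.node 0xe797543d5bce88 .nil .nil))) (.node 0x4599b3b336d99e (.node 0x668948c07705ef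 (.node 0x34c040ab92f59d .nil .nil) (.node 0xd8a36e2e873543 .nil .nil)) (.node 0x8aaee881b77173 (.node 0x4ac043699291ec .nil .nil) .nil)))) (.node 0x7d024860d683f7 (.node 0xcb92e70672a304 (.node 0x24318b378fc705 (.node 0xc89a67d45da7d7 (.node 0x75c9f1dcc34137 .nil .nil) (.node 0x15bd01480b5301 .nil .nil)) (.node 0x2c49a4918ee5b0 (.node 0x2cfc9a7a33b9de .nil .nil) (.node 0xe523916d974d01 .nil .nil))) (.node 0x42d5d305791835 (.node 0x8f323193d1976b (.node 0x5b0d60a924ac5f .nil .nil) (.node 0xd7d3943d6ccb64 .nil .nil)) (.node 0x8be24ec2697152 (.node 0x32d84d9b561e2d .nil .nil) .nil))) (.node 0x7d0e48973908c6 (.node 0x61a989e58a709c (.node 0xccd31153752da8 (.node 0x690d02fcec4607 .nil .nil) (.node 0x4df3e83dd5d3 .nil .nil)) (.node 0xbf9f4446c79b5d (.node 0x53717e9a50f4fc .nil .nil) .nil)) (.node 0x50b9aa936a7478 (.node 0xb0fabc3010d261 (.node 0x52cdd169854b50 .nil .nil) (.node 0xdea781cdc928a2 .nil .nil))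 (.node 0x6fa5588c421fd7 (.node 0x1a51ce5bc0ef01 .nil .nil) .nil))))) (.node 0xd84c455972128 (.node 0x60e16ea5c7e27c (.node 0x81dac1b1350eab (.node 0x140d4d472ec779 (.node 0xa6debf3340b751 (.node 0x732cbd5cbbc09a .nil .nil) (.node 0x19d12647f9134b .nil .nil)) (.node 0xd0c32ae08b0384 (.node 0x431dd44a57d41f .nil .nil) (.node 0xe0d3818e72f775 .nil .nil))) (.node 0x459db3f396f40e (.node 0x85c9fb843cb2d8 (.node 0x64c52019472668 .nil .nil) (.node 0xd27379fdc829b3 .nil .nil)) (.node 0x8d4f2c01d7f0f7 (.node 0x2f3999cb01f974 .nil .nil) .nil))) (.node 0x7e3a26d799c92e (.node 0x9d829d5540fa3e (.node 0x838ab5328e31d2 (.node 0x6a8cb37d0484fe .nil .nil) (.node 0x94944e88ada81 .nil .nil)) (.node 0x27e5b0c70b1c27 (.node 0x2bcd9da9b4acfa .nil .nil) .nil)) (.node 0x277473a44717ef (.node 0xd1db002036c3eb (.node 0x4889a12a796ba1 .nil .nil) (.node 0xd46794cd40d3cd .nil .nil)) (.node 0x995a40f22e2c21 (.node 0x1e44a03bb3b037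 .nil .nil) .nil)))) (.node 0x87e236511b90a3 (.node 0x91a269a689d8fd (.node 0x9e4e14b2dcba63 (.node 0x73ad08b37e40c0 (.node 0xafc85486d813b .nil .nil) (.node 0x1e8887861d386 .nil .nil)) (.node 0x8685f93168b2c6 (.node 0x54cc5be9b928a1 .nil .nil) (.node 0xe97b95ae1829c3 .nil .nil))) (.node 0x31d43aa4ccd66e (.node 0x9af612b4b12a6b (.node 0x5f59eda95c9a79 .nil .nil) (.node 0xd6d757ee9d76eb .nil .nil)) (.node 0x6e7527323da039 (.node 0x47a59cea9e64fe .nil .nil) .nil))) (.node 0x4e8ca871d0855 (.node 0x5aed5ff421712e (.node 0xbc0f47c499d40c (.node 0x5dadcff904aaf3 .nil .nil) (.node 0xf54ced8c5ca90 .nil .nil)) (.node 0xca7e8756f49af1 (.node 0x3df829fa6e65d9 .nil .nil) .nil)) (.node 0x37117ab5169953 (.node 0x6938f5601b856f (.node 0x30fc001a82b9b3 .nil .nil) (.node 0xe36360fd479187 .nil .nil)) (.node 0x6f14cd4c4d5f28 (.node 0x1be08cbbe2ef7b .nil .nil) .nil))))))) (.node 0xadb2acc5f8e0e8 (.node 0xb0d65d5e45ca5 (.node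 0x5ba4d755a3e1db (.node 0xc3460c963721c6 (.node 0x9075f7f0e19874 (.node 0x87b235506ec842 (.node 0x61ad89f4c0715c (.node 0x6ead275c555ca2 .nil .nil) (.node 0x1ec0a38bb9aed5 .nil .nil)) (.node 0x6920f57001856e (.node 0x3f44547a09ee16 .nil .nil) (.node 0xdf379d0e7bf706 .nil .nil))) (.node 0xb336b9e473560d (.node 0xb3b6f8141dcdb8 (.node 0x5d5d6cc97eea08 .nil .nil) (.node 0x1174eb88ca4aaa .nil .nil)) (.node 0xcc323076b99c28 (.node 0x3d303239be10df .nil .nil) .nil))) (.node 0x489c606656e2b4 (.node 0xb71e0f64b7e79f (.node 0xbaa6d5148dcbd8 (.node 0x7ab9468c8a00a2 .nil .nil) (.node 0x9bcbef893994b .nil .nil)) (.node 0x89569c017d71e2 (.node 0x5865712b340d83 .nil .nil) (.node 0xe68359bd45ced6 .nil .nil))) (.node 0xba22b8338d4ba5 (.node 0xb9aacd92d9eb73 (.node 0x4b29ba39899dd2 .nil .nil) (.node 0xd82ba03d8b0a7d .nil .nil)) (.node 0x6da0cf22575f71 (.node 0x3541b72b881128 .nil .nil) .nil)))) (.node 0xb7fa84e6186090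 (.node 0x97e312b6a7180d (.node 0xadbaace76c06e1 (.node 0xa98610d3b4f5f6 (.node 0x7811ef0cc5010a .nil .nil) (.node 0x196ce847f4d4d3 .nil .nil)) (.node 0xa40f1b206ccf98 (.node 0x404c074ad8b55e .nil .nil) (.node 0xe5338a4d525279 .nil .nil))) (.node 0xb8a25b528054b5 (.node 0x838fa454d0373 (.node 0x2288d3e94a1f2e .nil .nil) (.node 0xd7d7942db4928e .nil .nil)) (.node 0xb65eb2226d2b09 (.node 0x2d8c2ca99d753f .nil .nil) .nil))) (.node 0x179940f77c06a8 (.node 0xabfa8b94661548 (.node 0x98527b837b761a (.node 0x665524dcf3c5ae .nil .nil) (.node 0x24193c86b144a .nil .nil)) (.node 0x58a892d6cfdb1e (.node 0x57483a5accb559 .nil .nil) .nil)) (.node 0x99665a75347a4f (.node 0x9feed0d018527a (.node 0x4dbdb28b42e50c .nil .nil) (.node 0xdfb35b3e136ca9 .nil .nil)) (.node 0xa9ff31e20d2c20 (.node 0x1c416d9be8ef93 .nil .nil) .nil))))) (.node 0x95c602b20ed731 (.node 0xc4c222f607e232 (.node 0x953addc0d5967c (.node 0x8cda0d57b4088e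 (.node 0x8c1f034303d6 (.node 0x888f89833028c .nil .nil) (.node 0x155d0d58085009 .nil .nil)) (.node 0xcec3023084c46b (.node 0x3ec9a70b1de501 .nil .nil) (.node 0xe0175c4d594b35 .nil .nil))) (.node 0x9cd335b3260a88 (.node 0x34983f8440f1fe (.node 0x59e523792dec7f .nil .nil) (.node 0xd87b500de52ca6 .nil .nil)) (.node 0x6f350ea236df4b (.node 0x4f6c012a8ae768 .nil .nil) .nil))) (.node 0x147156a79a4953 (.node 0xccef1163a867c4 (.node 0x2de9d1b5729a44 (.node 0x67f0b62d198636 .nil .nil) (.node 0x669143823cc2e .nil .nil)) (.node 0xbc7605314ad086 (.node 0x29a1829a01b81c .nil .nil) .nil)) (.node 0xbfc60372a853da (.node 0x651cdc0097c4eb (.node 0x394c5f5ab22a8c .nil .nil) (.node 0xd47b8d7da5ccc9 .nil .nil)) (.node 0xaea33742262d8b (.node 0x21e8acbc1fb04b .nil .nil) .nil)))) (.node 0x85edfb70ed55b6 (.node 0x945676d68398b3 (.node 0x9a9a98074e8919 (.node 0xa812b3931367d5 (.node 0x762c1dfcca4237 .nil .nil) (.node 0xac1f88464bc9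 .nil .nil)) (.node 0x55a1760153e4ee (.node 0x55e5774af4abc5 .nil .nil) (.node 0xe837590de5a8ab .nil .nil))) (.node 0xbcd601d3da51bf (.node 0x932ad3b4aa98a6 (.node 0x5e7dcc2964b3d6 .nil .nil) (.node 0xd6ef5bbe9a348c .nil .nil)) (.node 0xb30273424cabbf (.node 0x386458aa9524a3 .nil .nil) .nil))) (.node 0x22f95b27238871 (.node 0xa3fb1b93e5ed62 (.node 0xb89a5ad4e97891 (.node 0x676d408d1f4547 .nil .nil) (.node 0x122d3248d95305 .nil .nil)) (.node 0xbd570d26cc9bea (.node 0x455046fa42a4b1 .nil .nil) .nil)) (.node 0xba16b7e2e7cd3c (.node 0xafaea7702b1326 (.node 0x5148640b145d9c .nil .nil) (.node 0xe393931db45248 .nil .nil)) (.node 0x6d3cea0c48ddf3 (.node 0x1abc252bc82fe4 .nil .nil) .nil)))))) (.node 0xa75e1eb5bde187 (.node 0xa45f18c641a0f5 (.node 0x7fb22915e055c8 (.node 0x37d19a70ff5e96 (.node 0x7d52568715c7c3 (.node 0xa9db31b50e3912 (.node 0x7c693abc92c062 .nil .nil) (.node 0x2069501badb074 .nil .nil)) (.node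 0xce8eee20c60454 (.node 0x4684048b775ca8 .nil .nil) (.node 0xe4a361ed7490c2 .nil .nil))) (.node 0x56cc7b4d8c3a1 (.node 0x8a128793f2f19a (.node 0x6290a4a95b2d04 .nil .nil) (.node 0x10f8a7e8ee8bc6 .nil .nil)) (.node 0x9e8336e1f96a0e (.node 0x520450fa2b12b2 .nil .nil) .nil))) (.node 0xc91a7e3666639b (.node 0x9d88094fd4472 (.node 0x97f71284045810 (.node 0x7204c9fca38019 .nil .nil) (.node 0x80cee28a0919a .nil .nil)) (.node 0x566c941138e527 (.node 0x5400552b74eaed .nil .nil) (.node 0xe70b54dd275039 .nil .nil))) (.node 0xb31eba833536c1 (.node 0xa67e4320598b04 (.node 0x39bc959b45b9eb .nil .nil) (.node 0xd2df913deeae72 .nil .nil)) (.node 0x8d332c71b130f3 (.node 0x37457b99dccd05 .nil .nil) .nil)))) (.node 0x3041e2610cdd16 (.node 0xc665fe166d22f9 (.node 0xc39ef978906e9 (.node 0x27f1b0b2d099e4 (.node 0x77b417ac788244 .nil .nil) (.node 0x18911d47fed489 .nil .nil)) (.node 0x887aaf31973325 (.node 0x28cdb5cac94f83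 .nil .nil) (.node 0xe4e78bbd9c4ae8 .nil .nil))) (.node 0x8a0a87f5817191 (.node 0xbfa744a3cd49d8 (.node 0x5cf88ba97568cd .nil .nil) (.node 0xda5f6bcdd327b9 .nil .nil)) (.node 0x6daccf81bb5f73 (.node 0x33f0716b06754e .nil .nil) .nil))) (.node 0xb68220073d88ed (.node 0xb85c8e58403f3 (.node 0x9a326373167a2e (.node 0x65b91c0cf8c64e .nil .nil) (.node 0xc0819387d09fe .nil .nil)) (.node 0xc9bec466fbdb87 (.node 0x3fe5e64ac03624 .nil .nil) .nil)) (.node 0xaa9ee2d368350f (.node 0x6998a9409e05bf (.node 0x301c0b5b9dac79 .nil .nil) (.node 0xe43f7b6deb265e .nil .nil)) (.node 0x6d7d626c521f7c (.node 0x2618111bfa2fdb .nil .nil) .nil))))) (.node 0x7f2f29d594c9c2 (.node 0xe495975c12298 (.node 0x8b1622314522d7 (.node 0x8156ed277b8998 (.node 0xbf4204b5389347 (.node 0x798882ccd58180 .nil .nil) (.node 0x1620f7c8104dbf .nil .nil)) (.node 0x6504dc105cc4ea (.node 0x3b95c1da3f78ed .nil .nil) (.node 0xe4ab4d7df2ace8 .nil .nil)))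 (.node 0x859b3f64367232 (.node 0xcadaccf2b62a29 (.node 0x6484e4b9406ae3 .nil .nil) (.node 0xdbbf909e21ec22 .nil .nil)) (.node 0xafe63df1df6a96 (.node 0x4eadae79ca2e36 .nil .nil) .nil))) (.node 0x8d132c87614979 (.node 0x216151d2beeeaf (.node 0xa7cf1d5293a7b0 (.node 0x17fcb727dd8548 .nil .nil) (.node 0x4b548283ad0be .nil .nil)) (.node 0xbb96dfa6eb5bd3 (.node 0x2a946e2ae26e15 .nil .nil) .nil)) (.node 0x8976c9c3c671b3 (.node 0x99a2fc103f9201 (.node 0x348d876b0fa61a .nil .nil) (.node 0xda4368fd6f8ae7 .nil .nil)) (.node 0x70593351fc1fab (.node 0x239d5f2c0a2ee2 .nil .nil) .nil)))) (.node 0x403406b1205e7e (.node 0xcaaa8966902372 (.node 0x472497934ab44d (.node 0x8a909c38304a4 (.node 0x79c58eecdf81b8 .nil .nil) (.node 0xa6d69e8590c63 .nil .nil)) (.node 0xbaf29381655101 (.node 0x56a09559f31cca .nil .nil) (.node 0xe9e34dbdc02771 .nil .nil))) (.node 0x88bee0147a31c7 (.node 0x4fd80bc35dd75d (.node 0x5e2026e90eee0b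 .nil .nil) (.node 0xdae7a43d79150e .nil .nil)) (.node 0x8ac6e841d23175 (.node 0x36c5861a2463e2 .nil .nil) .nil))) (.node 0x8d6249e7c2c7f3 (.node 0x873239e27af267 (.node 0x25116a629eaf8e (.node 0x5f9812c968b410 .nil .nil) (.node 0x13713598b40d75 .nil .nil)) (.node 0x510c6346e11b36 (.node 0x4244523b3aa4c4 .nil .nil) .nil)) (.node 0xa53a8254a67731 (.node 0xb55e6ea0b391b7 (.node 0x33382eaaaa6579 .nil .nil) (.node 0xdcaf5cbe4a2a45 .nil .nil)) (.node 0x6b30c33c5edff9 (.node 0x24518bdbdb6faa .nil .nil) .nil))))))))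

/-- Part of `setTab`. -/
noncomputable def setTab_l_l_r_r : Arr ℕ :=
  .node 0x91469f81cdd689 setTab_l_l_r_r_l setTab_l_l_r_r_r

/-- Part of `setTab`. -/
noncomputable def setTab_l_l_r : Arr ℕ :=
  .node 0x80ea4736129458 setTab_l_l_r_l setTab_l_l_r_r

/-- Part of `setTab`. -/
noncomputable def setTab_l_l : Arr ℕ :=
  .node 0x5c658cd60fa26a setTab_l_l_l setTab_l_l_r

/-- Part of `setTab`. -/
noncomputable def setTab_l_r_l_l_l : Arr ℕ :=
  (.node 0xd70c406096263 (.node 0x7d2a48d5d60ca6 (.node 0xc3da5225fba0ef (.node 0xc55aebd5bf2191 (.node 0xa7ab1df5922119 (.node 0x9619f66124182b (.node 0xa0523c67c1c7fc (.node 0xb27a90a4a5660d (.node 0x6b48c3dc5c9dda .nil .nil) (.node 0x1d752abc073016 .nil .nil)) (.node 0x99ea8170b3cb66 (.node 0x4d0402daad5eef .nil .nil) (.node 0xe3b78c2d6dd5be .nil .nil))) (.node 0x9826c0427bf80c (.node 0x905f3a229f1725 (.node 0x5fa8136966a76f .nil .nil) (.node 0x12e8f538e3a518 .nil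 .nil)) (.node 0xbcea01a6e49b2f (.node 0x3e54677b37f5fc .nil .nil) .nil))) (.node 0x3245c2c693a356 (.node 0xa26e3ec34ef630 (.node 0x936e92f38556fb (.node 0x74b567bcd901c0 .nil .nil) (.node 0x878fb182b9979 .nil .nil)) (.node 0x2dddd1d16ca534 (.node 0x568c9489f4f8e5 .nil .nil) (.node 0xe6d391cd4f0a41 .nil .nil))) (.node 0xa05a3ca47b3859 (.node 0x83a2b5235ff1d3 (.node 0x36f46809cf39ec .nil .nil) (.node 0xd583646dde6971 .nil .nil)) (.node 0xa81eb3f1d12e1f (.node 0x39f0971b48378d .nil .nil) .nil)))) (.node 0x9d4aa615c26294 (.node 0x41b9a7969862da (.node 0xb32eba0778099d (.node 0x29203e152f99fb (.node 0x796c837cd7c184 .nil .nil) (.node 0x177d4b57d89cac .nil .nil)) (.node 0xcf1206f05dc487 (.node 0x3b85c1fa401297 .nil .nil) (.node 0xddbba2de252995 .nil .nil))) (.node 0xb326bab437f95b (.node 0xc1eebe52b4d379 (.node 0x648ce4693ee8bb .nil .nil) (.node 0xd25b7a4e5aab4b .nil .nil)) (.node 0x6ce4e901a7e05d (.node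 0x4e79ae19c98dce .nil .nil) .nil))) (.node 0xa00a8fb762c980 (.node 0xa2c2f632c1f726 (.node 0x5f6c12040ef15b (.node 0x6728c06d11c54f .nil .nil) (.node 0x2c48478541152 .nil .nil)) (.node 0xc9b6c4e6e81bce (.node 0x2a786daade9110 .nil .nil) .nil)) (.node 0xcb9ae723c8680b (.node 0x789c85b0bd8138 (.node 0x347187eb0cd408 .nil .nil) (.node 0xe0ef71de73f860 .nil .nil)) (.node 0x8ef25062017086 (.node 0x1cac769bd42f5b .nil .nil) .nil))))) (.node 0xb186fa6640e0f8 (.node 0xb9c289f5e0a0aa (.node 0x535d7df0fedda6 (.node 0xb42f19971487cf (.node 0xa0ee5d550bce6c (.node 0x7c6139cc930065 .nil .nil) (.node 0x1514b4e7e95ed2 .nil .nil)) (.node 0x7add05704202a4 (.node 0x4694040b78a90e .nil .nil) (.node 0xe1db881dece70f .nil .nil))) (.node 0x98b64484dcf97a (.node 0xa3ff1b33f26a49 (.node 0x62bca5495859a2 .nil .nil) (.node 0xd60f487e82b480 .nil .nil)) (.node 0x8e2322f1fab134 (.node 0x2e98619a26b98a .nil .nil) .nil))) (.node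 0x82a29480a90725 (.node 0xb05acfb5023813 (.node 0xb64eb26404d2fd (.node 0x719512ec9e02e8 .nil .nil) (.node 0x540cb889d99da .nil .nil)) (.node 0x85fdfb413bf2db (.node 0x53dc557b74a4a6 .nil .nil) .nil)) (.node 0xaafeb133332cce (.node 0xce16556057c41b (.node 0x46d581eb543979 .nil .nil) (.node 0xdb03502de56c96 .nil .nil)) (.node 0x6b18c2a1e2e004 (.node 0x20b4e37ba32e8a .nil .nil) .nil)))) (.node 0x94fed8710f9918 (.node 0x57f441467ae347 (.node 0xa72a7af78a86f7 (.node 0x858b3ff2d33237 (.node 0xbc818687b00ec .nil .nil) (.node 0x121c6b8778d62 .nil .nil)) (.node 0xbbb6dfb1984ddc (.node 0x56fdc0dac21d0b .nil .nil) (.node 0xe943559dce2878 .nil .nil))) (.node 0xb572161582f7aa (.node 0x2c55a4b529741a (.node 0x5d188b7973d9a7 .nil .nil) (.node 0xd773504d90908c .nil .nil)) (.node 0x8c130671bf30b0 (.node 0x341c70cb052828 .nil .nil) .nil))) (.node 0xacb259773d08e7 (.node 0xb99ace3588f711 (.node 0x4a1d74b3175777 (.node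 0x65bd1becf80652 .nil .nil) (.node 0x106929c8aa2519 .nil .nil)) (.node 0x5289d076fe5b78 (.node 0x4019e5aac12d1e .nil .nil) .nil)) (.node 0xcd9f42436866f3 (.node 0xd08726009ec39c (.node 0x30080adb9de5a3 .nil .nil) (.node 0xde3f924e58ac54 .nil .nil)) (.node 0x6d8561dc505ef9 (.node 0x1b31cb3bf66f26 .nil .nil) .nil)))))) (.node 0x7e4e26e5e74ac2 (.node 0x10c4a775a361dd (.node 0x968bdd5a85df5 (.node 0x834ee670e14cf9 (.node 0x146d5687c40848 (.node 0xe9c5f4c00474 (.node 0x701cd9bc3edfe4 .nil .nil) (.node 0x1f29222c112eb5 .nil .nil)) (.node 0xd04a282003434b (.node 0x3f2c53aa0964b2 .nil .nil) (.node 0xdfbfa6ce67f75e .nil .nil))) (.node 0x5c698c846ab0ca (.node 0x5a8d5c841530c9 (.node 0x610d6fb97b3463 .nil .nil) (.node 0x12789ec8bfa5bd .nil .nil)) (.node 0x6f250e721cdf4a (.node 0x443c05e9c29cd8 .nil .nil) .nil))) (.node 0x9115f45659583a (.node 0x9fb2d054a7ba01 (.node 0x4bbdbe14f8738a (.node 0x7a9546bc8a40ae .nil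 .nil) (.node 0x6e13b481dda3f .nil .nil)) (.node 0xbf3346f17e8c91 (.node 0x2c85a51b66de79 .nil .nil) (.node 0xe63b7e7d668b26 .nil .nil))) (.node 0x45e5d60390d834 (.node 0x7cbd36807cc2f2 (.node 0x4b31ba198aa6ff .nil .nil) (.node 0xd3f78eae1fe628 .nil .nil)) (.node 0xb4926ba25b68ae (.node 0x359048d9993570 .nil .nil) .nil)))) (.node 0x813e47412b442a (.node 0xc6ab4316a9e3bc (.node 0x26a00d8765c6b7 (.node 0x9ec25fc3b2ae2a (.node 0x77f1ef4cc58114 .nil .nil) (.node 0x185cb867e05f0b .nil .nil)) (.node 0x3111e0f1876471 (.node 0x4070081ad7e79d .nil .nil) (.node 0xe537618d7acf62 .nil .nil))) (.node 0x59695042847118 (.node 0x928eb7254fd8d1 (.node 0x5b80d5194c6bca .nil .nil) (.node 0xd843800d6a4d4a .nil .nil)) (.node 0xa55e82726da6b2 (.node 0x2db82d499cae28 .nil .nil) .nil))) (.node 0x7f0329778146a6 (.node 0x5e55cbc45e70dc (.node 0xc6c201537beb35 (.node 0x6651252cf285ab .nil .nil) (.node 0xc91f05843da0f .nil .nil))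 (.node 0xc142d346d3db16 (.node 0x577039bacbacad .nil .nil) .nil)) (.node 0x3185bb1553f458 (.node 0x9a766400180cce (.node 0x2e1dd279815cc7 .nil .nil) (.node 0xe2ff4e2e14ac98 .nil .nil)) (.node 0x10a89c08eb9fbf (.node 0x2659e8dbc7af10 .nil .nil) .nil))))) (.node 0xde8da6645220a (.node 0x60200f35fda210 (.node 0x898ec930d310ec (.node 0x19a1256728075f (.node 0x96fe33934557ba (.node 0x7390f95c868290 .nil .nil) (.node 0x14494e17f31d6d .nil .nil)) (.node 0xd186ec80854404 (.node 0x3d85d5fa55762a .nil .nil) (.node 0xe5eb5efdd2a798 .nil .nil))) (.node 0x35e1af339c9aba (.node 0xb04acf5444f5e3 (.node 0x599550c9457411 .nil .nil) (.node 0xd67f591de6ac95 .nil .nil)) (.node 0xb6a220e23a2ca5 (.node 0x4f3c010a8a4b9e .nil .nil) .nil))) (.node 0x7e3627179fc948 (.node 0x9dc66b153aba3c (.node 0x9eeafb75773550 (.node 0x67c4b70d1ac646 .nil .nil) (.node 0x395076886cbfe .nil .nil)) (.node 0x3a9c32a6b1dad6 (.node 0x298d833a02952c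 .nil .nil) .nil)) (.node 0x58a492844d57d7 (.node 0xb59a15e09a4bd0 (.node 0x39305faab2a47e .nil .nil) (.node 0xd463947d978e7b .nil .nil)) (.node 0xac4e58c226ab7d (.node 0x227cd34bb67022 .nil .nil) .nil)))) (.node 0x84a70a70ec8fc4 (.node 0x95beab1683d8e5 (.node 0x9e0a1a42d63a61 (.node 0xb2065b83097a5d (.node 0x76101eccca0236 .nil .nil) (.node 0xaf07e58651a3c .nil .nil)) (.node 0x868df98155b2c3 (.node 0x55c1771af46437 .nil .nil) (.node 0xe88f868dccaa3e .nil .nil))) (.node 0x4eb435e4d31656 (.node 0xcb229674ada968 (.node 0x5e61ccf9626ac2 .nil .nil) (.node 0xd6bfa3fe8135c6 .nil .nil)) (.node 0x70a8f232445f95 (.node 0x38f1a2da9bebb1 .nil .nil) .nil))) (.node 0x75cf0d723086f (.node 0x7c49395428c058 (.node 0xb43f1904e709d7 (.node 0x1a6c23d9069ddf .nil .nil) (.node 0x11b53e58cd65f1 .nil .nil)) (.node 0xc83aaf76cadbe3 (.node 0x3b504bca496dd1 .nil .nil) .nil)) (.node 0x2ca099051cd7ed (.node 0x75fc1dc021c223 (.node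 0x515464bb15e759 .nil .nil) (.node 0xe2e7802d39cd4c .nil .nil)) (.node 0x6f410f0c331f44 (.node 0x24bc89fbe76f64 .nil .nil) .nil))))))) (.node 0xb2d27355cee07c (.node 0x21992c5ea5cbd (.node 0x63e0adf627a14a (.node 0xc4da23063121b4 (.node 0x95d33b412a9740 (.node 0x83c62a10684828 (.node 0x770dc764c7c0dc (.node 0x6dc4d07c2edf6c .nil .nil) (.node 0x22d0d6abbceec2 .nil .nil)) (.node 0x7479674007c1ba (.node 0x2e65aa1a0f763c .nil .nil) (.node 0xe0cb63adc7aa32 .nil .nil))) (.node 0x9da6adb2734d86 (.node 0xb0eabca29a2712 (.node 0x5c547b38f119ec .nil .nil) (.node 0xed51098d1e5df .nil .nil)) (.node 0xcd79ff2707dad9 (.node 0x3a71de7b62dedb .nil .nil) .nil))) (.node 0x3840580650e2a2 (.node 0xcba2e7a355a9d0 (.node 0xb7533074850a89 (.node 0x72c5436cb342d7 .nil .nil) (.node 0x3e4fe688e502b .nil .nil)) (.node 0x8916677176b308 (.node 0x273d847b2f7826 .nil .nil) (.node 0xe7fb783db1caf4 .nil .nil))) (.node 0xb6d71f447f4f6a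 (.node 0xcdd5ffc2e2a738 (.node 0x37886ae9d74b06 .nil .nil) (.node 0xd5b7844e2d6a83 .nil .nil)) (.node 0x6f3d0eb25e1f4f (.node 0x4bc5bf3b8eb618 .nil .nil) .nil)))) (.node 0x99b681a61e60a2 (.node 0x8f7f16d6ad17f5 (.node 0x98627ba77389b6 (.node 0x83a6b4b3b9b1da (.node 0x757d64ac6e81f7 .nil .nil) (.node 0x13dcab67ed9ce2 .nil .nil)) (.node 0xacde5a50724aeb (.node 0x44a4355aef53a4 .nil .nil) (.node 0xe02b6f3d7895d6 .nil .nil))) (.node 0x9c02b3642f4bbc (.node 0x296d822547f25c (.node 0x5a78e1893419e8 .nil .nil) (.node 0xd367a1fe89b588 .nil .nil)) (.node 0x9fa27851a62c74 (.node 0x507de4db800c51 .nil .nil) .nil))) (.node 0x15450cd782c68e (.node 0xc9167e72c92aa1 (.node 0xb46a6b840d74f8 (.node 0x69d0a96d0c05b8 .nil .nil) (.node 0xb3166386fcf13 .nil .nil)) (.node 0x34ac3ff6ed9c0e (.node 0x2829b10a5ce7d2 .nil .nil) .nil)) (.node 0xc19e77c3c04a0d (.node 0xa51e9f30b9cb36 (.node 0x3265c36b3fb852 .nil .nil) (.node 0xdc27524d28c9d0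 .nil .nil)) (.node 0xa0b6f41212ed79 (.node 0x25216a9befef89 .nil .nil) .nil))))) (.node 0x90b204e2085749 (.node 0xc4872325dd20c9 (.node 0x94b6a881091653 (.node 0x8c4623c7ae08a8 (.node 0x2d682c52f0f22d (.node 0x7244c71caac320 .nil .nil) (.node 0x17dd4257dc9de9 .nil .nil)) (.node 0x9b0213204ccb03 (.node 0x42cd953b2469db .nil .nil) (.node 0xe18f890e2a6b92 .nil .nil))) (.node 0x9e321ae32b90e0 (.node 0x5c147a155fb16b (.node 0x63d9549926da4b .nil .nil) (.node 0xd36ba01db81556 .nil .nil)) (.node 0x70413342301faa (.node 0x3391dfdaa263f0 .nil .nil) .nil))) (.node 0x18811c37408748 (.node 0xc7431573aee7b2 (.node 0x37606a056cb2ae (.node 0x165cfee8138619 .nil .nil) (.node 0x7293898288ab0 .nil .nil)) (.node 0xbbbadf11510da9 (.node 0x58cc93bb2c4b21 .nil .nil) .nil)) (.node 0xbc6a05a2aed3f2 (.node 0x73b908809040b6 (.node 0x36546faa1cb544 .nil .nil) (.node 0xd9979bed634b7d .nil .nil)) (.node 0x8e5221e1eb30d6 (.node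 0x1fa4e08c197054 .nil .nil) .nil)))) (.node 0x872a3a00f98c7b (.node 0x935292767656ec (.node 0xb7c664b75488ff (.node 0xcca62bc2cf6e3c (.node 0x7731c79c7340e8 .nil .nil) (.node 0xcd41d284c52f2 .nil .nil)) (.node 0x31d83ac15963f3 (.node 0x283c493a5fb9e6 .nil .nil) (.node 0xe98f737de2aa2d .nil .nil))) (.node 0xbe9e3493e0563e (.node 0x84af0a95253295 (.node 0x61c58a58ffe68a .nil .nil) (.node 0xd503553e54e822 .nil .nil)) (.node 0x8c622372543106 (.node 0x48ec614a936cda .nil .nil) .nil))) (.node 0x1eed20e7a78786 (.node 0xaf1f3483ec6d72 (.node 0x930ed424ed98a4 (.node 0x68490bcce4c517 .nil .nil) (.node 0xe08db48bb25cf .nil .nil)) (.node 0xbb22a996c01ba0 (.node 0x451dacdaeaa6db .nil .nil) .nil)) (.node 0xc19a7772ee4d56 (.node 0xd182eca0300403 (.node 0x31f43b49e81267 .nil .nil) (.node 0xdc4fa71e63f8ff .nil .nil)) (.node 0x6b9d186c23200c (.node 0x26c40e3bcf2ff3 .nil .nil) .nil)))))) (.node 0xab1a1fc5b7e199 (.node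 0xa38e17b59f61d1 (.node 0x7f372965b01008 (.node 0x4d95b240f2dc84 (.node 0x7d6e56f71bc7dd (.node 0xab261f251437d1 (.node 0x61912f8210036 .nil .nil) (.node 0x21191e3bab306a .nil .nil)) (.node 0x99e68110ceceb3 (.node 0x3cd1dcc9a38d1c .nil .nil) (.node 0xe1b79c4e0c6b7e .nil .nil))) (.node 0x7dcedf4df03a0 (.node 0x992a4193faf663 (.node 0x5aa55d391b27b4 .nil .nil) (.node 0x101963e8aea507 .nil .nil)) (.node 0x8be64e221b3150 (.node 0x41f5a819ea5e58 .nil .nil) .nil))) (.node 0xca968916606389 (.node 0x26ac0d25052ffd (.node 0x90f73894f3d75b (.node 0x7bacf07ca4002e .nil .nil) (.node 0x58cc838a5d246 .nil .nil)) (.node 0x2f704e714065c9 (.node 0x2bf85e1b71f6d9 .nil .nil) (.node 0xe6738cada789c1 .nil .nil))) (.node 0x861f3c83393224 (.node 0xb036f5e0798be8 (.node 0x34c840cb927955 .nil .nil) (.node 0xdaab861dcc2dde .nil .nil)) (.node 0xa8ea9791b8ea52 (.node 0x49357989d8dc4e .nil .nil) .nil)))) (.node 0x4d39dac0d7de4f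 (.node 0xcdca004673230b (.node 0xdf2878f0703 (.node 0x6208a1645270bf (.node 0x76c4145c7e8267 .nil .nil) (.node 0x149d56e7e65c9a .nil .nil)) (.node 0x895a9c218f31e8 (.node 0x53409bba37eaaa .nil .nil) (.node 0xddab8b5e7fb856 .nil .nil))) (.node 0x894a9be57b31e1 (.node 0xabbacf13d10eed (.node 0x636d2f792073a5 .nil .nil) (.node 0xd7f765bd5ccfe1 .nil .nil)) (.node 0x6b711781c1a013 (.node 0x32ec4dab572a15 .nil .nil) .nil))) (.node 0x9b6e1cb73788d3 (.node 0xf5c5e58a03f2 (.node 0xbcd20253738b70 (.node 0x68e9033cee8617 .nil .nil) (.node 0x17c15d881cb96 .nil .nil)) (.node 0xc6bf4326c4db57 (.node 0x53997eda4f6ba5 .nil .nil) .nil)) (.node 0xa7eab4736e7509 (.node 0x7719c730a380d1 (.node 0x4ffc0c0b9ab54f .nil .nil) (.node 0xe3d3772dca68b3 .nil .nil)) (.node 0x6fdd58ec41dd1a (.node 0x1b90213bfdafc9 .nil .nil) .nil))))) (.node 0x7f3329f59ac9dc (.node 0x10b4a7a5c76289 (.node 0x8e2e21014562c4 (.node 0x802727f733c776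 (.node 0xaf96a7933f1220 (.node 0x7b60fcdcbdc076 .nil .nil) (.node 0x1724c227d31dca .nil .nil)) (.node 0x71d8c8f0628000 (.node 0x3af44aca3839ac .nil .nil) (.node 0xe5dfa50dc3ea13 .nil .nil))) (.node 0xb98ece039af59f (.node 0x900b0c143b97d0 (.node 0x2018b0d9381eb7 .nil .nil) (.node 0xdba7855dc6e9c4 .nil .nil)) (.node 0xa4071b61d92ddd (.node 0x2f2999ab02d55c .nil .nil) .nil))) (.node 0xb04ed00797893b (.node 0x4a3574d542338e (.node 0xab3e1f128dab22 (.node 0x6a7cb38d07050c .nil .nil) (.node 0x8ed0b0834dab3 .nil .nil)) (.node 0xbd062e570e5c19 (.node 0x2b999db9b4110e .nil .nil) .nil)) (.node 0x831a60344931fa (.node 0xce9eee90374450 (.node 0x4859a11a788cea .nil .nil) (.node 0xd2fb68ce85b4a2 .nil .nil)) (.node 0x6cfce8f2032058 (.node 0x1df52e6c0caef8 .nil .nil) .nil)))) (.node 0x42d9d370e45d45 (.node 0xcadecd168a231d (.node 0x476d9bb2fdb1ec (.node 0x202d4ec37e307c (.node 0x78cc85ec61414c .nil .nil) (.node 0x32990785dcd61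 .nil .nil)) (.node 0xbef709016a520f (.node 0x54b45ba9b58bd3 .nil .nil) (.node 0xe80f912deda96d .nil .nil))) (.node 0x84c30a14cf729a (.node 0x59d1224356b0df (.node 0x60680f891133b6 .nil .nil) (.node 0xd59f585e31a832 .nil .nil)) (.node 0xad96c7c2402970 (.node 0x4a75752a21ea23 .nil .nil) .nil))) (.node 0x8daeeaf71e0858 (.node 0x504cac42103f5 (.node 0x3519b6f4905952 (.node 0x5dddcf790299be .nil .nil) (.node 0xd98c568df2506 .nil .nil)) (.node 0x46ad80e6dbdbc7 (.node 0x438c27ea74a85d .nil .nil) .nil)) (.node 0xa60efd551b3561 (.node 0xb622e3101e4f64 (.node 0x3139e1fa853925 .nil .nil) (.node 0xdf4f96ed7f0a1c .nil .nil)) (.node 0x6f18ccfc4c1ec8 (.node 0x1d1d88dbde2fb3 .nil .nil) .nil))))))))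

/-- Part of `setTab`. -/
noncomputable def setTab_l_r_l_l_r : Arr ℕ :=
  (.node 0xc25b2d560de268 (.node 0x61a589d5cda072 (.node 0xb296d5a5f420ce (.node 0x7eef2596248f70 (.node 0x10c8a7662d61b1 (.node 0x7eb2084124c35a (.node 0x7f0b2997bd4810 (.node 0x85d5fb349ef2da (.node 0x708d343c245eca .nil .nil) (.node 0x23195bdc033006 .nil .nil)) (.node 0xd1c30050ac03e9 (.node 0x5185981a13b5a6 .nil .nil) (.node 0xe16791ee1626ea .nil .nil))) (.node 0x2ea061f27131af (.node 0x3eada62297f43e (.node 0x619077e8f5d970 .nil .nil) (.node 0xd3519c8b764c1 .nil .nil)) (.node 0x4c6d730705daed (.node 0x460dd6db60f500 .nil .nil) .nil))) (.node 0xc8e29d16976362 (.node 0x63ecae33507128 (.node 0x2989823483f3c8 (.node 0x479426837c2c0 .nil .nil) (.node 0x474bb58301991 .nil .nil)) (.node 0xbe323981720e29 (.node 0x2a287339faeb4e .nil .nil) (.node 0xe7ab9fad3e8b8c .nil .nil))) (.node 0x4a1974c47e324f (.node 0x5ea82252dd709b (.node 0x49886939d165c5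 .nil .nil) (.node 0xd2ef91ad540dc6 .nil .nil)) (.node 0x8c5e2411cc7107 (.node 0x473497cb4cb4ca .nil .nil) .nil)))) (.node 0x781f661a1ee5 (.node 0xcc4f0bc69c22e7 (.node 0x145956b77049be (.node 0xb4866b2531a7e6 (.node 0x7420801cd3019c .nil .nil) (.node 0x16b104e8179cc4 .nil .nil)) (.node 0x7cb936606fc2f3 (.node 0x3bec3d4aee14e4 .nil .nil) (.node 0xe3fb9e6e4c6c37 .nil .nil))) (.node 0x3f7195842d9aa6 (.node 0x93fad1f2b916e2 (.node 0x640caeb930eb26 .nil .nil) (.node 0xd3ffa7de8e7604 .nil .nil)) (.node 0xac0a8b01ac6daf (.node 0x31b5bc09cb9450 .nil .nil) .nil))) (.node 0xb856c8375b8967 (.node 0x45f9d632c4daa0 (.node 0xc72a36f4146ba8 (.node 0x6618e6dcf4c5d3 .nil .nil) (.node 0x9f881284f916a .nil .nil)) (.node 0xc0dea346d8db46 (.node 0x57cdb8da60d2f9 .nil .nil) .nil)) (.node 0x69d3b33bc44df (.node 0xb662b200c0d3e8 (.node 0x4cb1739b116c7a .nil .nil) (.node 0xe57b685dad0b81 .nil .nil)) (.node 0x6f210e920fdf51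 (.node 0x242079cbd02f4b .nil .nil) .nil))))) (.node 0x7eeb25e63a4a74 (.node 0xf1ccde5d8e0c3 (.node 0x87730ed10013b3 (.node 0x4854727ad48a3 (.node 0x92127012f89660 (.node 0x7c1ced4cacc336 .nil .nil) (.node 0x1918de78045eba .nil .nil)) (.node 0xb38a5bb045cfb3 (.node 0x3ae833bb7ee93e .nil .nil) (.node 0xe46f48fd3513bb .nil .nil))) (.node 0x585970332ada41 (.node 0x9a8298656af654 (.node 0x5bfcd7d95459ee .nil .nil) (.node 0xdac34f8d7d8f2b .nil .nil)) (.node 0xa7d31dd1f22c30 (.node 0x2edc62ca286485 .nil .nil) .nil))) (.node 0x8c4a2387498722 (.node 0x3afc4b23a9d93e (.node 0x880f14e3ffb2a8 (.node 0x7ced379c980306 .nil .nil) (.node 0x7acf1c89919f2 .nil .nil)) (.node 0x330c2da14d2542 (.node 0x27a074db25e3ce .nil .nil) .nil)) (.node 0xbe418a2aa04da (.node 0xa1025db0525465 (.node 0x49fc920a165f09 .nil .nil) (.node 0xdb9362ce08ea50 .nil .nil)) (.node 0xa636fdf1e668be (.node 0x1fd8b05ba72e9a .nil .nil) .nil)))) (.node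 0x52f89a80f85dd5 (.node 0xc7df0f767ea353 (.node 0x152d0cc752c903 (.node 0x5ccc8aa2ca30ed (.node 0x7669c48c77c101 .nil .nil) (.node 0xb9dc908730d7b .nil .nil)) (.node 0x85273d119cb211 (.node 0x5808427a6b3539 .nil .nil) (.node 0xe9af789e052707 .nil .nil))) (.node 0x1a7823f3ddafec (.node 0xaa329b152a8e20 (.node 0x60b88e3971ed56 .nil .nil) (.node 0xd8eb870e4da93a .nil .nil)) (.node 0x70acf2a2515f96 (.node 0x4c58909b0bae65 .nil .nil) .nil))) (.node 0x7ecb25d7a587a9 (.node 0x2d197c23e9d9e5 (.node 0xb43b1953188f6b (.node 0x6af155fd01466a .nil .nil) (.node 0xfb4d1a8e7e4c0 .nil .nil)) (.node 0xcbbae7f7009b6b (.node 0x3c85bdeae6ab1d .nil .nil) .nil)) (.node 0x6351362ea0456 (.node 0x75f81dd02ec222 (.node 0x4ee436d9e22538 .nil .nil) (.node 0xdc63a13e623796 .nil .nil)) (.node 0x70c0f2cc5b9f91 (.node 0x259debfbf26f36 .nil .nil) .nil)))))) (.node 0x8f0230d2289761 (.node 0xc4ca22b5a7a1eb (.node 0xa3d31ba5ab6177 (.node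 0x934692811656f9 (.node 0x9ade1367c8084c (.node 0xbc834554c451a7 (.node 0x6c4530dc47dfb2 .nil .nil) (.node 0x21a5533c152ea5 .nil .nil)) (.node 0x78988590ca8139 (.node 0x417065ba0715a8 .nil .nil) (.node 0xdfd3a0ee663919 .nil .nil))) (.node 0xa36e6d546d6d21 (.node 0xae5a1ba418aade (.node 0x1e78a289189ee6 .nil .nil) (.node 0xe755a68db63d4 .nil .nil)) (.node 0xb9365752212d39 (.node 0x3fa19649eede70 .nil .nil) .nil))) (.node 0x54805b765c2380 (.node 0x93eed194bcd6dd (.node 0x98767c44f95098 (.node 0x73d1097c8d00c4 .nil .nil) (.node 0x60d16b8195a57 .nil .nil)) (.node 0x86d73e9182f207 (.node 0x54599feb6bddfd .nil .nil) (.node 0xe7439fdd2b4c3e .nil .nil))) (.node 0xc9a6c4b3956957 (.node 0xb97af0e07f0a37 (.node 0x4b90381b952746 .nil .nil) (.node 0xd94774de9c34eb .nil .nil)) (.node 0x6ce0e8b1b4e05a (.node 0x4a9c441994f56a .nil .nil) .nil)))) (.node 0x9306d3913098a5 (.node 0x357447b66e22ff (.node 0x8bc64e976686ba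 (.node 0x81b67d245b3182 (.node 0x75c5f1fcc2c131 .nil .nil) (.node 0x15d101880d5ef3 .nil .nil)) (.node 0xbb7ed9918b531a (.node 0x2cd09a5a31b92c .nil .nil) (.node 0xe2fba18dfeaaec .nil .nil))) (.node 0xc826b00289eab0 (.node 0x27f5b0f3d033dc (.node 0x5b2160c9247423 .nil .nil) (.node 0xd68b99edb69430 .nil .nil)) (.node 0x8cb3204268f0e2 (.node 0x52742bc9a0ee39 .nil .nil) .nil))) (.node 0x8575fe308888c4 (.node 0xc68f43f463eb98 (.node 0xbe818b36f8388 (.node 0x6a054c3d0b058e .nil .nil) (.node 0x5df3983f5a27 .nil .nil)) (.node 0x37dd9a06c25b62 (.node 0x2d557d7a4b2b94 .nil .nil) .nil)) (.node 0xb062d025558eec (.node 0xced302900f846f (.node 0x52a5d17987b5f9 .nil .nil) (.node 0xdd035a7d7e10db .nil .nil)) (.node 0x6c0c9cfc395f11 (.node 0x1a35ce1bc3af00 .nil .nil) .nil))))) (.node 0xc2120e6649220c (.node 0x9d4ea695fe2212 (.node 0x934e93313716f6 (.node 0xb196fa172a0764 (.node 0x383457f33d98c7 (.node 0x7314bd1cb88094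 .nil .nil) (.node 0x19e52627fc1d85 .nil .nil)) (.node 0xb6ef1fc08c1541 (.node 0x4319d38a579c6a .nil .nil) (.node 0xe0236f1e79b71d .nil .nil))) (.node 0xc71e3733a1a6f2 (.node 0xa10a3e53cefa4a (.node 0x64c11fc94933a0 .nil .nil) (.node 0xda17808d98d1b1 .nil .nil)) (.node 0x6b1cc281d5dfff (.node 0x30b8301a8e8bb8 .nil .nil) .nil))) (.node 0x1ce1883795c927 (.node 0x924aa2053d1939 (.node 0x6454e4528ab0ef (.node 0x6534dcacff84f5 .nil .nil) (.node 0x92944b88b4c17 .nil .nil)) (.node 0xcaf6cc46b21ac2 (.node 0x54f5a399af90f5 .nil .nil) .nil)) (.node 0xca4e871451ebd8 (.node 0x7ad905803502a5 (.node 0x47fc5aeab81033 .nil .nil) (.node 0xd693911deeee63 .nil .nil)) (.node 0xa0fe5d422e6aa6 (.node 0x1e50a04bb27032 .nil .nil) .nil)))) (.node 0x92fed4411cd8a2 (.node 0x44c9ac26876315 (.node 0x90433a03051728 (.node 0xb4faa5130db7a0 (.node 0x75007d1c650161 .nil .nil) (.node 0x1fc87e8609a54 .nil .nil)) (.node 0x2fd80a0167e45b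 (.node 0x2ac1788afa1234 .nil .nil) (.node 0xe8278ebe59a625 .nil .nil))) (.node 0xaa7e65d4d5eb00 (.node 0x88da6764b1b307 (.node 0x5f21ed595f2d88 .nil .nil) (.node 0xd627a5de86f5ef .nil .nil)) (.node 0x8c1f06424770b1 (.node 0x47c59c9aa02bc1 .nil .nil) .nil))) (.node 0x8e7f04f7268875 (.node 0xca2eca742ce80a (.node 0x9a566444993763 (.node 0x5ff1eaf90a2c4f .nil .nil) (.node 0xf38ce18c4a3e8 .nil .nil)) (.node 0xbe1e3966f71aff (.node 0x3e1829ca70686f .nil .nil) .nil)) (.node 0xb1a2fa251e11d6 (.node 0xd0c72a4023c382 (.node 0x4fc9da2a826c26 .nil .nil) (.node 0xdfaf6d2dbc1061 .nil .nil)) (.node 0x131ccbe8b15f53 (.node 0x1bd08ccbe36f74 .nil .nil) .nil))))))) (.node 0x10b8a745f760e5 (.node 0x9a8a98b5eda237 (.node 0xa64e43962a6151 (.node 0xaffaf5f63421c0 (.node 0x43382730ddde36 (.node 0xa6a2fef7ce4834 (.node 0xc74f1594cba99e (.node 0x6e9d27ec57e031 .nil .nil) (.node 0x1ecca3abb8eed2 .nil .nil)) (.node 0xb9fe89c00a10f1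 (.node 0x3ef052f9e939bc .nil .nil) (.node 0xe20b938e186dc3 .nil .nil))) (.node 0x85ddfba47432d5 (.node 0x8872aee41e332b (.node 0x5d696c197ff3f2 .nil .nil) (.node 0x1148eaf8c923fa .nil .nil)) (.node 0xc1a277f6badc31 (.node 0x3d3831b9be5cf0 .nil .nil) .nil))) (.node 0xc85ae13654a2b1 (.node 0x8246c374b771a0 (.node 0x943a76a48b98b8 (.node 0x7af5061cb702bc .nil .nil) (.node 0x9a8beb892d044 .nil .nil)) (.node 0x323dc2d17b25e4 (.node 0x5869717b33b590 .nil .nil) (.node 0xe643988d624c72 .nil .nil))) (.node 0xa04e3d038db742 (.node 0x8671f8b2d9b2c2 (.node 0x3609afc98e9159 .nil .nil) (.node 0xd78b4bed8d8faf .nil .nil)) (.node 0xaac6e292612ac5 (.node 0x352db7fb8ab639 .nil .nil) .nil)))) (.node 0x7d725646170c74 (.node 0x2e45a926a4a3b3 (.node 0x7d9aef176f06d8 (.node 0x5af55f93aff149 (.node 0x7905926c6841e2 .nil .nil) (.node 0x1980e7f7f69cfa .nil .nil)) (.node 0x9b4f33506d4d34 (.node 0x413408fad20b86 .nil .nil) (.node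 0xdeab8d1e44662a .nil .nil))) (.node 0xa0423d1282f6b2 (.node 0xab731e954911a4 (.node 0x6224a279506a4e .nil .nil) (.node 0xd2377c8e9b34e4 .nil .nil)) (.node 0x6f390e626b1f4c (.node 0x3085e2cb84a62e .nil .nil) .nil))) (.node 0x8dfb2297844685 (.node 0x862f3cf4677223 (.node 0x78241a4377c215 (.node 0x18651c17fd0597 .nil .nil) (.node 0x25d93386b4efa .nil .nil)) (.node 0xc7f70f46ef5bf8 (.node 0x295c3edacfac9c .nil .nil) .nil)) (.node 0x979638855b5787 (.node 0x747d672014c1bb (.node 0x4de9b29b456e56 .nil .nil) (.node 0xe5134f1d724ffb .nil .nil)) (.node 0xb6e31fd20c2bde (.node 0x1c3d6dfbebef99 .nil .nil) .nil))))) (.node 0xacaa59664d61f1 (.node 0x7e9607a605caf5 (.node 0x4cd401e0d15d5c (.node 0x8ade4be7b4888c (.node 0xa0ea5d62f2ccd4 (.node 0x7a54b99c818278 .nil .nil) (.node 0x15810e28099dd1 .nil .nil)) (.node 0x73bd08908340b7 (.node 0x3eeda6fb1fe660 .nil .nil) (.node 0xdecb7f7d774a4e .nil .nil))) (.node 0x9ace12e328b60c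 (.node 0xa21291b562ab74 (.node 0x59fd23492d2bbb .nil .nil) (.node 0xd48b7bcd500de3 .nil .nil)) (.node 0x8abee8c232f176 (.node 0x4d55db0aa8543a .nil .nil) .nil))) (.node 0xad76c797444746 (.node 0xb10a7973a7b6e9 (.node 0xc8a66875716a8f (.node 0x688d001ce28631 .nil .nil) (.node 0x66513d8240a96 .nil .nil)) (.node 0x8882aea1497322 (.node 0x56217289fe5544 .nil .nil) .nil)) (.node 0xaaaee222a8379b (.node 0xb17a5df093513d (.node 0x38f45e5a9c79f4 .nil .nil) (.node 0xd25f7a2e032c32 .nil .nil)) (.node 0x70453362231fa5 (.node 0x21f8ad9c1d7044 .nil .nil) .nil)))) (.node 0x4df84460ec5ef7 (.node 0x8e764cf15f231f (.node 0x81070157514916 (.node 0x9f2abaf31534d1 (.node 0x78781b1ccc8211 .nil .nil) (.node 0xb8207847d2da .nil .nil)) (.node 0xbff603415dd397 (.node 0x28784a3a65e4a2 .nil .nil) (.node 0xe96358adf8a7c9 .nil .nil))) (.node 0x8f223103d7d773 (.node 0x377c69e4a8b3bd (.node 0x5c998de8fc2b77 .nil .nil) (.node 0xd5b3843dd8ebcd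 .nil .nil)) (.node 0xa8aa62a24eae40 (.node 0x388c589a97e90b .nil .nil) .nil))) (.node 0xaf0734c7a90796 (.node 0x88fe6743e6730b (.node 0x33cc7064e617ec (.node 0x678d400d1c4532 .nil .nil) (.node 0x12153288d6e3c2 .nil .nil)) (.node 0x4ccc01f6c8dbf5 (.node 0x457c46ea452dc1 .nil .nil) .nil)) (.node 0xa99a1062e877c6 (.node 0x9846c0602b8bff (.node 0x2fb44f5b189096 .nil .nil) (.node 0xde879eae75f712 .nil .nil)) (.node 0x6d1ce99c4ba056 (.node 0x1a9824dbcb2fe3 .nil .nil) .nil)))))) (.node 0x120531c5bb6182 (.node 0x62913563e1e3c (.node 0x9266b681ad18c8 (.node 0x845e2f50f3105a (.node 0x1d492a271187bb (.node 0x5039e3950b32fe (.node 0x7125150c97804a .nil .nil) (.node 0x20454f5baf307a .nil .nil)) (.node 0xa22291a0c811b6 (.node 0x43e9d8f9a9ea69 .nil .nil) (.node 0xe27f6d7dd2ed5c .nil .nil))) (.node 0xbade9434e3954a (.node 0x6270a493efb13f (.node 0x63192c0914d941 .nil .nil) (.node 0x10d4a838ec64d2 .nil .nil)) (.node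 0x6cf8e8d1f6205f (.node 0x5208506a2b9d6c .nil .nil) .nil))) (.node 0x939e8c26651884 (.node 0xbd863225080b3d (.node 0x50a1aa8403190c (.node 0x71e8c96ca14011 .nil .nil) (.node 0x800ee78a1525e .nil .nil)) (.node 0xbb72d8f14411c5 (.node 0x53a85489ac79c7 .nil .nil) (.node 0xe7cb98fd548b72 .nil .nil))) (.node 0x5f11ecd330311d (.node 0x71dcc910558001 (.node 0x39b97feb51ede3 .nil .nil) (.node 0xdb83565e5ee919 .nil .nil)) (.node 0x8d824a31b0b143 (.node 0x37417b39dd1c66 .nil .nil) .nil)))) (.node 0x89d68630d98f2a (.node 0x9081f8066a186b (.node 0x8db6ea57900707 (.node 0xb232f7b455e643 (.node 0x77b017bc79c242 .nil .nil) (.node 0x18c11ca8015c82 .nil .nil)) (.node 0x2e41a9519423c6 (.node 0x28d1b66ac8b601 .nil .nil) (.node 0xe0075d4e276985 .nil .nil))) (.node 0xa1e28e056bba09 (.node 0xaf8aa7e3ccf8c2 (.node 0x24288a39729d1f .nil .nil) (.node 0xd38b6c1e52ec73 .nil .nil)) (.node 0xac0e8b61c6a993 (.node 0x4e4045ab5b2a03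 .nil .nil) .nil))) (.node 0x146956973a88e5 (.node 0xbc1f47558e8f6d (.node 0x9942418321f960 (.node 0x66bd49cd17c5f8 .nil .nil) (.node 0xc1019287d4bb0 .nil .nil)) (.node 0xbcce0216fc1b88 (.node 0x40d9e73abb2cfd .nil .nil) .nil)) (.node 0x5d316be363314d (.node 0xb7ae9910a70ffd (.node 0x2fc809db7f39fb .nil .nil) (.node 0xdd8f6e6e10ecba .nil .nil)) (.node 0x6e50a65c281e3b (.node 0x260c10ebf9afd9 .nil .nil) .nil))))) (.node 0x5ae15fc591a115 (.node 0xc542eb75cba28a (.node 0x9256a2c6a0992b (.node 0x89f68660c34994 (.node 0x963df715375831 (.node 0x20c821869416f .nil .nil) (.node 0x1638f878121de2 .nil .nil)) (.node 0xce96eec064044f (.node 0x45b5b49a3a2484 .nil .nil) (.node 0xe41f78de566e64 .nil .nil))) (.node 0xa4121394083a6b (.node 0x21c8ac82b2304c (.node 0x5950b229389a64 .nil .nil) (.node 0xd2f3939e3cedbd .nil .nil)) (.node 0x9b433371dfe7cc (.node 0x50c5abfafe9574 .nil .nil) .nil))) (.node 0x21592b75f4972 (.node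 0xa9ef31254394ce (.node 0xb1ca407295f662 (.node 0x6964f61ce8c56a .nil .nil) (.node 0x4d14858395a9b .nil .nil)) (.node 0x54259eb6e7dbdb (.node 0x555c6c6add4e05 .nil .nil) .nil)) (.node 0x7c413943c4405a (.node 0xd09f26d03d839f (.node 0x380d9b0a7accb8 .nil .nil) (.node 0xd6377bbdeba6e7 .nil .nil)) (.node 0xb3825bd20726a3 (.node 0x23a95f7c08aee8 .nil .nil) .nil)))) (.node 0x8396b570e7d307 (.node 0x8f3e31a68e5764 (.node 0xa8de97d2ff53a9 (.node 0xbb42d8d3814ed4 (.node 0x79e18f1cdd41b1 .nil .nil) (.node 0xa6569a8594d7a .nil .nil)) (.node 0x88cedfd161f1c4 (.node 0x2b5856c9bb6893 .nil .nil) (.node 0xe8af731dfa26d4 .nil .nil))) (.node 0xa2f6a3e476ba29 (.node 0x9b821d23596724 (.node 0x5e1826790cf3c1 .nil .nil) (.node 0xd4eb4dde1cad19 .nil .nil)) (.node 0x6b7517f1cea014 (.node 0x36e985da262a34 .nil .nil) .nil))) (.node 0x16e0c0e7be0804 (.node 0xbada93f425d223 (.node 0xb2b2d654911080 (.node 0x5ef023696a5a1a .nil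 .nil) (.node 0x13553568b2e4d3 .nil .nil)) (.node 0xc7f30fc6dc1bb4 (.node 0x424c525b3b7930 .nil .nil) .nil)) (.node 0x38fc5e84a25897 (.node 0x771dc720b080d0 (.node 0x33542e9aace757 .nil .nil) (.node 0xe5ef5f6dd9ead9 .nil .nil)) (.node 0x6cd93d3c351d93 (.node 0x24818c3bda2fa3 .nil .nil) .nil))))))))

/-- Part of `setTab`. -/
noncomputable def setTab_l_r_l_l : Arr ℕ :=
  .node 0xb7b2650611a271 setTab_l_r_l_l_l setTab_l_r_l_l_r

/-- Part of `setTab`. -/
noncomputable def setTab_l_r_l_r_l : Arr ℕ :=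
  (.node 0xa1aeb9360a225c (.node 0xab9acee5d5a06d (.node 0x11953e25f120d5 (.node 0x4894746201ddc (.node 0x972a31e228d7d9 (.node 0x867df8c1214d47 (.node 0x2290d5d7b9c808 (.node 0x614c76d49bb0bb (.node 0x707133dc27df9d .nil .nil) (.node 0x1d9d2b5c05f010 .nil .nil)) (.node 0x7659c430aa00ea (.node 0x4d0c030aadce9a .nil .nil) (.node 0xdec7825e6eb80e .nil .nil))) (.node 0xbd0e2dc27b8c3c (.node 0xb4c69e529fd2b4 (.node 0x242c76b8f49d4f .nil .nil) (.node 0x1314f4d8e6d34e .nil .nil)) (.node 0xccbe2b96e39b23 (.node 0x3e6c67bb358f02 .nil .nil) .nil))) (.node 0x94caa906949643 (.node 0xc9d280334f6714 (.node 0x9b33338385901d (.node 0x74a5687cda41ca .nil .nil) (.node 0x864fb282a9586 .nil .nil)) (.node 0x82da9571703318 (.node 0x569494d9f46404 .nil .nil) (.node 0xe60795fd218d71 .nil .nil))) (.node 0xc06e6a047acf20 (.node 0xb69620335fa736 (.node 0x498c68e9d1b7a8 .nil .nil) (.node 0xd36384be8b7517 .nil .nil)) (.node 0x6cf0e8a1c8e05b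 (.node 0x39e8968b48cad3 .nil .nil) .nil)))) (.node 0xc3d65255c5e29d (.node 0x8f6716c69a57f2 (.node 0xb646b2177a89a0 (.node 0xa7127a653376f6 (.node 0x74347f7cd2c194 .nil .nil) (.node 0x176d4b67d512b9 .nil .nil)) (.node 0xce8aeef05d844e (.node 0x3bf43d2aed780a .nil .nil) (.node 0xe487a67e09eb3f .nil .nil))) (.node 0xbc174764370dd5 (.node 0x277073b2b8329f (.node 0x6424aee9323437 .nil .nil) (.node 0xd603613da0cf61 .nil .nil)) (.node 0xb346b9d1acac85 (.node 0x31a9bc59cbdd0d .nil .nil) .nil))) (.node 0x1944e70758896f (.node 0xab361f32bf8aa3 (.node 0x9d86ada413b4f3 (.node 0x6700c07d12055c .nil .nil) (.node 0x2cc851855d9ac .nil .nil)) (.node 0x2b1056b6d45b4c (.node 0x57c1b97a609d3b .nil .nil) .nil)) (.node 0x9bdab173b5ba2d (.node 0xae22dc70c04b4f (.node 0x4c85746b12f658 .nil .nil) (.node 0xdf5b7ebe4d287f .nil .nil)) (.node 0x9ece5f0200a691 (.node 0x1cd075bbd52f54 .nil .nil) .nil))))) (.node 0x6264a45639e103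 (.node 0xc59e24b5e3a0b6 (.node 0x90c3384103d754 (.node 0x86ddfbe088c8ab (.node 0x52202ab2f7323d (.node 0x7c34ed2cae832f .nil .nil) (.node 0x14e4b567e8d4ec .nil .nil)) (.node 0xb72e0fd0464b1c (.node 0x3a8c326b5e3983 .nil .nil) (.node 0xe5af769e63b82f .nil .nil))) (.node 0x9cd73564db901c (.node 0x614876c565f17b (.node 0x5bccd869553395 .nil .nil) (.node 0xd80b691e29a88a .nil .nil)) (.node 0x6d596121efdf86 (.node 0x2ed4629a28f71f .nil .nil) .nil))) (.node 0xbd018d747471c (.node 0xa8da9754ffd221 (.node 0x54d1a333fc731c (.node 0x71bd126c9d42e1 .nil .nil) (.node 0x53ccb189d19af .nil .nil)) (.node 0xc0fea3313d91ac (.node 0x27c8746b286aeb .nil .nil) .nil)) (.node 0x989643e2a9ba50 (.node 0x7b98ef604f001b (.node 0x46c981bb551546 .nil .nil) (.node 0xd2c34fde41a7dc .nil .nil)) (.node 0x8b9e0b71e4b0c6 (.node 0x20ace36ba3ee89 .nil .nil) .nil)))) (.node 0x81d6c1d10d1338 (.node 0x9641f6e67c9824 (.node 0x8b1f2eb78c86ef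 (.node 0xc70a3702d5ae2b (.node 0x766dc55c75c0fe .nil .nil) (.node 0x129c6a8799a3d .nil .nil)) (.node 0x517597619aa3d8 (.node 0x5711c05ac3ae79 .nil .nil) (.node 0xe81f668e03a7a5 .nil .nil))) (.node 0xbb06a9c5820cbc (.node 0x95ff3b752ad73f (.node 0x60c08e197066af .nil .nil) (.node 0xd71f791e8c767a .nil .nil)) (.node 0xa7427b11c029a4 (.node 0x4a148f0a1e3992 .nil .nil) .nil))) (.node 0x15f8f747a0c7ac (.node 0x9daaae25868bee (.node 0x92c6748318d6c6 (.node 0x65891b8cfa4661 .nil .nil) (.node 0x109929d8aa9536 .nil .nil)) (.node 0xbddb17a7035b70 (.node 0x3ff5e5fabee3da .nil .nil) .nil)) (.node 0x980689a2e9ba0f (.node 0x9a7263a0a09016 (.node 0x4f0836c9e4a9ec .nil .nil) (.node 0xe1d36cdd250fc9 .nil .nil)) (.node 0x1114ea28c7df88 (.node 0x1b05cadbf72f21 .nil .nil) .nil)))))) (.node 0xaf7ea7b5e82248 (.node 0xb90e5725a461df (.node 0x80072b25abd0e5 (.node 0x3aa432b1135d2f (.node 0x8ce20dc7c6c840 (.node 0xad7ec804c4f95a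 (.node 0x702cd98c3cdd92 .nil .nil) (.node 0x1f15214c132eb2 .nil .nil)) (.node 0x988a7b9003910a (.node 0x41a4663a07ae45 .nil .nil) (.node 0xe08fa47dddaa76 .nil .nil))) (.node 0x99f2c5146fb612 (.node 0x98e6ff5419f54c (.node 0x612d6fc978e9d2 .nil .nil) (.node 0x12a49e68c15396 .nil .nil)) (.node 0x8d7a49b221b140 (.node 0x44480599c368eb .nil .nil) .nil))) (.node 0xc78e3b765b22c2 (.node 0x3c4fdc4ba0476 (.node 0x95db3bd4f9d743 (.node 0x73e508ec8cc0cb .nil .nil) (.node 0x6dd3bd81d5a0a .nil .nil)) (.node 0x4da1b20181a5f6 (.node 0x2c81a58b675481 .nil .nil) (.node 0xe6ef933d410dd7 .nil .nil))) (.node 0xb566167394f608 (.node 0xa2eaf6d0800bcf (.node 0x4b8038cb941e77 .nil .nil) (.node 0xd4bb5d7e472b69 .nil .nil)) (.node 0xa81ab4325aaad5 (.node 0x35b4487998677a .nil .nil) .nil)))) (.node 0x4a8c42c12b9cb7 (.node 0x8d9e4aa17fe2fa (.node 0x7d1e48f76946bf (.node 0x5b54d4645870af (.node 0x77e5ef1cc7411d .nil .nil) (.node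 0x183cb7c7df1131 .nil .nil)) (.node 0x8326611188b1f8 (.node 0x2c9898da2f39dc .nil .nil) (.node 0xdff3a52e2e6960 .nil .nil))) (.node 0x82727f2287b34a (.node 0xa7c71d354f118c (.node 0x5b68d4894ce8a9 .nil .nil) (.node 0xd3cf837e4eed8c .nil .nil)) (.node 0x6b6d17e2642015 (.node 0x52682b899f9c69 .nil .nil) .nil))) (.node 0x8cce0d677f869e (.node 0xa1ea9234637496 (.node 0xb87a5a636f7a4e (.node 0x6a394d0d090585 .nil .nil) (.node 0xc8df0a8411a6d .nil .nil)) (.node 0xccba2c06d0db0f (.node 0x2d457d3a4a1f04 .nil .nil) .nil)) (.node 0xa8ca97a55778fe (.node 0x79b98e300e41a1 (.node 0x2e11d2c980cb37 .nil .nil) (.node 0xe097a11e6d78f0 .nil .nil)) (.node 0x6bf09d3c3bdfc2 (.node 0x2671e89bc4af16 .nil .nil) .nil))))) (.node 0xb1d23f86486202 (.node 0x80ee46e5ff52b8 (.node 0x4af1b9c1321ec4 (.node 0x7daaef572d875a (.node 0xa3626da3459238 (.node 0x7388f9fc8702a1 .nil .nil) (.node 0x14154e27f0d441 .nil .nil)) (.node 0x7a7945b089c09d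 (.node 0x3d99d5ea535406 .nil .nil) (.node 0xe503860decade2 .nil .nil))) (.node 0x98567c53a176bb (.node 0xcc6f0b1445282c (.node 0x59a9511942a657 .nil .nil) (.node 0xd4f7980e8f7628 .nil .nil)) (.node 0x8ea304d2397166 (.node 0x30cc2ffa8df948 .nil .nil) .nil))) (.node 0x9c3ae4179e494e (.node 0x49d47753ac4be (.node 0xa9f3311575a98a (.node 0x6550dcfcfc84e4 .nil .nil) (.node 0x381082884d322 .nil .nil)) (.node 0xbb5ad8a6b41ac8 (.node 0x550da3c9aeb7eb .nil .nil) .nil)) (.node 0xab5f1e145136fe (.node 0xa1065ce099d124 (.node 0x482c5abab8ec77 .nil .nil) (.node 0xd87f7a7e3ba67c .nil .nil)) (.node 0x6d5561322a5f80 (.node 0x2264d2fbb4702a .nil .nil) .nil)))) (.node 0x3a3dddd119de7c (.node 0xcb2e969685232a (.node 0xb1d65f30303d8 (.node 0xa4568930984a7 (.node 0x2087b98690155 .nil .nil) (.node 0xaec7e3867d966 .nil .nil)) (.node 0xbc7a05915753af (.node 0x2af9789afaaa33 .nil .nil) (.node 0xe9c3652e35a8bd .nil .nil))) (.node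 0xb25a9054d7b4b7 (.node 0x597150b4ae7139 (.node 0x5e95cc79611a61 .nil .nil) (.node 0xd9bb8f3dcc6def .nil .nil)) (.node 0xa5a2c6a246a982 (.node 0x38b9a2ea9b8c38 .nil .nil) .nil))) (.node 0xb19afad7260883 (.node 0x897ec9542a71bb (.node 0x4bb9be5496596a (.node 0x6001eae9092b04 .nil .nil) (.node 0x11c53ee8ce94a3 .nil .nil)) (.node 0x3115e0d6f35b02 (.node 0x3b204bea48d576 .nil .nil) .nil)) (.node 0xa91a11b5207789 (.node 0x9c16b2b024cf7e (.node 0x30942f2a7e39b1 .nil .nil) (.node 0xdc87a4fe59ea24 .nil .nil)) (.node 0x6f710fac309c88 (.node 0x24cc8a0be46f61 .nil .nil) .nil))))))) (.node 0x93ce7711ad56d0 (.node 0x80a65435edd2e8 (.node 0x804f2756295178 (.node 0xddcda7632a1b8 (.node 0x86373c2127d2ef (.node 0x6211347cb4820 (.node 0xaa1a9b04cb752e (.node 0x6df0cfcc2c9e99 .nil .nil) (.node 0x22d4d67bbd2eca .nil .nil)) (.node 0xd056281009c34a (.node 0x2e8da99a0dad1f .nil .nil) (.node 0xddef495d2b8c66 .nil .nil))) (.node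 0x44783474717419 (.node 0x529dd0241bb47c (.node 0x5c407b78f2aa92 .nil .nil) (.node 0xf051118d3148b .nil .nil)) (.node 0x363c6f06b65c3a (.node 0x3a79dedb642ba4 .nil .nil) .nil))) (.node 0x936a92b65396ea (.node 0x73a10854b5c0c2 (.node 0x561171d489f428 (.node 0x7b19063cb4c2aa .nil .nil) (.node 0x3f0fec89049e6 .nil .nil)) (.node 0xbdbe32f1788e42 (.node 0x2729844b3054fb .nil .nil) (.node 0xe7278acd8a0df1 .nil .nil))) (.node 0x30b02fb389da11 (.node 0x5f741212d6f08b (.node 0x360daf998e1dea .nil .nil) (.node 0xd4ab679dfb6aa7 .nil .nil)) (.node 0x9db6adc261e89d (.node 0x4be5be9b8c8e04 .nil .nil) .nil)))) (.node 0x5d216ba615e084 (.node 0xc9aac4f6afa3ab (.node 0x16d4c1276a06df (.node 0xb3baf803b968b6 (.node 0x793591cc6a01dc .nil .nil) (.node 0x13c4ab77ec15b0 .nil .nil)) (.node 0x717d11906942d9 (.node 0x410c08ead4f58b .nil .nil) (.node 0xe47748ce1aecaa .nil .nil))) (.node 0x53657dd27e33ec (.node 0x9442769549d8b9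 (.node 0x1e7ca0e94e9f16 .nil .nil) (.node 0xd9236e1d491042 .nil .nil)) (.node 0xa7467aa1a5ed9e (.node 0x3075e33b83deeb .nil .nil) .nil))) (.node 0x7e8607b787068d (.node 0x56d9bf9464f42c (.node 0xcc862b740e2b97 (.node 0x69b8a97d0ec5c2 .nil .nil) (.node 0xb3566586ecd48 .nil .nil)) (.node 0xbc6205f6f1dc06 (.node 0x294c3e9ace9dba .nil .nil) .nil)) (.node 0x1bbc8c455aaf7e (.node 0x9c5ee480ba53d0 (.node 0x3271c32b3ea51e .nil .nil) (.node 0xe3bf8c0dd86c45 .nil .nil)) (.node 0x6e00a602092028 (.node 0x25396b0bedef86 .nil .nil) .nil))))) (.node 0xfed62c64aa1ef (.node 0xa3968b6021cd4 (.node 0x818e7ce1068cc6 (.node 0x180cb787b24896 (.node 0x94bea8d2f25648 (.node 0x47cb8d8378272 .nil .nil) (.node 0x17d14247da0df3 .nil .nil)) (.node 0x9ed65f204c4f99 (.node 0x42a194db21e549 .nil .nil) (.node 0xe56b714e28692c .nil .nil))) (.node 0x4395d79323f2dc (.node 0xb7be64f564b64f (.node 0x63c95469296c90 .nil .nil) (.node 0xd7675e2e04ec33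 .nil .nil)) (.node 0x9b861d9233ac94 (.node 0x4d61dbdaa7373b .nil .nil) .nil))) (.node 0x8ede50c744073a (.node 0x60280ef3a2f12a (.node 0x81eec1656f336a (.node 0x68acff7ce1861c .nil .nil) (.node 0x731388827d1cc .nil .nil)) (.node 0x4cd001d146a530 (.node 0x564d7259feed8f .nil .nil) .nil)) (.node 0x4e0c4492a4b3af (.node 0x9ca6195093cbe9 (.node 0x367c6f4a1ba7c0 .nil .nil) (.node 0xdb1772fde22dad .nil .nil)) (.node 0xad12f2e1ece8d0 (.node 0x1f94e00c19b055 .nil .nil) .nil)))) (.node 0x806253a0ea0445 (.node 0xc6ca016678633c (.node 0x249888d74d890c (.node 0x7529641311c1f8 (.node 0x78401accce421d .nil .nil) (.node 0xcec1d084c108e .nil .nil)) (.node 0x85f1fbd15c32d3 (.node 0x28984a2a67ece9 .nil .nil) (.node 0xe8bf69ae1aa904 .nil .nil))) (.node 0x422851a3d6daa1 (.node 0x9a1ac5e525a8da (.node 0x5c818d78fc73d2 .nil .nil) (.node 0xdb43886d50525f .nil .nil)) (.node 0x6f290e524a1f4d (.node 0x48c4613a91246c .nil .nil)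 .nil))) (.node 0x8146ed87abc791 (.node 0x6210a103e2f0d8 (.node 0x9e733664ed09f1 (.node 0x68310c5ce7452d .nil .nil) (.node 0xe24dad8bcd3ae .nil .nil)) (.node 0xc8f69c96bf1b9c (.node 0x44e5ad7aea0b38 .nil .nil) .nil)) (.node 0x47209762e4d954 (.node 0x783c1a80284208 (.node 0x2fac4efb185db4 .nil .nil) (.node 0xe14f665dbd50ab .nil .nil)) (.node 0x6ba5188c20dd32 (.node 0x26d00ddbcd6ff9 .nil .nil) .nil)))))) (.node 0xc38705d5b9a1a0 (.node 0xc50a4ad5a161d7 (.node 0xb6b31f85b06166 (.node 0x91e27040f5d663 (.node 0xb91657e71987e3 (.node 0xba96d4e5148d6f (.node 0x714515fc96c048 .nil .nil) (.node 0x212d1f1ba93067 .nil .nil)) (.node 0x74dc7bc0c40153 (.node 0x43c1d8a9aab4e0 .nil .nil) (.node 0xde678aad69d230 .nil .nil))) (.node 0x9502d7d4e1591d (.node 0xaf1b3423f8aa5a (.node 0x62f52c89166728 .nil .nil) (.node 0x102963f8af151e .nil .nil)) (.node 0x98ca44321aad49 (.node 0x4201a839eaa7d3 .nil .nil) .nil))) (.node 0x33042db663238f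 (.node 0xb116799507f973 (.node 0xb9e28a84f350b0 (.node 0x7ba8f03ca78033 .nil .nil) (.node 0x594c828a48b2f .nil .nil)) (.node 0x8681f8e14272cb (.node 0x2c285dab702871 .nil .nil) (.node 0xe6af8a2d794d0b .nil .nil))) (.node 0xcd0b40c33bec0b (.node 0x991efff0788a50 (.node 0x34cc40eb91a56c .nil .nil) (.node 0xda2f8e5e2aec62 .nil .nil)) (.node 0x70b4f291aedf97 (.node 0x49417a69d9a977 .nil .nil) .nil)))) (.node 0x977a3840dcd784 (.node 0x4340274668e2ef (.node 0xa7feb3b792071a (.node 0x89fa8824553192 (.node 0x76f8147c7c825d .nil .nil) (.node 0x149556f7e41364 .nil .nil)) (.node 0xc0f2a3d191d302 (.node 0x53109b7a374e38 .nil .nil) (.node 0xe5e35f7d221635 .nil .nil))) (.node 0xa96b32157be81a (.node 0x579db833c9f43c (.node 0x63592ff91f29b0 .nil .nil) (.node 0xd34fa20e96760e .nil .nil)) (.node 0x8ddeea71c5b0a0 (.node 0x4e10451b5cb48f .nil .nil) .nil))) (.node 0x8bae4e373748c3 (.node 0x95e33b558cd73d (.node 0x23755e131eaeec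 (.node 0x66c5492d1505ec .nil .nil) (.node 0x18c16a8824ec8 .nil .nil)) (.node 0x47d859c6f9db95 (.node 0x40a5e7cabc3649 .nil .nil) .nil)) (.node 0xcc5f0bf36ee98d (.node 0xd09b2670a5439d (.node 0x50240cfb992e59 .nil .nil) (.node 0xe0b363cd550bcd .nil .nil)) (.node 0x6e28a6ac2be01d (.node 0x1b68218bffafc4 .nil .nil) .nil))))) (.node 0xb5af1ac59aa12a (.node 0xaa5665e5ca6285 (.node 0x4a2174e69ea2cc (.node 0xa9e331d732077c (.node 0x4520462535b35e (.node 0x7b4cfc6cbe007d .nil .nil) (.node 0x1700c147d20fa5 .nil .nil)) (.node 0xcf0e0710644486 (.node 0x45b9b47a3af8e9 .nil .nil) (.node 0xdd339f3e2be8e9 .nil .nil))) (.node 0xadd2ad1399a75a (.node 0xbcca02743d95ad (.node 0x5928b1d93bead3 .nil .nil) (.node 0xd98375bdb4cdae .nil .nil)) (.node 0x6e0ca5f1dba022 (.node 0x50f9abbaff29a9 .nil .nil) .nil))) (.node 0x825e7ec0c3097b (.node 0xb00af53545f819 (.node 0x5908b15290f0ff (.node 0x158cf5480a8563 .nil .nil) (.node 0x8d50a88360d94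 .nil .nil)) (.node 0xc9bac4c70d9c15 (.node 0x55686c2adcb91f .nil .nil) .nil)) (.node 0xb236f78449684f (.node 0x729d42a03b82bf (.node 0x38099b3a7a9de3 .nil .nil) (.node 0xdad7a74dbf8ab1 .nil .nil)) (.node 0x8afe4bf207f096 (.node 0x1dd12e4c0feef9 .nil .nil) .nil)))) (.node 0x97cb12d0e99811 (.node 0x2cac99468ca36f (.node 0xa1b2b9a300f888 (.node 0x950ed7b37e991f (.node 0x78a0868c63414f .nil .nil) (.node 0x31990f85e54f6 .nil .nil)) (.node 0x4fe40bb161646d (.node 0x2b4c5709b99db5 .nil .nil) (.node 0xe95b85add9266a .nil .nil))) (.node 0xa8a26294cfe7f7 (.node 0x889ee08359b1c3 (.node 0x604c1039136e1c .nil .nil) (.node 0xdb8f4e4d7dd0ed .nil .nil)) (.node 0x8dd2ea4240f0a1 (.node 0x4a45757a214a3c .nil .nil) .nil))) (.node 0xa76a1e971fc867 (.node 0x947abd242356a9 (.node 0xb78299d493375d (.node 0x5ed423096d33f0 .nil .nil) (.node 0xdb4c508e25335 .nil .nil)) (.node 0xc16ed366df9bbe (.node 0x435827fa740bb9 .nil .nil)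 .nil)) (.node 0x9c92199519eb12 (.node 0xd0db2ab01d4383 (.node 0x312de18a865173 .nil .nil) (.node 0xdd7f48de7178b2 .nil .nil)) (.node 0x6cad3cfc37e03e (.node 0x1d35894bdeafb9 .nil .nil) .nil))))))))

/-- Part of `setTab`. -/
noncomputable def setTab_l_r_l_r_r : Arr ℕ :=
  (.node 0xbd818e5d25f2c (.node 0x7edf25b5cf0fbd (.node 0xc2cf0735f520dc (.node 0x9cbf3516226140 (.node 0xb8c2f3e62ea1ad (.node 0x37017ae125ddbd (.node 0xae8b3727bc881c (.node 0xc6d200f4a12dc8 (.node 0x11e0cf18d51f64 .nil .nil) (.node 0x23315c6c01f000 .nil .nil)) (.node 0xb82e84d0ad4b80 (.node 0x51a197da114fe7 .nil .nil) (.node 0xe4d356dd430ae9 .nil .nil))) (.node 0x9a06c56274b96f (.node 0x84c70af29ab294 (.node 0x61847788f76899 .nil .nil) (.node 0xd491a38b80c29 .nil .nil)) (.node 0xbc420587089ae1 (.node 0x462dd69b5ecfff .nil .nil) .nil))) (.node 0x8cc60cc199a2a1 (.node 0xb002f52355367e (.node 0x9296b7148598d0 (.node 0x72dd437cb2c2c6 .nil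 .nil) (.node 0x458bb682f159f .nil .nil)) (.node 0x5291d041732546 (.node 0x29f872d9fa52e2 .nil .nil) (.node 0xe76b4f5d731052 .nil .nil))) (.node 0x959eaa747fd8ee (.node 0x85cdfb12e032d2 (.node 0x379c6a89d67728 .nil .nil) (.node 0xd967669dd367a8 .nil .nil)) (.node 0xaac2e261caae30 (.node 0x475097db4acf68 .nil .nil) .nil)))) (.node 0x7f2729361e0f8a (.node 0x271983f6aba3a2 (.node 0xaa66663772c9bb (.node 0x4c797333b7199f (.node 0x7549650c6ec201 .nil .nil) (.node 0x168105181412a0 .nil .nil)) (.node 0xb76b309073cd4e (.node 0x447c351af1b671 .nil .nil) (.node 0xdfbb92ae67b851 .nil .nil))) (.node 0x976708842f97e0 (.node 0xa7c31d82b95578 (.node 0x5a64e1e937b381 .nil .nil) (.node 0xd35b85ee33ee10 .nil .nil)) (.node 0x70b0f241a1df94 (.node 0x505de4eb81f5f1 .nil .nil) .nil))) (.node 0xa84ae5875bc96a (.node 0xa42213c2c8f4ab (.node 0x5eb0224408b14b (.node 0x65ece6ecf745df .nil .nil) (.node 0xa2081a85159c4 .nil .nil))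 (.node 0xcafaccb6d79b39 (.node 0x281db13a5bde12 .nil .nil) .nil)) (.node 0x94e2a8a3bed64f (.node 0x74d87be0b70152 (.node 0x3230445b3d3999 .nil .nil) (.node 0xe31b5fae09a996 .nil .nil)) (.node 0x9bcf1cf212abce (.node 0x23fc78ebd12f44 .nil .nil) .nil))))) (.node 0xb6bf1ff63b2106 (.node 0xb1067965da20bd (.node 0x415c6521049f0d (.node 0x9c7e19f7b088b9 (.node 0xb1665e72f90ced (.node 0x7270c67ca88313 .nil .nil) (.node 0x1908dee803d505 .nil .nil)) (.node 0x729942904882be (.node 0x3acc337b7ce419 .nil .nil) (.node 0xe29b572e5d69fe .nil .nil))) (.node 0xb91e57d32e389b (.node 0xb066cfa568eb85 (.node 0x201d4ea9261e87 .nil .nil) (.node 0xd8238d5e44a6b3 .nil .nil)) (.node 0x8b3f2ed1f43124 (.node 0x3399e06aa3392d .nil .nil) .nil))) (.node 0xaa269a2748c733 (.node 0xa15a71d3ae7603 (.node 0xad4a8413fee894 (.node 0x7cf9377c98c2f9 .nil .nil) (.node 0x7b0f1289899c7 .nil .nil)) (.node 0x836ee6514ff332 (.node 0x58f893ab2ce6a6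 .nil .nil) .nil)) (.node 0x9091f842ac1879 (.node 0xce0a55d051441a (.node 0x4a0091ca158b84 .nil .nil) (.node 0xd82787ae83f4ff .nil .nil)) (.node 0x6e08a5d1e8a029 (.node 0x1fe0b07ba7ee99 .nil .nil) .nil)))) (.node 0x9109f470fd5847 (.node 0x2fd40a1675e338 (.node 0x80b646a757c8fd (.node 0x86273ca2ccf227 (.node 0x7739c81c72c0e1 .nil .nil) (.node 0xbc5c918751a55 .nil .nil)) (.node 0xc03aa1b19ecdc2 (.node 0x583441ba69eccd .nil .nil) (.node 0xe89764ddd7a719 .nil .nil))) (.node 0x962df6a3de1830 (.node 0x2e51a90522d9f8 (.node 0x61e18a49017444 .nil .nil) (.node 0xd3039fbdac8cc8 .nil .nil)) (.node 0xaa3e9a62552e50 (.node 0x4c38907b0925bf .nil .nil) .nil))) (.node 0xb3a6f827a447b2 (.node 0x992e4143ee76b3 (.node 0x4c048f44ec17d4 (.node 0x6ac155ed02c678 .nil .nil) (.node 0xfc4d198eb4afa .nil .nil)) (.node 0x2fe009f6bddbaf (.node 0x3c61bdfae42472 .nil .nil) .nil)) (.node 0x9336d3d2ec58a9 (.node 0xb9bacdd0320c18 (.node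 0x32283b29e8a64e .nil .nil) (.node 0xe48b654e392c86 .nil .nil)) (.node 0x70e4f38c585c40 (.node 0x2589ebbbf32f31 .nil .nil) .nil)))))) (.node 0xfe162d5b4a19f (.node 0x11f131d59ce1d4 (.node 0x59655085afe15c (.node 0x839ab49114562f (.node 0x19b925771687e0 (.node 0x1e289f6511b03c (.node 0x6c79308c441e9b .nil .nil) (.node 0x2179526c172ea2 .nil .nil)) (.node 0xb076cf90ce91cf (.node 0x3cd9dd09a45f0a .nil .nil) (.node 0xe413728d65ce01 .nil .nil))) (.node 0xa8726244defa38 (.node 0x5bacd793f5f12f (.node 0x5ab15df91a6e2d .nil .nil) (.node 0xe895a78dd8cab .nil .nil)) (.node 0x6e04a5e2162023 (.node 0x3fad9619ef27e5 .nil .nil) .nil))) (.node 0x96c1f5765e1855 (.node 0xc162d2b4be9176 (.node 0x351db6d4f2746a (.node 0x61cef0821401c .nil .nil) (.node 0x611171818da22 .nil .nil)) (.node 0xbcbf4581850caa (.node 0x54619fcb6c2c38 .nil .nil) (.node 0xe7834bfd5a4ea2 .nil .nil))) (.node 0x35e5af7336b47a (.node 0x717911b07642d8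 (.node 0x34943f7b8bf9d6 .nil .nil) (.node 0xd8539c9daf0be4 .nil .nil)) (.node 0x8bde4ea1b73153 (.node 0x4ad04359942769 .nil .nil) .nil)))) (.node 0x85c5fbc12e4afc (.node 0x93ba8be6711882 (.node 0x888a67b0a9470a (.node 0xa0aef4845be631 (.node 0x75b5f21cc3c134 .nil .nil) (.node 0x15b101080c1118 .nil .nil)) (.node 0x4f7dd9618de45f (.node 0x2ccc9a0a30a3ed .nil .nil) (.node 0xe39b74fe3c6650 .nil .nil))) (.node 0x7b24fc3579c074 (.node 0xa3566e13d338be (.node 0x5b2d60f925e6f5 .nil .nil) (.node 0xda2b8e7ddbeb3b .nil .nil)) (.node 0xad5283926726c4 (.node 0x32c44d0b58b495 .nil .nil) .nil))) (.node 0x8f944273508bc (.node 0xa93e10355f3a65 (.node 0x976308537217e7 (.node 0x6909031cec0605 .nil .nil) (.node 0x61f3183c9a85 .nil .nil)) (.node 0xc18a7816c75b59 (.node 0x53917e8a4e5eec .nil .nil) .nil)) (.node 0x54e9a3536999b2 (.node 0xb7aa9990118ce7 (.node 0x52d1d1298667c1 .nil .nil) (.node 0xdd4f81be6b786f .nil .nil))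 (.node 0x6fa9592c42dfd3 (.node 0x1a5dcdbbc0af06 .nil .nil) .nil))))) (.node 0x7c8eda5965e55 (.node 0x921aa1c1c71929 (.node 0x857f3fd134d4f2 (.node 0x20f51dd72fc76d (.node 0x8fd22ca33ed7a2 (.node 0x731cbd8cbac092 .nil .nil) (.node 0x19d92677f9d428 .nil .nil)) (.node 0xd19aec408bc405 (.node 0x4321d43a582d60 .nil .nil) (.node 0xe303663dbb0fe3 .nil .nil))) (.node 0x60948de396313c (.node 0x2f98f8439436e (.node 0x64dd20b947a6d2 .nil .nil) (.node 0xd47379ce8334de .nil .nil)) (.node 0xb7673031d967de (.node 0x2f5d99fb036998 .nil .nil) .nil))) (.node 0x7f07294799492f (.node 0xbac694053f53c2 (.node 0xa0463c828fb666 (.node 0x6a9cb3bd05c500 .nil .nil) (.node 0x93d456889530a .nil .nil)) (.node 0x43a5d7c70a5c21 (.node 0x2ba19d99b337f1 .nil .nil) .nil)) (.node 0x6268a434463158 (.node 0xd08326f037039e (.node 0x4861a09a77b80b .nil .nil) (.node 0xd7138dee062a61 .nil .nil)) (.node 0xa67a43322d2b6c (.node 0x1e689febb0703a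 .nil .nil) .nil)))) (.node 0x8352e6c11ac9e3 (.node 0x8f1a31d688d763 (.node 0xbc27471307d29d (.node 0xbcda02430e0aa5 (.node 0x74f47cec67816b .nil .nil) (.node 0x20087f863594e .nil .nil)) (.node 0x83b2b4a16871d4 (.node 0x54985c49b836ba .nil .nil) (.node 0xe9738efe1969b2 .nil .nil))) (.node 0x5dec25a4ccb0eb (.node 0x9b3b3364b1ecff (.node 0x5f25edf95febdb .nil .nil) (.node 0xd28f6dcd7c8f47 .nil .nil)) (.node 0x6f2d0ec23d1f4e (.node 0x47959cba9fcc52 .nil .nil) .nil))) (.node 0x159900a71c886c (.node 0xa70e7a541afa07 (.node 0xa01e9004971067 (.node 0x5dd9cf4902da95 .nil .nil) (.node 0xf68ce88c74bf7 .nil .nil)) (.node 0xcb766216f55af4 (.node 0x3de429ea6fcb9f .nil .nil) .nil)) (.node 0x3d75d4a517343a (.node 0x78381a901b4209 (.node 0x4fadd9da7fe3de .nil .nil) (.node 0xdcf3754e0da6b9 .nil .nil)) (.node 0x6ef0ccdc4f5f57 (.node 0x1c008d5be06f71 .nil .nil) .nil))))))) (.node 0xaa9ae2a5f860ea (.node 0x5ea422b5e5e246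 (.node 0x9699f532081851 (.node 0xc20a0ed637a1c5 (.node 0x978237e0e3178a (.node 0x8e3e2217cdc825 (.node 0xa7521db342fa7b (.node 0x6ea1284c549ddb .nil .nil) (.node 0x1ec8a37bb92eda .nil .nil)) (.node 0x79bd8e500141a0 (.node 0x3f24538a0a391a .nil .nil) (.node 0xde8f723d861200 .nil .nil))) (.node 0xcdee0004762b25 (.node 0xcb2a965420ab87 (.node 0x5d716c397c9a93 .nil .nil) (.node 0x1158eb58cbcc10 .nil .nil)) (.node 0xc63741a6b85c2e (.node 0x3d443169bf28fd .nil .nil) .nil))) (.node 0x440405165622ba (.node 0xb75b3064b72a5b (.node 0x9b3733348b0a70 (.node 0x7a9146ec8840ac .nil .nil) (.node 0x99cbf0894c9cc .nil .nil)) (.node 0x851b3de17c7217 (.node 0x588d714b318ce8 .nil .nil) (.node 0xe6974ebd444ebc .nil .nil))) (.node 0xb7160f538bd035 (.node 0xc659fd62dc2726 (.node 0x4b05ba898c360f .nil .nil) (.node 0xdadb757e0e2e31 .nil .nil)) (.node 0x6b691792572012 (.node 0x3555b74b88ed51 .nil .nil) .nil)))) (.node 0xa4a26c5616e08b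 (.node 0x916ea096a6168d (.node 0x8a9ee8b76dc6d5 (.node 0x82827f63b37348 (.node 0xbcc18787b4106 .nil .nil) (.node 0x1958e7e7f515c9 .nil .nil)) (.node 0xa5f242306bcad1 (.node 0x4064077ad65ee8 .nil .nil) (.node 0xe37b9f1dc22836 .nil .nil))) (.node 0xc94ac252832677 (.node 0x55f571c54df24c (.node 0x6254a2294f1a7a .nil .nil) (.node 0xd47f952e4ba991 .nil .nil)) (.node 0x8d3f2c926f70f2 (.node 0x2dac2cd99b5c51 .nil .nil) .nil))) (.node 0x1ad9ca377d869c (.node 0x9aaa98d467aa05 (.node 0x86edfcb37972e6 (.node 0x6671246cf1c59e .nil .nil) (.node 0x25993086a4d2e .nil .nil)) (.node 0x4ae9b9d6ce1b19 (.node 0x576839caca9da2 .nil .nil) .nil)) (.node 0xbe8234e55d90e3 (.node 0xcecf02a016046e (.node 0x4db5b2fb44ce67 .nil .nil) (.node 0xe057a73e6cb784 .nil .nil)) (.node 0xb23af7420c6d8a (.node 0x1c656dbbe9ef96 .nil .nil) .nil))))) (.node 0xc3ce51864fe1fc (.node 0xab9eceb605a22e (.node 0x97c31240d65817 (.node 0xb91a5737b44899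 (.node 0x489460534418df (.node 0x7a40ba3c834286 .nil .nil) (.node 0x154d0e38070e0d .nil .nil)) (.node 0x9bd31ce0859529 (.node 0x3eb9a72b1f49d3 .nil .nil) (.node 0xdcab6bde526d5f .nil .nil))) (.node 0xa13ef93326a8fe (.node 0x78e591044141df (.node 0x59f922e92d6d66 .nil .nil) (.node 0xd5379b8e88b55c .nil .nil)) (.node 0x6d516152375f87 (.node 0x4f4800ca89b943 .nil .nil) .nil))) (.node 0x1940e7179a8950 (.node 0xcde60023a82900 (.node 0x63f4adc5727109 (.node 0x67e8b63d190635 .nil .nil) (.node 0x65d13c82351b3 .nil .nil)) (.node 0xc036a1114a8d90 (.node 0x29c982aa032d7e .nil .nil) .nil)) (.node 0xb05ecf82a64ad6 (.node 0x7a7d45a096c09c (.node 0x39285fcab337d9 .nil .nil) (.node 0xd72f8d8e5ea907 .nil .nil)) (.node 0xb1725ec227eab6 (.node 0x2208ad0c1db045 .nil .nil) .nil)))) (.node 0x922aa1f0ef5938 (.node 0x471497b681a323 (.node 0xa17672574f8922 (.node 0xa85ee50313ab53 (.node 0x76301e5cc9c22a .nil .nil) (.node 0xa020584790a6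 .nil .nil)) (.node 0x4ec4363152e405 (.node 0x55e976daf6e66f .nil .nil) (.node 0xe83f501de4289a .nil .nil))) (.node 0x9bfeb2c3d84d3a (.node 0xb18afa74acf686 (.node 0x1a6823c9609e0f .nil .nil) (.node 0xdbf760ed755180 .nil .nil)) (.node 0x8cfe0d124db116 (.node 0x385458ba971342 .nil .nil) .nil))) (.node 0x876e2b20680877 (.node 0xcbaee793e86be9 (.node 0x93c28c84e7988c (.node 0x677940cd1f0542 .nil .nil) (.node 0x123932a8d90c92 .nil .nil)) (.node 0xc08270b6cd1bee (.node 0x4544476a44955e .nil .nil) .nil)) (.node 0xafd63de2e64dec (.node 0xd19eec70298402 (.node 0x512063db16b57b .nil .nil) (.node 0xe52b72ee1f6db0 .nil .nil)) (.node 0x6d34e94c49de53 (.node 0x1acc248bc96fe9 .nil .nil) .nil)))))) (.node 0x9eeefbc5bd2188 (.node 0x800f2bf641d564 (.node 0xff16285dea0af (.node 0x7e6e0730fd8375 (.node 0x807254471507c4 (.node 0x91ca69850c990b (.node 0x7c8539ec91405f .nil .nil) (.node 0x2071502bad3077 .nil .nil)) (.node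 0xb8328440c84e99 (.node 0x466004db79b483 .nil .nil) (.node 0xe0936c0e52279b .nil .nil))) (.node 0x4d45daa4d9b3ae (.node 0xb8865b13f4b667 (.node 0x6294a4f95bf414 .nil .nil) (.node 0x1104a808efcb13 .nil .nil)) (.node 0xab871ef1f8ac40 (.node 0x521050da2c277b .nil .nil) .nil))) (.node 0xcb86e75666e396 (.node 0x38305854fe733f (.node 0xa012902406393b (.node 0x71f4ca0ca30018 .nil .nil) (.node 0x7f8ee68a00b48 .nil .nil)) (.node 0x511463a139e5db (.node 0x540455eb76e732 .nil .nil) (.node 0xe71f4c9d261020 .nil .nil))) (.node 0x87ca364333b242 (.node 0xb17e5e4058d47d (.node 0x39957fab4fe5b3 .nil .nil) (.node 0xd57f4ead454ffa .nil .nil)) (.node 0xaa866641b26a41 (.node 0x374d7bc9dde989 .nil .nil) .nil)))) (.node 0x41c1a7f10b1c9e (.node 0xc9ca80066de2f8 (.node 0x1600f70788c6fb (.node 0x60908df2d070fd (.node 0x77ac182c7a424a .nil .nil) (.node 0x18891cc7ff137d .nil .nil)) (.node 0x86cb3e71963201 (.node 0x28edb58ac6cf9d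 .nil .nil) (.node 0xe34378ae562681 .nil .nil))) (.node 0x8a109d57e0442 (.node 0xa6eebf93caced3 (.node 0x5d048af97427fb .nil .nil) (.node 0xd2b7a42e91b594 .nil .nil)) (.node 0x6cf4e911bbe05c (.node 0x340c710b03df21 .nil .nil) .nil))) (.node 0x8b7a0b173cc8db (.node 0x509daae585737c (.node 0xc1d2be73215501 (.node 0x1934e6f7f4064d .nil .nil) (.node 0xc0019f87dcee2 .nil .nil)) (.node 0xcdf1ffb6fb5b80 (.node 0x3db828ba6cb9cd .nil .nil) .nil)) (.node 0x86bf3e33663200 (.node 0x765dc4209d00eb (.node 0x30240aab9faccb .nil .nil) (.node 0xe29757cd804a36 .nil .nil)) (.node 0x6d71623c52df7f (.node 0x25f4116bfbafd4 .nil .nil) .nil))))) (.node 0x805727e59354d2 (.node 0x133934a5c0a299 (.node 0xcd934216a2a2d0 (.node 0x9c880a777098d (.node 0xa24ad6b537115d (.node 0x797c82fcd4817d .nil .nil) (.node 0x161cf788110f8b .nil .nil)) (.node 0x7b9cef405c001a (.node 0x3bbdc23a40ab3d .nil .nil) (.node 0xe1af549dba0f96 .nil .nil)))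 (.node 0x22192e4330441 (.node 0xb192fab2b4b823 (.node 0x6490e4a93d5a97 .nil .nil) (.node 0xd4fb9b3d6c9492 .nil .nil)) (.node 0xaf233411dfaded (.node 0x4e8dae29c8b842 .nil .nil) .nil))) (.node 0x9a929887608985 (.node 0x309c2f82bdd714 (.node 0xa7821e4293eb11 (.node 0x6954f67ceb457b .nil .nil) (.node 0x4b947c83a8dad .nil .nil)) (.node 0xbec709d6ebdbd6 (.node 0x2a5c6d9ae136b4 .nil .nil) .nil)) (.node 0xa94f3243c7b5cb (.node 0xce82ee503dc451 (.node 0x347987ab0c5cc8 .nil .nil) (.node 0xd76b68ee5de94d .nil .nil)) (.node 0x6d5d6141fcdf81 (.node 0x238d5f5c0beee9 .nil .nil) .nil)))) (.node 0x376869d11f5dee (.node 0xcc2630a691a375 (.node 0x53497db34a327e (.node 0x278c73c38433df (.node 0x79fd8eccde01a7 .nil .nil) (.node 0xa7569d859d50f .nil .nil)) (.node 0xbd7b0d7163d227 (.node 0x296893f9f239a6 .nil .nil) (.node 0xe9eb5abdc1a760 .nil .nil))) (.node 0x978bda476c48a (.node 0x638d53435cf0cf (.node 0x5e1426f90e2cc2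 .nil .nil) (.node 0xd93f4e3e156751 .nil .nil)) (.node 0x8d020d71d2f117 (.node 0x36b1862a258a55 .nil .nil) .nil))) (.node 0x7ff72b77c387f9 (.node 0x24a888a278af6d (.node 0x54159e929e58c4 (.node 0x5f88131967b380 .nil .nil) (.node 0x137935c8b38c43 .nil .nil)) (.node 0x377469c6e05b30 (.node 0x4234521b3c163a .nil .nil) .nil)) (.node 0xaa0e9a84a6f635 (.node 0xd1df0000b283e8 (.node 0x331c2ebaac4bea .nil .nil) (.node 0xddeb5c7e70b7e8 .nil .nil)) (.node 0x6b2cc30c5f5ffb (.node 0x24698c6bdaafa9 .nil .nil) .nil))))))))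

/-- Part of `setTab`. -/
noncomputable def setTab_l_r_l_r : Arr ℕ :=
  .node 0xc4d222c613a27b setTab_l_r_l_r_l setTab_l_r_l_r_r

/-- Part of `setTab`. -/
noncomputable def setTab_l_r_l : Arr ℕ :=
  .node 0xffd62e60ea277 setTab_l_r_l_l setTab_l_r_l_r

/-- Part of `setTab`. -/
noncomputable def setTab_l_r_r_l_l : Arr ℕ :=
  (.node 0x80d646960c9470 (.node 0x9beab2f5d56067 (.node 0x5ea022a5f1e0cc (.node 0x972e3421e7d7d8 (.node 0xc5cb21f595e125 (.node 0x9272b6e12358d9 (.node 0x8aee4c27c047f0 (.node 0xbf6e03e4a5cea0 (.node 0x6b5cc3ac5c5c5b .nil .nil) (.node 0x1d892b1c06f018 .nil .nil)) (.node 0xc3760be0b5d087 (.node 0x4d1c028ab0a86d .nil .nil) (.node 0xdcc77f1e22eb80 .nil .nil))) (.node 0xa18272027aabd6 (.node 0xcc4b0be2a2ea4c (.node 0x5fb012f96659b9 .nil .nil) (.node 0x12f4f488e4640d .nil .nil)) (.node 0xbbd6ab96e55b2d (.node 0x3e5c671b373954 .nil .nil) .nil))) (.node 0x4095e6d6932359 (.node 0x943676134b98be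 (.node 0xacce5a0386ee4b (.node 0x74ad685cda81c8 .nil .nil) (.node 0x874fb682d4cca .nil .nil)) (.node 0x3c35bce16de3df (.node 0x56989529f28b39 .nil .nil) (.node 0xe7675a6d7a8bc0 .nil .nil))) (.node 0xc96ac2b47c6af1 (.node 0x956ade435ed680 (.node 0x499c6969d05cf6 .nil .nil) (.node 0xd90f792ddf68d2 .nil .nil)) (.node 0xcf7225d1d0449a (.node 0x3a1496fb47284d .nil .nil) .nil)))) (.node 0xaf7aa755c42295 (.node 0x9476bdb69ad6a3 (.node 0x8ece50d7790990 (.node 0xcb41be52e44c0 (.node 0x7458803cd0c18d .nil .nil) (.node 0x17794a87d81e4a .nil .nil)) (.node 0x9f1afbd05f936f (.node 0x3c043cfaeb9d8b .nil .nil) (.node 0xddd3a5ae08ab2f .nil .nil))) (.node 0xac028bb436ae7b (.node 0x63e8add2b77099 (.node 0x2154adb92f5cef .nil .nil) (.node 0xd49b50be95f6bd .nil .nil)) (.node 0x74716751a8c1bf (.node 0x31604c79caf99d .nil .nil) .nil))) (.node 0x26a40d9759c95b (.node 0x98c244d2c0a6bd (.node 0x384c57e40fb3bb (.node 0x670cbffd12455d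 .nil .nil) (.node 0x2ac846853ce47 .nil .nil)) (.node 0xc8f29d26e9dbca (.node 0x2a746e4adfe58e .nil .nil) .nil)) (.node 0xa4361423c48b3c (.node 0x680d0ba0be0523 (.node 0x3465875b0d2406 .nil .nil) (.node 0xdd5371fdb513ba .nil .nil)) (.node 0xafea3d71ff6dfe (.node 0x1ca875abd4af56 .nil .nil) .nil))))) (.node 0xc3132fd64360fe (.node 0xa576c645e160ac (.node 0x8f5b16a1025802 (.node 0xa3e71b871207cd (.node 0x5bb0d722f6f11e (.node 0x754ebc8964328 .nil .nil) (.node 0x150cb4a7e9de2c .nil .nil)) (.node 0x675d3f80434538 (.node 0x4668044b7a5376 .nil .nil) (.node 0xe0e7814e2026c8 .nil .nil))) (.node 0xc8ea9c44de6d23 (.node 0xb1ea4023f1532c (.node 0x62aca5595aec91 .nil .nil) (.node 0xd4b3656dbdd168 .nil .nil)) (.node 0xcfa324e1f7c4b4 (.node 0x2ee062ba279d09 .nil .nil) .nil))) (.node 0x194ce767468731 (.node 0xcc9a2b6502ec6c (.node 0x9caa1a53fbba60 (.node 0x718d120c9c42e9 .nil .nil) (.node 0x520cb489c5588 .nil .nil))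 (.node 0x89e685d13ab359 (.node 0x27b4745b251ce3 .nil .nil) .nil)) (.node 0x9a16c5c3325068 (.node 0xc5264b305a4b2a (.node 0x46f581db536c58 .nil .nil) (.node 0xdb5f58de42a7ca .nil .nil)) (.node 0x7b30fc11e3406c (.node 0x20d4e35ba22e8b .nil .nil) .nil)))) (.node 0x942677011058c3 (.node 0x48fd79167a6349 (.node 0xb84ec8b78bc6f9 (.node 0x8fca2d02d2979e (.node 0x7681c57c7540fa .nil .nil) (.node 0x10dc6d8784b18 .nil .nil)) (.node 0xbd770dd19949f8 (.node 0x56f9c0fac43971 .nil .nil) (.node 0xe9679a2dffa854 .nil .nil))) (.node 0xc986c47583ee6d (.node 0xaf32dbb52d752a (.node 0x60c88e6970b425 .nil .nil) (.node 0xd9e35fedff2a0c .nil .nil)) (.node 0x8e5a2141bef0d1 (.node 0x33ec71bb06ce1c .nil .nil) .nil))) (.node 0x86d9fbf047c7a7 (.node 0xcdab423589ee5d (.node 0x81e2c1731a7365 (.node 0x65991bfcfbc663 .nil .nil) (.node 0x10752918a96550 .nil .nil)) (.node 0x41c5a786fe9b7f (.node 0x3ffde67abd9499 .nil .nil) .nil)) (.node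 0xa5069f73659378 (.node 0xa74e7ae0a153d3 (.node 0x4ed036a9e3749a .nil .nil) (.node 0xdd139ede64b738 .nil .nil)) (.node 0x6d99627c509dc0 (.node 0x1af9ca8bf76f23 .nil .nil) .nil)))))) (.node 0x9f32bad5e6e250 (.node 0x7d3e48b5a64e70 (.node 0xfe562b5a8a170 (.node 0x7d9645011103a9 (.node 0x7df703e7c9c845 (.node 0x88231484c372a3 (.node 0x7008d9dc3fdfe6 .nil .nil) (.node 0x1f39216c12aeb9 .nil .nil)) (.node 0xa74a7a800550d8 (.node 0x417865da067532 .nil .nil) (.node 0xe4b78a3d514d18 .nil .nil))) (.node 0x32984ca46b718e (.node 0x470c97841617d6 (.node 0x61396f2977d9eb .nil .nil) (.node 0x12709e48bf254f .nil .nil)) (.node 0x7cb136521d82f6 (.node 0x44340589c47729 .nil .nil) .nil))) (.node 0xc66dfd865a22bc (.node 0x55306b84bb72bd (.node 0x850f3df4faf214 (.node 0x7a8d466c8b80b2 .nil .nil) (.node 0x6cd3b981e5633 .nil .nil)) (.node 0xba7a75c17dd0b8 (.node 0x2c69a53b6937fb .nil .nil) (.node 0xe78f65cd5b8cbe .nil .nil)))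 (.node 0x83cfab38f838c (.node 0x68050b907d0524 (.node 0x4b0dba298c90f6 .nil .nil) (.node 0xd9e7672e45eb7a .nil .nil)) (.node 0xa25ad6a25b2d6b (.node 0x35bc49199a2849 .nil .nil) .nil)))) (.node 0x297982012c5dec (.node 0xc75315b6a8e3ba (.node 0x147556476446c3 (.node 0xae9737b3b194e6 (.node 0x7815eeccc6410c .nil .nil) (.node 0x184cb897e1dcf5 .nil .nil)) (.node 0x3f6995d186e5da (.node 0x404007bad90f04 .nil .nil) (.node 0xe5c38b0d854dfe .nil .nil))) (.node 0x39c095f285328e (.node 0x9992fcb550e90f (.node 0x5b74d4d94deb37 .nil .nil) (.node 0xd3e7696e116d4b .nil .nil)) (.node 0xd1ff00b26c43e1 (.node 0x2d882d199dd064 .nil .nil) .nil))) (.node 0xaf46db6780c6ae (.node 0x4ba1be045f730d (.node 0xb2f272c378cfb8 (.node 0x6a3d4cad088583 .nil .nil) (.node 0xc89f098439948 .nil .nil)) (.node 0xbd162e66d29b14 (.node 0x574c3a7acd135a .nil .nil) .nil)) (.node 0x87d2361556324b (.node 0xc5aa252019d5e3 (.node 0x2e29d249846802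 .nil .nil) (.node 0xe2dba3ae2f6b4f .nil .nil)) (.node 0x6be49d2c3adfc0 (.node 0x2661e8abc72f1b .nil .nil) .nil))))) (.node 0x7d86561646cdd8 (.node 0x11913dd5fd2216 (.node 0x84a30a60d2914f (.node 0x8fd4437290750 (.node 0x9f56bb23462686 (.node 0x738cf9ac84829c .nil .nil) (.node 0x143d4e47f29d55 .nil .nil)) (.node 0xc426e990878f25 (.node 0x3d8dd55a54f87c .nil .nil) (.node 0xdd5f8f0dee2df2 .nil .nil))) (.node 0x1c8075939daf5e (.node 0x9099f85442187a (.node 0x59b55199421a4c .nil .nil) (.node 0xd66385de342e00 .nil .nil)) (.node 0xb59216d23b2e0e (.node 0x30e0305a8bde92 .nil .nil) .nil))) (.node 0x8d1b2ca79d4943 (.node 0x441005753b5abf (.node 0x91b2697574d900 (.node 0x1930dbc7f444e0 .nil .nil) (.node 0x37907d8854c4b .nil .nil)) (.node 0x4e004476b15ad3 (.node 0x5511a3e9ad5e31 .nil .nil) .nil)) (.node 0x7d8ed844c036d (.node 0xa9c210e09ad604 (.node 0x47f05aaab7b49e .nil .nil) (.node 0xd3cb8c8dab8e16 .nil .nil))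 (.node 0xd16a45f22543ac (.node 0x2270d39bb4b02b .nil .nil) .nil)))) (.node 0x36346f1118dd8c (.node 0xc71a371685632b (.node 0x54eda34303b3ea (.node 0x3b104b330a5a71 (.node 0x76201e7ccb8239 .nil .nil) (.node 0xad87de865cfe0 .nil .nil)) (.node 0x89e2858154f353 (.node 0x2aed78baf7dcc3 .nil .nil) (.node 0xe8d7a64dfa6a60 .nil .nil))) (.node 0xb156584d2848d (.node 0xba8ed4a4ac4ed5 (.node 0x5e81cc6962a611 .nil .nil) (.node 0xdb574cdd26cf12 .nil .nil)) (.node 0x77701722448240 (.node 0x38e5a2ba99ab72 .nil .nil) .nil))) (.node 0x7e720817274878 (.node 0x3fbde51427f2dd (.node 0x6154772495713d (.node 0x5ffdea5908f407 .nil .nil) (.node 0x11b93ea8cca573 .nil .nil)) (.node 0xcdfe0056cb9be5 (.node 0x3b4c4c0a46a9bb .nil .nil) .nil)) (.node 0xacae59f5217514 (.node 0x68090bb0220522 (.node 0x512c645b171298 .nil .nil) (.node 0xdc5f623de8ed3d .nil .nil)) (.node 0x6f550efc33df42 (.node 0x24f08a1be52f6a .nil .nil) .nil)))))))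 (.node 0xc5822535d12081 (.node 0xff562f5eaa23c (.node 0xdd8da9626a157 (.node 0x5961507633e1b6 (.node 0x821ac3e1280bfa (.node 0x19a52587ca8839 (.node 0x2c51a4a4c75a42 (.node 0x6de8cfbc2c1e20 .nil .nil) (.node 0x22b4d68bbf2ec6 .nil .nil)) (.node 0x65711b0008465a (.node 0x2e95a9da106dc2 .nil .nil) (.node 0xdf77493e6837e2 .nil .nil))) (.node 0xa6865834707a58 (.node 0xbee309f29b53f3 (.node 0x5c247b68f42b57 .nil .nil) (.node 0xec910d8d12585 .nil .nil)) (.node 0xcbf2b59706dadc (.node 0x3a59deeb64b978 .nil .nil) .nil))) (.node 0x8fc62c7652d792 (.node 0xacc25a3352ce6b (.node 0x6391535489715e (.node 0x7ae5066cb642b6 .nil .nil) (.node 0x408feb88e9a0c .nil .nil)) (.node 0x84962f7175f27a (.node 0x275984ab2eadc4 .nil .nil) (.node 0xe69b615d9fcc8c .nil .nil))) (.node 0x7340f8a38b0297 (.node 0xa852e562df51ef (.node 0x35c442a98db9d1 .nil .nil) (.node 0xd8fb79be2eaa94 .nil .nil)) (.node 0x78f191225e81d8 (.node 0x4bf9beab8fad0c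 .nil .nil) .nil)))) (.node 0xc29a50161f60a7 (.node 0x9292b786ac58cd (.node 0x825a7da00006d7 (.node 0xa69efe13ba7952 (.node 0x755d652c6f0205 .nil .nil) (.node 0x13e4ab17eddf1b .nil .nil)) (.node 0xc27f2d30741240 (.node 0x4490353af06553 .nil .nil) (.node 0xe4cb4dee14e7e1 .nil .nil))) (.node 0xa19eb8a27d3a16 (.node 0x823ec3b54a31a5 (.node 0x5a40e1f9372c5e .nil .nil) (.node 0xd4e7547d8e908f .nil .nil)) (.node 0xb1367951a52cf8 (.node 0x5069e48b812422 .nil .nil) .nil))) (.node 0x9cc80c7830681 (.node 0xba02b822c7ccbd (.node 0x96bdf5540b185f (.node 0x69d4aa2d0d85b5 .nil .nil) (.node 0xb51664870997b .nil .nil)) (.node 0x3b004b46ecdc0a (.node 0x27f9b1aa5ecc39 .nil .nil) .nil)) (.node 0x4ae5b9855998c5 (.node 0xaa8e6620ba9401 (.node 0x3281c3cb3d9480 .nil .nil) (.node 0xe55771ad2bcc9a .nil .nil)) (.node 0xd0b726e2118393 (.node 0x25516aabee6f84 .nil .nil) .nil))))) (.node 0x7ccedc64a5d1d (.node 0x93cad1625656d1 (.node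 0x8559f9e10791e2 (.node 0x1ee92117b3888a (.node 0x831660b2f431f5 (.node 0x7268c62cabc324 .nil .nil) (.node 0x17e14167dcde28 .nil .nil)) (.node 0xd04628904a4351 (.node 0x42b9948b211142 .nil .nil) (.node 0xe16b92ce2baba3 .nil .nil))) (.node 0xa82ee1e31cba27 (.node 0x48a86025605a73 (.node 0x63a154a92a6e5f .nil .nil) (.node 0xda3750ad258efc .nil .nil)) (.node 0x73b108723100bb (.node 0x4d6ddb4aa59cc1 .nil .nil) .nil))) (.node 0x7f6209e7458742 (.node 0xbe471363add1d9 (.node 0x20314f256d707f (.node 0x68a0ffece1461e .nil .nil) (.node 0x74138d8261962 .nil .nil)) (.node 0xc13a8d4151cc42 (.node 0x563972a9fc1f08 .nil .nil) .nil)) (.node 0x5d2d6b92a3f10a (.node 0x669148b09105f5 (.node 0x36686f3a1c37de .nil .nil) (.node 0xdb4f8d3e44e6c6 .nil .nil)) (.node 0x9e421b21ec2e60 (.node 0x1f8cdfbc18f051 .nil .nil) .nil)))) (.node 0x88a2e040fad243 (.node 0x8ff30c767717c4 (.node 0x8bb64e8756c8f6 (.node 0xa17a7262cc0f06 (.node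 0x41a183c420a .nil .nil) (.node 0xce81c484b9525 .nil .nil)) (.node 0x3dc828e159e45d (.node 0x286c4a6a6735dc .nil .nil) (.node 0xe9a3a39e06ea93 .nil .nil))) (.node 0x602c0ec3d5f15a (.node 0x974308952417eb (.node 0x61f58a18fe19a0 .nil .nil) (.node 0xd6839a8e977632 .nil .nil)) (.node 0xce2a55c2524418 (.node 0x48d860ea909374 .nil .nil) .nil))) (.node 0x14655667a6879c (.node 0xba1ab803ed0e3b (.node 0xa29a3f24eee6ce (.node 0x68590c2ce40516 .nil .nil) (.node 0xe10dac8baa561 .nil .nil)) (.node 0xbfde02c6c19ba3 (.node 0x4515ad1ae8eb61 .nil .nil) .nil)) (.node 0x620ca172e3f0e9 (.node 0xc3ab055033cbdc (.node 0x2f644e1afb3989 .nil .nil) (.node 0xe09f80cdb411b8 .nil .nil)) (.node 0x6bb518bc205eb1 (.node 0x26e80e6bcdaff6 .nil .nil) .nil)))))) (.node 0xb3d615b5b8a196 (.node 0x9aca12959fe1d0 (.node 0xa0d65da5b2e162 (.node 0x56c5bfb0f19cce (.node 0xb36a5c971947e5 (.node 0xb58a164513ac8d (.node 0x715915cc94403a .nil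 .nil) (.node 0x21311eeba87063 .nil .nil)) (.node 0xc5324b40cfd2ed (.node 0x3cc9dcb9a4a576 .nil .nil) (.node 0xe573684e767707 .nil .nil))) (.node 0x9b9f1c74e43592 (.node 0x9162a053f7d691 (.node 0x63052cc917f462 .nil .nil) (.node 0x10156338ade562 .nil .nil)) (.node 0xac5258421967df (.node 0x420da889ed2a44 .nil .nil) .nil))) (.node 0xcd55fea6616388 (.node 0x86fdfc450772e2 (.node 0xcd8f42f4f6ac6d (.node 0x7bd0efeca58020 .nil .nil) (.node 0x5acc868a6dab2 .nil .nil)) (.node 0x3cf830f13f256f (.node 0x2c085e3b713843 .nil .nil) (.node 0xe70f54fd230b59 .nil .nil))) (.node 0x90673aa338172a (.node 0xd05228c077c34d (.node 0x34e0404b909235 .nil .nil) (.node 0xd3a78f2dcdadee .nil .nil)) (.node 0xcf662601b64497 (.node 0x494979c9dbed91 .nil .nil) .nil)))) (.node 0x965b39a0db1713 (.node 0x31e03ad66862f0 (.node 0x7db2ef6793070c (.node 0x30982f9453323c (.node 0x76ec142c7c426b .nil .nil) (.node 0x149957a7e51e13 .nil .nil))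 (.node 0x87af0eb1907286 (.node 0x53389bda35eadd .nil .nil) (.node 0xdcd38b4d35538a .nil .nil))) (.node 0xb43719a57c78da (.node 0x5fc9e9c3c930cd (.node 0x63492f3920a914 .nil .nil) (.node 0xd423602e2eea86 .nil .nil)) (.node 0x75f01da1c2c227 (.node 0x32c04d8b5909ee .nil .nil) .nil))) (.node 0xb3ee14c73648d0 (.node 0x85033d358df21b (.node 0x4f8dd9231e33be (.node 0x68e5034ceec616 .nil .nil) (.node 0x18015f880d385 .nil .nil)) (.node 0xccf711b6c51b54 (.node 0x536d7eba510a3a .nil .nil) .nil)) (.node 0x95f33b236b173e (.node 0x6ab554d0a48672 (.node 0x502c0c7b9be93c .nil .nil) (.node 0xdc0751ce7637c2 .nil .nil)) (.node 0xe3ca5a8d9a018 (.node 0x1b8c215bfcafc2 .nil .nil) .nil))))) (.node 0xa68efe3599a12f (.node 0x808e5405c81440 (.node 0x54219ea69fe2c6 (.node 0x8e8f0437324771 (.node 0x77681715364249 (.node 0x7b7cfc5cbc4071 .nil .nil) (.node 0x170cc1c7d45f1f .nil .nil)) (.node 0x6994a91063c5c1 (.node 0x45a1b41a3b7507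 .nil .nil) (.node 0xdc5ba70dc56a01 .nil .nil))) (.node 0xb7ca65539a38bf (.node 0xb7da64c43d2d52 (.node 0x592cb1e93af3c0 .nil .nil) (.node 0xd3d79bfe9ff64c .nil .nil)) (.node 0xd0bf2651d74397 (.node 0x50c1ab9afdf59c .nil .nil) .nil))) (.node 0x9fd2d10798893d (.node 0xaeb618454675ed (.node 0x98be44c28c929a (.node 0x6a6cb30d068512 .nil .nil) (.node 0x8e50b183559dc .nil .nil)) (.node 0xba8ad5470f5c1a (.node 0x55506bfadd36e3 .nil .nil) .nil)) (.node 0xa616fd744a794b (.node 0xc33b2fe03a0cc3 (.node 0x37c45fea79b9f3 .nil .nil) (.node 0xd4334b8d271138 .nil .nil)) (.node 0x7230c5f203c311 (.node 0x1dd52e5c0f2efa .nil .nil) .nil)))) (.node 0x50a5aac0e49f3c (.node 0x8d564981522367 (.node 0xadeedcb301f56d (.node 0x82fe60938031f6 (.node 0x78b4860c600146 .nil .nil) (.node 0x31d90285e108d .nil .nil)) (.node 0xbc7205e16b0b91 (.node 0x54a45c69b6e470 .nil .nil) (.node 0xe823a26dc7697e .nil .nil))) (.node 0x90070c04ce57cb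 (.node 0x3fd5e533571a72 (.node 0x606c0f4913aa2c .nil .nil) (.node 0xd393483e9a749d .nil .nil)) (.node 0x8b9a0b424130c0 (.node 0x4a69751a1f6652 .nil .nil) .nil))) (.node 0xb68620d71ec865 (.node 0x98eaff942634fe (.node 0x99f6c5d49476d7 (.node 0x2560223969dd67 .nil .nil) (.node 0xd94c4d8dfe41f .nil .nil)) (.node 0x42ddd366db5bc5 (.node 0x4384288a72e6dd .nil .nil) .nil)) (.node 0x92ee74351896c3 (.node 0xaacae2101f4eb2 (.node 0x3151e1da84ec59 .nil .nil) (.node 0xe5078bce0c28c3 .nil .nil)) (.node 0x6cb93cdc372040 (.node 0x1d19896bddefb2 .nil .nil) .nil))))))))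

/-- Part of `setTab`. -/
noncomputable def setTab_l_r_r_l_r : Arr ℕ :=
  (.node 0x921ea0a23c1928 (.node 0x133d3515cca076 (.node 0xa49e6cc5f2e0d6 (.node 0xa9473276232143 (.node 0x816eedc6305331 (.node 0x2b859d31255cfc (.node 0x8bbe4ee7bcc80d (.node 0xa72e7ab49f7872 (.node 0x709d341c24dd49 .nil .nil) (.node 0x23455c1c02f008 .nil .nil)) (.node 0xd15a4600abc3b5 (.node 0x51bd980a14a987 .nil .nil) (.node 0xe00f5c1e69f8ad .nil .nil))) (.node 0x9be2b2d275b4ee (.node 0x25f2e296c40c (.node 0x619c7808f55a94 .nil .nil) (.node 0xd2919e8b6a584 .nil .nil)) (.node 0x284c4987051ae9 (.node 0x4639d6ab61e7e3 .nil .nil) .nil))) (.node 0xc9067e86962360 (.node 0x39dc95d35133ad (.node 0xb42319448834cd (.node 0x72a943ecb142ce .nil .nil) (.node 0x448bb8831cce3 .nil .nil)) (.node 0xbcb745f171542b (.node 0x2a207289f8ad61 .nil .nil) (.node 0xe60ba6ad29ca0e .nil .nil))) (.node 0x8382b4c48071d7 (.node 0x42145192de593f (.node 0x378c6a59d6f51e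 .nil .nil) (.node 0xd99f66de516c72 .nil .nil)) (.node 0x983ec091cb2a40 (.node 0x4764984b4daafb .nil .nil) .nil)))) (.node 0xff962961aa098 (.node 0x8d0e247138639c (.node 0x814aed177589b2 (.node 0xbd6f0d5532cf6c (.node 0x9c080684e01f1 .nil .nil) (.node 0x16b50448171e32 .nil .nil)) (.node 0x6988a92070c5ba (.node 0x3c24341ae2b9ab .nil .nil) (.node 0xe43b895e5e284b .nil .nil))) (.node 0x86173c74307222 (.node 0xb92a5782ba2bc6 (.node 0x643caf09305a63 .nil .nil) (.node 0xd9b7a7cd9e4a32 .nil .nil)) (.node 0xce225571a98416 (.node 0x31a1bc79cc648d .nil .nil) .nil))) (.node 0x8c9f20975b495f (.node 0x35906c2c38358 (.node 0x9a5a63d4108d6e (.node 0x661ce6acf545d1 .nil .nil) (.node 0xa1081384f4e2e .nil .nil)) (.node 0xbfc20336d91b44 (.node 0x57b5b8fa61a523 .nil .nil) .nil)) (.node 0xa9921093c1b4aa (.node 0xc2732d80c20a46 (.node 0x4c89743b13121f .nil .nil) (.node 0xe2af651e3967aa .nil .nil)) (.node 0x7234c5d210c310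 (.node 0x242478fbd0af46 .nil .nil) .nil))))) (.node 0xae7b37e63ba107 (.node 0x7fce2955da55af (.node 0x47e459b1055ccd (.node 0x80be4657b148af (.node 0xc99ec432fc277e (.node 0x7c2cec6caf433f .nil .nil) (.node 0x1920de2804de44 .nil .nil)) (.node 0xc3fe51b0475195 (.node 0x3ad033fb7b904d .nil .nil) (.node 0xe22349bdc3aa8a .nil .nil))) (.node 0xb73730a32eb4bd (.node 0xb806849569b833 (.node 0x5bf4d7c9541946 .nil .nil) (.node 0xd8336d6df02d59 .nil .nil)) (.node 0x8cb720e1f1b0e4 (.node 0x3385df9aa374c1 .nil .nil) .nil))) (.node 0xa30aa4574ac735 (.node 0x2299293a90354 (.node 0x9f3ebbb4007854 (.node 0x7cc5370c99c305 .nil .nil) (.node 0x79cf18897d5a1 .nil .nil)) (.node 0x3e3866d14da3d9 (.node 0x58e4932b291c63 .nil .nil) .nil)) (.node 0xa5368202af75fe (.node 0xa7df1d6051d21a (.node 0x49f0916a17f85c .nil .nil) (.node 0xdbcf906e5da95c .nil .nil)) (.node 0xceb6eee1e3844b (.node 0x1ff8b06ba62e9b .nil .nil) .nil))))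 (.node 0x522c2a60f7de4d (.node 0xcbeab5a67ee352 (.node 0xbd418c75348f0 (.node 0x4ba5be42cb1895 (.node 0x775dc7cc7100d7 .nil .nil) (.node 0xbb1c9e873caff .nil .nil)) (.node 0x8a2e88719df193 (.node 0x5818425a6af901 .nil .nil) (.node 0xe9ff7b7deae69e .nil .nil))) (.node 0xb4eea553e134ef (.node 0xa3ca1382dcfa6a (.node 0x1ba48bd8fdde27 .nil .nil) (.node 0xd66f9c8e90b568 .nil .nil)) (.node 0x75f41db251c226 (.node 0x4c4c904b08cc1c .nil .nil) .nil))) (.node 0xa2caf697a4c7b5 (.node 0x6311313e90423 (.node 0x5b48d414eb709f (.node 0x6ad1556d03467e .nil .nil) (.node 0xfa8d1e8e8a489 .nil .nil)) (.node 0xc9fe80c7015b69 (.node 0x3c6dbd8ae30c87 .nil .nil) .nil)) (.node 0xa65243d2ef762c (.node 0x6aa955202f8675 (.node 0x31f03b69e7f4f7 .nil .nil) (.node 0xe267617da04e97 .nil .nil)) (.node 0x70f0f39c589dc1 (.node 0x2595ec1bf36f33 .nil .nil) .nil)))))) (.node 0x48d4755b41d94 (.node 0x6260a4759de1c9 (.node 0xc3032f55ade17d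 (.node 0x96adf5c1159863 (.node 0x876a3ae05b07db (.node 0x49686855109abc (.node 0x6c51314c46dfaf .nil .nil) (.node 0x2195527c16aea9 .nil .nil)) (.node 0x656d1a90cb4659 (.node 0x3c8804f9a33984 .nil .nil) (.node 0xddcb5a8d7e5048 .nil .nil))) (.node 0x9f9278346d15f5 (.node 0xb1e6401416d4b4 (.node 0x5abd5d791a33e3 .nil .nil) (.node 0xe7d5a88dbe48a .nil .nil)) (.node 0xd07e28621e0343 (.node 0x3fb196c9f1aa55 .nil .nil) .nil))) (.node 0x4c088f365d637a (.node 0xc90e7e24bfadf9 (.node 0x5d8dced4f1710c (.node 0x73d5093c8fc0cd .nil .nil) (.node 0x5f116d819d61b .nil .nil)) (.node 0x8a2a885183b199 (.node 0x546d9fab6eac55 .nil .nil) (.node 0xe6e3a75d42caa6 .nil .nil))) (.node 0xc0ae7093945177 (.node 0xc2ff07d0819568 (.node 0x4b6838db970c1d .nil .nil) (.node 0xd737738d331308 .nil .nil)) (.node 0x78f59141b581d9 (.node 0x4ad843d995e837 .nil .nil) .nil)))) (.node 0x8866ae612d8aaf (.node 0x90170c667197c3 (.node 0xa4b66ce76606c7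 (.node 0x93be8c945a988b (.node 0x75b9f1bcc0012f .nil .nil) (.node 0x15e101c80edcdd .nil .nil)) (.node 0xc1febeb18a934f (.node 0x2cdc999a3051a2 .nil .nil) (.node 0xdf1f7d4e3da661 .nil .nil))) (.node 0x9946416286d49d (.node 0x84ff3d83d2b213 (.node 0x5b29604925aae2 .nil .nil) (.node 0xd7c7889d2f4d17 .nil .nil)) (.node 0x8b8e0b2268b0c5 (.node 0x524c2b49a2107d .nil .nil) .nil))) (.node 0x1614f75734c8d5 (.node 0xad4683f460cf1e (.node 0x84bb0a5373329b (.node 0x158900780ac5fe .nil .nil) (.node 0x65f3583f1960 .nil .nil)) (.node 0x2ab577f6c2db64 (.node 0x2d297d0a4cca53 .nil .nil) .nil)) (.node 0x9b961fe33c3a70 (.node 0xa822b400114b83 (.node 0x52b5d089873822 .nil .nil) (.node 0xdf339a6dc8ec67 .nil .nil)) (.node 0x6fbd589c43dfd6 (.node 0x1a2dcdebc32f0b .nil .nil) .nil))))) (.node 0x969df521fb1850 (.node 0xc35e0c4601e220 (.node 0x922ea2a1369936 (.node 0x8d272cf72cc755 (.node 0xaa92e24341f63f (.node 0x7338bcbcb94089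 .nil .nil) (.node 0x19f12657fb9d3d .nil .nil)) (.node 0xaf2f34d08d0cb4 (.node 0x430dd3da5937df .nil .nil) (.node 0xdf3f77bd3291ce .nil .nil))) (.node 0xbf1f46b3a014b7 (.node 0x4ec835f439da5f (.node 0x64d11ff948e924 .nil .nil) (.node 0xd7db944e596b9d .nil .nil)) (.node 0x73b50861d600ba (.node 0x2f2d99eb023596 .nil .nil) .nil))) (.node 0x186d1c87948939 (.node 0xc9da809540aa18 (.node 0x3fc1e5028b187d (.node 0x6524dd5cfe04f7 .nil .nil) (.node 0x945453889cc31 .nil .nil)) (.node 0xcc730b76b31ac6 (.node 0x2bbd9dc9b1de49 .nil .nil) .nil)) (.node 0xc15ed32450d5c5 (.node 0x668d48a03605ee (.node 0x4871a0ba75de72 .nil .nil) (.node 0xd7df946e07aa72 .nil .nil)) (.node 0x8bce4eb22c3154 (.node 0x1e5ca09bb0b03b .nil .nil) .nil)))) (.node 0x869b3ed11b4a17 (.node 0x927ab7568998cb (.node 0x9832c0c306a713 (.node 0xccc311730f2d64 (.node 0x75107ccc64c15a .nil .nil) (.node 0x1e487b8614fc7 .nil .nil)) (.node 0x3b044af166a5d4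 (.node 0x2b6c5b09b0b9c4 .nil .nil) (.node 0xe8777abdedee2f .nil .nil))) (.node 0xbd5b0d14d68d09 (.node 0x923ea254b09932 (.node 0x5f3ded795ee80d .nil .nil) (.node 0xd2bfa5cd6e5526 .nil .nil)) (.node 0xd0af26b2458391 (.node 0x47c19caa9deb83 .nil .nil) .nil))) (.node 0x1d4d2a471d8857 (.node 0xa0a6f464290b6f (.node 0xcc1630b49ae6be (.node 0x5dc9cf29057477 .nil .nil) (.node 0xf34ce68c5641e .nil .nil)) (.node 0xba6a75d6f65afd (.node 0x3e102a0a6ea6ee .nil .nil) .nil)) (.node 0x99ee84350ffa10 (.node 0xc4af2370260fda (.node 0x4fbdd9fa7f51bb .nil .nil) (.node 0xe35f88ad2e8e66 .nil .nil)) (.node 0x6ee4ccec4f9f5a (.node 0x1bdc8d4be12f7a .nil .nil) .nil))))))) (.node 0x7f860a15fa55e0 (.node 0xc402e985ef6242 (.node 0xc2824f962be158 (.node 0x9ad6134636a1bc (.node 0x9226a230e21933 (.node 0xa2c6f6f7cc8836 (.node 0xadcaad24c84e39 (.node 0x6ebd279c545ee2 .nil .nil) (.node 0x1ea8a36bbb2ed6 .nil .nil)) (.node 0xc2eb07900c0d5b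 (.node 0x3f3453ba081db3 .nil .nil) (.node 0xdf0f9f7e7b7700 .nil .nil))) (.node 0x90a9f834731872 (.node 0x9bb71c041fb807 (.node 0x5d7d6c597c1977 .nil .nil) (.node 0x1154eb18c9e40c .nil .nil)) (.node 0xbe263956bbdc32 (.node 0x3d203179c03724 .nil .nil) .nil))) (.node 0x2f744e465762b9 (.node 0xa3a61734b8f8ac (.node 0xa6b6fe448c2665 (.node 0x8f543f888809e .nil .nil) (.node 0x9b4bee8931a24 .nil .nil)) (.node 0x3fc5e5517aa532 (.node 0x587570bb3337ce .nil .nil) (.node 0xe737a35d58cada .nil .nil))) (.node 0xc80aafa38ee69b (.node 0xb0968e82db3969 (.node 0x35fdb0798f648f .nil .nil) (.node 0xd8874f3d480ff9 .nil .nil)) (.node 0xd0bb26625f8394 (.node 0x3559b7cb8bac04 .nil .nil) .nil)))) (.node 0xb4626b4618a08a (.node 0x45edd666a5e3b0 (.node 0x9d96adf76d06e0 (.node 0x4d29da93b072ef (.node 0x792991dc6bc1ed .nil .nil) (.node 0x1978e7b7f6df33 .nil .nil)) (.node 0xb2023fc06c4c83 (.node 0x411c090ad365eb .nil .nil) (.node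 0xe3cf93de43663c .nil .nil))) (.node 0xb42b196281b90f (.node 0x5914b1454d716f (.node 0x6220a1e9502dca .nil .nil) (.node 0xd70b8dbdb39275 .nil .nil)) (.node 0x747567326bc1be (.node 0x3051e2bb86cf9c .nil .nil) .nil))) (.node 0xb4fea5b785c695 (.node 0xae02dc9468f8bb (.node 0x3b144b137733e9 (.node 0x6675251cf0459b .nil .nil) (.node 0x26d93186c1993 .nil .nil)) (.node 0xca3eca46ee1bff (.node 0x29283efad11341 .nil .nil) .nil)) (.node 0xcc2a30855eee5c (.node 0x68110b50150520 (.node 0x4de1b34b436bd4 .nil .nil) (.node 0xe39f9d1e57a89f .nil .nil)) (.node 0xa142f9720da616 (.node 0x1c4d6e1bea6f94 .nil .nil) .nil))))) (.node 0x9e0e1b064c61f4 (.node 0x99ba816606622c (.node 0x3b084b50d0dc9d (.node 0xa6624307b6089a (.node 0x608c8d934370ba (.node 0x7a44ba4c814280 .nil .nil) (.node 0x157d0d6809de40 .nil .nil)) (.node 0x67413f7084453f (.node 0x3ee5a6bb1d661d .nil .nil) (.node 0xe0135c2d8853d2 .nil .nil))) (.node 0x954ade2325d67e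 (.node 0xb506a545614d3b (.node 0x59f523192e6daa .nil .nil) (.node 0xd753740dcaa8e4 .nil .nil)) (.node 0xcf622692318494 (.node 0x4f54014a879eaa .nil .nil) .nil))) (.node 0x888edfc01a4946 (.node 0xa4fe9e93a6f933 (.node 0xc0eaa3656fd37a (.node 0x67f8b68d19c634 .nil .nil) (.node 0x67d141821994a .nil .nil)) (.node 0x87f635b1483246 (.node 0x29b5830a005ef0 .nil .nil) .nil)) (.node 0x9d6ea622a6eb52 (.node 0xc4e2228094d3df (.node 0x39385f2ab15d87 .nil .nil) (.node 0xdbdb84ee04ac42 .nil .nil)) (.node 0x7b34fc2224406d (.node 0x2210acac1cf041 .nil .nil) .nil)))) (.node 0x97cf1250eed815 (.node 0x56d1bff6812325 (.node 0xb2e273674e0920 (.node 0xb4b69d731478d0 (.node 0x78681b3ccf0220 .nil .nil) (.node 0xa41fb847153d .nil .nil)) (.node 0xbabed4815e8ff2 (.node 0x55d9768af39f1c .nil .nil) (.node 0xe9474fadd267da .nil .nil))) (.node 0xcd41fe83db6cf0 (.node 0x21d4ac24a9704f (.node 0x5c958d98fb2770 .nil .nil) (.node 0xd76f52be9ab492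 .nil .nil)) (.node 0xb82684f24f29e9 (.node 0x388458ca95a8c6 .nil .nil) .nil))) (.node 0xa7b71de7a88795 (.node 0x9b2f3303e6f7e6 (.node 0x897ac9b4e831b7 (.node 0x6781401d1c8534 .nil .nil) (.node 0x120d3298d76478 .nil .nil)) (.node 0x58497006c9dbf0 (.node 0x4570474a4269cc .nil .nil) .nil)) (.node 0xb4021512e6ecee (.node 0xcfdf284029c4d2 (.node 0x2fa04eeb19a4cd .nil .nil) (.node 0xdf17885db35260 .nil .nil)) (.node 0x6d08e97c4b6053 (.node 0x1ab4253bc9afe6 .nil .nil) .nil)))))) (.node 0x812701d5bcd3c4 (.node 0xfe962a63ea0fc (.node 0xa3d68d5de1e9c (.node 0x8a1a8860f4d028 (.node 0x146156771007d1 (.node 0x884eaed50cf326 (.node 0x7c9d3a3c924056 .nil .nil) (.node 0x206d4fdbac7073 .nil .nil)) (.node 0xad5e8330c68ffe (.node 0x43b9d839ab4f9a .nil .nil) (.node 0xe24766fe50e78a .nil .nil))) (.node 0x6274a484d93168 (.node 0x36fd7ad3efd78d (.node 0x22f4a41957dc5e .nil .nil) (.node 0x10d8a858ed2477 .nil .nil)) (.node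 0x7cb53671f682f7 (.node 0x51fc505a2d7793 .nil .nil) .nil))) (.node 0x8fae2c66659795 (.node 0x5de82594fdb09a (.node 0xb4eaa5e4073535 (.node 0x7214ca1ca20008 .nil .nil) (.node 0x810eea8a25a9a .nil .nil)) (.node 0xbdb232514315b4 (.node 0x53cc55cb75b50c .nil .nil) (.node 0xe6bfa2ad76c9da .nil .nil))) (.node 0x27d9b0e330f1cd (.node 0x68190b8056051f (.node 0x39a17f9b4ed0dd .nil .nil) (.node 0xd6534a4e9534ad .nil .nil)) (.node 0x8e6e2121b170d4 (.node 0x37557b19e02d80 .nil .nil) .nil)))) (.node 0x801a06010a8479 (.node 0xc81eaf866ca2f2 (.node 0x1ce5884789c6eb (.node 0xae933764541112 (.node 0x779c183c790250 .nil .nil) (.node 0x18c51d88001dfb .nil .nil)) (.node 0x3a31dde195648c (.node 0x28fdb5aac9e826 .nil .nil) (.node 0xe2b368be266973 .nil .nil))) (.node 0x554c6ba57f73fb (.node 0x9c4ee4c3cc2a27 (.node 0x5cf08b6974b3b3 .nil .nil) (.node 0xd377752e17e64b .nil .nil)) (.node 0xd1f70031c383df (.node 0x4e1445cb5d09d4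 .nil .nil) .nil))) (.node 0x7d2248873f08e0 (.node 0x5c758cf584708c (.node 0xc86ee10322ed44 (.node 0x66b1497d1785f9 .nil .nil) (.node 0xc0c19087c536c .nil .nil)) (.node 0xc00aa126fd9b8b (.node 0x40b1e70abc5140 .nil .nil) .nil)) (.node 0x2f2198a3643398 (.node 0xc4724df0a8145d (.node 0x30180acb9c1ea4 .nil .nil) (.node 0xdc9f579e77f8db .nil .nil)) (.node 0x6e48a66c289e82 (.node 0x2610110bf8afd2 .nil .nil) .nil))))) (.node 0x11f531b590e117 (.node 0x5d256bd5c1e28e (.node 0xca5a8766a3a2d1 (.node 0x16d8c0d77609a2 (.node 0xc6d601253a2ad1 (.node 0x797082ecd5c17b .nil .nil) (.node 0x1650f828135f37 .nil .nil)) (.node 0xc5a6255067ce73 (.node 0x3badc20a3d1d58 .nil .nil) (.node 0xe2a35ebe69b744 .nil .nil))) (.node 0x2e3da97433d924 (.node 0xae321c12b5f5f7 (.node 0x646ce4f93e7476 .nil .nil) (.node 0xd397987e983530 .nil .nil)) (.node 0x8d8e4a41e0f145 (.node 0x4e99ae09c69dd3 .nil .nil) .nil))) (.node 0x7fe32b8763c97c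 (.node 0x7ac505a2bf02b1 (.node 0x94d6a8c2929652 (.node 0x6958f66ceb057a .nil .nil) (.node 0x4d9484839d9f4 .nil .nil)) (.node 0x50a9aab6e71bd8 (.node 0x2a306cfa49b9d8 .nil .nil) .nil)) (.node 0x45fdd623c3f418 (.node 0xa7db1dc03e0a38 (.node 0x38019a8a7b6559 .nil .nil) (.node 0xd88b736dea66d6 .nil .nil)) (.node 0xcf6a2622044498 (.node 0x23895f4c0b2eea .nil .nil) .nil)))) (.node 0x87770ec0e64be1 (.node 0x9492bd868ed6a5 (.node 0x9f6e72a3493a1e (.node 0x596d50a38370a8 (.node 0x79e58eacdc41b3 .nil .nil) (.node 0xa7169285990a5 .nil .nil)) (.node 0x844f101162b2b2 (.node 0x2b2856f9bccb6d .nil .nil) (.node 0xe88b83bdd3a6b0 .nil .nil))) (.node 0x43fc0544775717 (.node 0xac42591358cc55 (.node 0x5e2c26c90de6ae .nil .nil) (.node 0xd55b5b2e14273f .nil .nil)) (.node 0x77741731cf8241 (.node 0x36e585ca23a663 .nil .nil) .nil))) (.node 0x6251327bf47ec (.node 0x47e8599277d99b (.node 0x77c1ee729ec110 (.node 0x5ed822d96be887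 .nil .nil) (.node 0x13593578b22572 .nil .nil)) (.node 0xc6bb4356dddbb1 (.node 0x4260526b3a2e68 .nil .nil) .nil)) (.node 0x23d47874a32f4d (.node 0x68150b40b10521 (.node 0x334c2e4aaae976 .nil .nil) (.node 0xe58367fe536730 .nil .nil)) (.node 0xf08c248c35ff4 (.node 0x24858c4bd9efa2 .nil .nil) .nil))))))))

/-- Part of `setTab`. -/
noncomputable def setTab_l_r_r_l : Arr ℕ :=
  .node 0xa57ac6b611626f setTab_l_r_r_l_l setTab_l_r_r_l_r

/-- Part of `setTab`. -/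
noncomputable def setTab_l_r_r_r_l : Arr ℕ :=
  (.node 0xa0068fc60c225a (.node 0xc30b2f65d7606e (.node 0x7d2e4945f28e0c (.node 0x10cca78621613a (.node 0x96cbdc62c5d7d (.node 0x82627f112193fc (.node 0x15a500b7b88815 (.node 0x51dc4fd49bf46f (.node 0x706533ec271fa0 .nil .nil) (.node 0x1d7d2a8c058f90 .nil .nil)) (.node 0x67493f50ab453b (.node 0x4d0002faaea5d5 .nil .nil) (.node 0xe3cb89ed290a68 .nil .nil))) (.node 0x60888d8270f17a (.node 0x9ac2126296ba6e (.node 0x616077f8f63405 .nil .nil) (.node 0x12f8f518e5562c .nil .nil)) (.node 0xcdf5ff86e25b26 (.node 0x3e6467db36647c .nil .nil) .nil))) (.node 0x90cb38f695d74c (.node 0xc1a677334dcf21 (.node 0x59cd225483714e (.node 0x74a9683cdb81d2 .nil .nil) (.node 0x84cfaf82e4fbf .nil .nil)) (.node 0x875a3ab16f726a (.node 0x2a147359f79cb2 .nil .nil) (.node 0xe7bb4c6da50fa3 .nil .nil))) (.node 0x63f0ae247d70b9 (.node 0xa66643a35f0c3b (.node 0x499868a9cf9001 .nil .nil)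 (.node 0xdbd3846d3b8e30 .nil .nil)) (.node 0x76b013e1c9025b (.node 0x47049729d839ef .nil .nil) .nil)))) (.node 0x953669f23c5670 (.node 0xcb4262369d22e6 (.node 0x1addca277189a8 (.node 0xaae2b0953338ef (.node 0x74247f9cd1819a .nil .nil) (.node 0x17594ae7d60e58 .nil .nil)) (.node 0xc23a0ec0614e5a (.node 0x3c143d6aece952 .nil .nil) (.node 0xde7f9c6e4d6c47 .nil .nil))) (.node 0x5e51cbf42d70ac (.node 0x81fac1a2baf366 (.node 0x6420af29312a5e .nil .nil) (.node 0xdbeb4a8dcae8f7 .nil .nil)) (.node 0xa1d2b8b1abad09 (.node 0x319dbb99cd77f0 .nil .nil) .nil))) (.node 0x7f6609c75d8963 (.node 0x9cf66e52b03a23 (.node 0x90a1f7b4115877 (.node 0x1860e567fd45ca .nil .nil) (.node 0x2a4850856cb45 .nil .nil)) (.node 0x2eb06216d49b4f (.node 0x57bdb94a623968 .nil .nil) .nil)) (.node 0x55f971b3bcd774 (.node 0xa8f29760c1141a (.node 0x4c9173cb1278af .nil .nil) (.node 0xe0ab574e78b7b6 .nil .nil)) (.node 0xcf762631fdc499 (.node 0x1cc4762bd68e76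 .nil .nil) .nil))))) (.node 0xdecda86392105 (.node 0x60240f25d9a0ba (.node 0x885aaf41014dc5 (.node 0x19bd2597ac08ba (.node 0x892a9bb2fa71e5 (.node 0x7c20ec8cae4337 .nil .nil) (.node 0x14e8b507e793f6 .nil .nil)) (.node 0xd05a288043c350 (.node 0x3adc336b7b1c60 .nil .nil) (.node 0xe437768dbf09cf .nil .nil))) (.node 0x7c4539b32b405b (.node 0x38485845669a8b (.node 0x5bdcd7b956ad15 .nil .nil) (.node 0xd55fa62e9935ba .nil .nil)) (.node 0x717111c1f002dd (.node 0x2eec62ea271065 .nil .nil) .nil))) (.node 0x803327774b0729 (.node 0x9ede5b93a8ba5c (.node 0x2f18ff3fbc427 (.node 0x71a1129c9f42ee .nil .nil) (.node 0x510cba89e15fc .nil .nil)) (.node 0xbe3e39313c95cd (.node 0x27b074bb255344 .nil .nil) .nil)) (.node 0x3bc43c82aaf36e (.node 0x67453fa0504539 (.node 0x368c90ba153996 .nil .nil) (.node 0xd2af4a5e0a2a3f .nil .nil)) (.node 0xb4061591e5ae70 (.node 0x20b8e39ba295fe .nil .nil) .nil)))) (.node 0x85133d210e0e2c (.node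 0x94e6a8567c1642 (.node 0x82a694901a08f9 (.node 0xb0e6bc92d24f1f (.node 0x7695c4dc7640f0 .nil .nil) (.node 0x101c6387a517c .nil .nil)) (.node 0x45f5d6719be47a (.node 0x56e1c06ac50f69 .nil .nil) (.node 0xe8334adde727b6 .nil .nil))) (.node 0x47ec59f3dcf44b (.node 0xb81e85352b6698 (.node 0x60b48ef970e8df .nil .nil) (.node 0xdbb38fada84dfd .nil .nil)) (.node 0xd1eb0071bd03de (.node 0x4c20903b0af5eb .nil .nil) .nil))) (.node 0x4814737a1479f (.node 0xa52681f3e8ba18 (.node 0xa13af90319adb6 (.node 0x6ae5563d00c668 .nil .nil) (.node 0x10a12928ab8dc0 .nil .nil)) (.node 0xbaa2d56702db72 (.node 0x3c75bddae39d27 .nil .nil) .nil)) (.node 0x403c0702eaf42d (.node 0xc3ee51e0a19475 (.node 0x4ef036f9e14bd4 .nil .nil) (.node 0xe3f7867dd3ee01 .nil .nil)) (.node 0x70d4f2bc5b5f8f (.node 0x1b11cabbf45104 .nil .nil) .nil)))))) (.node 0xc5164b55e9e255 (.node 0xa2763e95a621de (.node 0x98a64455ac6173 (.node 0x36998501125e1f (.node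 0xa9a21127c7084a (.node 0x9fe2d154c32895 (.node 0x7034d97c3d5f2a .nil .nil) (.node 0x1f4121bc10cdf8 .nil .nil)) (.node 0xc576eba0058d74 (.node 0x41a0664a05ae05 .nil .nil) (.node 0xe06355bdcee733 .nil .nil))) (.node 0x9bf2b2a46ef7fd (.node 0x923aa28417593a (.node 0x61116fe97a6a1a .nil .nil) (.node 0x129c9f28c2c9fb .nil .nil)) (.node 0xa67642e21fe7cd (.node 0x44200629c513a7 .nil .nil) .nil))) (.node 0x8de622218ca379 (.node 0xa112f964bf3566 (.node 0xc62341b4fcac5d (.node 0x73f5096c8e00bf .nil .nil) (.node 0x6ad3bb8200d5e .nil .nil)) (.node 0x4099e6c1812544 (.node 0x2c75a59b68651f .nil .nil) (.node 0xe753596d2c8f22 .nil .nil))) (.node 0x9efefb8394387e (.node 0xd04e28a07e434c (.node 0x4b70389b963780 .nil .nil) (.node 0xd4577ccddce96e .nil .nil)) (.node 0xd0a72692590395 (.node 0x358848b999cb6b .nil .nil) .nil)))) (.node 0x91e66fa1301665 (.node 0x2ab177866f62fd (.node 0xad3a83276886ca (.node 0x4f10007459322c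 (.node 0x75ddf1ccc10127 .nil .nil) (.node 0x1834b7e7de0f71 .nil .nil)) (.node 0x84d30ac189f296 (.node 0x2cc8998a3276f9 .nil .nil) (.node 0xdfb7a25dfd6afd .nil .nil))) (.node 0x944676228698bf (.node 0x5d95cec3cf70dd (.node 0x22f15ae921dc8e .nil .nil) (.node 0xd3139afe80353c .nil .nil)) (.node 0x79b18e226541a4 (.node 0x52582bd9a177bf .nil .nil) .nil))) (.node 0xa6e2bf077e86b3 (.node 0xaf42db9462b783 (.node 0x5724394370d8ae (.node 0x6a094cbd0bc594 .nil .nil) (.node 0xc5df038440cc4 .nil .nil)) (.node 0xc972c2c6d19b08 (.node 0x2d5d7cfa4d6618 .nil .nil) .nil)) (.node 0xb48a6bf556a9ce (.node 0x674d3f600f453a (.node 0x2e0dd23981a434 .nil .nil) (.node 0xdc578abd865233 .nil .nil)) (.node 0x6c149cec38dda9 (.node 0x2689e88bc50ff5 .nil .nil) .nil))))) (.node 0xa98a105648e207 (.node 0xa1ee919600e21b (.node 0x29dc725132ddbf (.node 0xa09af4a72a8767 (.node 0x5cd08a433cf0aa (.node 0x8f0bc0888c084 .nil .nil) (.node 0x14254e77f19565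 .nil .nil)) (.node 0x681d0b708a0525 (.node 0x3d95d53a53e57b .nil .nil) (.node 0xe54f8cde172dd0 .nil .nil))) (.node 0xb5f6e3d3a0f77d (.node 0xa592c60442512c (.node 0x598550f943a7b5 .nil .nil) (.node 0xda93978da89215 .nil .nil)) (.node 0xcf7e2672380495 (.node 0x30ec2fda8ca999 .nil .nil) .nil))) (.node 0xb5326ed79d094c (.node 0xa3df1b453ff6ff (.node 0xb9265795741422 (.node 0x6544dd4cfd04e2 .nil .nil) (.node 0x37107c8884bde .nil .nil)) (.node 0xbf6a04d6b51aca (.node 0x5521a459ada953 .nil .nil) .nil)) (.node 0x95baaa844e58ec (.node 0xc37e0c109b53c7 (.node 0x48205a6ab62a9d .nil .nil) (.node 0xd847880ded6e73 .nil .nil)) (.node 0x72f0bc422ac087 (.node 0x2258d36bb58c7a .nil .nil) .nil)))) (.node 0x966739d11c1708 (.node 0x2dd9d1c686230e (.node 0xa4aa6d2308750e (.node 0xb31ab9f30ef61b (.node 0x74f07d0c660163 .nil .nil) (.node 0xab87e28684e75 .nil .nil)) (.node 0xc1328d0158100b (.node 0x2af578caf82a47 .nil .nil)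 (.node 0xe9939c5dc1eb79 .nil .nil))) (.node 0x9d5aa634d738ee (.node 0x3dd82934af1a8d (.node 0x5f31edb9603436 .nil .nil) (.node 0xd9af626e1de773 .nil .nil)) (.node 0x8e5621a247b0d0 (.node 0x47919c5a9f34f6 .nil .nil) .nil))) (.node 0xacf6f2d7248885 (.node 0xb74f30042b3769 (.node 0xb842c8e49a76db (.node 0x601dea79079a1d .nil .nil) (.node 0x11d13e48cf8fa7 .nil .nil)) (.node 0x29e47246f25b07 (.node 0x3de8294a6fb5b1 .nil .nil) .nil)) (.node 0xc8de9cd521ac1b (.node 0xa826b38025ce98 (.node 0x4fb1d9ba7f1c4d .nil .nil) (.node 0xdd97a6ee7eb923 .nil .nil)) (.node 0x6f610f2c311da8 (.node 0x24e089abe5531e .nil .nil) .nil))))))) (.node 0x21d92a5f65eb5 (.node 0xa8be9785eea238 (.node 0xb1c63fd629e14e (.node 0x7dceefe634cc0c (.node 0x510863b0de1c6f (.node 0x80fb01c7cf082c (.node 0x904f3a54c8d726 (.node 0x6e89280c56e033 .nil .nil) (.node 0x22c4d69bbe9446 .nil .nil)) (.node 0xac168ac00bd0c0 (.node 0x2e59a9ba0fcd03 .nil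 .nil) (.node 0xde33926db75636 .nil .nil))) (.node 0xcb81bf47083a2 (.node 0x1e2c9fd41cb03d (.node 0x1ba08bc97bde57 .nil .nil) (.node 0xef11078d40f8d .nil .nil)) (.node 0x56cdbfa6b69c3e (.node 0x3a4ddebb65ccb6 .nil .nil) .nil))) (.node 0xc966c2465462ab (.node 0x52242aa4b4972d (.node 0x9e5736a48e34c8 (.node 0x7b0d060cb442b3 .nil .nil) (.node 0x3dcfde89090a1 .nil .nil)) (.node 0xbf3b468177d444 (.node 0x276c736b24b9a1 .nil .nil) (.node 0xe64f53fd824f09 .nil .nil))) (.node 0x8982c9e38cb1b4 (.node 0x3e2c66f2d7d927 (.node 0x35f9b01990374f .nil .nil) (.node 0xd50b671e8af4c4 .nil .nil)) (.node 0xb0b68e5261ad5b (.node 0x4bd9bf1b8da459 .nil .nil) .nil)))) (.node 0xd74c476156088 (.node 0xc89668b6af63a9 (.node 0x21192d76b46ce (.node 0xba5275a3ba160e (.node 0x7909924c68c1e4 .nil .nil) (.node 0x13b8aba7ed53dd .nil .nil)) (.node 0x65d4e5b06985d4 (.node 0x4144093ad5e880 .nil .nil) (.node 0xde0b632e1c2c99 .nil .nil)))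 (.node 0x91544627d8408 (.node 0xb8eef3854ae920 (.node 0x6228a24951b3d4 .nil .nil) (.node 0xd2ab55fe592b8b .nil .nil)) (.node 0xce3e5551a30417 (.node 0x3065e2eb85b8dc .nil .nil) .nil))) (.node 0xb056cfc7860698 (.node 0x1a1dcd5465af0c (.node 0xb79699840a4d87 (.node 0x69b4a9fd0e05c8 .nil .nil) (.node 0xb25669871154e .nil .nil)) (.node 0xbbaadec6f09c05 (.node 0x29643f5ad1a8e7 .nil .nil) .nil)) (.node 0x86bb3e855cf208 (.node 0xc5ef2190bb8a2d (.node 0x4db9b2bb4436a8 .nil .nil) (.node 0xe1079f0e7c372c .nil .nil)) (.node 0x7bf0ec020a432a (.node 0x254d6b2bed956a .nil .nil) .nil))))) (.node 0x80e246764e1286 (.node 0x10bca7b603622a (.node 0x7d4a55e0d043f6 (.node 0x7e422767b70893 (.node 0xca12ca62f5e76d (.node 0x7a48ba5c820284 .nil .nil) (.node 0x17c541c7db126e .nil .nil)) (.node 0xc4624d204dd17d (.node 0x3eb1a71b1f3653 .nil .nil) (.node 0xe24f7f8e6db815 .nil .nil))) (.node 0x6993ac32344aa (.node 0x99ca814563782e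 (.node 0x5a0922d92cf457 .nil .nil) (.node 0xd5e77bde947675 .nil .nil)) (.node 0x9c9e1a2234adfd (.node 0x4d7ddbfaa6eb41 .nil .nil) .nil))) (.node 0x986a7c07430744 (.node 0x35644803a331de (.node 0x93b68c056e188f (.node 0x689cff8ce38630 .nil .nil) (.node 0x711390829ca2c .nil .nil)) (.node 0x421c51c14723c7 (.node 0x56457209fcadb4 .nil .nil) .nil)) (.node 0x84ab0a42a77290 (.node 0xa93612109455ec (.node 0x36506f6a1d4e4e .nil .nil) (.node 0xd3237b2de3ad9c .nil .nil)) (.node 0xceaaeed1ea044a (.node 0x1f80dfec1a92d6 .nil .nil) .nil)))) (.node 0x57283930eb1edd (.node 0xca22ca5679e33d (.node 0x160cf7774cc91e (.node 0x329c4cc311569e (.node 0x78641abccc4219 .nil .nil) (.node 0xcc01cf84d8f3f .nil .nil)) (.node 0x829e7ef15b7343 (.node 0x288049ca650d38 .nil .nil) (.node 0xe8e79a5dd66b8a .nil .nil))) (.node 0x854df9d3d932f9 (.node 0xbe6b13852694e9 (.node 0x5c918d48fcad87 .nil .nil) (.node 0xd23f706d3d11fc .nil .nil))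 (.node 0x78301a624b420c (.node 0x3858590a96f6a9 .nil .nil) .nil))) (.node 0x8deb22d7aa078a (.node 0x5055e3a3e3f46c (.node 0x6214a114e5708f (.node 0x68210bece6452c .nil .nil) (.node 0xe2cdba8be4a15 .nil .nil)) (.node 0xcab288f6bedb9e (.node 0x454c46ba4436d8 .nil .nil) .nil)) (.node 0x89b68562e73352 (.node 0x65751af028c65b (.node 0x2f984f0b1a37a3 .nil .nil) (.node 0xde6b87de4ea61b .nil .nil)) (.node 0xd00e898b5e04f (.node 0x26f80e0bcdd350 .nil .nil) .nil)))))) (.node 0x63e4ae05bba180 (.node 0x90b603c1fb5748 (.node 0xc5d321a5b3616c (.node 0x97863830f55786 (.node 0x8b2f2ea71907d8 (.node 0x5a915cf50a30f8 (.node 0x713d151c94c049 .nil .nil) (.node 0x21491f0ba88ae2 .nil .nil)) (.node 0x6ab154c0c50673 (.node 0x43edd879abe805 .nil .nil) (.node 0xe4934f4d7b0ffc .nil .nil))) (.node 0xa2963ed4e2aba6 (.node 0xa05e3cb3f79314 (.node 0x63112c191499e9 .nil .nil) (.node 0x10216358b00dda .nil .nil)) (.node 0xd0622872178342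 (.node 0x41d9a869ec9265 .nil .nil) .nil))) (.node 0x4218517663a390 (.node 0xc6de009509678f (.node 0x746d676403c1c7 (.node 0x71f8c9eca0800e .nil .nil) (.node 0x57cc818a7d2ea .nil .nil)) (.node 0x829a7f41413349 (.node 0x2bf45d9b720c06 .nil .nil) (.node 0xe7db4f2d4c0fee .nil .nil))) (.node 0xbf1746e33a957a (.node 0xc562ebc07b1550 (.node 0x39a5803b4e5c96 .nil .nil) (.node 0xd46b94de2c2c52 .nil .nil)) (.node 0x75316451af01f3 (.node 0x49197a39db4d85 .nil .nil) .nil)))) (.node 0x845a2f20d90ec5 (.node 0x95a2aa666b58e4 (.node 0xadc2ac97904718 (.node 0x9312d4345498a3 (.node 0x76e414cc7f826c .nil .nil) (.node 0x14855797e3557e .nil .nil)) (.node 0xba7275e1911336 (.node 0x28a038eac5f9e1 .nil .nil) (.node 0xdf9f514e05ab1e .nil .nil))) (.node 0x9902ff657a0c08 (.node 0x86b33ec3cc7203 (.node 0x63612fa9202c6f .nil .nil) (.node 0xd893a21d59c9e5 .nil .nil)) (.node 0x8b960aa1c570c1 (.node 0x4e48456b5daa54 .nil .nil) .nil)))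 (.node 0x20f11e073bc8d9 (.node 0xc76315858fa9f5 (.node 0x88b2e00320b1cb (.node 0x66d1495d1445ed .nil .nil) (.node 0x16c163883d3de .nil .nil)) (.node 0x52ec9a96f95b93 (.node 0x40bde75abb7866 .nil .nil) .nil)) (.node 0xbd430d836d4b71 (.node 0xac128b50a7d3eb (.node 0x50000c6b9b50ad .nil .nil) (.node 0xde0f635dfaeb4c .nil .nil)) (.node 0x6e3ca6fc2ae020 (.node 0x1b7021abfecbf9 .nil .nil) .nil))))) (.node 0xc416e9a59b2135 (.node 0xb9c68a55c8a280 (.node 0x95eb3b66a1d732 (.node 0xa47318f731c77b (.node 0xab96ce7539f5e9 (.node 0x7b40fd2cbfc080 .nil .nil) (.node 0x16f8c167d11191 .nil .nil)) (.node 0xb3cef8e0661388 (.node 0x45c5b4fa394b07 .nil .nil) (.node 0xe52f9d4e2aa8fb .nil .nil))) (.node 0x9f9678f3989099 (.node 0x4c7d7342b1739e (.node 0x5944b2493c297d .nil .nil) (.node 0xd30f6d4df1ed5a .nil .nil)) (.node 0x7a7145c1dc80a0 (.node 0x50edab1afc6df4 .nil .nil) .nil))) (.node 0x15290d275ec98b (.node 0xcb5e61b546ae1a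 (.node 0x4089e682915865 (.node 0x6970f63ce9856b .nil .nil) (.node 0x8b10ae836945b .nil .nil)) (.node 0xc73e37770c9c11 (.node 0x55806c5adb6a7b .nil .nil) .nil)) (.node 0xa3f31b04489561 (.node 0x68d102403c4608 (.node 0x37f99aba7c78ec .nil .nil) (.node 0xd6cb8d0e3d2dce .nil .nil)) (.node 0xa29e3e6205ee0f (.node 0x1de12d9c0cd11d .nil .nil) .nil)))) (.node 0x91de7060e89668 (.node 0x3511b6868de36d (.node 0xc7d70ff302a8a8 (.node 0xa62efd337fa8b7 (.node 0x9c480784e41a3 .nil .nil) (.node 0x30990b85f923e .nil .nil)) (.node 0x453046416025c2 (.node 0x2b605719bd68b2 .nil .nil) (.node 0xe903753e0d6dfc .nil .nil))) (.node 0x9a12c504ced5dd (.node 0x9166a033589698 (.node 0x60780fb910da66 .nil .nil) (.node 0xdb63a34d778ae5 .nil .nil)) (.node 0xd0b326823f0390 (.node 0x36d985ba231cf9 .nil .nil) .nil))) (.node 0x83c22a005b47f4 (.node 0xae561be424a79e (.node 0xc79a3bf494e6d0 (.node 0x5ecc22c96ce959 .nil .nil) (.node 0xdc8c548e0d614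 .nil .nil)) (.node 0xbde717b6de5bbd (.node 0x425c522b39dd6b .nil .nil) .nil)) (.node 0xc15ad2d51a92cf (.node 0xc3332fb01f8fc1 (.node 0x33242f0aabb522 .nil .nil) (.node 0xdf97515d8a4a9c .nil .nil)) (.node 0x6cc93d8c349c73 (.node 0x1d2988ebdc8a7a .nil .nil) .nil))))))))

/-- Part of `setTab`. -/
noncomputable def setTab_l_r_r_r_r : Arr ℕ :=
  (.node 0x10b0a755d36062 (.node 0xb03ecfe5d0e07e (.node 0x926293725618c9 (.node 0xc45e4da6256149 (.node 0xae3a1c462fa1a9 (.node 0x92ba74d129d6c2 (.node 0x9ccb3537ba081a (.node 0xa5029ec49d9209 (.node 0x6dd0d00c2fdf69 .nil .nil) (.node 0x23515b7c018faa .nil .nil)) (.node 0xc4ea2250af509f (.node 0x519197fa12a540 .nil .nil) (.node 0xe04b58ede62d2e .nil .nil))) (.node 0xc6c60082762655 (.node 0x90030c829957d2 (.node 0x5c3c7ae8f1f394 .nil .nil) (.node 0xd651a48b98a5e .nil .nil)) (.node 0xc0526a37099ae3 (.node 0x4611d6fb6025ac .nil .nil) .nil))) (.node 0x29e071e65062a4 (.node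 0xaece18a354b92f (.node 0xac8af114862654 (.node 0x72a543dcb102d2 .nil .nil) (.node 0x440bb2832cfd8 .nil .nil)) (.node 0x44d1ac317463cd (.node 0x273584cb2ff648 .nil .nil) (.node 0xe6c37fed50cd3e .nil .nil))) (.node 0xa6b2fea480e84e (.node 0xa242d6e2e1b96e (.node 0x37b06ab9d5a8b5 .nil .nil) (.node 0xd5336b9dd227ba .nil .nil)) (.node 0xcf6e25e1c9c49b (.node 0x473c983b4be412 .nil .nil) .nil)))) (.node 0xa7f2b3e61ca09f (.node 0x38a5a1d6ab23a4 (.node 0x8da6eaa77449ab (.node 0x23715e63b7aeed (.node 0x754d64bc6dc1ff .nil .nil) (.node 0x16950498150e71 .nil .nil)) (.node 0xa0763cf072cc69 (.node 0x449434caf137d3 .nil .nil) (.node 0xe207929d891357 .nil .nil))) (.node 0xc62b411432a81c (.node 0x6448e44547717f (.node 0x5a7ce1b9349a90 .nil .nil) (.node 0xd34b608de927fe .nil .nil)) (.node 0x79b58e41a241a5 (.node 0x506de46b81b817 .nil .nil) .nil))) (.node 0x89f28780004688 (.node 0x91729fa2c61693 (.node 0x48ac603409745b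 (.node 0x65e0e63cf645e1 .nil .nil) (.node 0x9e881c8524b2c .nil .nil)) (.node 0xcbbee776d65b3d (.node 0x2835b1ea5f6b91 .nil .nil) .nil)) (.node 0xca8e8923c1e934 (.node 0x67513fb0b8453d (.node 0x3279c34b3e1e1b .nil .nil) (.node 0xe03f521e7978d1 .nil .nil)) (.node 0xb1b6faa2142604 (.node 0x2408799bd28e5d .nil .nil) .nil))))) (.node 0xc2d307863da112 (.node 0xb45e6bb5dce0c4 (.node 0x946ebd1109d6a8 (.node 0xb7060fc7af88b6 (.node 0x626ca422f0b10e (.node 0x726cc68ca9031f .nil .nil) (.node 0x1904de9802940f .nil .nil)) (.node 0x68010b6049051e (.node 0x42b594bb209e29 .nil .nil) (.node 0xe04f6efe5c6a10 .nil .nil))) (.node 0xc9aec4832f2c1c (.node 0x9d1ada15678d55 (.node 0x63bd53e927b3e6 .nil .nil) (.node 0xd4c7a00e9ef5e5 .nil .nil)) (.node 0xcfbf24c1f144b5 (.node 0x33a5e02aa191a3 .nil .nil) .nil))) (.node 0x249c88c7418738 (.node 0x9635f703ab5833 (.node 0xbd530df40009d9 (.node 0x7cdd374c9bc309 .nil .nil) (.node 0x77cf1f89995e4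 .nil .nil)) (.node 0x83fa2a214eb256 (.node 0x58f4931b2aa6cd .nil .nil) .nil)) (.node 0xcdda0032afea7f (.node 0xc2ba503053cb43 (.node 0x49e8923a16e577 .nil .nil) (.node 0xd8cf86ad8792a7 .nil .nil)) (.node 0x72f4bc31e9c086 (.node 0x2014b0aba695e6 .nil .nil) .nil)))) (.node 0x8f123150fbd769 (.node 0x4528465674a333 (.node 0x9de6dd07560901 (.node 0x970633b2cc57b6 (.node 0x7725c7dc7000e3 .nil .nil) (.node 0xb8dc97875d194 .nil .nil)) (.node 0xbefb09b19fca12 (.node 0x580c429a6bd3ec .nil .nil) (.node 0xe8cf4cee11ed05 .nil .nil))) (.node 0xcc062fd3e1abb8 (.node 0xa4d68e52203be (.node 0x61c98a8901ecd3 .nil .nil) (.node 0xd51f7d3e17a65b .nil .nil)) (.node 0x99e2819255a9d7 (.node 0x48b0615a927494 .nil .nil) .nil))) (.node 0x8dbeea07a387a2 (.node 0x93a28c53eb9893 (.node 0x8236c394ee31a7 (.node 0x1659039813c514 .nil .nil) (.node 0xfbcd188ea51c7 .nil .nil)) (.node 0x3e3066c6bd1ba8 (.node 0x44edaceae9b4d5 .nil .nil)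 .nil)) (.node 0x9e7f3632ed2979 (.node 0xcfc328b03044d3 (.node 0x32243bd9e62941 .nil .nil) (.node 0xe4afa45e262b1f .nil .nil)) (.node 0x6b89184c23e009 (.node 0x25bdeb9bf050eb .nil .nil) .nil)))))) (.node 0x7e1703f5b84b74 (.node 0x809a53d59e9318 (.node 0x120131a5af6169 (.node 0x86e1fce114d5ff (.node 0x758f0f71707d3 (.node 0x8a4acb65137373 (.node 0x6c65312c45dd01 .nil .nil) (.node 0x218d52bc14ce12 .nil .nil)) (.node 0xa5628210cd1017 (.node 0x3ce5dc99a72be1 .nil .nil) (.node 0xe157996e02e92e .nil .nil))) (.node 0x464003b4e0721f (.node 0x48f57933f61775 (.node 0x5ad15db91999a5 .nil .nil) (.node 0xe915a58dc15ca .nil .nil)) (.node 0x717511a21702dc (.node 0x3f7d9639f1124d .nil .nil) .nil))) (.node 0x917e9ff65f568c (.node 0x3ef853450418f7 (.node 0x86a33eb4f4f204 (.node 0x7bb0efbca5c02f .nil .nil) (.node 0x5e116f81b8d77 .nil .nil)) (.node 0xc1f6be818450d0 (.node 0x543d9f9b6e141e .nil .nil) (.node 0xe62b77ad6951c1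 .nil .nil))) (.node 0x2649e84337af1d (.node 0x67593f9077453e (.node 0x34dc403b90dd82 .nil .nil) (.node 0xda9f78ce56e6f8 .nil .nil)) (.node 0x8b820ad1b7f0c4 (.node 0x4aa44439958b85 .nil .nil) .nil)))) (.node 0x3b71c130d75f0e (.node 0xcceb1106726305 (.node 0x15410d378ec716 (.node 0xa47f18045a10f9 (.node 0x13983c0258 .nil .nil) (.node 0x15b901280b0f57 .nil .nil)) (.node 0x41bda7e18d65c8 (.node 0x53249b8a341e8f .nil .nil) (.node 0xded3975ddf285c .nil .nil))) (.node 0x52382ad57899cb (.node 0xb652b243d26a38 (.node 0x5b3960b922da7d .nil .nil) (.node 0xd28b4a7e8df6c2 .nil .nil)) (.node 0xd1e3008265c3e0 (.node 0x32f44deb59aa43 .nil .nil) .nil))) (.node 0x7f9e29b73948c8 (.node 0x2b759d658a98ac (.node 0xadceac5372aa9e (.node 0x691d038ced4603 .nil .nil) (.node 0x31f3683f8cdd .nil .nil)) (.node 0xbed309c6c6db5b (.node 0x53a17eaa51a606 .nil .nil) .nil)) (.node 0x19f2f369045a (.node 0xc2360e801355fb (.node 0x52a1d0d9884cb7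 .nil .nil) (.node 0xe19f81dd6b13e9 .nil .nil)) (.node 0x6fc1587c401e80 (.node 0x1a45cdcbc1100e .nil .nil) .nil))))) (.node 0x10c0a795976132 (.node 0x7c1f75c61c8d (.node 0x88aee09134156b (.node 0x1810b7972e4783 (.node 0xb2fa73233fa675 (.node 0x7310bd6cbb809b .nil .nil) (.node 0x19c92687fa954d .nil .nil)) (.node 0xc3bb05b08e0f3e (.node 0x42fdd40a5a5170 .nil .nil) (.node 0xe5a7a27e5d2a98 .nil .nil))) (.node 0x4e51ad8396b35d (.node 0x84b70a043c7292 (.node 0x64d5207948a7a3 .nil .nil) (.node 0xd8f3796d68d2d8 .nil .nil)) (.node 0x8bd24e71da7155 (.node 0x2f59993b00ade4 .nil .nil) .nil))) (.node 0x8a8ee85796c92b (.node 0x59755055417088 (.node 0x91fa6ff28c566a (.node 0x6a94b2fd0444fd .nil .nil) (.node 0x91d45188ccbc5 .nil .nil)) (.node 0x3175bb370adc24 (.node 0x2bc59e49b22965 .nil .nil) .nil)) (.node 0x4a3174a4469a77 (.node 0xab8f1ee0378a51 (.node 0x4881a14a772be5 .nil .nil) (.node 0xd7a75e7e0b6868 .nil .nil))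 (.node 0xd17645b22bc3ad (.node 0x1e74a08bb18c60 .nil .nil) .nil)))) (.node 0x7f460970e3c4c6 (.node 0xc60f41968ba31c (.node 0x5f15ece2fd316c (.node 0x4c6173537d726f (.node 0x78d8866c61c141 .nil .nil) (.node 0x1d4881863ce5c .nil .nil)) (.node 0x883314516932a2 (.node 0x54a85c29b7b853 .nil .nil) (.node 0xe957a7bddc2948 .nil .nil))) (.node 0x57203904cd331e (.node 0xa66a4344b00ded (.node 0x25640eb90fdd97 .nil .nil) (.node 0xd91b580e2c6c63 .nil .nil)) (.node 0x76b413f23e025a (.node 0x4a5d750a1edce1 .nil .nil) .nil))) (.node 0x7f5e0a77218861 (.node 0x2a506d542219fa (.node 0x5c087a748f712d (.node 0x5da9cfa9066d57 .nil .nil) (.node 0xf5cceb8c65057 .nil .nil)) (.node 0xc6b343b6f41af2 (.node 0x435427da73f5ac .nil .nil) .nil)) (.node 0x500ca751603c0 (.node 0x67553fc01c453c (.node 0x3125e16a85b4cb .nil .nil) (.node 0xde9b713e60381a .nil .nil)) (.node 0x6f0cccac4dde68 (.node 0x1bec8d1be15306 .nil .nil) .nil)))))))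 (.node 0xb5eae3a5f960e9 (.node 0xf18cd95e4e24c (.node 0x62d1335a21d34 (.node 0x8f0630c1e79760 (.node 0x872e3a10dfd447 (.node 0x2294d5b7c5c83c (.node 0x42719464c131bc (.node 0xf74d0a8e71fe3 .nil .nil) (.node 0x1ed8a3bbba942d .nil .nil)) (.node 0x6aad5530020674 (.node 0x3f38544a084ecf .nil .nil) (.node 0xe1df9e3e282be0 .nil .nil))) (.node 0xbecf094474d1a6 (.node 0xc1168d541fce22 (.node 0x5d496cd97eac3e .nil .nil) (.node 0x116ceb78cad070 .nil .nil)) (.node 0xc8be6896b95c2b (.node 0x3d1431f9c0d3bf .nil .nil) .nil))) (.node 0x9246a22659d92a (.node 0xac82f194b61250 (.node 0x5fd1e9d4f7711c (.node 0x7ab1469c8800a3 .nil .nil) (.node 0x980be58951089 .nil .nil)) (.node 0x81c67d617d3189 (.node 0x587d70ab3225f7 .nil .nil) (.node 0xe7eb7ddd3251da .nil .nil))) (.node 0xa4de9e737c3a36 (.node 0xaaf6b0b2d8d208 (.node 0x4b39ba498d6d6e .nil .nil) (.node 0xda63957e20e63a .nil .nil)) (.node 0x753564325801f2 (.node 0x3525b78b8ad407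 .nil .nil) .nil)))) (.node 0xc40ee976192094 (.node 0x903f3a66a6971d (.node 0xa16e71e76cc6e5 (.node 0x9496bd73b1d6b1 (.node 0x7801ef6cc54118 .nil .nil) (.node 0x1964e837f653c5 .nil .nil)) (.node 0xc5e321106d9258 (.node 0x405007ead878ae .nil .nil) (.node 0xdd63634e71b74e .nil .nil))) (.node 0xbbc6abd28253c3 (.node 0x8972c9d55031b5 (.node 0x5b64d4f94cb452 .nil .nil) (.node 0xd2ff9cfe87f656 .nil .nil)) (.node 0x8e6221d26f30d5 (.node 0x2d9c2d599d37c5 .nil .nil) .nil))) (.node 0x1948e7777c86aa (.node 0xbf274694684a71 (.node 0x9625f72378582a (.node 0x665d24bcf385ad .nil .nil) (.node 0x23993986c9566 .nil .nil)) (.node 0x44d5ac46cf5b1d (.node 0x57783a1acda8f9 .nil .nil) .nil)) (.node 0x615077355370fc (.node 0xaacee27017cb69 (.node 0x2dcc2a498039fc .nil .nil) (.node 0xe5a34c3d8ccf17 .nil .nil)) (.node 0xd0ab26c20b0392 (.node 0x1c516ddbe99552 .nil .nil) .nil))))) (.node 0x5ae55fa645a1ff (.node 0xc2472d96076233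 (.node 0x96a1f630d49858 (.node 0x8571fd10478758 (.node 0xa7f6b3d3487643 (.node 0x7360f98c86c299 .nil .nil) (.node 0x15590db8081287 .nil .nil)) (.node 0xa40b1bf0868c9b (.node 0x3d54270a5239c9 .nil .nil) (.node 0xdc17516dd16787 .nil .nil))) (.node 0xba1eb853278b25 (.node 0x446034444098f6 (.node 0x21515039415cbf .nil .nil) (.node 0xd3db98ed554c95 .nil .nil)) (.node 0x7a7545d23780a1 (.node 0x4f6000aa8869aa .nil .nil) .nil))) (.node 0x9f2979b093f (.node 0xad428353a54b22 (.node 0x3dc4290573175e (.node 0x67d4b6ed1a0647 .nil .nil) (.node 0x64d1458254a45 .nil .nil)) (.node 0xbab6d4c14b4c28 (.node 0x29c182ba00eda3 .nil .nil) .nil)) (.node 0x9a7e97e44bfa32 (.node 0x68cd023097460f (.node 0x39405f4ab1cb05 .nil .nil) (.node 0xd2b394ae94b505 .nil .nil)) (.node 0x8d924a8225b144 (.node 0x221cacec1e92ee .nil .nil) .nil)))) (.node 0x8a62cb40ee4ff6 (.node 0x968b39f6835703 (.node 0x8e4e21374e490e (.node 0xb8168473128fea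 (.node 0x76001edcc8c230 .nil .nil) (.node 0x9c2028490f26 .nil .nil)) (.node 0x4344275153646f (.node 0x55dd772af30f34 .nil .nil) (.node 0xe8139c2e0be830 .nil .nil))) (.node 0xa26a3e44d27a4b (.node 0xae4a1bc4ac3926 (.node 0x5e69cc8964f441 .nil .nil) (.node 0xd61b488e01a89b .nil .nil)) (.node 0xce3655224bc419 (.node 0x38bda20a9af4f1 .nil .nil) .nil))) (.node 0x16ccc0f722087d (.node 0x9ebe5fa3e5540a (.node 0xafde3db4e8e6bc (.node 0x6769409d1fc543 .nil .nil) (.node 0x12313268d795b1 .nil .nil)) (.node 0xbf520466cc5bed (.node 0x3b184b6a4876d4 .nil .nil) .nil)) (.node 0x7c4d39a51dc059 (.node 0xc436e9502d4bc3 (.node 0x5158646b17a6eb .nil .nil) (.node 0xddd7a0ce7f776a .nil .nil)) (.node 0x6d20e9bc481eb3 (.node 0x1aa424ebc9d337 .nil .nil) .nil)))))) (.node 0xace6f2c5bca18b (.node 0x996afc4642a0f9 (.node 0x7d765695e28e3e (.node 0x528dd060fe5d5e (.node 0x8c8320771407bd (.node 0xc95ec2250fad55 (.node 0x7c753a6c92805c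 .nil .nil) (.node 0x20554ffbac8ac8 .nil .nil)) (.node 0xc2ae4fb0c952d5 (.node 0x467803eb7978f2 .nil .nil) (.node 0xe117910dee66fe .nil .nil))) (.node 0x894e9b64dc31eb (.node 0x956ede73f19679 (.node 0x629ca5095ba647 .nil .nil) (.node 0x110ca818eed1ae .nil .nil)) (.node 0x8d3b2cc1f830f4 (.node 0x51ec513a2e532a .nil .nil) .nil))) (.node 0xcc8a2b4667e397 (.node 0xa302a44502b63b (.node 0xa59ac6e4056e07 (.node 0x750f0989602da .nil .nil) (.node 0x7e0ee58a352d2 .nil .nil)) (.node 0x440c050138a55d (.node 0x53f0558b738ba0 .nil .nil) (.node 0xe663759d3accf0 .nil .nil))) (.node 0x97a23853329788 (.node 0xab8b1e20585232 (.node 0x46c581ab54b688 .nil .nil) (.node 0xd9a34c8d8fcfac .nil .nil)) (.node 0xcf7a25c1afc496 (.node 0x371d7b89df8d6c .nil .nil) .nil)))) (.node 0x47819b810bdede (.node 0x8ebe504172e342 (.node 0x7d6256d78d86f3 (.node 0x3505b6e2d158ad (.node 0x7794180c7b0255 .nil .nil) (.node 0x18991d67fe5597 .nil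 .nil)) (.node 0x81c27d91977183 (.node 0x28ddb5bac764ed .nil .nil) (.node 0xdf5783ae552670 .nil .nil))) (.node 0x9ee6fb958334fd (.node 0x79a18e7529c1ac (.node 0x5d0c8ad9762e6f .nil .nil) (.node 0xd64359ed469043 .nil .nil)) (.node 0x78341a71bc420d (.node 0x33f870db05f836 .nil .nil) .nil))) (.node 0x993a40c73ec8e8 (.node 0xb7ba65858976a1 (.node 0x5ae95fe316f179 (.node 0x65b51b3cf9864f .nil .nil) (.node 0xbf019887f53c6 .nil .nil)) (.node 0xc7ba3b26fa9b83 (.node 0x4009e58abe1ec1 .nil .nil) .nil)) (.node 0xad32840367b844 (.node 0x65691aa09dc658 (.node 0x30140a7b9cd3d6 .nil .nil) (.node 0xe0db817d814ccd .nil .nil)) (.node 0x6d65622c53df7d (.node 0x262c114bfacc12 .nil .nil) .nil))))) (.node 0x9ee2fba592a11c (.node 0x7ffb2b35c4d117 (.node 0x3109e0e698e2dd (.node 0x80ce46b77bc999 (.node 0xa5b241b2cffa46 (.node 0x7990831cd44172 .nil .nil) (.node 0x1624f7a8101179 .nil .nil)) (.node 0x65c8e5a05c85db (.node 0x3bb1c26a3eec39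 .nil .nil) (.node 0xe23f812db0ce7c .nil .nil))) (.node 0x9d8aae3438355a (.node 0xcbdeb5c2b66e7c (.node 0x6494e4d93dd9ef .nil .nil) (.node 0xd5ef95cd848d7d .nil .nil)) (.node 0xd0a326a1ddc396 (.node 0x4ea1ae89c7ab71 .nil .nil) .nil))) (.node 0x8b6a0b57628978 (.node 0x88e66722c0f302 (.node 0xb92257f292d281 (.node 0x673cc0ad10854d .nil .nil) (.node 0x4ad48083b1473 .nil .nil)) (.node 0xba4675f6ea1bd5 (.node 0x2a706dcae0b94d .nil .nil) .nil)) (.node 0xacfef243c73868 (.node 0xc4a723c0408cdc (.node 0x3489879b0fea12 .nil .nil) (.node 0xd78f5b9e5ce95f .nil .nil)) (.node 0x7bf4ec21fd432b (.node 0x23bd5e8c08d136 .nil .nil) .nil)))) (.node 0x2b1c56411edeaf (.node 0xcd0f409690e373 (.node 0x430ba934983d4 (.node 0xb56a16338876d3 (.node 0x79d58edcdf41b6 .nil .nil) (.node 0xa5569785b1256 .nil .nil)) (.node 0xbffe03b1648bab (.node 0x56809539f5760b .nil .nil) (.node 0xe9bb4d9def6d16 .nil .nil))) (.node 0xb41f19147bf58d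 (.node 0x409de6b35d5a8a (.node 0x5e2426090d2946 .nil .nil) (.node 0xd91f485ddd2983 .nil .nil)) (.node 0xb9b2cde1d1aa51 (.node 0x3a00966b45dcad .nil .nil) .nil))) (.node 0x993e4117c147fe (.node 0xb636b1d27c766b (.node 0x86133c42a0322a (.node 0x5fb412d9661a92 .nil .nil) (.node 0x136535f8b50a77 .nil .nil)) (.node 0x403006a6e0db32 (.node 0x3e206679edf9b8 .nil .nil) .nil)) (.node 0x8f4230f4a41771 (.node 0xd1464580b243b4 (.node 0x335c01baa0b9b6 .nil .nil) (.node 0xe2ab5c8d82cc4d .nil .nil)) (.node 0x6b38c2ec5f9ffd (.node 0x24758b9bd88a61 .nil .nil) .nil))))))))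

/-- Part of `setTab`. -/
noncomputable def setTab_l_r_r_r : Arr ℕ :=
  .node 0x61a189a609a258 setTab_l_r_r_r_l setTab_l_r_r_r_r

/-- Part of `setTab`. -/
noncomputable def setTab_l_r_r : Arr ℕ :=
  .node 0x804327b6105148 setTab_l_r_r_l setTab_l_r_r_r

/-- Part of `setTab`. -/
noncomputable def setTab_l_r : Arr ℕ :=
  .node 0xbdc18f60e5c44 setTab_l_r_l setTab_l_r_r

/-- Part of `setTab`. -/
noncomputable def setTab_l : Arr ℕ :=
  .node 0x9532d891c75671 setTab_l_l setTab_l_r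

/-- Part of `setTab`. -/
noncomputable def setTab_r_l_l_l_l : Arr ℕ :=
  (.node 0x104d28c608a265 (.node 0x7e6626f5d68f0a (.node 0xc4832345fbe0ed (.node 0xc4de2325bfe190 (.node 0x98e2ffb592611e (.node 0x9105f441245843 (.node 0xa9533257c10803 (.node 0xcd5dfe94a76dd8 (.node 0x6b44c39c5d5d02 .nil .nil) (.node 0x1d992aac063019 .nil .nil)) (.node 0x9f66bb70b48a9a (.node 0x4d0802aaad9eda .nil .nil) (.node 0xe55b719e21ab6f .nil .nil))) (.node 0xb852c8827b396a (.node 0x877b0e82a0f284 (.node 0x5f8c1359672e7e .nil .nil) (.node 0x12e4f478e4e5de .nil .nil)) (.node 0xbf460406e4db2e (.node 0x3e48670b37b558 .nil .nil) .nil))) (.node 0x4aedb9e692235a (.node 0x8856aef34cf328 (.node 0x9eb65f5387b839 (.node 0x74bd680cd801c3 .nil .nil) (.node 0x870fae82c8f79 .nil .nil)) (.node 0x376c6a316ce4c8 (.node 0x56b094e9f6270e .nil .nil) (.node 0xe6cb75fd53529e .nil .nil))) (.node 0x92de74647956cb (.node 0xb006f54361b582 (.node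 0x46a06819cf79ea .nil .nil) (.node 0xd607644df9ebf0 .nil .nil)) (.node 0xb0f2bc41d1e89e (.node 0x39e0964b4874c5 .nil .nil) .nil)))) (.node 0xa71a7b05c3a290 (.node 0x2b7d9d569822d9 (.node 0xabf28ad778499a (.node 0x31ec3af52f345f (.node 0x7964833cd78183 .nil .nil) (.node 0x17814b47d75ea8 .nil .nil)) (.node 0xb6a620c05e92c5 (.node 0x3b89c21a404ab9 .nil .nil) (.node 0xdda753adf3ecd8 .nil .nil))) (.node 0x905b3a7435d724 (.node 0xab771e42b2d560 (.node 0x6498e5293d99a3 .nil .nil) (.node 0xd283874e232c11 .nil .nil)) (.node 0x6d416101a81f83 (.node 0x4e91aea9c71437 .nil .nil) .nil))) (.node 0xa586c627624983 (.node 0xae2e1bd2c2b4a6 (.node 0x78808564104143 (.node 0x6734bfbd10054c .nil .nil) (.node 0x2b884985553b6 .nil .nil)) (.node 0xca3acb36e85bcf (.node 0x2a806d8adecdd1 .nil .nil) .nil)) (.node 0x91ee6fe3c51667 (.node 0x78f99130bdc1d4 (.node 0x3485874b0d6c8b .nil .nil) (.node 0xdd93720e7ef835 .nil .nil)) (.node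 0x9afe128200e928 (.node 0x1ca4765bd72f51 .nil .nil) .nil))))) (.node 0xa082f4564220fb (.node 0xa2faa485e220b5 (.node 0x2d097c60fe9dbe (.node 0xa5d242071287c8 (.node 0xb01ef5950c13f1 (.node 0x7c6d3a5c934067 .nil .nil) (.node 0x1508b4d7ea9ce0 .nil .nil)) (.node 0x7b38fc00424068 (.node 0x469c049b7ae92d .nil .nil) (.node 0xe1ef991e2168d7 .nil .nil))) (.node 0xb8def3b4dd3824 (.node 0xa3b21723f2a725 (.node 0x6298a5995b698e .nil .nil) (.node 0xd2e35e1e82f481 .nil .nil)) (.node 0x999afca1f8e774 (.node 0x51f050ea2ca497 .nil .nil) .nil))) (.node 0x82ee6010270724 (.node 0x96fa3374ff57b0 (.node 0xa55682f4052883 (.node 0x7199121c9e42ed .nil .nil) (.node 0x518cb689cce93 .nil .nil)) (.node 0x87623a513bb263 (.node 0x53e055db746494 .nil .nil) .nil)) (.node 0xcc822c13356727 (.node 0x996240e059d605 (.node 0x4701812b55a9ca .nil .nil) (.node 0xdb6b882ded2e62 .nil .nil)) (.node 0x6ed4cc31e29f5d (.node 0x20cce33ba1ae87 .nil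 .nil) .nil)))) (.node 0x9222a2b10fd930 (.node 0x3bd83c767b6344 (.node 0x9d16da278ac701 (.node 0xa57ec6d2d535b9 (.node 0x681ee84500ed .nil .nil) (.node 0x11dc6e8795603 .nil .nil)) (.node 0xbc3f4771981162 (.node 0x56e5c0aac4b652 .nil .nil) (.node 0xe96f9e0df76c1f .nil .nil))) (.node 0x916aa02580d69b (.node 0x5179974528d9e0 (.node 0x5d148b89735a04 .nil .nil) (.node 0xd4bf509dfde9fa .nil .nil)) (.node 0x9d76a641be2d58 (.node 0x3424719b076e75 .nil .nil) .nil))) (.node 0xb1da3fa73c88e6 (.node 0x97ef12e5865819 (.node 0x43f8055317323f (.node 0x65a11bdcf9c651 .nil .nil) (.node 0x10792998a8a3f9 .nil .nil)) (.node 0x2de5d1e6fe1b79 (.node 0x3fede5dabff805 .nil .nil) .nil)) (.node 0xb2fe73a366a860 (.node 0xa1dab9509fd61f (.node 0x2ffc0aeb9d63ef .nil .nil) (.node 0xde23732de9e64d .nil .nil)) (.node 0x6d91618c511ec9 (.node 0x1b1dcb7bf5ef20 .nil .nil) .nil)))))) (.node 0x817aed35e851db (.node 0xe5159a5a2e1e6 (.node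 0x424bab5a81dc5 (.node 0x8862aeb0e10d13 (.node 0x166503f7c4c849 (.node 0x1cf18864c1afbe (.node 0x7000d9fc3f5fe5 .nil .nil) (.node 0x1f0d215c13eeb0 .nil .nil)) (.node 0xb13a798003cde6 (.node 0x3f30542a09a458 .nil .nil) (.node 0xe4f771be6bb77a .nil .nil))) (.node 0x776417046c0248 (.node 0x716511d41682e5 (.node 0x611d6f09793454 .nil .nil) (.node 0x12809eb8c024bf .nil .nil)) (.node 0x70b8f2821d5f99 (.node 0x44380619c2dc79 .nil .nil) .nil))) (.node 0x979a381659177a (.node 0xbace93b4b8915e (.node 0x4e55ade4f79925 (.node 0x7aad46fc8a80b0 .nil .nil) (.node 0x6bd3b681f93e7 .nil .nil)) (.node 0xbbb2df917ed54f (.node 0x2c7da5bb679e15 .nil .nil) (.node 0xe6237e3d66cdbc .nil .nil))) (.node 0x272583a390b3d8 (.node 0x7c5939907c804e (.node 0x4b35ba098b6d20 .nil .nil) (.node 0xd3734b1e54a810 .nil .nil)) (.node 0x8c2b06325c70b5 (.node 0x35a84849969db1 .nil .nil) .nil)))) (.node 0x7d0648712b03dc (.node 0xcb96e7e6a8a3b8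 (.node 0x263de8376586b6 (.node 0xcaceccd3b52b75 (.node 0x780dee9cc48119 .nil .nil) (.node 0x1840b847e19c49 .nil .nil)) (.node 0x343d86e187e4de (.node 0x407407fad726cc .nil .nil) (.node 0xdcef91bd539292 .nil .nil))) (.node 0x7a08b8f285c27a (.node 0x94cea8654f564a (.node 0x5b60d4994d681d .nil .nil) (.node 0xd6779ced2c4b98 .nil .nil)) (.node 0xa3766dd26de8e3 (.node 0x2dbc2d699c2cdc .nil .nil) .nil))) (.node 0x7de3039781c6a4 (.node 0x74c87c045fc15e (.node 0x8fff0c537897cf (.node 0x6645247cf2c5af .nil .nil) (.node 0xc79f0c842144b .nil .nil)) (.node 0xbaee9446d39b17 (.node 0x577439aacbe61c .nil .nil) .nil)) (.node 0x28bdb575545a2c (.node 0xce12559016c421 (.node 0x2e15d259811f1a .nil .nil) (.node 0xe30ba4ddfc29b7 .nil .nil)) (.node 0xfd89c18ac9fbe (.node 0x2679e8bbc46f17 .nil .nil) .nil))))) (.node 0x105d28b644a201 (.node 0x5e41cba5fde211 (.node 0x8222c300d35105 (.node 0x18dcddd7284768 (.node 0x9639f6b345182d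 (.node 0x739cf9bc844292 .nil .nil) (.node 0x14354e87f2dde5 .nil .nil)) (.node 0xa0bef47086105f (.node 0x3d81d5da55360a .nil .nil) (.node 0xe5ff5f3ddca9ee .nil .nil))) (.node 0x5cc88ab39c712c (.node 0xa4968843f836f (.node 0x59a1517942f391 .nil .nil) (.node 0xd6a790ddf6a602 .nil .nil)) (.node 0x999efcd23ae88c (.node 0x4f30013a8a8ece .nil .nil) .nil))) (.node 0x814eeda79f894a (.node 0xa2f29e62c37a37 (.node 0x9e9e5fd5777698 (.node 0x67ccb6cd1b4644 .nil .nil) (.node 0x3990808861ab4 .nil .nil)) (.node 0x46500396b19ad7 (.node 0x2995828a02cd37 .nil .nil) .nil)) (.node 0x4f71d9144d32cf (.node 0xcf42265098449c (.node 0x392c5f0ab2e4c7 .nil .nil) (.node 0xd9ef948da70ce2 .nil .nil)) (.node 0xb3865c8226eae7 (.node 0x2274d3cbb5f026 .nil .nil) .nil)))) (.node 0x879b0e50eccfdd (.node 0x93c68cb6825883 (.node 0xa38216e302fa77 (.node 0xbf560493148abf (.node 0x760c1e1cc90231 .nil .nil) (.node 0xae47e08674bca .nil .nil))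 (.node 0x844b100155f2ba (.node 0x55bd773af6121c .nil .nil) (.node 0xe8dfa3bdfd29e6 .nil .nil))) (.node 0x4b5c3774d3f38d (.node 0xb75f3014abad10 (.node 0x5e9dcc1961da36 .nil .nil) (.node 0xd9ff748e86b5c7 .nil .nil)) (.node 0x6d4d6162441f85 (.node 0x38c5a21a9a78d2 .nil .nil) .nil))) (.node 0x7c0edb723486e (.node 0xa6ca8ab414ba05 (.node 0x9c8e1984e7d04f (.node 0x25cc105906ddc6 .nil .nil) (.node 0x11a13f38ce24e5 .nil .nil)) (.node 0xcbb6e716ca9be2 (.node 0x3b2c4baa47f7b8 .nil .nil) .nil)) (.node 0x42edd3251d33da (.node 0x7599f13021811f (.node 0x5150644b1526a9 .nil .nil) (.node 0xdfef54cd254f97 .nil .nil)) (.node 0x6f590f3c32df45 (.node 0x24f4893be4ef68 .nil .nil) .nil))))))) (.node 0xa87e62d5d06078 (.node 0x9d480b5ea1ced (.node 0x5900b11627e14b (.node 0xc55eebe631e1b5 (.node 0x90bf38312ad758 (.node 0x840a3af04e4829 (.node 0xa9c61ed33c7a79 (.node 0x6dd8d02c2f5f6d .nil .nil) (.node 0x22b0d65bbfeec4 .nil .nil))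 (.node 0x741c7f00078186 (.node 0x2e79a9ca0d5e62 .nil .nil) (.node 0xdffb56fe68b7dc .nil .nil))) (.node 0xb5426eb272d46c (.node 0xc68743429c6e2c (.node 0x5c587b58f09a4f .nil .nil) (.node 0xee11148d2a4f7 .nil .nil)) (.node 0xc6f60177079ad8 (.node 0x3a75de0b629f3b .nil .nil) .nil))) (.node 0x51d0501650a2a6 (.node 0xb69a207353eadf (.node 0x9b761d148550e1 (.node 0x72cd43bcb3c2d5 .nil .nil) (.node 0x40cfe288f597e .nil .nil)) (.node 0x8a7acc11753370 (.node 0x272d84db2fb58a .nil .nil) (.node 0xe7e377fd2fce0a .nil .nil))) (.node 0x9aee12c47f1591 (.node 0x987a7be2e0ad94 (.node 0x37846b09d712af .nil .nil) (.node 0xd5e3901e462b6a .nil .nil)) (.node 0x6e18a5b25de025 (.node 0x4bc1bf2b8ef634 .nil .nil) .nil)))) (.node 0xb0c2bc561c60a1 (.node 0x96033b16ad5735 (.node 0xa23ed6c77409b5 (.node 0x89be85e3b9f358 (.node 0x7575651c6d81f4 .nil .nil) (.node 0x13d0ab57ef5ed0 .nil .nil)) (.node 0xd14a45d071c3b8 (.node 0x44a0354aef152d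 .nil .nil) (.node 0xdd77588e13a7cf .nil .nil))) (.node 0xb7d665742f12cc (.node 0x43add7b5479968 (.node 0x5a6ce1a937e634 .nil .nil) (.node 0xd9b34c2d8d50a7 .nil .nil)) (.node 0x8cea0ce1a43114 (.node 0x5089e40b806640 .nil .nil) .nil))) (.node 0x18ecdd8782868f (.node 0xb96af012c6a8ff (.node 0xb4aa9db40db650 (.node 0x69ccaa1d0dc5b3 .nil .nil) (.node 0xb3d66f86e8c96 .nil .nil)) (.node 0x4b483786eddc0f (.node 0x282db11a5cae06 .nil .nil) .nil)) (.node 0xc01ea133c10e09 (.node 0xd10e5350b943cc (.node 0x3291c3bb40ea68 .nil .nil) (.node 0xe5f7522d36d41c .nil .nil)) (.node 0xb5d71ad2146a1f (.node 0x25556b6beeef80 .nil .nil) .nil))))) (.node 0x90fdf401ee5839 (.node 0xc3de5205dd60cb (.node 0x91da6fb109566b (.node 0x8b7e0af7afc8a7 (.node 0x40a1e6a2f133ca (.node 0x725cc6acaa031a .nil .nil) (.node 0x17f141d7dc5d69 .nil .nil)) (.node 0x995e40b04c8e4c (.node 0x42c994ab24264f .nil .nil) (.node 0xe1a77b0e0f6da2 .nil .nil)))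 (.node 0xb1aafa032ce8ec (.node 0x776c16e5610246 (.node 0x63cd53d929a853 .nil .nil) (.node 0xda6b611d72d183 .nil .nil)) (.node 0x6c8d3c72306047 (.node 0x3381dffaa41453 .nil .nil) .nil))) (.node 0x1818b7b740074a (.node 0xb60ee303ac6a9f (.node 0x5a28e0c56c3119 (.node 0x15f4f6e80f0618 .nil .nil) (.node 0x73d3858271108 .nil .nil)) (.node 0xbd3e2d81518b11 (.node 0x58c493db2c12ca .nil .nil) .nil)) (.node 0xbdef1732ae5005 (.node 0x735cf8d090028a (.node 0x36586fca1cf5f8 .nil .nil) (.node 0xd30b93ee43e6b4 .nil .nil)) (.node 0xb02af5d1ebaa2f (.node 0x1f70e03c1bf050 .nil .nil) .nil)))) (.node 0x84862f10f9cc61 (.node 0x915a9fb677d68a (.node 0xb996cdc7550909 (.node 0xc6174182cfaa4b (.node 0x7729c7ec7380e9 .nil .nil) (.node 0xcd81c684a8a31 .nil .nil)) (.node 0x4b5437c15ae5a5 (.node 0x5814420a6a24b4 .nil .nil) (.node 0xe9aba66e0969f8 .nil .nil))) (.node 0xb60ae363decd54 (.node 0xa34a6e3527357c (.node 0x61e98ad901a96a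 .nil .nil) (.node 0xd6579bae97f637 .nil .nil)) (.node 0x9c12b2e253ad9b (.node 0x48e860aa93a91c .nil .nil) .nil))) (.node 0x1f50df77a7c787 (.node 0xaeda18b3ec2a7d (.node 0x94baa874ed564e (.node 0x68550bdce5051c .nil .nil) (.node 0xe00db28bba4d1 .nil .nil)) (.node 0xc08e70c6c05ba1 (.node 0x44f9ac9ae938ce .nil .nil) .nil)) (.node 0xc0d2a392ee0af2 (.node 0x9e02dd30325262 (.node 0x31f83ba9e84a86 .nil .nil) (.node 0xe25377ddb311d1 .nil .nil)) (.node 0x6b85183c22e00d (.node 0x26e40dabcd2ffa .nil .nil) .nil)))))) (.node 0x9b621d85b62197 (.node 0x9c6a1945a0e1d3 (.node 0x80da4715b21488 (.node 0x3249c2b0f29c9c (.node 0x7ec325471b87dc (.node 0x9596aae512d8f3 (.node 0x7b8ed789f0037 .nil .nil) (.node 0x21411e9ba9f066 .nil .nil)) (.node 0xcf4a2610ccc4a3 (.node 0x3ccddd19a3cf80 .nil .nil) (.node 0xdc1b5cee76f701 .nil .nil))) (.node 0x1e88a2a4e0aedd (.node 0x9972fc53fab4dc (.node 0x5ac55da91c2baa .nil .nil) (.node 0x100963b8ad23e7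 .nil .nil)) (.node 0xa9ba10421ae88d (.node 0x41fda8a9e99dd0 .nil .nil) .nil))) (.node 0xc7a23b66602382 (.node 0x4890604504b32f (.node 0xb4f6a5d4f5b7b5 (.node 0x7ba0f08ca5002a .nil .nil) (.node 0x598c858a44cc7 .nil .nil)) (.node 0x47e059a140257e (.node 0x2b685ca9b0f9c5 .nil .nil) (.node 0xe66b803d3d5285 .nil .nil))) (.node 0x83e62b0339f252 (.node 0xa3c617e079d091 (.node 0x34f040fb93e8b1 .nil .nil) (.node 0xda874e0e15273e .nil .nil)) (.node 0x9ab298a1b92b3a (.node 0x493d7a09d91ea5 .nil .nil) .nil)))) (.node 0x336ddf50d79e37 (.node 0xcb0e95d6736307 (.node 0x701f578f4702 (.node 0x7b80ef1453c027 (.node 0x76e8150c7c0266 .nil .nil) (.node 0x14b156c7e49f18 .nil .nil)) (.node 0x89ee864190b355 (.node 0x53189bfa367949 .nil .nil) (.node 0xe567974d341371 .nil .nil))) (.node 0x4914715780443 (.node 0xa596c6c3d1d500 (.node 0x63512f491eb404 .nil .nil) (.node 0xd77752fda4ca34 .nil .nil)) (.node 0x6e14a611c1e027 (.node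 0x32e84dbb57e8d9 .nil .nil) .nil))) (.node 0xae421c3737c8d2 (.node 0x1ced88758bafbf (.node 0xbe4f1323741114 (.node 0x68fd035cee0615 .nil .nil) (.node 0x1941678801a08 .nil .nil)) (.node 0xcd334026c49b56 (.node 0x539d7efa4fe9f0 .nil .nil) .nil)) (.node 0xa83ee5e36e3572 (.node 0x777c1740a3c23d (.node 0x302c0b7b8379f9 .nil .nil) (.node 0xe3e376ae3cae57 .nil .nil)) (.node 0x6fcd58cc415d62 (.node 0x1b80220bfeafc3 .nil .nil) .nil))))) (.node 0x7dc6efa598ccf2 (.node 0xd091905c6a287 (.node 0x8de20ba14be2c5 (.node 0x7f1329c7334775 (.node 0xa4c26c933f4ca1 (.node 0x7b68fcccbcc077 .nil .nil) (.node 0x1708c187d3dd8a .nil .nil)) (.node 0x723cc5c062c30c (.node 0x4458340a3879aa .nil .nil) (.node 0xe5cb503de4e756 .nil .nil))) (.node 0x84722f63997270 (.node 0xaf82a7443df91c (.node 0x21b8ac09385ece .nil .nil) (.node 0xdbcb853e0ce869 .nil .nil)) (.node 0x8ee650b1da3080 (.node 0x2f25991b028d9c .nil .nil) .nil))) (.node 0xa4f29ef7960935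 (.node 0x3365df05425837 (.node 0xc90a7e128fee0a (.node 0x6a74b35d064510 .nil .nil) (.node 0x8c10ad83414a8 .nil .nil)) (.node 0xbeaa35270e1c18 (.node 0x2b919e69b45498 .nil .nil) .nil)) (.node 0xa7661e144b35f3 (.node 0xa2eef660388ecc (.node 0x4879a17a764c9f .nil .nil) (.node 0xda4753cd28511f .nil .nil)) (.node 0x6b6117a202a017 (.node 0x1ded2dec0d2ef4 .nil .nil) .nil)))) (.node 0x3d6dd4e0e41d5d (.node 0xcc1230968aa316 (.node 0x50b5aaf2fdda28 (.node 0x58bc92a37db43f (.node 0x78c085fc61814a .nil .nil) (.node 0x31190d85c947a .nil .nil)) (.node 0xbbbeded16a9580 (.node 0x54bc5c19b5d5f3 .nil .nil) (.node 0xe82ba79dc4eb06 .nil .nil))) (.node 0x9ffe8f44d1b616 (.node 0x7b20fbe3580075 (.node 0x60440fc912f390 .nil .nil) (.node 0xda8f645e9af498 .nil .nil)) (.node 0xb342ba424068f4 (.node 0x4a55754a20b867 .nil .nil) .nil))) (.node 0x8e3a21f71f4859 (.node 0x2298d59422aece (.node 0x3c45bc948ff3fe (.node 0x5da1cfd9062aa2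 .nil .nil) (.node 0xda4c498e065f0 .nil .nil)) (.node 0x39717f76db9bc6 (.node 0x4368287a73783d .nil .nil) .nil)) (.node 0x8896e0551931c5 (.node 0xaf6edb301e0d19 (.node 0x3159e14a86ad2c .nil .nil) (.node 0xe33796cd54cb9b .nil .nil)) (.node 0x6f10cd3c4d1c58 (.node 0x1d09888bdfafb6 .nil .nil) .nil))))))))

/-- Part of `setTab`. -/
noncomputable def setTab_r_l_l_l_r : Arr ℕ :=
  (.node 0xc546eb460d6266 (.node 0x5cc48a95cde073 (.node 0xa7167ad5f3e0cf (.node 0x809254662293f5 (.node 0x126c9de62ca1a6 (.node 0x7f8a28e12484ac (.node 0x7d264937bd0811 (.node 0x87da35949eb248 (.node 0x7085345c25dc70 .nil .nil) (.node 0x23355b8c023009 .nil .nil)) (.node 0xa51a9ee0add27b (.node 0x5181986a13f640 .nil .nil) (.node 0xe17f91fe32291a .nil .nil))) (.node 0x3e4466e271b439 (.node 0x2e39a91297734c (.node 0x61787758f6ad36 .nil .nil) (.node 0xd3919b8b623fb .nil .nil)) (.node 0x34418687059aec (.node 0x4625d68b5e9ec3 .nil .nil)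 .nil))) (.node 0xc62741e697235e (.node 0x728d42d351c2c8 (.node 0x4399d784839864 (.node 0x958bd9891c2c1 .nil .nil) (.node 0x44cbb18310f5f .nil .nil)) (.node 0xbb7ad97171c9c6 (.node 0x2a047299f9389d .nil .nil) (.node 0xe7af660d378fd5 .nil .nil))) (.node 0x3379df347e5a2e (.node 0x74cc7bb2dec15c (.node 0x49846929d0a436 .nil .nil) (.node 0xd51b6bee52ac83 .nil .nil)) (.node 0x9fead0f1ccab8e (.node 0x472897eb4cf519 .nil .nil) .nil)))) (.node 0xb75c8b61a5f15 (.node 0xc95ac2f69c62e0 (.node 0x1800b7a77009bf (.node 0xb4ce9d8531eb01 (.node 0x74387fecd3419f .nil .nil) (.node 0x16ad04f8165e90 .nil .nil)) (.node 0x7c5d39706f804f (.node 0x3c083d9aeb53bc .nil .nil) (.node 0xe40b857dcba672 .nil .nil))) (.node 0x2c39a4c42e732c (.node 0x91ba68e2b99908 (.node 0x6418af3932e6f4 .nil .nil) (.node 0xd7ab7c7e8e35af .nil .nil)) (.node 0x8af64c71aa7094 (.node 0x31b1bc19cb55c0 .nil .nil) .nil))) (.node 0xb11a79b75ac968 (.node 0x270983b2c4b27c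 (.node 0xabbece9412261e (.node 0x6604e65cf505cc .nil .nil) (.node 0xa04814850d39e .nil .nil)) (.node 0xbb52d916d89b47 (.node 0x57d5b8aa6167e4 .nil .nil) .nil)) (.node 0x1d552a03bdf01e (.node 0x9e06dd60c149eb (.node 0x4cb5740b11e62f .nil .nil) (.node 0xdc935d0db8d58a .nil .nil)) (.node 0x70bcf262105f92 (.node 0x23e8797bd32f41 .nil .nil) .nil))))) (.node 0x7e0f03563c4d8b (.node 0x10512865d8a0c1 (.node 0x84cf0aa100539b (.node 0x418bad7ad08a2 (.node 0x937e92e2f8d6f2 (.node 0x7c14ec7cac433b .nil .nil) (.node 0x1924de48059cf8 .nil .nil)) (.node 0xce5a4760438437 (.node 0x3ac0332b7d3703 .nil .nil) (.node 0xe0b763fdc52a9b .nil .nil))) (.node 0x3c8ddc132a32cc (.node 0x8549fa356972f0 (.node 0x5becd89954a6d3 .nil .nil) (.node 0xd403a6bd2a8b30 .nil .nil)) (.node 0x8dceeab1f1f0a6 (.node 0x2ed8624a2824a9 .nil .nil) .nil))) (.node 0x8b1b2e37480723 (.node 0x285c49b3aa33db (.node 0x85073d03ff7212 (.node 0x7cd1376c990300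 .nil .nil) (.node 0x7a4f1d8984ead .nil .nil)) (.node 0x36386eb14ca51d (.node 0x279074fb280b08 .nil .nil) .nil)) (.node 0x24398b02abafac (.node 0xaeab3780520fe4 (.node 0x49f8922a161e8a .nil .nil) (.node 0xdbfb629dc2abbc .nil .nil)) (.node 0x8d060db1e4f110 (.node 0x2000b03ba5ae97 .nil .nil) .nil)))) (.node 0x2ca498f0f81ded (.node 0xc9127de67e234c (.node 0x14c4b467524905 (.node 0x77c5ee42cb810f (.node 0x7679c4ec770100 .nil .nil) (.node 0xba1c9d874d5eb .nil .nil)) (.node 0x883b14b19cf2a7 (.node 0x27d4410a5b39e4 .nil .nil) (.node 0xe9f7785de2ed78 .nil .nil))) (.node 0x3e406683dd5ab9 (.node 0xb866c9052ba8c8 (.node 0x60d08ec96e9a78 .nil .nil) (.node 0xd90b872e30ea31 .nil .nil)) (.node 0x6d496112511f82 (.node 0x4c308fcb0a7804 .nil .nil) .nil))) (.node 0x7fdf2be7a507aa (.node 0x49546873e99806 (.node 0x9c8a19b31955ab (.node 0x6aed55dd00866d .nil .nil) (.node 0xfa4d1f8e965e0 .nil .nil)) (.node 0xc836b05700db6a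 (.node 0x3c81bd7ae666ec .nil .nil) .nil)) (.node 0x23055af2ebb00d (.node 0x759df1202e811e (.node 0x4ed83689e3d24f .nil .nil) (.node 0xdedb96ae6e7797 .nil .nil)) (.node 0x70d8f32c5a5f8b (.node 0x25b1ec6bf1ef30 .nil .nil) .nil)))))) (.node 0x8f4e3431da97f1 (.node 0xc2160e45a7e1e8 (.node 0xb3525c25ab2175 (.node 0x93dad1811616e1 (.node 0xb8d6f3f7c7484f (.node 0xbdc31784c48c0a (.node 0x6c59311c465fb0 .nil .nil) (.node 0x2181524c17eea0 .nil .nil)) (.node 0x78fd9150cac1d5 (.node 0x4174665a06cdea .nil .nil) (.node 0xe47f4f9d7d502f .nil .nil))) (.node 0xa322a4146e2aaf (.node 0xae9b3734186d11 (.node 0x23595c7918deff .nil .nil) (.node 0xe6d5ac8dae51a .nil .nil)) (.node 0x8b8a0b021f70c2 (.node 0x3f9996f9ee1de8 .nil .nil) .nil))) (.node 0x3f0853665c637f (.node 0x91f67004bc9669 (.node 0xb81a8514f98a3d (.node 0x73c5090c8dc0c5 .nil .nil) (.node 0x60116a81b13cf .nil .nil)) (.node 0x84922f8182b272 (.node 0x54319f7b6df691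 .nil .nil) (.node 0xe74769fdae0e89 .nil .nil))) (.node 0xad0ef283936630 (.node 0xd1cb00f07e03ec (.node 0x4b7c388b967959 .nil .nil) (.node 0xd7b37c2d31d320 .nil .nil)) (.node 0x6d456171b51f84 (.node 0x4ac44399925d99 .nil .nil) .nil)))) (.node 0x938a8bf130d88d (.node 0x4dfc44b66fa303 (.node 0x8dff22376846b9 (.node 0xab1e1f045d748b (.node 0x75a9f24cc04130 .nil .nil) (.node 0x15ed01a80e9c61 .nil .nil)) (.node 0xbdfb17c18ad538 (.node 0x2cf899ca332e77 .nil .nil) (.node 0xe30f6b3e1227f3 .nil .nil))) (.node 0xa7861e02872cdf (.node 0x3b65c103cfd66d (.node 0x5b0960d9257385 .nil .nil) (.node 0xd87797cd8452c1 .nil .nil)) (.node 0xb282908266e7b8 (.node 0x52702ba9a06cec .nil .nil) .nil))) (.node 0x85b9fad03a88c5 (.node 0xb79a99e461e75b (.node 0x24458b13712fad (.node 0x6a114c8d0b4592 .nil .nil) (.node 0x45f3f83d9432 .nil .nil)) (.node 0x4839a036c21b63 (.node 0x2d517d5a4ba9de .nil .nil) .nil)) (.node 0xa1c6b985551518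 (.node 0xaf6adb70121570 (.node 0x52a9d15987f664 .nil .nil) (.node 0xe3679d9dca2c57 .nil .nil)) (.node 0x6c189cbc399ecb (.node 0x1a55cddbc06f07 .nil .nil) .nil))))) (.node 0xc4ce229649620f (.node 0xa836e5b5fea213 (.node 0x93d2d2313756de (.node 0xb8daf3a72c8765 (.node 0x2b2056933d1a5d (.node 0x7300bd7cb80096 .nil .nil) (.node 0x19f926a7fbddcd .nil .nil)) (.node 0xb97ef0b08c5219 (.node 0x4311d42a575ea9 .nil .nil) (.node 0xe37380bd3151b5 .nil .nil))) (.node 0xa4c66d139fe748 (.node 0xbf6604a443d594 (.node 0x64e12069487427 .nil .nil) (.node 0xd7178dde582b8c .nil .nil)) (.node 0x6ed0cc11d59f62 (.node 0x30c4306a8ecee8 .nil .nil) .nil))) (.node 0x1c7c7567958926 (.node 0x948abd453d96b2 (.node 0x73a508a28c00c3 (.node 0x653cdc8cfec4f9 .nil .nil) (.node 0x95545588a9a9c .nil .nil)) (.node 0xc97ac206b25ac3 (.node 0x54fda439afd4b0 .nil .nil) .nil)) (.node 0xa06a3ce44fee4a (.node 0x7b3cfbf0354069 (.node 0x47f85a2ab853ed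 .nil .nil) (.node 0xd6676b1de967ee .nil .nil)) (.node 0x8b4b2e522ef120 (.node 0x1e58a0dbb1f036 .nil .nil) .nil)))) (.node 0x93928ca11c988a (.node 0x27e1b09686e312 (.node 0xa1fe924307b721 (.node 0x97eb12630c5813 (.node 0x75047c6c648165 .nil .nil) (.node 0x1d887d862cbe3 .nil .nil)) (.node 0x39697f1167a50f (.node 0x2ac9780afa4a21 .nil .nil) (.node 0xe87f7d2df5e624 .nil .nil))) (.node 0xc661fdc4d8283e (.node 0xa0ca5d04b3764b (.node 0x5f35edd95e6c2f .nil .nil) (.node 0xdb53a61d6fd53e .nil .nil)) (.node 0xa25ed712482c60 (.node 0x47a99c4a9eb8cd .nil .nil) .nil))) (.node 0x8ce60da7264874 (.node 0x92e674442956c1 (.node 0x90633ae4979729 (.node 0x5fe1ea39096deb .nil .nil) (.node 0xf4cce78c3e4ac .nil .nil)) (.node 0xbd923296f75afe (.node 0x3df42a3a6f3837 .nil .nil) .nil)) (.node 0xb58e16051feb23 (.node 0xb2cad6302454e1 (.node 0x4fa9da4a80f746 .nil .nil) (.node 0xe2f78cbdab12c7 .nil .nil)) (.node 0xd6cc3e8de5f52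 (.node 0x1bd88c6be0ef78 .nil .nil) .nil))))))) (.node 0xeb51045f720e7 (.node 0xa16271b5ec2240 (.node 0x9932415628e150 (.node 0xb56216b63461bd (.node 0x3dd428c0dd9e4e (.node 0xb57616c7cc4833 (.node 0xa582c6f4caf956 (.node 0x6e8127ac56602f .nil .nil) (.node 0x1eaca35bbbeed4 .nil .nil)) (.node 0xa0328f800b4d99 (.node 0x3e8852ea07f9bd .nil .nil) (.node 0xe1ff777df96bb3 .nil .nil))) (.node 0xb7fe846475b4b6 (.node 0xb94af024203551 (.node 0x5d456cb97e33c2 .nil .nil) (.node 0x113ceb38c8649a .nil .nil)) (.node 0xba0eb876ba9c30 (.node 0x3d3c3209be9c91 .nil .nil) .nil))) (.node 0xcd45fe5655e2ad (.node 0x974be04b40477 (.node 0xb21af7348d7869 (.node 0x7afd067cb782ba .nil .nil) (.node 0x9b0be6893d996 .nil .nil)) (.node 0x4af5b9f179a432 (.node 0x588570cb311f38 .nil .nil) (.node 0xe65b6c3d620ed7 .nil .nil))) (.node 0x9c7219a38eb60d (.node 0xadeadc12dbb68f (.node 0x3611afd98e4e50 .nil .nil) (.node 0xd6f75bed4a8a01 .nil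 .nil)) (.node 0xb61ae3b260e992 (.node 0x3545b77b889e19 .nil .nil) .nil)))) (.node 0x7eae0786160ed8 (.node 0x483da026a4e3b7 (.node 0x7ebb25276f86da (.node 0x716d11e3b142e3 (.node 0x791d925c6a41e6 .nil .nil) (.node 0x198ce7c7f85eb8 .nil .nil)) (.node 0xd0cf2a706b0380 (.node 0x413c099ad3e78c .nil .nil) (.node 0xdebb821dc0ebf1 .nil .nil))) (.node 0xa08af42282b547 (.node 0xa91e11f5498b54 (.node 0x6258a1994f9aa9 .nil .nil) (.node 0xd9338e2e9b74f5 .nil .nil)) (.node 0x6e1ca6226ae026 (.node 0x3081e28b852818 .nil .nil) .nil))) (.node 0x8bc24ed7868686 (.node 0xb046d014697490 (.node 0x98da409375fa4c (.node 0x18ccdd78018596 .nil .nil) (.node 0x25193d86a0caf .nil .nil)) (.node 0xcc7b0b66ef1bf9 (.node 0x29583ecacfe60a .nil .nil) .nil)) (.node 0xaa6e66655d7903 (.node 0x74187f20148187 (.node 0x4dc5b2db43b7f5 .nil .nil) (.node 0xdd1b831d985324 .nil .nil)) (.node 0x8aaae8a20bb170 (.node 0x1c496e4beaef90 .nil .nil) .nil)))))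 (.node 0x9b561d564d21f7 (.node 0x813301b604520c (.node 0x33082dd0d11d44 (.node 0x8baa4e57b5488f (.node 0xb01af562f31269 (.node 0x7a58ba0c81c276 .nil .nil) (.node 0x156d0d98095d81 .nil .nil)) (.node 0x7358f8c083028b (.node 0x3ec5a74b1e772f .nil .nil) (.node 0xe3a37f5d9b4bce .nil .nil))) (.node 0x819a7d33273186 (.node 0xcc8e2bb564ead0 (.node 0x5a1123992bd98c .nil .nil) (.node 0xda137bfd370c4a .nil .nil)) (.node 0xae5e1c6233e70a (.node 0x4d49db3aa8112a .nil .nil) .nil))) (.node 0xb46e6b6743c74c (.node 0x88271463a672a1 (.node 0xa96f32656f6978 (.node 0x6884ffdce3062f .nil .nil) (.node 0x65113982290ef .nil .nil)) (.node 0x8a36880147f197 (.node 0x56197249fe8d51 .nil .nil) .nil)) (.node 0xa8d696f2a7b8cf (.node 0xd14245209183b7 (.node 0x37c05e4a79f9f5 .nil .nil) (.node 0xd287877dc5eae8 .nil .nil)) (.node 0x6c893c9223604c (.node 0x21ecad4c1ff040 .nil .nil) .nil)))) (.node 0x32ac4cf0ec1f0f (.node 0x8eba505165a31e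 (.node 0x7e7e07d7510914 (.node 0x2f58f931004a6 (.node 0x78701b5ccd420e .nil .nil) (.node 0xb41f98460a4a .nil .nil)) (.node 0xbb76d8b15d8b2b (.node 0x287c4aaa662569 .nil .nil) (.node 0xe94f4b3dcfec92 .nil .nil))) (.node 0x9f867883da3873 (.node 0x64ad1fb4a83129 (.node 0x5cb18d28f9d95b .nil .nil) (.node 0xd5df903dfcaaa4 .nil .nil)) (.node 0xb48e6b324ee797 (.node 0x386058ea9677b9 .nil .nil) .nil))) (.node 0x9b2b33d7a94797 (.node 0x8a5acb73e63371 (.node 0x3a29dd94e672ec (.node 0x6791405d1d8535 .nil .nil) (.node 0x121d32e8d66508 .nil .nil)) (.node 0x33102dc6c89bf4 (.node 0x4558469a43b7b2 .nil .nil) .nil)) (.node 0xa7bf1d02e838f4 (.node 0xb07acff02c0a80 (.node 0x2fb04f6b18d2fb .nil .nil) (.node 0xe03b63de78f713 .nil .nil)) (.node 0x6d04e93c4a6050 (.node 0x1ab8247bc92fea .nil .nil) .nil)))))) (.node 0x106128a5baa18d (.node 0x764f0c63e5e6c (.node 0x92aa73d26316b8 (.node 0x87523a90f35073 (.node 0x1db52d3711c7ba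 (.node 0x3ddc29250af43d (.node 0x713115ac97c04c .nil .nil) (.node 0x205d4f7badf076 .nil .nil)) (.node 0xcf972430c584bc (.node 0x43e5d8e9a96bb4 .nil .nil) (.node 0xe26ba58e4b6ac8 .nil .nil))) (.node 0xc04e6a54e3d2fe (.node 0x7b88ef23f10025 (.node 0x62e52cf91829e5 .nil .nil) (.node 0x10e4a878ede5f2 .nil .nil)) (.node 0x6b6517c1f5a010 (.node 0x50984fba2af988 .nil .nil) .nil))) (.node 0x94c2a896649644 (.node 0xaa7665f5061239 (.node 0x2b719d0402b30c (.node 0x71ecc9dca28012 .nil .nil) (.node 0x7f4ee889fcce0 .nil .nil)) (.node 0xbcfa01b1444f0f (.node 0x2c105d8b70a4b8 .nil .nil) (.node 0xe7cf619d944f55 .nil .nil))) (.node 0x788485d3318145 (.node 0x7238c5e055c30d (.node 0x3999804b50397d .nil .nil) (.node 0xd84f62ae95b4b3 .nil .nil)) (.node 0x9d72a6a1b1ac51 (.node 0x37397bb9dd5e8d .nil .nil) .nil)))) (.node 0x826a7fa0d9cf43 (.node 0x97db12066a580b (.node 0x8eda50a7910706 (.node 0xc9a2c49457e8dd (.node 0x77b817dc7a0245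 .nil .nil) (.node 0x18ad1cd7ff9f30 .nil .nil)) (.node 0x4841a051946411 (.node 0x28e9b5dac69de1 .nil .nil) (.node 0xe01f5c0e362ceb .nil .nil))) (.node 0xc0aa71157c0ca3 (.node 0x90e338e3cb1750 (.node 0x1c088a2972dd06 .nil .nil) (.node 0xd40b95be18ee41 .nil .nil)) (.node 0x8b0e4c31c53092 (.node 0x4e4445bb5be8c7 .nil .nil) .nil))) (.node 0x13a4aaa73ac8ee (.node 0xbe6313f58e5361 (.node 0x949abd631f56ae (.node 0x66a9490d1745f6 .nil .nil) (.node 0xc2819a87b9a20 .nil .nil)) (.node 0xbf620436fc5b89 (.node 0x40dde77abced2f .nil .nil) .nil)) (.node 0x77cdee63648111 (.node 0xb51ea560a68e64 (.node 0x50040cbb99e5b5 .nil .nil) (.node 0xdc1f49de7778d6 .nil .nil)) (.node 0x6e40a71c291e0b (.node 0x261c11dbfaafd3 .nil .nil) .nil))))) (.node 0x6200a13591e114 (.node 0xc25f2d15cb228c (.node 0x937a9356a116eb (.node 0x8a3a7db00d4995 (.node 0xabe68ae539b6f2 (.node 0xa2c820857416e .nil .nil) (.node 0x1654f7e812dd72 .nil .nil))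 (.node 0xa6c2fed06694f7 (.node 0x45b1b42a39e526 .nil .nil) (.node 0xdf8b513e693749 .nil .nil))) (.node 0x9c621933d57a7d (.node 0x58a09292b1b28f (.node 0x593cb2193b6b9a .nil .nil) (.node 0xd3c39cde98b536 .nil .nil)) (.node 0xb9325801df2c31 (.node 0x50c9ab4afe4db5 .nil .nil) .nil))) (.node 0x1a887575f0973 (.node 0xa77e1de5430e9f (.node 0xb212f71295b4e3 (.node 0x6978f60ce90565 .nil .nil) (.node 0x4cd4838389490 .nil .nil)) (.node 0x2c41a486e79bda (.node 0x557c6beada50f7 .nil .nil) .nil)) (.node 0x9c1ee2f3af3a2f (.node 0x9e8f36d03e947c (.node 0x38119b7a7a152f .nil .nil) (.node 0xd6bb53bdf4672e .nil .nil)) (.node 0x9e3e1a6205aab5 (.node 0x23b15ecc092ee4 .nil .nil) .nil)))) (.node 0x88aae0c0e7931f (.node 0x969739868e1704 (.node 0xaab6e2e2ff0e53 (.node 0xb75730237f1004 (.node 0x79e98e9cdd81af .nil .nil) (.node 0xa7d69f8581462 .nil .nil)) (.node 0x89a2c9416371ba (.node 0x2b5c5739baab60 .nil .nil) (.node 0xe88372ddcb6dab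 .nil .nil))) (.node 0xb45a6b038f7a22 (.node 0xc992c4535c2d97 (.node 0x5e1026b90d73e0 .nil .nil) (.node 0xd56b788e4f2d7c .nil .nil)) (.node 0x6e10a5c1cee024 (.node 0x36c1858a24f862 .nil .nil) .nil))) (.node 0x18d8ddc7bec805 (.node 0xc08671242555f7 (.node 0x9f4abb9491ca0a (.node 0x5ed023996c6ca1 .nil .nil) (.node 0x13493538b1a3e9 .nil .nil)) (.node 0xcc7f0bb6dc5bb5 (.node 0x4230524b3bf600 .nil .nil) .nil)) (.node 0x5c107a04a1f0ab (.node 0x77781750b0c23c (.node 0x33482ecaa95f07 .nil .nil) (.node 0xe5fb4b2dd02d0d .nil .nil)) (.node 0x6cd53ccc345e23 (.node 0x24558bfbdbafa6 .nil .nil) .nil))))))))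

/-- Part of `setTab`. -/
noncomputable def setTab_r_l_l_l : Arr ℕ :=
  .node 0xadf2dbd6112272 setTab_r_l_l_l_l setTab_r_l_l_l_r

/-- Part of `setTab`. -/
noncomputable def setTab_r_l_l_r_l : Arr ℕ :=
  (.node 0xb83ec8d60c625b (.node 0xb4e6a505d42069 (.node 0xf88d0c5f160d3 (.node 0x9054446205e0c (.node 0x96e63301dad7a9 (.node 0x85c1fae1210d2d (.node 0x222cd2a7b98809 (.node 0x76a013b49d0261 (.node 0x706933cc261fa3 .nil .nil) (.node 0x1d912adc043015 .nil .nil)) (.node 0x76bc1400aa4256 (.node 0x4d10032aad0dcf .nil .nil) (.node 0xe59b89fe62f80f .nil .nil))) (.node 0xb4826b7279cd6d (.node 0xa1867282a06701 (.node 0x1c0c76a8f4dd36 .nil .nil) (.node 0x1304f468e51163 .nil .nil)) (.node 0xc7323686e3db22 (.node 0x3e7467cb354e36 .nil .nil) .nil))) (.node 0x935e93469516ed (.node 0x9bc71ca34cad63 (.node 0xb68e208385d63d (.node 0x749d684cd9c1ce .nil .nil) (.node 0x85cfb482b4f2d .nil .nil)) (.node 0x8206c1c16eb360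 (.node 0x56889549f3a43b .nil .nil) (.node 0xe603a28d21d5ae .nil .nil))) (.node 0xc14ad3047b9456 (.node 0xca1eca93626d86 (.node 0x49a86979d3270c .nil .nil) (.node 0xd257790d3a0e49 .nil .nil)) (.node 0x6f8d5831c89fdf (.node 0x3a04965b468f82 .nil .nil) .nil)))) (.node 0xc4d62265c5629f (.node 0x90573a169a171a (.node 0xa35a6df77ac99f (.node 0x881b14253172a0 (.node 0x74287f6cd00196 .nil .nil) (.node 0x17514ac7d6cd27 .nil .nil)) (.node 0xac9ef1c0601510 (.node 0x3bf03d0aedb676 .nil .nil) (.node 0xe49f556e372827 .nil .nil))) (.node 0xbdd717f4378a72 (.node 0x465803d2b85957 (.node 0x6404ae593173b0 .nil .nil) (.node 0xd9276e4d61c9e7 .nil .nil)) (.node 0x8c762391aab104 (.node 0x3189bbf9cdb6a4 .nil .nil) .nil))) (.node 0x167103b758c96e (.node 0xca9a8942c2ea90 (.node 0x9dcedd1413f655 (.node 0x6714bfed12855a .nil .nil) (.node 0x2c884c8559a21 .nil .nil)) (.node 0x54845b66d41b4d (.node 0x57c9b89a605dfa .nil .nil) .nil))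 (.node 0xba12b843c68a27 (.node 0xd1125360bfc3cd (.node 0x4c81747b12b5ce .nil .nil) (.node 0xdf6b7e8e4e6e03 .nil .nil)) (.node 0xb40a14d1ff2aa5 (.node 0x1c9c760bd7af5a .nil .nil) .nil))))) (.node 0x5a855cc639a102 (.node 0xc2cb07b5e3e0b8 (.node 0x95cf3b3103973c (.node 0x8691fd003ac8aa (.node 0x3fd9e522f7742a (.node 0x7c38ed3cadc32d .nil .nil) (.node 0x14f8b4f7e70add .nil .nil)) (.node 0xb8ba5a90460e33 (.node 0x4670045b78e42b .nil .nil) (.node 0xde1b828dbe09e9 .nil .nil))) (.node 0xb3fa14f4dad624 (.node 0x76ac13a5674260 (.node 0x5be4d879563433 .nil .nil) (.node 0xd7a35e9e5a6b58 .nil .nil)) (.node 0x6bcc9c71ef5fc9 (.node 0x2efc62fa2aa6b7 .nil .nil) .nil))) (.node 0xb6dc88747071d (.node 0xaab2e254ff8cbb (.node 0x42899473fd1956 (.node 0x71b1125c9e82df .nil .nil) (.node 0x538cae89d5997 .nil .nil)) (.node 0xbf7604113dcef6 (.node 0x27cc74eb28a694 .nil .nil) .nil)) (.node 0xa5fa42d2a9fa5b (.node 0x7bfcec304f4327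 (.node 0x46cd813b554d53 .nil .nil) (.node 0xd3477aae3ae67d .nil .nil)) (.node 0xa2e6f6e1e52a1e (.node 0x20dce3bba16e86 .nil .nil) .nil)))) (.node 0x8a6acc310d5351 (.node 0x97ff12167cd80c (.node 0x8c4e23f78b86ee (.node 0xcd9b42d2d5ea5c (.node 0x7671c49c74c0f9 .nil .nil) (.node 0x109c64877cfdf .nil .nil)) (.node 0x37d59a119ae423 (.node 0x570dc04ac36806 .nil .nil) (.node 0xe83b4ffde46c70 .nil .nil))) (.node 0xbaea93a5829082 (.node 0x87930ee52b3285 (.node 0x60c48ee9712877 .nil .nil) (.node 0xd37b8fde8c3521 .nil .nil)) (.node 0x8ee25131beb082 (.node 0x33fc71ab04e5d1 .nil .nil) .nil))) (.node 0x15390cf7a087b7 (.node 0xb5466f558612e4 (.node 0x9592aab31918ed (.node 0x65811b2cfb0665 .nil .nil) (.node 0x108d28f8aad023 .nil .nil)) (.node 0xbe5713c7031b71 (.node 0x3ff9e61abf259f .nil .nil) .nil)) (.node 0xa5227a42e9fa06 (.node 0x9d32d9f0a00e7d (.node 0x4f0c3649e4665f .nil .nil) (.node 0xe10b963daa52dc .nil .nil))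 (.node 0xea4f228d0df89 (.node 0x1b35caebf4ef24 .nil .nil) .nil)))))) (.node 0x9816c025e66253 (.node 0xab161f95a421e4 (.node 0x7d3a4915aa8c40 (.node 0x46480381131d17 (.node 0x8e7b04c7c60841 (.node 0xa6eabfc4c43855 (.node 0x703cd9cc3c5d4a .nil .nil) (.node 0x1f3521ac11eeb4 .nil .nil)) (.node 0xb2ced5c004cdb2 (.node 0x418465ca06393e .nil .nil) (.node 0xe0a74d2e542d0a .nil .nil))) (.node 0x880b14346db2ab (.node 0x98a244f41a3697 (.node 0x61016f197aa622 .nil .nil) (.node 0x12ac9e58c2517a .nil .nil)) (.node 0xa92e117221687c (.node 0x444c05a9c3ea48 .nil .nil) .nil))) (.node 0xca4686f65ba2be (.node 0x1ef12134bbaebc (.node 0x9d12da84fbb7bb (.node 0x73c9091c8d80c9 .nil .nil) (.node 0x6d13b581f1010 .nil .nil)) (.node 0x35d1af01802444 (.node 0x2c8da5db67ec48 .nil .nil) (.node 0xe6eba37d4ad4b8 .nil .nil))) (.node 0xb5ab1a1394b4c2 (.node 0xaeea19108050a9 (.node 0x34fc374b87b9d4 .nil .nil) (.node 0xd43b5d9e30aa1d .nil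 .nil)) (.node 0x9c0eb3225a69a3 (.node 0x35b8486997ad93 .nil .nil) .nil)))) (.node 0x357047f12bdccf (.node 0x8d5249917962fb (.node 0x7e3e26c769c6c1 (.node 0x71c0c8d459c00d (.node 0x77edee8cc7811c .nil .nil) (.node 0x1820b877decebf .nil .nil)) (.node 0x82927fc18a3345 (.node 0x2a9898ca2f79dd .nil .nil) (.node 0xdfe369ce1e6cc9 .nil .nil))) (.node 0x886eaf0287f329 (.node 0xa9aa10754f8b3b (.node 0x5b70d5794e2e4e .nil .nil) (.node 0xd2e79bde80b542 .nil .nil)) (.node 0x6bc09c2264dfcb (.node 0x52602b799fdebc .nil .nil) .nil))) (.node 0x8a9ae8277ec6a1 (.node 0x846e2f34613279 (.node 0xbf5e04837a0b8a (.node 0x6a254c5d08c57e .nil .nil) (.node 0xc69f028419139 .nil .nil)) (.node 0xc7363746d09b0e (.node 0x2d2d7d1a4c7482 .nil .nil) .nil)) (.node 0xaaa2e2c557f7ba (.node 0x795c82700e016d (.node 0x2e19d2e9808cd0 .nil .nil) (.node 0xe5d397ad87521b .nil .nil)) (.node 0x6bec9d1c3a5fc4 (.node 0x266de96bc6af1a .nil .nil) .nil)))))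 (.node 0xa0d25cf646a205 (.node 0x7edb2556008a10 (.node 0x35d5af51325edc (.node 0x80ff01672d075d (.node 0xadc6acb345ccba (.node 0x7380f96c8782a3 .nil .nil) (.node 0x14294dd7f10b8f .nil .nil)) (.node 0x7a1cb920898271 (.node 0x3da1d5ca529590 .nil .nil) (.node 0xe4f38b8e042bd2 .nil .nil))) (.node 0x980ac0b3a13599 (.node 0x9757083441d7e8 (.node 0x59b95139425a00 .nil .nil) (.node 0xd3df8a9da9d22d .nil .nil)) (.node 0xa44a14923a66f9 (.node 0x30f4307a8f687e .nil .nil) .nil))) (.node 0x99c681879dc954 (.node 0x20354f153c707d (.node 0xc9c6804577e60e (.node 0x654cdd1cfd44e7 .nil .nil) (.node 0x38d08388514c2 .nil .nil)) (.node 0xc0d6a306b45ac9 (.node 0x5509a3b9aef870 .nil .nil) .nil)) (.node 0x81fec1844f3369 (.node 0xd15e45309803b6 (.node 0x48005a8ab77885 .nil .nil) (.node 0xd85f60ae40acc6 .nil .nil)) (.node 0x6f8158022a1fe1 (.node 0x2254d3abb73023 .nil .nil) .nil)))) (.node 0x45e9d641199e64 (.node 0xcd2740e684632d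 (.node 0x1ae9ca7304af2f (.node 0x1a7c24130b2fee (.node 0xa287b88570154 .nil .nil) (.node 0xadc7e18658ae4 .nil .nil)) (.node 0xc0faa2f1570b44 (.node 0x2ad978daf9373a .nil .nil) (.node 0xe99b9dfdc9e8bc .nil .nil))) (.node 0x8555fa74d672f7 (.node 0x7a0cb944afc27b (.node 0x5e99cca961995d .nil .nil) (.node 0xd953698e12ad4a .nil .nil)) (.node 0x9fa678c246e8e2 (.node 0x38b5a23a9b5019 .nil .nil) .nil))) (.node 0xaeca18f7244880 (.node 0x774f1042703f4 (.node 0x44ddac1495f41e (.node 0x5fe9ead908ab78 .nil .nil) (.node 0x11cd3eb8cf1211 .nil .nil)) (.node 0x4f79d946f31b03 (.node 0x3b1c4b8a488db6 .nil .nil) .nil)) (.node 0xace2f225213567 (.node 0xa332a460248cff (.node 0x4cc001aa7e79b7 .nil .nil) (.node 0xddc3a4ee7e391e .nil .nil)) (.node 0x6f790f7c319e98 (.node 0x24c489bbe7ef66 .nil .nil) .nil))))))) (.node 0x93828bc2635880 (.node 0x7f232925ec8a42 (.node 0x7d8256662a0cd8 (.node 0xf78d0f63361c3 (.node 0x857b3f212792d7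 (.node 0x5bd1647cb0821 (.node 0xb79c8f4c60475 (.node 0x6de4d01c2ddf29 .nil .nil) (.node 0x22c8d6fbbeeec7 .nil .nil)) (.node 0xa1deb8f00a4dcc (.node 0x2e89a9ea0e6d81 .nil .nil) (.node 0xe457496da35512 .nil .nil))) (.node 0x4b5837b471dabd (.node 0x62d12b841b70d9 (.node 0x5c447a98f467d8 .nil .nil) (.node 0xefd10b8d39229 .nil .nil)) (.node 0x49c09126b61c3b (.node 0x3a7ddecb63aadc .nil .nil) .nil))) (.node 0x95aaaaa65218e2 (.node 0x9ff68f24adfa03 (.node 0x3c91dc0489987c (.node 0x7b1505ecb582ac .nil .nil) (.node 0x404fe388eda56 .nil .nil)) (.node 0xc0f6a3a17849e0 (.node 0x274984eb2d8ccf .nil .nil) (.node 0xe73fa77d60d4ea .nil .nil))) (.node 0x3a2ddd838a984c (.node 0x788c8572d84142 (.node 0x35f5b04990f641 .nil .nil) (.node 0xd95b5d8e8a74c9 .nil .nil)) (.node 0x8dc6ea1262f0a5 (.node 0x4bf1beeb8d2d41 .nil .nil) .nil)))) (.node 0x614076e615a085 (.node 0xcc630bd6af23a7 (.node 0x14014d976a46de (.node 0xb37e5c13b92e3b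 (.node 0x793d923c6881db .nil .nil) (.node 0x13a8abe7ecca11 .nil .nil)) (.node 0x711914a0690035 (.node 0x4130096ad25f00 .nil .nil) (.node 0xe45f4a0dfee963 .nil .nil))) (.node 0x402406e27e572e (.node 0x92026f85495662 (.node 0x235ca0f94edf2f .nil .nil) (.node 0xdb976f9e57eb9c .nil .nil)) (.node 0x8efa50e1a3f084 (.node 0x307de29b839cf7 .nil .nil) .nil))) (.node 0x7d6656b787868b (.node 0x5f09ecc46470cc (.node 0xa6fabf240be60c (.node 0x69aca9ad0e85c6 .nil .nil) (.node 0xb3966d8704a00 .nil .nil)) (.node 0xbfce03a6f19c07 (.node 0x29343f0ad0f5bc .nil .nil) .nil)) (.node 0x4e6dad9559f3b8 (.node 0xb4da9e00bac9d1 (.node 0x326dc3ab3ee469 .nil .nil) (.node 0xe3ab865dd42619 .nil .nil)) (.node 0x6f9557f2099fdb (.node 0x253d6b4bee2f8b .nil .nil) .nil))))) (.node 0x12589df64b21f8 (.node 0x1b48746025ca4 (.node 0x8a2287e106ccdf (.node 0x174d4a37b208a1 (.node 0x93e2d1d2f296da (.node 0x95cb8c8918273 .nil .nil) (.node 0x17bd41a7dad1f5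 .nil .nil)) (.node 0xce4647704a0436 (.node 0x4295957b2389ed .nil .nil) (.node 0xe053717e6d381b .nil .nil))) (.node 0x49b89113241804 (.node 0x86f5fc556332e0 (.node 0x63d1543927195f .nil .nil) (.node 0xd6e35e4dc729b6 .nil .nil)) (.node 0xb8f2f3c234687b (.node 0x4d81db5aa8ac46 .nil .nil) .nil))) (.node 0x8db2ea6744873b (.node 0x79a58e13a441aa (.node 0xb396f8a570f54b (.node 0x68b1002ce0461f .nil .nil) (.node 0x72d3938281291 .nil .nil)) (.node 0x49c490d146250b (.node 0x562972b9fdb7c4 .nil .nil) .nil)) (.node 0x57f84172a41a2b (.node 0xcf5e264091c49d (.node 0x36806f2a1b2e38 .nil .nil) (.node 0xdb3b4d5df2e72d .nil .nil)) (.node 0x8c5a2421eb7100 (.node 0x1f78e04c1b3053 .nil .nil) .nil)))) (.node 0x7dda5290ea43c3 (.node 0xc8c29c5679233f (.node 0x25056a474dc90d (.node 0x9e925ee30ffa5f (.node 0x78541b6ccc021a .nil .nil) (.node 0xcfc1ca84a5a3a .nil .nil)) (.node 0x883714415c72aa (.node 0x289c4aba68290a .nil .nil)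 (.node 0xe8ef9e7ddea8f2 .nil .nil))) (.node 0x54705b23d631ff (.node 0xccdb119527a851 (.node 0x5cad8d58fab3e2 .nil .nil) (.node 0xd3179aed38d3ce .nil .nil)) (.node 0x6bd49c824a5fcd (.node 0x48b860ca92d35b .nil .nil) .nil))) (.node 0x7df30337ab478e (.node 0x7be4ec43e44332 (.node 0xb5821624edd036 (.node 0x68390c1ce6c52b .nil .nil) (.node 0xe1cdaf8bdd192 .nil .nil)) (.node 0xcb7a6186bf5b9d (.node 0x44e9acbaea5311 .nil .nil) .nil)) (.node 0x2aa577d2e4978e (.node 0x77d9ee30280104 (.node 0x2f904f1b1af619 .nil .nil) (.node 0xe42f90ce4fe609 .nil .nil)) (.node 0x6ba918fc211e0a (.node 0x26dc0e9bce2ff8 .nil .nil) .nil)))))) (.node 0xc20e0ef5b961a1 (.node 0xc3ca51a5a121d8 (.node 0xa7a71d95b1a164 (.node 0x94aea8f0f5964b (.node 0x9baf1c6718c7e8 (.node 0xb1625e85120e85 (.node 0x714915ec95c044 .nil .nil) (.node 0x21111e4babf068 .nil .nil)) (.node 0x75396440c441ef (.node 0x43b5d859aaf6dd .nil .nil) (.node 0xe4276c9d5a8efd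 .nil .nil))) (.node 0x93569314e196f7 (.node 0xaede1873f8e737 (.node 0x63152cb9155972 .nil .nil) (.node 0x103d6308af503c .nil .nil)) (.node 0x8e66219218f0d2 (.node 0x4205a849eb6674 .nil .nil) .nil))) (.node 0x36406ea662a38d (.node 0xa1f691c508780d (.node 0x99ce81b4f38a56 (.node 0x7ba4ef9ca7c031 .nil .nil) (.node 0x584c848a4d0bf .nil .nil)) (.node 0x848e2ec1423273 (.node 0x2c305e0b72e720 .nil .nil) (.node 0xe6b7a68d6ed57c .nil .nil))) (.node 0xa85ae5c3396cbe (.node 0xd1d700c07783ed (.node 0x34d0400b9164db .nil .nil) (.node 0xda0f747e48ab1b .nil .nil)) (.node 0x6f9957d1ae1fdd (.node 0x49457a49d9ebf5 .nil .nil) .nil)))) (.node 0x8f163170dc976c (.node 0x53557d9668a2ea (.node 0xb2a2d62792c710 (.node 0xa75a1e54577485 (.node 0x76f0149c7cc25e .nil .nil) (.node 0x14795747e2cc75 .nil .nil)) (.node 0xbe7713a1915520 (.node 0x53089b9a3715c1 .nil .nil) (.node 0xe32b5eee072b0d .nil .nil))) (.node 0x9c8619757cf7af (.node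 0x4585b3a3c99655 (.node 0x637d2fb91e1a4a .nil .nil) (.node 0xd5bb902e91f595 .nil .nil)) (.node 0xb5526e81c4ad68 (.node 0x4e38453b5add68 .nil .nil) .nil))) (.node 0x8ada4c073808c0 (.node 0xb84ac9158e388c (.node 0x369585531dd78f (.node 0x66d9491d14c5e7 .nil .nil) (.node 0x198162882da6a .nil .nil)) (.node 0x390c5ed6f99b94 (.node 0x4080271a70f9cf .nil .nil) .nil)) (.node 0x9f9e79136c2e19 (.node 0xb13e79e0a65637 (.node 0x50300c8b9bacbb .nil .nil) (.node 0xe21b49cd6d95ee .nil .nil)) (.node 0x6e34a6cc2a601f (.node 0x1b94212bfc6fc0 .nil .nil) .nil))))) (.node 0xaefb34f599212c (.node 0x9f7e78b5c92281 (.node 0x4d3ddae69f22ca (.node 0x9e6736c730477d (.node 0x5738395535d9e3 (.node 0x7b64fcbcbd807b .nil .nil) (.node 0x16ecc1f7d0d054 .nil .nil)) (.node 0x9b921d706512ac (.node 0x45ddb43a3c66b8 .nil .nil) (.node 0xdd238ece19e6dc .nil .nil))) (.node 0xae12dc8398ea39 (.node 0xbecb09243d526b (.node 0x5938b1693b2d03 .nil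 .nil) (.node 0xd53b9b9d820bfc .nil .nil)) (.node 0x6bd89c61dbdfcf (.node 0x50d9abaafd78fb .nil .nil) .nil))) (.node 0x8212c1f00d097a (.node 0xa0da5d7545797b (.node 0x7a6545e29240a9 (.node 0x1524f558060562 .nil .nil) (.node 0x8c90a9835cab2 .nil .nil)) (.node 0xca36cb070ddc14 (.node 0x55586c1adcf6b0 .nil .nil) .nil)) (.node 0xcb5661444b6cd0 (.node 0x72f8bc503bc083 (.node 0x37f19aaa7cb4e6 .nil .nil) (.node 0xd83793be3e6dbe .nil .nil)) (.node 0xb7220f32076939 (.node 0x1dfd2e0c0eaef1 .nil .nil) .nil)))) (.node 0x8f5716b0e9d7f9 (.node 0x3d65d4d68ce36a (.node 0x8f8f16f2ff9803 (.node 0x93f2d2037ed6e3 (.node 0x78b0864c630150 .nil .nil) (.node 0x33990a85c1961 .nil .nil)) (.node 0x46b58081612521 (.node 0x2b345799bc3527 .nil .nil) (.node 0xe90b856e15a612 .nil .nil))) (.node 0xc7ef0f14d22d12 (.node 0xa2b2f6135b7587 (.node 0x6064100913e74c .nil .nil) (.node 0xd20f630d2994da .nil .nil)) (.node 0xb0b28ea241ac50 (.node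 0x4a41753a2191ee .nil .nil) .nil))) (.node 0x9ef6fbf71f0868 (.node 0x91f27024239661 (.node 0x966f39b4919711 (.node 0x5edc23296db3d1 .nil .nil) (.node 0xdc4c4b8e0914b .nil .nil)) (.node 0xbac29476dfdbbf (.node 0x435c280a744eeb .nil .nil) .nil)) (.node 0xc91e7dd51be75c (.node 0xa0368ff01dd4c8 (.node 0x3121e1ba861483 .nil .nil) (.node 0xe1035c9e7c77f9 .nil .nil)) (.node 0x6cb53d0c362044 (.node 0x1d31892bdeefb8 .nil .nil) .nil))))))))

/-- Part of `setTab`. -/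
noncomputable def setTab_r_l_l_r_r : Arr ℕ :=
  (.node 0x15f2b5d21efc (.node 0x7dd2ef85ce4bc1 (.node 0xc59a2505f560da (.node 0xa27a3f1622213d (.node 0xac66f1f63021ac (.node 0x49057971259da5 (.node 0xafce3e17bac817 (.node 0xa0268f949e6c2a (.node 0xdd0cf08ba1f65 .nil .nil) (.node 0x233d5bbc003005 .nil .nil)) (.node 0xb30a7370ae0ab4 (.node 0x51b197ba122d30 .nil .nil) (.node 0xdd836e7db65372 .nil .nil))) (.node 0x8fba2cb2731799 (.node 0x9c26e4e29c36af (.node 0x617c7778f82717 .nil .nil) (.node 0xd591a08b9cef5 .nil .nil)) (.node 0xbfee035708dae0 (.node 0x4635d77b5feb93 .nil .nil) .nil))) (.node 0x8d0a0df19322a0 (.node 0x81f2c14353b36b (.node 0xa09ef404877864 (.node 0x72d1430cb002c4 .nil .nil) (.node 0x460bb982fcf46 .nil .nil)) (.node 0x496068817364da (.node 0x29f072b9fa0ad5 .nil .nil) (.node 0xe7736acd718b8d .nil .nil))) (.node 0x9ef2fbb481b94a (.node 0xa4ee9ed2e23693 (.node 0x37b86ac9d7eb4d .nil .nil) (.node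 0xd98b755e0e6e21 .nil .nil)) (.node 0xa18e7231cb68af (.node 0x474897fb4a9296 .nil .nil) .nil)))) (.node 0x7e1b03661ecb8e (.node 0x3c9ddc66aa239f (.node 0x9d52a6c773c9b8 (.node 0x63292e93b67159 (.node 0x755964dc6c0203 .nil .nil) (.node 0x169d046815cd41 .nil .nil)) (.node 0xd0d32aa0718381 (.node 0x4488350af1f6be .nil .nil) (.node 0xe0f3894d88133e .nil .nil))) (.node 0xb2669134317845 (.node 0xa9a610a2b9cf50 (.node 0x5a50e169353401 .nil .nil) (.node 0xd2db6b6e3facc7 .nil .nil)) (.node 0x6f9d5841a11fde (.node 0x5081e45b7f9f03 .nil .nil) .nil))) (.node 0xb4be9e175b096d (.node 0x81b27d42c77185 (.node 0x74c07ba40a015d (.node 0x65f8e5fcf705e3 .nil .nil) (.node 0xa248188511a09 .nil .nil)) (.node 0xc976c266d7db38 (.node 0x2805b1da5e35e7 .nil .nil) .nil)) (.node 0x944e76c3be98ba (.node 0x753d6420b741ee (.node 0x31c83a99e4f998 .nil .nil) (.node 0xe0bf5d1e79f8cc .nil .nil)) (.node 0x8eb70492123160 (.node 0x23f079abd3af4a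 .nil .nil) .nil))))) (.node 0xa606fda63b610c (.node 0xb77699c5dbe0c6 (.node 0x3f00530104def5 (.node 0xab2a1ef7aec8b8 (.node 0xa2d6f6a2f95251 (.node 0x727cc66ca94315 .nil .nil) (.node 0x18f4de68020ac3 .nil .nil)) (.node 0x72fcbc6048c082 (.node 0x3ac8334b7c6407 .nil .nil) (.node 0xe28f56ede76766 .nil .nil))) (.node 0xb6fa0f732ef607 (.node 0xc72236b56b2ae0 (.node 0x21bcac19265e9e .nil .nil) (.node 0xd54ba3de9e75e0 .nil .nil)) (.node 0xb8f6f371f26763 (.node 0x3395e07aa2f741 .nil .nil) .nil))) (.node 0x9f8e78d748472d (.node 0x8545fa83acb2f8 (.node 0xcd03406401a7c5 (.node 0x7cf5378c9882fb .nil .nil) (.node 0x7b4f15898d97f .nil .nil)) (.node 0x81ba7d114e7187 (.node 0x58d4930b2b38dd .nil .nil) .nil)) (.node 0x90130c42ac97cd (.node 0xb8b65b405355ed (.node 0x49f491ea15d58d .nil .nil) (.node 0xd5db8ffd8692c0 .nil .nil)) (.node 0x6bdc9c41e8dfc8 (.node 0x1ff0b0cba56e96 .nil .nil) .nil)))) (.node 0x9615f6d0fd182f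 (.node 0x396d7f0675a336 (.node 0x7ebf25075788fb (.node 0xad62c7d2cef5bf (.node 0x7721c85c7080de .nil .nil) (.node 0xbb5c998734fc6 .nil .nil)) (.node 0xbfb344619e914a (.node 0x583c421a6c2cd9 .nil .nil) (.node 0xe8c74dfe146718 .nil .nil))) (.node 0x97ae37b3de578b (.node 0x37c99a452331dc (.node 0x61d18a78ff7473 .nil .nil) (.node 0xdb0f761d998e78 .nil .nil)) (.node 0x9dbaad42556786 (.node 0x4c348ffb09a59b .nil .nil) .nil))) (.node 0xac72f1b7a3c7b3 (.node 0x996efc93ee3540 (.node 0x45e1d614ec72fc (.node 0x6ac9559d03867c .nil .nil) (.node 0xfd0d178eb0f75 .nil .nil)) (.node 0x4fdc0b86bd9bae (.node 0x3c51bdcae5cb51 .nil .nil) .nil)) (.node 0x925aa272ec193b (.node 0xa21e9200328a67 (.node 0x32043b99e778c1 .nil .nil) (.node 0xe49ba32e076984 .nil .nil)) (.node 0x70ecf33c59de9a (.node 0x2599ebabf0ef34 .nil .nil) .nil)))))) (.node 0xe4559b5b56194 (.node 0xf84d0e59d61cb (.node 0x63855385afa15d (.node 0x88a6dfe1141617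 (.node 0x17ad41371647e1 (.node 0x3031e2151172ee (.node 0x6c6d30fc44dee1 .nil .nil) (.node 0x2199528c15eea4 .nil .nil)) (.node 0xcf8b2420cc04bd (.node 0x3cd5dd39a41eab .nil .nil) (.node 0xe1cb9eee04693f .nil .nil))) (.node 0x9a7a97f3233a33 (.node 0x71c8c8e3f7400b (.node 0x5aad5d191ba840 .nil .nil) (.node 0xe8159e8dc8f41 .nil .nil)) (.node 0x6f915812169fe0 (.node 0x3fa99669efe685 .nil .nil) .nil))) (.node 0x97b238065e577d (.node 0xbb8adf54be0bbe (.node 0x316dbb44f1993d (.node 0x7bced689f401d .nil .nil) (.node 0x5ed16981a8ff7 .nil .nil)) (.node 0xc03ea181855567 (.node 0x54659fbb6ce9bc .nil .nil) (.node 0xe79b4c1d8c8c25 .nil .nil))) (.node 0x5e4dcbd336710d (.node 0x711d14c0760034 (.node 0x4b78386b95a55a .nil .nil) (.node 0xd3e383de55e709 .nil .nil)) (.node 0xb5566ef1b82c61 (.node 0x4acc4349936d82 .nil .nil) .nil)))) (.node 0x8679f9912e0b15 (.node 0x924ea1e670992c (.node 0x8846ae4027470b (.node 0xca0ecac45de8cb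 (.node 0x75a5f19cc30135 .nil .nil) (.node 0x15cd01b80bced9 .nil .nil)) (.node 0x4c7173618e64cc (.node 0x2cd89a1a3125b2 .nil .nil) (.node 0xe38f9a1e5e6bf4 .nil .nil))) (.node 0xa226cf4571fa0b (.node 0x95ef3ba3d15738 (.node 0x5b3d6029221a06 .nil .nil) (.node 0xda0b745df9ac00 .nil .nil)) (.node 0xafa2a7a26768f5 (.node 0x32dc4d3b56dd80 .nil .nil) .nil))) (.node 0x964bdf73548bd (.node 0x9b0a1c92707a73 (.node 0xb78a992373f7ec (.node 0x691502ccedc602 .nil .nil) (.node 0x55f3783d1120 .nil .nil)) (.node 0xba26b886c71b58 (.node 0x53697e6a50b488 .nil .nil) .nil)) (.node 0x4835a0136a16cc (.node 0xce0e55a0104420 (.node 0x52d5d10986e662 .nil .nil) (.node 0xdfa381ee66f847 .nil .nil)) (.node 0x6fb5590c435fd2 (.node 0x1a61ce7bc2af0a .nil .nil) .nil))))) (.node 0x5c51655961e25 (.node 0x91d669e2491659 (.node 0x86333cc134950b (.node 0x2088e2a72f876c (.node 0x9125f4933e9845 (.node 0x7328bcacba4093 .nil .nil) (.node 0x19c525e7fa0ba9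 .nil .nil)) (.node 0xb242f7908c9078 (.node 0x4325d3fa58eda4 .nil .nil) (.node 0xdc73a1ae5c2a87 .nil .nil))) (.node 0x7589f153978128 (.node 0x26a80d443aefff (.node 0x64c9202949ab46 .nil .nil) (.node 0xd8137a0e84b4df .nil .nil)) (.node 0x98ce44b1d8ac41 (.node 0x2f3599bb01b900 .nil .nil) .nil))) (.node 0x806e5417990931 (.node 0xc0e2a2e53ecfba (.node 0xa086f4428f74dd (.node 0x6a80b3cd0404ff .nil .nil) (.node 0x93145788994db .nil .nil)) (.node 0x3c99dc570a1c20 (.node 0x2ba59de9b3786b .nil .nil) .nil)) (.node 0x7becec54478330 (.node 0xb45319f0381464 (.node 0x487da16a761dcb .nil .nil) (.node 0xd73f73adc2ebad .nil .nil)) (.node 0x9eca5f822d6af8 (.node 0x1e38a0bbb33033 .nil .nil) .nil)))) (.node 0x885eaf211a89c9 (.node 0x90d7388688974b (.node 0xbee7098307557b (.node 0xbddf17530e4da2 (.node 0x74e47c9c67c168 .nil .nil) (.node 0x1e087c8610aca .nil .nil)) (.node 0x824ec31169f1aa (.node 0x54b05c39b61d3a .nil .nil)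 (.node 0xe95fa24dd96af5 .nil .nil))) (.node 0x74696704ce01c5 (.node 0xc94ec274b3a6ac (.node 0x5f41edc95f6b66 .nil .nil) (.node 0xd5876dee2b2c53 .nil .nil)) (.node 0x6bd09c323d5fca (.node 0x47999c1a9f9000 .nil .nil) .nil))) (.node 0x138caab71c486d (.node 0xc156d2e42bd23b (.node 0xb2f6738497ca24 (.node 0x5dd5cf19035989 .nil .nil) (.node 0xf60cef8c6ce40 .nil .nil)) (.node 0xc8fa9d06f51af5 (.node 0x3de029da700ed1 .nil .nil) .nil)) (.node 0x4fd40bd517721d (.node 0x77ddee201b0105 (.node 0x4fa1da0a802428 .nil .nil) (.node 0xdd0f9d3df7a90c .nil .nil)) (.node 0x6ee8cc9c4e9f56 (.node 0x1bc88d0be3ef76 .nil .nil) .nil))))))) (.node 0xb4e2a585f820eb (.node 0x5fc5e9a5e5a247 (.node 0x965603d1ee1701 (.node 0xc38305e63761c4 (.node 0x8f0e3140e35772 (.node 0x8daaeac7ce8824 (.node 0xbf2f4654ca518f (.node 0x6eb1277c559e6b .nil .nil) (.node 0x1ed4a40bbaeed7 .nil .nil)) (.node 0x7958825001016c (.node 0x3f4c53da0baa78 .nil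 .nil) (.node 0xe407544d8e4eca .nil .nil))) (.node 0xcc570b44766dc9 (.node 0xa43e13f41eeace (.node 0x5d596cf97e6bda .nil .nil) (.node 0x1160eba8cb4e27 .nil .nil)) (.node 0xcdbb42b6b81c2f (.node 0x3d403199bfaa59 .nil .nil) .nil))) (.node 0x58ac927657a2b7 (.node 0x93729294b6d6f5 (.node 0xb69220548b50c9 (.node 0x7a81462c8880ad .nil .nil) (.node 0x9b8be78935a3e .nil .nil)) (.node 0x875e3ac17c3262 (.node 0x5881715b31d55d .nil .nil) (.node 0xe68f4edd440c59 .nil .nil))) (.node 0xca0acae38f2969 (.node 0xb9ee8a12da2d83 (.node 0x4b21baf98a5d54 .nil .nil) (.node 0xda734b7dd0ece6 .nil .nil)) (.node 0x6bc49c9257dfcc (.node 0x3551b75b89a6a8 .nil .nil) .nil)))) (.node 0x9a4663c617a08c (.node 0x93ae8cc6a79885 (.node 0x8cca0d076d86d2 (.node 0xa9d73153b4b6e5 (.node 0x6c1ef8454107 .nil .nil) (.node 0x1974e867f5c9f7 .nil .nil)) (.node 0xd15645606b43b9 (.node 0x406c078ad69caa .nil .nil) (.node 0xe46748ee713753 .nil .nil)))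 (.node 0xab7f1e5280e9ad (.node 0x3ca5dc354d9950 (.node 0x6230a239522791 .nil .nil) (.node 0xd453951e32e833 .nil .nil)) (.node 0x9fe6d0826d67a6 (.node 0x2db42ce99b9ed4 .nil .nil) .nil))) (.node 0x1b4421077dc69d (.node 0xcd2340b469eba9 (.node 0x1581573760389 (.node 0x666d24fcf00599 .nil .nil) (.node 0x25593f86bca1a .nil .nil)) (.node 0x35ddaf46ce5b18 (.node 0x57403a4accf5b6 .nil .nil) .nil)) (.node 0xa20692255b8ed2 (.node 0xa336a4a0189558 (.node 0x4db1b32b449621 .nil .nil) (.node 0xe3d776fe607785 .nil .nil)) (.node 0x9ce335f20dea30 (.node 0x1c616e6bea2f9b .nil .nil) .nil))))) (.node 0xc50e4af64fa1fb (.node 0x9fbed07606222f (.node 0x8f5f1610d617ff (.node 0xafca3d67b6c898 (.node 0x54885b33439a45 (.node 0x7a38b9bc83c288 .nil .nil) (.node 0x15610d8807d1dc .nil .nil)) (.node 0x991aff7085d231 (.node 0x3eb5a69b1f91ba .nil .nil) (.node 0xdc9b5cfe47ea66 .nil .nil))) (.node 0xa0f25d832666f1 (.node 0xafb23d33c8ba48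 (.node 0x59ed23292caa70 .nil .nil) (.node 0xd21b6fce8f3583 .nil .nil)) (.node 0x6f855822371fda (.node 0x4f68015a8b288f .nil .nil) .nil))) (.node 0x17454a779a0952 (.node 0x9c4ae403a5ad22 (.node 0x7289428573c2c9 (.node 0x67f4b64d18c63a .nil .nil) (.node 0x6611478239278 .nil .nil)) (.node 0xbeb234614b0af8 (.node 0x29a582fa01f7be .nil .nil) .nil)) (.node 0xa1c2b8d2a5d12b (.node 0x7a18b930968270 (.node 0x39545f3ab4a8e8 .nil .nil) (.node 0xdaf78dae94350b .nil .nil)) (.node 0x8e1722b2287130 (.node 0x21e4ad2c1f3043 .nil .nil) .nil)))) (.node 0x94f6d790ef1920 (.node 0x504de3c681e321 (.node 0xaf8ea767508918 (.node 0x9d0ed9b31437a5 (.node 0x76381e9cca8229 .nil .nil) (.node 0xc0201845da52 .nil .nil)) (.node 0x34a03fd15465b7 (.node 0x55ed76faf6aa22 .nil .nil) (.node 0xe81b9d8e03ebfd .nil .nil))) (.node 0xb7d264e3d8143b (.node 0x82d69544ab7317 (.node 0x25c8104960ddf6 .nil .nil) (.node 0xd2936ffdbfd56c .nil .nil))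 (.node 0xb616e3424d2dac (.node 0x385058fa9750de .nil .nil) .nil))) (.node 0x872239c04e0876 (.node 0xcaeecc63e82cd1 (.node 0x92166fc4e75666 (.node 0x6771406d1e8540 .nil .nil) (.node 0x12413218d80f28 .nil .nil)) (.node 0xbb2ea956cd5bef (.node 0x454846ca444d9d .nil .nil) .nil)) (.node 0xa132f912e61345 (.node 0xb4de9dd02bd24a (.node 0x514c64ab141d50 .nil .nil) (.node 0xe51b9a4e316bc0 .nil .nil)) (.node 0x6d38e98c489d63 (.node 0x1ac0254bca2fe8 .nil .nil) .nil)))))) (.node 0xaebe1905bd6186 (.node 0x816aedb640923c (.node 0x112ceaa5dee0b1 (.node 0x7fd62590fdc493 (.node 0x803f27271547c5 (.node 0x92a6b6f50c58d8 (.node 0x7c813a7c908060 .nil .nil) (.node 0x204d4f3baff078 .nil .nil)) (.node 0xcf5625a0c644a2 (.node 0x3a24035b627981 .nil .nil) (.node 0xe0a3a0fddb2a57 .nil .nil))) (.node 0x56709424d95a5e (.node 0xb8c6f323f474e2 (.node 0x62a8a4e95a33b5 .nil .nil) (.node 0x10f0a7d8ef8f5b .nil .nil)) (.node 0x8c230681f870b6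 (.node 0x51f850aa2d371a .nil .nil) .nil))) (.node 0xc65dfd3666a399 (.node 0x2eb861d4fe1a2f (.node 0x8433109405f2b8 (.node 0x71e0c95ca34016 .nil .nil) (.node 0x808eeb8a050d7 .nil .nil)) (.node 0x39045ec139a590 (.node 0x5408554b76a838 .nil .nil) (.node 0xe71b6d0dbacbf2 .nil .nil))) (.node 0xb2da739334f598 (.node 0xa4971890588fcb (.node 0x3985800b51152e .nil .nil) (.node 0xd8bf64bd91ca7f .nil .nil)) (.node 0xb7e66541b2ab2a (.node 0x37497be9de2c06 .nil .nil) .nil)))) (.node 0x3f6595b10b5c86 (.node 0xc7cb0f666da2f4 (.node 0x14054d878846fd (.node 0x7585f142d1c129 (.node 0x778c178c79424f .nil .nil) (.node 0x18a51d57fdcc5b .nil .nil)) (.node 0x844710c19672b7 (.node 0x28e5b59ac612b0 .nil .nil) (.node 0xe35370ee456c25 .nil .nil))) (.node 0x2094e2557fae8c (.node 0xad82c7e3cb9519 (.node 0x5cfc8b1975eab3 .nil .nil) (.node 0xd8974efd45102a .nil .nil)) (.node 0x6f8957e1bb9fdc (.node 0x33c0703a227990 .nil .nil) .nil)))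 (.node 0x8c4223a73e88dc (.node 0x41cda7d584f3ce (.node 0x9e7736b31f0f85 (.node 0x199d1a87f8864c .nil .nil) (.node 0xc2419987e5a82 .nil .nil)) (.node 0xc67dfd96fb1b81 (.node 0x40b9e72abaa3c8 .nil .nil) .nil)) (.node 0x84b30ae3667293 (.node 0x76b814109d4257 (.node 0x30000b2b9e37cf .nil .nil) (.node 0xe04757bd949467 .nil .nil)) (.node 0x6d6d624c535f7e (.node 0x260810fbf86fd0 .nil .nil) .nil))))) (.node 0x812301459411a9 (.node 0xf94d125c1629b (.node 0xc86ae1c6a2e2d3 (.node 0xa3568c777498c (.node 0x9db2ad5537e7d4 (.node 0x7960838cd68181 .nil .nil) (.node 0x1630f8380fd06d .nil .nil)) (.node 0x7bf8ec105c4326 (.node 0x3b91c1ca3f3886 .nil .nil) (.node 0xe137804d3d92ab .nil .nil))) (.node 0x257deb6434af3e (.node 0x93669302b296fa (.node 0x6488e4e93f2cf2 .nil .nil) (.node 0xd97388bd2f1321 .nil .nil)) (.node 0x8b0a4c81e0b090 (.node 0x4e9daee9c75d25 .nil .nil) .nil))) (.node 0xadfedc67600986 (.node 0x3a41ddb2be9ab8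 (.node 0xcaa688e2962e1b (.node 0x6940f6acebc579 .nil .nil) (.node 0x4c547d83a4a98 .nil .nil)) (.node 0xbd6b0db6eb9bd7 (.node 0x2a846e0adf5ed8 .nil .nil) .nil)) (.node 0x5cd1673c284de (.node 0xb032f5a03f0ee6 (.node 0x345987cb0ef65d .nil .nil) (.node 0xd6e768de222c12 .nil .nil)) (.node 0x6bc89c51fc5fce (.node 0x23a15f0c0aaee1 .nil .nil) .nil)))) (.node 0x496468211f1dd6 (.node 0xca26cb1691e371 (.node 0x403807134a5985 (.node 0x464403a3845747 (.node 0x79f58f3cdc81a8 .nil .nil) (.node 0xa856968579949 .nil .nil)) (.node 0xc032a0d1641599 (.node 0x565493e9f279a0 .nil .nil) (.node 0xe9b34d3df2274e .nil .nil))) (.node 0x21d0ac3478704d (.node 0x72e0bc235e408f (.node 0x5e3026590c19d2 .nil .nil) (.node 0xd9ab869dd466a0 .nil .nil)) (.node 0xb27e90d1d32b9f (.node 0x36b5859a25d207 .nil .nil) .nil))) (.node 0x80ba4687c3c7f8 (.node 0x51c0502277b1bf (.node 0x428d94129e33de (.node 0x5fa413396973a6 .nil .nil) (.node 0x136935a8b54f0e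 .nil .nil)) (.node 0x49586836e01b31 (.node 0x4258529b398f1b .nil .nil) .nil)) (.node 0x8669f914a532ca (.node 0xae26dc00b45294 (.node 0x33402efaa9ceb4 .nil .nil) (.node 0xdfff681d818c33 .nil .nil)) (.node 0x6b34c34c5e9ffa (.node 0x246d8bcbdaefa8 .nil .nil) .nil))))))))

/-- Part of `setTab`. -/
noncomputable def setTab_r_l_l_r : Arr ℕ :=
  .node 0xc3d25266132279 setTab_r_l_l_r_l setTab_r_l_l_r_r

/-- Part of `setTab`. -/
noncomputable def setTab_r_l_l : Arr ℕ :=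
  .node 0x12d0f3c60f6275 setTab_r_l_l_l setTab_r_l_l_r

/-- Part of `setTab`. -/
noncomputable def setTab_r_l_r_l_l : Arr ℕ :=
  (.node 0x7fca29060bd09c (.node 0xa2fea425d5e068 (.node 0x5fc1e9b5f1a0cd (.node 0x96e2331235d7a8 (.node 0xc3172fc595a122 (.node 0x941e76512318c1 (.node 0x8c872017c087f1 (.node 0xae0edc24a3d1f0 (.node 0x6b54c37c5dde81 .nil .nil) (.node 0x1d712aec07f014 .nil .nil)) (.node 0xc2b64fa0b58ca8 (.node 0x4cfc025aaf394c .nil .nil) (.node 0xdcdb834e33ad90 .nil .nil))) (.node 0xcd69fe627ca666 (.node 0x975f08e29f97ea (.node 0x5fac12b966ea09 .nil .nil) (.node 0x12d8f458e32560 .nil .nil)) (.node 0xc05a6a46e51b2c (.node 0x3e8467ab38ae35 .nil .nil) .nil))) (.node 0x553c6bd693635c (.node 0x91ae69634bd903 (.node 0xc9e6808388eb54 (.node 0x7491686cd8c1cc .nil .nil) (.node 0x868fb382b125d .nil .nil)) (.node 0x578db8716d6580 (.node 0x56a49509f2d3ef .nil .nil) (.node 0xe7634c4d704fa2 .nil .nil)))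 (.node 0xac4658a479ee29 (.node 0x92e273f35e96c5 (.node 0x49946949d01f1d .nil .nil) (.node 0xda67794e8bf511 .nil .nil)) (.node 0xcfb72481d0c4b3 (.node 0x3a18969b496aea .nil .nil) .nil)))) (.node 0xb62ab1e5c36296 (.node 0x959aab269b58e3 (.node 0x8c9b2037794993 (.node 0x25096a052fef8d (.node 0x74507ffcd2418e .nil .nil) (.node 0x17854b27d7dd08 .nil .nil)) (.node 0x9ca21a105fcee7 (.node 0x3bc03c2ae6f9a9 .nil .nil) (.node 0xdde34b0e35e816 .nil .nil))) (.node 0xc76b15f438e923 (.node 0x72e8bc12b8c08c (.node 0x1fb4ada92f1cd6 .nil .nil) (.node 0xd66b55ee9274ce .nil .nil)) (.node 0x78948581a8813c (.node 0x4e85aec9c7e47b .nil .nil) .nil))) (.node 0x2639e82759895a (.node 0x955edde2bfd67b (.node 0x2ea461e40f5657 (.node 0x6718c03d12c55b .nil .nil) (.node 0x2d484d853597c .nil .nil)) (.node 0xcb7e6226e99bcb (.node 0x2a686e6ae063c9 .nil .nil) .nil)) (.node 0xc9227e53c82945 (.node 0x66814890bec5f0 (.node 0x3455877b0f1237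 .nil .nil) (.node 0xe4fb721da31543 .nil .nil)) (.node 0xae621c22002b49 (.node 0x1c98767bd76f57 .nil .nil) .nil))))) (.node 0xc5cf21e6432101 (.node 0xb316b9c5e0e0ad (.node 0x97c712c102181a (.node 0xa0de5d271447ca (.node 0x71ccc932f8400a (.node 0x5b4ebd8184329 .nil .nil) (.node 0x1510b517ea1d28 .nil .nil)) (.node 0x6abd5510428671 (.node 0x468c04cb779034 .nil .nil) (.node 0xdc33829e63382a .nil .nil))) (.node 0xc96ec294dea862 (.node 0x9f06fb23f20c07 (.node 0x628ca4c959e8f1 .nil .nil) (.node 0xda3350ed77d53c .nil .nil)) (.node 0xcefb0251f78461 (.node 0x2ecc628a29756b .nil .nil) .nil))) (.node 0x17394a0746072f (.node 0x99d6815500ebe7 (.node 0xbedf09940649f3 (.node 0x718912ac9d82ea .nil .nil) (.node 0x534cb789c9400 .nil .nil)) (.node 0x83beb4d13c31d6 (.node 0x27b8747b24dc4b .nil .nil) .nil)) (.node 0xb9a6ce13320a0b (.node 0xc47e4d705a1582 (.node 0x46f981fb53a99a .nil .nil) (.node 0xdaf3859e3be66c .nil .nil))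 (.node 0x7354f8e1e3028f (.node 0x20d0e2dba0ae82 .nil .nil) .nil)))) (.node 0x926ab7711018db (.node 0x52342a967a234b (.node 0xb5fae3278c46ff (.node 0x904b3a92d21722 (.node 0x7661c53c7600ff .nil .nil) (.node 0x111c61878d217 .nil .nil)) (.node 0xbabad571990b76 (.node 0x56f5c0eac3f798 .nil .nil) (.node 0xe9376bfe51e855 .nil .nil))) (.node 0xa9ae108581ab43 (.node 0x2fd8fe52803bf (.node 0x60a48ed9727415 .nil .nil) (.node 0xda4b5fddd8abdc .nil .nil)) (.node 0xafa6a721bfac82 (.node 0x3408717b048c03 .nil .nil) .nil))) (.node 0x8695fe2095c7a6 (.node 0xa20e925587a699 (.node 0x9b1733931bb5b3 (.node 0x65911b4cfa865f .nil .nil) (.node 0x108529a8a9e574 .nil .nil)) (.node 0x3f6195c6fedb7e (.node 0x4005e65abe5623 .nil .nil) .nil)) (.node 0xaf56dba3654e07 (.node 0xd00208c09f0369 (.node 0x4edc36b9e3b4f2 .nil .nil) (.node 0xe2b767be68f739 .nil .nil)) (.node 0x6d89619c519e50 (.node 0x1b21cacbf56f25 .nil .nil) .nil))))))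 (.node 0xad2a8365e72251 (.node 0x7e9a0765a50b27 (.node 0xe415995a9617b (.node 0x80ae463111445f (.node 0x7e2a2787c98844 (.node 0x858f3f44c3b231 (.node 0x7014d99c3e5fe8 .nil .nil) (.node 0x1f3121cc106eb1 .nil .nil)) (.node 0x9d7ea6b0040a83 (.node 0x416c656a06b5e6 .nil .nil) (.node 0xddb76abd708f7d .nil .nil))) (.node 0x284449646ad8c6 (.node 0x2ab977b415da2d (.node 0x61356f59785a48 .nil .nil) (.node 0x12889f18c0a599 .nil .nil)) (.node 0x71d4c9221dc005 (.node 0x445405c9c5a8c4 .nil .nil) .nil))) (.node 0xcb5a61a65b62c0 (.node 0x3d71d4b4bb199a (.node 0xb29ed644fc76da (.node 0x7a8546cc8b00b4 .nil .nil) (.node 0x6e53b781d9a87 .nil .nil)) (.node 0xbebe34c17d92bb (.node 0x2c91a5eb6a6c65 .nil .nil) (.node 0xe78b4e5d5d10e4 .nil .nil))) (.node 0x2098e2b3912e8f (.node 0x6aa555007d8670 (.node 0x4b09bae98cd4b2 .nil .nil) (.node 0xda4f674e2faa2e .nil .nil)) (.node 0x8afa4c925c3095 (.node 0x359448e998b93a .nil .nil)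 .nil)))) (.node 0x560571812c1dd4 (.node 0xca8a8986a863be (.node 0x181cb7576406c2 (.node 0xa3ae1773b24e9e (.node 0x781deebcc6010b .nil .nil) (.node 0x1850b887e01ebd .nil .nil)) (.node 0x54dda36186a57a (.node 0x404407cad94bd2 .nil .nil) (.node 0xe2efa72e2d294e .nil .nil))) (.node 0x5051e3b28559b4 (.node 0xca16caf552eab1 (.node 0x5b90d5294ada4d .nil .nil) (.node 0xd3bf8f7dd5e6a1 .nil .nil)) (.node 0xcfbb24a26c04b0 (.node 0x2d942d299e1375 .nil .nil) .nil))) (.node 0x9beeb3078046ad (.node 0x4e69adf45e99c8 (.node 0xa4ca6c43792a8d (.node 0x6a214ccd094580 .nil .nil) (.node 0xc75f0f8430c64 .nil .nil)) (.node 0xbe9a3516d2db15 (.node 0x574439dacd50c4 .nil .nil) .nil)) (.node 0xa6cebfa5587497 (.node 0xc4b32390195537 (.node 0x2e05d20982f8e4 .nil .nil) (.node 0xe06fa31e6df8f5 .nil .nil)) (.node 0x6bf89d7c3b5fc1 (.node 0x2685e95bc66f19 .nil .nil) .nil))))) (.node 0x7e522746478a8e (.node 0xf8cd135fd6218 (.node 0x879f0e40d2d167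 (.node 0x960bde7294751 (.node 0xcc1e300348eb44 (.node 0x737cf99c84029d .nil .nil) (.node 0x14414db7f35e5d .nil .nil)) (.node 0xc2672de08853f9 (.node 0x3db1d52a562c44 .nil .nil) (.node 0xdd47971e02abe2 .nil .nil))) (.node 0x3169bb039cf34d (.node 0x878b0e1442b282 (.node 0x59815149436bfb .nil .nil) (.node 0xd5239cae8ff62d .nil .nil)) (.node 0x8cfa0dd23bb111 (.node 0x30e4302a8c1f36 .nil .nil) .nil))) (.node 0x8e4a21c79ec942 (.node 0x29d072253bb2bf (.node 0xb5b31ab576f8f3 (.node 0x1998dbd7f8c4e1 .nil .nil) (.node 0x39107f8874eae .nil .nil)) (.node 0x32a44ce6b11ad2 (.node 0x54f9a3a9af34cf .nil .nil) .nil)) (.node 0x1e8ca2f44daedc (.node 0xa68242f09a92de (.node 0x48105a9ab59d59 .nil .nil) (.node 0xd67b858e3aa66b .nil .nil)) (.node 0xcff3286224c4c9 (.node 0x2250d3bbb7f020 .nil .nil) .nil)))) (.node 0x49c89131189d74 (.node 0xc9ce80a685e32c (.node 0x4275940304566c (.node 0x284049a30ab32e (.node 0x76281e2ccb4238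 .nil .nil) (.node 0xaf47e886559f1 .nil .nil)) (.node 0x82e294b1567319 (.node 0x2ac5781af9f4e1 .nil .nil) (.node 0xe8fb78fe4e29d5 .nil .nil))) (.node 0x1b4c20d4d42fcf (.node 0xac3e58b4a9cdd3 (.node 0x5e65cc49622d37 .nil .nil) (.node 0xd357a2bd808afe .nil .nil)) (.node 0x7595f11244c123 (.node 0x38e9a2ca996a25 .nil .nil) .nil))) (.node 0x7daeeff7270879 (.node 0x55486b942819e2 (.node 0x7649c45496c0f5 (.node 0x5ff5ea99087426 .nil .nil) (.node 0x11ad3ed8cde464 .nil .nil)) (.node 0xc671fe06cbdbe4 (.node 0x3b484c1a47685e .nil .nil) .nil)) (.node 0x770f0b51c03c1 (.node 0x663924202245a5 (.node 0x512863fb174abb .nil .nil) (.node 0xdc43a38dc7eaa8 .nil .nil)) (.node 0x6f4d0f1c321f48 (.node 0x24c089cbe72f69 .nil .nil) .nil))))))) (.node 0xc29e5025d1a083 (.node 0x1128ea55eae23a (.node 0xf7cd11627614c (.node 0x6381537633a1b7 (.node 0x8996ca21284c13 (.node 0x17a14127ca4838 (.node 0x3e91a654c731ac (.node 0x6df8d08c2d1df0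 .nil .nil) (.node 0x22e0d61bbc2ec3 .nil .nil)) (.node 0x69e14b90088589 (.node 0x2e6daa2a0eb96c .nil .nil) (.node 0xe45b638d2d0c80 .nil .nil))) (.node 0xb8be570395ba53 (.node 0xbca345229b1006 (.node 0x5c487ab8f26e0c .nil .nil) (.node 0xedd10f8d26452 .nil .nil)) (.node 0xc87ee0f7069add (.node 0x3a81de6b666b7f .nil .nil) .nil))) (.node 0x96d9f586529852 (.node 0xa6aafe235293d8 (.node 0x728142748ac2ca (.node 0x7af105fcb682b7 .nil .nil) (.node 0x3ecfed88fce61 .nil .nil)) (.node 0x85b33f9175b235 (.node 0x2741841b2f37c9 .nil .nil) (.node 0xe69f4b9d47112f .nil .nil))) (.node 0xa49a6c3382ba34 (.node 0xaa2e9a92df8c88 (.node 0x34903f698df9d0 .nil .nil) (.node 0xd8d786be476b7b .nil .nil)) (.node 0x74147f325ec18b (.node 0x4bfdbf0b8febf3 .nil .nil) .nil)))) (.node 0xc58624961fe0a5 (.node 0x94d2a916add645 (.node 0x82168670b606d6 (.node 0x92ca7493b856c9 (.node 0x756d64cc6f4206 .nil .nil) (.node 0x13c8ab37ef1c99 .nil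 .nil)) (.node 0xc3232f40744cf5 (.node 0x448c34baf0a4d5 .nil .nil) (.node 0xe4df56ce2ceafa .nil .nil))) (.node 0x9f6a78227d7a1f (.node 0xa39617954c748a (.node 0x5a74e2093459a4 .nil .nil) (.node 0xd93ba16d4a55ea .nil .nil)) (.node 0xb86ec861a4ee22 (.node 0x5065e41b828fb6 .nil .nil) .nil))) (.node 0xa3168a7834680 (.node 0xc022a0f2c85083 (.node 0x9f42bb140d3730 (.node 0x69c8aa3d0c45b6 .nil .nil) (.node 0xb4966b8701216 .nil .nil)) (.node 0x45344616ec9c0b (.node 0x2801b12a5e901b .nil .nil) .nil)) (.node 0x5c0c7a655970ec (.node 0x9faa78a0ba0d00 (.node 0x327dc3db3dd5f1 .nil .nil) (.node 0xdeeb968dd6ec35 .nil .nil)) (.node 0xd1ef004211c3e4 (.node 0x25316a8bec2f88 .nil .nil) .nil))))) (.node 0x5c116364a1d4d (.node 0x93868bd1a05881 (.node 0x86e5fc0107d1fb (.node 0x1f54df47b3c88b (.node 0xac62f162f57586 (.node 0x7264c6dcab8322 .nil .nil) (.node 0x17ed4207dc1d2a .nil .nil)) (.node 0xa44e13a04bd3a1 (.node 0x42c1949b21a60b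 .nil .nil) (.node 0xe17b72ce0dedb3 .nil .nil))) (.node 0xc19277d32dcb0c (.node 0x54745b855fd6e7 (.node 0x63d55429269a07 .nil .nil) (.node 0xd793527e036c43 .nil .nil)) (.node 0x7ad505623142a8 (.node 0x4d69dbbaa55c7c .nil .nil) .nil))) (.node 0x7dfb031745c740 (.node 0xbc4a05b3ad963f (.node 0x433427656cd746 (.node 0x68bd005ce0861d .nil .nil) (.node 0x7213868274b7c .nil .nil)) (.node 0xbf7e042150906e (.node 0x561d72e9fdf5b0 .nil .nil) .nil)) (.node 0x78281a52a54214 (.node 0x69ed4be090c58c (.node 0x36886f9a1dee13 .nil .nil) (.node 0xdb2f4d0e37ed08 .nil .nil)) (.node 0xa9b61111ec6775 (.node 0x1f88e05c1a7058 .nil .nil) .nil)))) (.node 0x839eb4e0fa925b (.node 0x908df87677586c (.node 0x8a8ae86755c8f7 (.node 0xb0a28ee2cc9531 (.node 0xb641a0872420b .nil .nil) (.node 0xce41d384b0e46 .nil .nil)) (.node 0x2d0d7c1159a524 (.node 0x288449ea649d89 .nil .nil) (.node 0xe9fb8d4e3c2a0b .nil .nil))) (.node 0x79408233d74176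 (.node 0xb09e8f0526f8a6 (.node 0x61f98a38fe9a03 .nil .nil) (.node 0xd307930d51d247 .nil .nil)) (.node 0xceef026252c467 (.node 0x48e060fa9168d8 .nil .nil) .nil))) (.node 0x1388aad7a6c793 (.node 0xc0426aa3ed8a3f (.node 0xa2daf6b4eea921 (.node 0x68450c3ce5c51d .nil .nil) (.node 0xdf8db88bc25ab .nil .nil)) (.node 0xbc520526c1dba2 (.node 0x4511ad0ae82c29 .nil .nil) .nil)) (.node 0x7be0ebf2e54333 (.node 0xc26f2da033914c (.node 0x2e304e0a0c798f .nil .nil) (.node 0xe2574e8d4750f3 .nil .nil)) (.node 0x6bbd18dc21dc8b (.node 0x26cc0e2bcfaff7 .nil .nil) .nil)))))) (.node 0xb182fae5b8e19b (.node 0xac2658759fa1ce (.node 0x9e5f3645b2a167 (.node 0x28b9b520f1dcb6 (.node 0xab6f1e7719c7e6 (.node 0xcad2cc7515ed45 (.node 0x715515dc95003c .nil .nil) (.node 0x21291e6baab06b .nil .nil)) (.node 0xc42ee9b0cf5210 (.node 0x3cc5dce9a525f4 .nil .nil) (.node 0xe423979d689218 .nil .nil))) (.node 0x827e7f54e23344 (.node 0x93ead1c3f816d8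 (.node 0x62ed2cd916f3c4 .nil .nil) (.node 0x100563d8ae6586 .nil .nil)) (.node 0x8cee0d221b7112 (.node 0x41eda8c9ebb77c .nil .nil) .nil))) (.node 0xc8ae6826612383 (.node 0xaf36db1508f636 (.node 0xa89e6334f469be (.node 0x7bdcefdca44022 .nil .nil) (.node 0x590c8a8a4130b .nil .nil)) (.node 0x2778738140a4f1 (.node 0x2c005deb71b506 .nil .nil) (.node 0xe7174f0d234f6e .nil .nil))) (.node 0x8f2e316338d770 (.node 0xa9be11307a0e4b (.node 0x34d8405b904f03 .nil .nil) (.node 0xd3d35b1e13e750 .nil .nil)) (.node 0xd1225311b603c8 (.node 0x492d7a59da78f1 .nil .nil) .nil)))) (.node 0x90373ab0db572b (.node 0x4b4c37d669e2ec (.node 0x7faa292793470e (.node 0x270d83c45357bc (.node 0x76d4151c7ec268 .nil .nil) (.node 0x14b55737e5dd9f .nil .nil)) (.node 0x86d33e0190320a (.node 0x53349bca35691e .nil .nil) (.node 0xe5638b6d4b5513 .nil .nil))) (.node 0xb39af8657d3502 (.node 0x79488293ca8179 (.node 0x63692f891facf3 .nil .nil) (.node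 0xd4a7677e4de92a .nil .nil)) (.node 0x7715c711c280d4 (.node 0x32bc4d2b5951d5 .nil .nil) .nil))) (.node 0xa91212073848d1 (.node 0x9a3a64758f355b (.node 0x63352ee31d7169 (.node 0x68f1037cee4614 .nil .nil) (.node 0x19c166880594f .nil .nil)) (.node 0xc77b15c6c55b55 (.node 0x53757e3a5151eb .nil .nil) .nil)) (.node 0x974708f36b57e1 (.node 0x66994880a4c5f1 (.node 0x50140c9b981e8c .nil .nil) (.node 0xdef357ae7a77c3 .nil .nil)) (.node 0x124c9da8bea019 (.node 0x1b6421dbffefc1 .nil .nil) .nil))))) (.node 0xb73f30e599e12d (.node 0x7f8209f5c8d06c (.node 0x3ea5a6669fa2c9 (.node 0x8dbaea8731876e (.node 0xac5e5942c9ba44 (.node 0x7b70fd0cbe806f .nil .nil) (.node 0x1720c1e7d29c95 .nil .nil)) (.node 0x6928f58063456d (.node 0x45adb40a3b34b5 .nil .nil) (.node 0xdc47592de66744 .nil .nil))) (.node 0x971a33c39857b4 (.node 0xc6ce01343f2911 (.node 0x594cb1993bb447 .nil .nil) (.node 0xd6eb5bde9fb531 .nil .nil)) (.node 0xce265541d6c414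 (.node 0x50e5ab8afb9dcf .nil .nil) .nil))) (.node 0xaaeab077980933 (.node 0x8892e0354471c8 (.node 0xb8e6f3528d0b88 (.node 0x6a64b33d07c50e .nil .nil) (.node 0x8e90aa83519c6 .nil .nil)) (.node 0xc1268dc70f1c1b (.node 0x53446b5a4df9da .nil .nil) .nil)) (.node 0xac3a58944a383e (.node 0xc57eeb8039d026 (.node 0x4865a0aa76e56b .nil .nil) (.node 0xd9c75dfd7fd50c .nil .nil)) (.node 0x7c553962038052 (.node 0x1de92dac0e6ef0 .nil .nil) .nil)))) (.node 0x2f199880e4df24 (.node 0x8d9a4f2158a366 (.node 0x881f14f300b2a6 (.node 0x9c6e196381f6cf (.node 0x78c4861c628148 .nil .nil) (.node 0x32590e85d4a4c .nil .nil)) (.node 0xc1fabdf16a117b (.node 0x54a05bd9b6a4ca .nil .nil) (.node 0xe87b85fe332990 .nil .nil))) (.node 0x9d9aad64d1379a (.node 0x52e49ab356f29d (.node 0x60700fa9101a31 .nil .nil) (.node 0xd2a3594d7ed106 .nil .nil)) (.node 0x8b024c42417093 (.node 0x4a6d758a1fecdd .nil .nil) .nil))) (.node 0x98faffd71f886a (.node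 0x989e44a4267659 (.node 0x861b3cd492b226 (.node 0x1a002229699d7e .nil .nil) (.node 0xda8c488dea54e .nil .nil)) (.node 0x3d69d4f6db1bc4 (.node 0x4380286a722723 .nil .nil) .nil)) (.node 0x9182a04518d690 (.node 0xce86eeb01d0452 (.node 0x3155e1ca842b10 .nil .nil) (.node 0xe4ef8b7df4e693 .nil .nil)) (.node 0x6ca13d1c36e041 (.node 0x1d3d897bdcefbb .nil .nil) .nil))))))))

/-- Part of `setTab`. -/
noncomputable def setTab_r_l_r_l_r : Arr ℕ :=
  (.node 0x91d26f61ba1658 (.node 0xf90d0d5cd6074 (.node 0xb83ac895f4a0d1 (.node 0xb733308624e141 (.node 0x7ea208262f0ea4 (.node 0x54d9a301251ce4 (.node 0x8b2b2e47bb880c (.node 0xad3e8374a03737 (.node 0x7091347c251df1 .nil .nil) (.node 0x231d5bec03f004 .nil .nil)) (.node 0xa8f696e0ac90f2 (.node 0x51b9978a14edd2 .nil .nil) (.node 0xdce3494e6477e3 .nil .nil))) (.node 0x847e2ee2747277 (.node 0x1c1d6d72986f9e (.node 0x61747798f7a947 .nil .nil) (.node 0xd451a18b7e479 .nil .nil))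 (.node 0x57f04137055ae8 (.node 0x461dd74b60797c .nil .nil) .nil))) (.node 0xc7063726966364 (.node 0x503de38351584e (.node 0xb3da14e4887622 (.node 0x72c143acb202cc .nil .nil) (.node 0x454bb782f9245 .nil .nil)) (.node 0xc13e8dd1724f27 (.node 0x2a247269f866de .nil .nil) (.node 0xe613801db70d3f .nil .nil))) (.node 0x8a56cbf480b377 (.node 0x548c5b92ddb3ed (.node 0x37806a79d6b4ba .nil .nil) (.node 0xd97f8e9e20a627 .nil .nil)) (.node 0x9a6e63f1cd2dbc (.node 0x473898bb4c3702 .nil .nil) .nil)))) (.node 0x12d4f4361b609a (.node 0x8cc20cd13ee39d (.node 0x802b27177509b0 (.node 0xbcee0265325360 (.node 0x1a086e86001f0 .nil .nil) (.node 0x16a904c816dd20 .nil .nil)) (.node 0x6934f590704572 (.node 0x3bfc3dbaec6565 .nil .nil) (.node 0xe2cb896e67384c .nil .nil))) (.node 0x84bf0a84303297 (.node 0xc956c2a2bcaa3a (.node 0x6410ae6931a902 .nil .nil) (.node 0xd5536cfd5e0fc5 .nil .nil)) (.node 0xd06627f1a9c347 (.node 0x31a5bbc9cca4fa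 .nil .nil) .nil))) (.node 0x8eca51175c095c (.node 0x1efd20d2c52ebf (.node 0xb64ab1c410d46d (.node 0x6600e68cf485ce .nil .nil) (.node 0xa1881684ed994 .nil .nil)) (.node 0xbc6e0556d95b45 (.node 0x57adb96a634c53 .nil .nil) .nil)) (.node 0x823ac383c031a3 (.node 0xc36a0c70c28af9 (.node 0x4c8d738b134a09 .nil .nil) (.node 0xe2c767de242b2e .nil .nil)) (.node 0x7c513982108053 (.node 0x23f4794bd36f47 .nil .nil) .nil))))) (.node 0xb42719d63a2109 (.node 0x7dbaef05db8d26 (.node 0x39005e61051cb5 (.node 0x7d6a5627b1c8ac (.node 0x9e3a1ac2f9ab32 (.node 0x7c18ed0caf033d .nil .nil) (.node 0x191cdea8051d10 .nil .nil)) (.node 0xc5be24c0468b77 (.node 0x3ad433db7bd299 .nil .nil) (.node 0xe233609e406d3e .nil .nil))) (.node 0x5c916032984ab (.node 0x9629f68568582e (.node 0x5be8d7f954ea80 .nil .nil) (.node 0xd89b7b5de26d9d .nil .nil)) (.node 0xa632fd41f3ac93 (.node 0x33a9e03aa15ca9 .nil .nil) .nil))) (.node 0xb11279f749472b (.node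 0x25d81083aaafde (.node 0x8f6b16e3fe17f8 (.node 0x7cc936fc9ac301 .nil .nil) (.node 0x788f1a8981419 .nil .nil)) (.node 0x53b854b14de415 (.node 0x58c8937b2bf625 .nil .nil) .nil)) (.node 0x85d1fb92ad32d4 (.node 0xcf8f24405104ba (.node 0x4a10921a192a88 .nil .nil) (.node 0xd623907e8374fa .nil .nil)) (.node 0xd02e0921e40362 (.node 0x1ffcaffba4ae92 .nil .nil) .nil)))) (.node 0x2d782c10f79e35 (.node 0xcde1fff67fa34d (.node 0xb69c8975308f1 (.node 0x44c1ac02cab19d (.node 0x7755c7bc7040d8 .nil .nil) (.node 0xbadc9a874522f .nil .nil)) (.node 0x82e695919c7314 (.node 0x5800426a6b75d7 .nil .nil) (.node 0xe9db863e24e69f .nil .nil))) (.node 0x86f1fc33dfb2e9 (.node 0xbdc717e52c94d0 (.node 0x23c47858fd9e3e .nil .nil) (.node 0xd9d750de90f579 .nil .nil)) (.node 0x7711c7025180d5 (.node 0x4c40902b089620 .nil .nil) .nil))) (.node 0x98f6ff07a207b4 (.node 0x23015b63eab00c (.node 0x71c4c944ecc00c (.node 0x6ad955bd02067a .nil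 .nil) (.node 0xf98d218e8241d .nil .nil)) (.node 0xca728777011b68 (.node 0x3c79bdbae4ab51 .nil .nil) .nil)) (.node 0x88e26732edf306 (.node 0x668548f02fc5f2 (.node 0x32103bb9e5de5e .nil .nil) (.node 0xe05f88cd2ecdca .nil .nil)) (.node 0x70fcf36c595d19 (.node 0x25adeb8bf16f35 .nil .nil) .nil)))))) (.node 0x9014455b45d64 (.node 0x5a815ca59da1c8 (.node 0xc2864fd5ad217c (.node 0x9071f81115d87b (.node 0x872639d07507da (.node 0x62cd2bf51070e8 (.node 0x6c4d313c475fae .nil .nil) (.node 0x219d52cc146ea1 .nil .nil)) (.node 0x69fd4c00cb858a (.node 0x3a883279a37985 .nil .nil) (.node 0xe483833d981295 .nil .nil))) (.node 0xb26e90646c4feb (.node 0x9f02fb54178d9f (.node 0x5aa15d691bf442 .nil .nil) (.node 0xe655aa8da6440 .nil .nil)) (.node 0xd12652b21e43ca (.node 0x3f8996d9f03781 .nil .nil) .nil))) (.node 0x4f2400365ce37c (.node 0x9af212f4bde78e (.node 0x74047f44f2c192 (.node 0x73cd098c8f40cf .nil .nil) (.node 0x6091688191a6f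 .nil .nil)) (.node 0x83bab5418231d1 (.node 0x54699f5b6eed6d .nil .nil) (.node 0xe6fb80dd9d4e6f .nil .nil))) (.node 0xc18e77a3938bbf (.node 0xc3a705c081c9de (.node 0x4b84384b94921d .nil .nil) (.node 0xd7e374bd649491 .nil .nil)) (.node 0x74107f11b5c18a (.node 0x4ab843e994793f .nil .nil) .nil)))) (.node 0x834ae6112dca95 (.node 0x964df75671d823 (.node 0xb78e99a76646c8 (.node 0x9572de045a567f (.node 0x75cdf26cc2812c .nil .nil) (.node 0x15dd01d80d1ed5 .nil .nil)) (.node 0xbfbb44118bcfa9 (.node 0x2ce4997a300e6a .nil .nil) (.node 0xdf039dee5f6c05 .nil .nil))) (.node 0xb962f052864da0 (.node 0xa1a2b973d435be (.node 0x5b356009225aae .nil .nil) (.node 0xd46f94edda6b2b .nil .nil)) (.node 0x983ac052682638 (.node 0x52402b39a2538e .nil .nil) .nil))) (.node 0x15350ce73488ca (.node 0xa7367b24601530 (.node 0xb9ce89d374f61e (.node 0x152102080645ff .nil .nil) (.node 0x49f3c83e8c7e .nil .nil)) (.node 0x55997666c29b65 (.node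 0x2d217c8a4d1204 .nil .nil) .nil)) (.node 0xa79a114368fa66 (.node 0xcf0a06a00fc489 (.node 0x52d9d0b988abe3 .nil .nil) (.node 0xdf43955de1e63f .nil .nil)) (.node 0x6fa158fc425fd4 (.node 0x1a49ce4bc26f09 .nil .nil) .nil))))) (.node 0x965204f2151700 (.node 0xc406e90601a21e (.node 0x94f2d85136d91e (.node 0x8def22c72b0756 (.node 0xaadeb0c341b692 (.node 0x7334bd4cb9008b .nil .nil) (.node 0x19ed25d7fc5e75 .nil .nil)) (.node 0xcf9b24d08b84b6 (.node 0x4329d41a5aed4f .nil .nil) (.node 0xe3774ecd44ce96 .nil .nil))) (.node 0xb332ba939ed0b1 (.node 0x4b4037643ab1ee (.node 0x64fd209946198b .nil .nil) (.node 0xd7b77c6e246ad4 .nil .nil)) (.node 0x7ad10551d642a9 (.node 0x2f4999daffdde7 .nil .nil) .nil))) (.node 0x1804b747940937 (.node 0xb8aa5b253eaba7 (.node 0x53009ad28af3eb (.node 0x652cdc6cff44f3 .nil .nil) (.node 0x92d45288bce94 .nil .nil)) (.node 0xc7ff0f56b35ac7 (.node 0x2b959df9b3b4d4 .nil .nil) .nil)) (.node 0xc0daa3245011f1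 (.node 0x69f14bb035c587 (.node 0x382c57ca7539f1 .nil .nil) (.node 0xd7bb7c4dc16bbd .nil .nil)) (.node 0xa7d71d422dad38 (.node 0x1e3ca0abb3f030 .nil .nil) .nil)))) (.node 0x85173dc11b09fd (.node 0x9232a29688192d (.node 0xcd97427308ad75 (.node 0xaabee1f30ce7e7 (.node 0x75187c8c664159 .nil .nil) (.node 0x1f8884860d9d9 .nil .nil)) (.node 0x572c396167240f (.node 0x540c5b19b539c2 .nil .nil) (.node 0xe853751dc4a648 .nil .nil))) (.node 0xbc5a05c4d6cb3e (.node 0x93a68c14b0d88e (.node 0x5f5ded195cd9d5 .nil .nil) (.node 0xdaff65adbbd16b .nil .nil)) (.node 0xd06a2852450344 (.node 0x47bd9cda9daa36 .nil .nil) .nil))) (.node 0x1db12d571dc856 (.node 0xa44214342aa78d (.node 0xcdaf42a49aa9ae (.node 0x5da5cf6903b451 .nil .nil) (.node 0xf40ce08c4252d .nil .nil)) (.node 0xc1c6be96f61afc (.node 0x3e142a2a6de735 .nil .nil) .nil)) (.node 0xbad693d52092b6 (.node 0xc56eeb50265399 (.node 0x4fb9d9aa7e90f8 .nil .nil) (.node 0xe53f7d9e0f26cb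 .nil .nil)) (.node 0x6efccc7c4e5f54 (.node 0x1bcc8cebe32f79 .nil .nil) .nil))))))) (.node 0x7e030385f90d59 (.node 0xc35a0bf5ef2244 (.node 0xc3072f162b2159 (.node 0xa98e11063561ba (.node 0x94fad800e2591b (.node 0xa42a1487cec831 (.node 0xb2769144c92884 (.node 0x6ea9276c551eb2 .nil .nil) (.node 0x1ebca33bb82ed3 .nil .nil)) (.node 0xc3f651f00c8e41 (.node 0x3f3c541a08dd2b .nil .nil) (.node 0xe5875f4e773727 .nil .nil))) (.node 0x9a9e981474b936 (.node 0x9526d8441d9922 (.node 0x5d556c897f674d .nil .nil) (.node 0x1140ead8c8a53f .nil .nil)) (.node 0xbd8a32a6bb9c33 (.node 0x3d4831a9c168d6 .nil .nil) .nil))) (.node 0x47dc59d65722b5 (.node 0xb18efa94b93560 (.node 0xca8689548ea9d1 (.node 0x414ba782e809f .nil .nil) (.node 0x9a0bf18944e7a .nil .nil)) (.node 0x2a446d717ae4d7 (.node 0x5899711b34edf1 .nil .nil) (.node 0xe733726d588e24 .nil .nil))) (.node 0xb3a2f8b38df882 (.node 0x96d5f5a2d8985b (.node 0x3601aff98fa520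 .nil .nil) (.node 0xd38f7dae0fae20 .nil .nil)) (.node 0xceff02825fc463 (.node 0x3531b7ab8a372e .nil .nil) .nil)))) (.node 0xad2683d617608e (.node 0x560171e6a463b5 (.node 0xaaa6e2876e06e3 (.node 0x565c9453b01807 (.node 0x7919922c6b81ea .nil .nil) (.node 0x1994e787f81c81 .nil .nil)) (.node 0xb45719306c1123 (.node 0x4114092ad50f1d .nil .nil) (.node 0xe3e776ddc26c02 .nil .nil))) (.node 0x9242a2627f9931 (.node 0x7a04b9554ec27c (.node 0x6250a1b94fda01 .nil .nil) (.node 0xd7c38e0d81d3fe .nil .nil)) (.node 0x789085a26b813d (.node 0x305de2db868c6b .nil .nil) .nil))) (.node 0xa88e62e7850692 (.node 0xa316a4c468b77e (.node 0x290c3e03775896 (.node 0x6669250cf1859c .nil .nil) (.node 0x24593686b922e .nil .nil)) (.node 0xc9b2c406ee5bfe (.node 0x29303e8ad150dc .nil .nil) .nil)) (.node 0x9daeae155ca9bd (.node 0x669d48e015c5f3 (.node 0x4dddb35b42aaac .nil .nil) (.node 0xe38b93fe432e23 .nil .nil)) (.node 0xa4031bc20ce9c6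 (.node 0x1c6d6debe82f98 .nil .nil) .nil))))) (.node 0xa41a13b64de1f6 (.node 0xadf6dc4604e227 (.node 0x452c4600d09c85 (.node 0x9eb25f17b6489b (.node 0x75e01d7344c22c (.node 0x7a28b9ec80c27e .nil .nil) (.node 0x15710de8091d12 .nil .nil)) (.node 0x6aa154e0838676 (.node 0x3ee1a6cb1e2807 .nil .nil) (.node 0xe59764ce512d6f .nil .nil))) (.node 0x927eb7332598d5 (.node 0x9deedd2561d455 (.node 0x5a0123a92c69a0 .nil .nil) (.node 0xd72b743e092a42 .nil .nil)) (.node 0xd1fb00d23203e3 (.node 0x4f5000fa87df1e .nil .nil) .nil))) (.node 0x88429c309c4947 (.node 0x97e71273a51818 (.node 0x98ba44656dd409 (.node 0x67e4b67d18063b .nil .nil) (.node 0x66d13a822cb62 .nil .nil)) (.node 0x8689f8d14872c0 (.node 0x2991834a0235ab .nil .nil) .nil)) (.node 0x9d22d9e2a727f8 (.node 0xc2a64f70950f72 (.node 0x39205fbab3f6a0 .nil .nil) (.node 0xdbbb90adc46af9 .nil .nil)) (.node 0x7350f8f224028e (.node 0x2214ad5c1e7048 .nil .nil) .nil))))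 (.node 0x8f531600ee97fd (.node 0x3b75c14680a326 (.node 0xa8ce97174ec91a (.node 0x9f76786315761f (.node 0x78581aeccfc221 .nil .nil) (.node 0xa82068468e2d .nil .nil)) (.node 0xbe7b13015ecd44 (.node 0x55d1770af3dcab .nil .nil) (.node 0xe9176b0e2a27ec .nil .nil))) (.node 0xad8ac763d8ac2b (.node 0x43482794a8da75 (.node 0x5cbd8d18fa5a7f .nil .nil) (.node 0xd3ab57fe9d3493 .nil .nil)) (.node 0xa4ce6c624d67a9 (.node 0x3880587a95eaad .nil .nil) .nil))) (.node 0xb5bb1af7aa8794 (.node 0xb68a2043e77922 (.node 0xb6762024ea7623 (.node 0x679d40bd1d4533 .nil .nil) (.node 0x122532d8d5e42e .nil .nil)) (.node 0x271d8386c99bf1 (.node 0x4574475a432870 .nil .nil) .nil)) (.node 0xc822aff2e96863 (.node 0xad5a83a02a8ce4 (.node 0x2fa44f7b196461 .nil .nil) (.node 0xe397614da00f2f .nil .nil)) (.node 0x6d10e92c4aa052 (.node 0x1a9024cbcbafe7 .nil .nil) .nil)))))) (.node 0x7e5a27b5bd8f3c (.node 0x125c9e163f20f3 (.node 0x1b08725de5ecc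 (.node 0x81967d70f49041 (.node 0x167903e710c7d0 (.node 0xa5c642650f3646 (.node 0x7c913a2c918054 .nil .nil) (.node 0x20754f4baeb07b .nil .nil)) (.node 0xce5247d0c5c43b (.node 0x43bdd809ab0c6a .nil .nil) (.node 0xe25fa2fdd9aa46 .nil .nil))) (.node 0x7be8ebe4da8331 (.node 0x52fc9aa3f01a2a (.node 0x1e149f49579c47 .nil .nil) (.node 0x10e8a888eca40b .nil .nil)) (.node 0x71d0c901f6c004 (.node 0x520c50ca2bdd21 .nil .nil) .nil))) (.node 0x912df46665d83d (.node 0x740c7ee4ff0191 (.node 0xa4168f4020426 (.node 0x7218ca2ca24006 .nil .nil) (.node 0x7fceee89f9323 .nil .nil)) (.node 0xba7e7571435413 (.node 0x53f4555b73dd6e .nil .nil) (.node 0xe6bb75cd6d0da3 .nil .nil))) (.node 0x3b79c113309986 (.node 0x6ab954f0568677 (.node 0x39b1807b4f6c68 .nil .nil) (.node 0xd91359ad46d013 .nil .nil)) (.node 0xa5169f11b36906 (.node 0x37297bf9deb8f6 .nil .nil) .nil)))) (.node 0x7e2226a10ac38f (.node 0xc6e201166ce2f6 (.node 0x1c7875778986ea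 (.node 0xa3aa174454caa2 (.node 0x77a0177c79824b .nil .nil) (.node 0x18a91d0800ddb7 .nil .nil)) (.node 0x2975827193e49e (.node 0x2901b64ac9abb2 .nil .nil) (.node 0xe2c367ae376cdb .nil .nil))) (.node 0x3d5dd4857f184d (.node 0xccae2c23ceacf1 (.node 0x5d008b5976b384 .nil .nil) (.node 0xd33ba7fe91359a .nil .nil)) (.node 0xd13252e1c303c4 (.node 0x4e18452b5d51bc .nil .nil) .nil))) (.node 0x807653f73f88e3 (.node 0x7701c77585c0dd (.node 0xb1aefa33202da5 (.node 0x66a549bd1705f7 .nil .nil) (.node 0xc2019b87bd967 .nil .nil)) (.node 0xbba6df36fddb8a (.node 0x40d1e7dab954b1 .nil .nil) .nil)) (.node 0x3f59959363b18c (.node 0xc5b624a0a84f0d (.node 0x30100abb9c5c80 .nil .nil) (.node 0xe0436f7d7f4a4f .nil .nil)) (.node 0x6e5ca69c29df12 (.node 0x25f8119bfbefd1 .nil .nil) .nil))))) (.node 0xf80d105916120 (.node 0x614476f5c1a28f (.node 0xc76715a6a3e2d2 (.node 0x13fd4d277649a3 (.node 0xa84ee5353978eb (.node 0x7968839cd6017f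 .nil .nil) (.node 0x163cf808119c7d .nil .nil)) (.node 0xc4fa231067928a (.node 0x3ba1c1ea3d5de0 .nil .nil) (.node 0xe13b4c5dbb4fb0 .nil .nil))) (.node 0x37e59a343433bc (.node 0x8a46cbe2b47376 (.node 0x6478e49940f3f6 .nil .nil) (.node 0xd9879f9d6b54aa .nil .nil)) (.node 0xb1fa4031e06b4a (.node 0x4dec4449c6799f .nil .nil) .nil))) (.node 0x8103019763497e (.node 0x9d3ea4f2b6ba21 (.node 0x9e2a1ad294b78e (.node 0x694cf6dceb8578 .nil .nil) (.node 0x4d547e83999ae .nil .nil)) (.node 0x2f1598f6e75bd9 (.node 0x55606c9adba57c .nil .nil) .nil)) (.node 0x29718253c3178c (.node 0xad1af2a03e4d7f (.node 0x37fd9b1a7b2510 .nil .nil) (.node 0xd81f4d6df3271c .nil .nil)) (.node 0xce3254f2040413 (.node 0x23b55ebc0a6ee0 .nil .nil) .nil)))) (.node 0x84cb0ab0e60bc8 (.node 0x9176a0668f568b (.node 0xa19a9153497a17 (.node 0x7a6d45f384c0a6 (.node 0x79d98efcdec1b5 .nil .nil) (.node 0xa6969c858ca33 .nil .nil)) (.node 0x8569faa162f2f5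 (.node 0x2b3057b9bc8f4f .nil .nil) (.node 0xe8db8cfe2de6b1 .nil .nil))) (.node 0x29ec721477b3cf (.node 0xa626fd235911d7 (.node 0x5e1c26290ea864 .nil .nil) (.node 0xd4d78f8dd5a68e .nil .nil)) (.node 0x7591f101cfc122 (.node 0x36e1863a242ced .nil .nil) .nil))) (.node 0x5b91627bf07ed (.node 0x5cd48a5277716a (.node 0xb6ae0f029cfa6c (.node 0x5eec23a96ca716 .nil .nil) (.node 0x134535b8b3648b .nil .nil)) (.node 0xcd374056dd9bb0 (.node 0x424851eb3b3958 .nil .nil) .nil)) (.node 0x2ebc61c4a2338f (.node 0x662523d0b145a2 (.node 0x33582e6aaca85b .nil .nil) (.node 0xdd67517e7037ee .nil .nil)) (.node 0x1178c258cc5ff5 (.node 0x24618c5bd8efab .nil .nil) .nil))))))))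

/-- Part of `setTab`. -/
noncomputable def setTab_r_l_r_l : Arr ℕ :=
  .node 0x9dd2dce612e273 setTab_r_l_r_l_l setTab_r_l_r_l_r

/-- Part of `setTab`. -/
noncomputable def setTab_r_l_r_r_l : Arr ℕ :=
  (.node 0xaad6b0e60aa25e (.node 0xc40ae945d7e070 (.node 0x805b2795f39504 (.node 0x12689e0620a145 (.node 0x420baa62c1dad (.node 0x89de85b121d415 (.node 0x13a0aac7b84814 (.node 0x421051849c735f (.node 0x707d33ac26dfa1 .nil .nil) (.node 0x1da12b0c044b94 .nil .nil)) (.node 0x69f94ba0ab0588 (.node 0x4cf402caae658b .nil .nil) (.node 0xdea389cdac4c01 .nil .nil))) (.node 0x75ec1d6272422d (.node 0xbd4f0d92a193db (.node 0x618c77d8f7f435 .nil .nil) (.node 0x1308f4a8e68d43 .nil .nil)) (.node 0xc679fd26e21b27 (.node 0x3e60674b36a4d6 .nil .nil) .nil))) (.node 0x970233a69597ac (.node 0xbb4ad9234e5457 (.node 0x7ac1053484c2b0 (.node 0x74a167dcdbc1d1 .nil .nil) (.node 0x854fac82dcf0c .nil .nil)) (.node 0x863f3ce16f3225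 (.node 0x29fc72e9f9b585 .nil .nil) (.node 0xe7a398dd36543f .nil .nil))) (.node 0x72ecbc847ec08d (.node 0xad02f2535f51be (.node 0x499068c9cfd328 .nil .nil) (.node 0xd267848d4e8cb1 .nil .nil)) (.node 0x77d5ee11c94108 (.node 0x39f896ab47a424 .nil .nil) .nil)))) (.node 0x957aa931ba58e0 (.node 0xc69b43669d62e1 (.node 0x1b40211771c9a9 (.node 0xa886626532b79f (.node 0x742c7f8cd10198 .nil .nil) (.node 0x17654ad7d5d255 .nil .nil)) (.node 0xc3660c80611271 (.node 0x3bf83d3aed37d8 .nil .nil) (.node 0xde977a8dcd2683 .nil .nil))) (.node 0x752d64742ec1fa (.node 0xa4671812bc36e4 (.node 0x6414aed931e73b .nil .nil) (.node 0xdb7f567e066a75 .nil .nil)) (.node 0x9a22c541ab6e33 (.node 0x31c1bbd9ceae25 .nil .nil) .nil))) (.node 0x808654775d0965 (.node 0xc1ae77b2c18ca4 (.node 0xb2e67314137736 (.node 0x18c8dd6801c5cb .nil .nil) (.node 0x29c84a8561270 .nil .nil)) (.node 0x51cc4ff6d4db4e (.node 0x57d9b92a63eba2 .nil .nil) .nil))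 (.node 0x4cc40213bd320c (.node 0xb34eba30c08d1a (.node 0x4cb9741b13a608 .nil .nil) (.node 0xde43523e75b7b7 .nil .nil)) (.node 0xce2e54e1fd8412 (.node 0x1cb8761bd54b2d .nil .nil) .nil))))) (.node 0x1059289638a10e (.node 0x5e45cbb5d9e0bb (.node 0x8356e6f1010ddf (.node 0x18e0dda7ac48b1 (.node 0xa696fe92fbb581 (.node 0x7c24ececad8338 .nil .nil) (.node 0x14f4b527e84b75 .nil .nil)) (.node 0xae6a1b904553b9 (.node 0x3ad8339b7b5cc0 .nil .nil) (.node 0xde1f766d400b68 .nil .nil))) (.node 0xa7e6b063163a25 (.node 0x2b0c56656616ff (.node 0x5bf8d849539975 .nil .nil) (.node 0xd233876e9975bb .nil .nil)) (.node 0x7b94ef31f0401e (.node 0x2ee862da26d2cb .nil .nil) .nil))) (.node 0x7d1a49674b4727 (.node 0xa0c25ca3a8fa57 (.node 0x264de863fd6f1f (.node 0x71ad11fc9f02f0 .nil .nil) (.node 0x50ccb389e4e2a .nil .nil)) (.node 0xc1f2be313cd3fa (.node 0x27c0742b2666bb .nil .nil) .nil)) (.node 0x349c3fa2ab56fe (.node 0x65651ac04fc65d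 (.node 0x49b090aa157997 .nil .nil) (.node 0xd22f4a3dc12bac .nil .nil)) (.node 0xa9321221e5e764 (.node 0x20e4e34ba04d78 .nil .nil) .nil)))) (.node 0x869f3e210e4e45 (.node 0x949ebcf67d96a4 (.node 0x82ea60009c08f8 (.node 0xa24ed752d2d549 (.node 0x769dc4bc7580f3 .nil .nil) (.node 0xfdc6787a0f74 .nil .nil)) (.node 0x560971f19a64b0 (.node 0x56e9c0cac4cceb .nil .nil) (.node 0xe86b4aee21280e .nil .nil))) (.node 0x5df02583dc714a (.node 0x901f0cf52a17d3 (.node 0x60dc8eb96f195c .nil .nil) (.node 0xd23b8fbd93cc7f .nil .nil)) (.node 0xd12e5381bc83c5 (.node 0x4c24905b0ab549 .nil .nil) .nil))) (.node 0x41cbac7a1079e (.node 0x9802bfd3e8fa11 (.node 0xa0f65d3319ebc7 (.node 0x6af9558d01066f .nil .nil) (.node 0x10912908ac0b93 .nil .nil)) (.node 0xc10e8df7029b73 (.node 0x3c49bd4ae574d0 .nil .nil) .nil)) (.node 0x5281d012eab2de (.node 0xc22a0e10a1cef4 (.node 0x4f003719e1e930 .nil .nil) (.node 0xe40f994e45a85a .nil .nil))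 (.node 0x70ccf30c5a9f8e (.node 0x1b0dca9bf50c2c .nil .nil) .nil)))))) (.node 0xc2432d75e9a257 (.node 0xb35e5ba5a4e1e1 (.node 0xa5c24215aae172 (.node 0x4a2d7481121e07 (.node 0xb222f7d7c78851 (.node 0xc6934334c5e6bf (.node 0x7020d96c3d9eb0 .nil .nil) (.node 0x1f1d221c1254f1 .nil .nil)) (.node 0xc46a4d80060e28 (.node 0x419c65fa04ecbc .nil .nil) (.node 0xdfa7a2ee66b914 .nil .nil))) (.node 0x8f6f16346c97fe (.node 0x943276641718c2 (.node 0x61096f9978acb3 .nil .nil) (.node 0x12949ea8c1d272 .nil .nil)) (.node 0x8c7223b221f102 (.node 0x441c05d9c55097 .nil .nil) .nil))) (.node 0x8e2a2111862378 (.node 0x89229bd4bdb1e4 (.node 0xaa3a9af4fa69cf (.node 0x73f908cc8d40bd .nil .nil) (.node 0x6b13c18205539 .nil .nil)) (.node 0x55406bc18164c5 (.node 0x2c59a5cb69d405 .nil .nil) (.node 0xe74b98ad339330 .nil .nil))) (.node 0x9326d40391d8a0 (.node 0xa93a1240808e32 (.node 0x4b88382b94dd6a .nil .nil) (.node 0xd4c37cbe9cb4e5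 .nil .nil)) (.node 0xcee302b2594462 (.node 0x35844859998f4e .nil .nil) .nil)))) (.node 0x94aaa84130564d (.node 0x402c06c66f2300 (.node 0xb26a909768c6cd (.node 0x584570245957a4 (.node 0x75d5f1acc0c124 .nil .nil) (.node 0x1828b7d7dfd022 .nil .nil)) (.node 0x851f3d6189b21a (.node 0x2ce099fa2fdc97 .nil .nil) (.node 0xdfcb607e10a804 .nil .nil))) (.node 0xb57e166288b7c1 (.node 0x74087f53d0c193 (.node 0x1e109f59219c77 .nil .nil) (.node 0xd83f98cdb59449 .nil .nil)) (.node 0x74d47bf2650157 (.node 0x527c2b99a2ec9a .nil .nil) .nil))) (.node 0x9f3abb377e06b0 (.node 0x8fc22d2460579b (.node 0x4eb036037071be (.node 0x6a1d4c6d0a4590 .nil .nil) (.node 0xc61f078445410 .nil .nil)) (.node 0xcafecd06d1db09 (.node 0x2d357d6a4bf76d .nil .nil) .nil)) (.node 0xb4ca9e25566ccf (.node 0x68c102700e860d (.node 0x2e01d2998225e8 .nil .nil) (.node 0xe5d7659d5ed16e .nil .nil)) (.node 0x6c049d4c385d31 (.node 0x2695e8cbc414a6 .nil .nil)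 .nil))))) (.node 0xb88a5ab648a204 (.node 0x9c2ae4a5ff2214 (.node 0x56689471329da7 (.node 0xa61efd172ac766 (.node 0x78201a333e4212 (.node 0x410ba682ec085 .nil .nil) (.node 0x14194e67f04b28 .nil .nil)) (.node 0x657d1ab08ac65c (.node 0x3d91d59a5423fe .nil .nil) (.node 0xe227575e793718 .nil .nil))) (.node 0x9a9698c3a078c3 (.node 0x9aae9824436d42 (.node 0x59bd512941d958 .nil .nil) (.node 0xd39b981d95539f .nil .nil)) (.node 0xd1e700e23883e2 (.node 0x30e82fea8d683a .nil .nil) .nil))) (.node 0xabaaced79c8956 (.node 0x82867f753df346 (.node 0x998efc65748d20 (.node 0x6558dcccfcc4e9 .nil .nil) (.node 0x36907e887cc90 .nil .nil)) (.node 0xbcc60286b55acb (.node 0x5525a429ae6c17 .nil .nil) .nil)) (.node 0x9406d2244e96e0 (.node 0xc53a4ae09b8f58 (.node 0x48245a1ab66940 .nil .nil) (.node 0xd86b605de827ff .nil .nil)) (.node 0x7a14b9122a8274 (.node 0x2284d31bb60ede .nil .nil) .nil)))) (.node 0x902b3ac11c5720 (.node 0x37706a26866310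 (.node 0x85873f13063239 (.node 0x881314730d72a9 (.node 0x75087c7c644167 .nil .nil) (.node 0xac07e7868957f .nil .nil)) (.node 0xbdf71771584d2a (.node 0x2af178eaf8abb5 .nil .nil) (.node 0xe9b74d4df0a926 .nil .nil))) (.node 0x9621f734d55828 (.node 0x55917624af725e (.node 0x5f39ed395fb417 .nil .nil) (.node 0xd6aba60e8675ea .nil .nil)) (.node 0x8eee514247f083 (.node 0x47b99cca9cddfc .nil .nil) .nil))) (.node 0x9e261b3726c87e (.node 0xb946f0642c3503 (.node 0x85973f8498b236 (.node 0x5ff9ea1909a7eb .nil .nil) (.node 0x11dd3f18cfcb42 .nil .nil)) (.node 0x56609466f21b06 (.node 0x3dec297a6f757f .nil .nil) .nil)) (.node 0x9472bd051e96ab (.node 0xce9aee60238453 (.node 0x4fb5d98a7edcf1 .nil .nil) (.node 0xe2f3667dbd107a .nil .nil)) (.node 0x6f6d0eec305e38 (.node 0x24dc898be65616 .nil .nil) .nil))))))) (.node 0x9d080d5f61e85 (.node 0x9dd6dd55eee239 (.node 0xa45b187629a154 (.node 0x7f720a4636d0b4 (.node 0x2f7c4e50de5c57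 (.node 0x7fa629e7cf482d (.node 0x841f10f4c972b3 (.node 0x6e95282c576032 .nil .nil) (.node 0x22e8d64bbd5072 .nil .nil)) (.node 0xb55a6f000a8a6a (.node 0x2e5daa0a0f94c9 .nil .nil) (.node 0xe0ff8cce19add3 .nil .nil))) (.node 0x25156a14722f8c (.node 0x39c495c41c57ee (.node 0x23c078497b9e6e .nil .nil) (.node 0xeed1128d44b29 .nil .nil)) (.node 0x28b1b536b6dc3f (.node 0x3a51de8b658fe6 .nil .nil) .nil))) (.node 0xcc9e2b5654e2af (.node 0x2a386d44b572ad (.node 0x9e161ab48e7626 (.node 0x7af905dcb482b5 .nil .nil) (.node 0x3d4fe1891114d .nil .nil)) (.node 0xbab2d55178cf40 (.node 0x2739845b2e25e5 .nil .nil) (.node 0xe64b9ffd6a9362 .nil .nil))) (.node 0x42cbaf389438d (.node 0x2b245682d7340d (.node 0x3621b06991ac66 .nil .nil) (.node 0xd75f542d8ecf95 .nil .nil)) (.node 0x8ef6510262b085 (.node 0x4bc9bf4b8f1420 .nil .nil) .nil)))) (.node 0x1049287614a086 (.node 0xcd834266ae23ad (.node 0x1ac87376b06cf (.node 0xa47b1853b814cd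 (.node 0x790d927c6901e8 .nil .nil) (.node 0x13b4ab87eb8cc0 .nil .nil)) (.node 0x66e8bf506a0558 (.node 0x412409aad478a9 .nil .nil) (.node 0xddfb643dfda951 .nil .nil))) (.node 0x21ccac927f304e (.node 0xc99ac4a54ceac1 (.node 0x6240a25950b472 .nil .nil) (.node 0xd22b561e26a9d6 .nil .nil)) (.node 0xd07a2831a34346 (.node 0x3089e2ab8727e0 .nil .nil) .nil))) (.node 0xb99ecd67854697 (.node 0x3501b6c465731d (.node 0x9c46e4640a9485 (.node 0x69a0a9cd0f85c4 .nil .nil) (.node 0xb2d667871cd10 .nil .nil)) (.node 0xc006a0e6f0dc04 (.node 0x29603e7ad1ec87 .nil .nil) .nil)) (.node 0x83de2ad55c325b (.node 0xc4f622d0bc0b12 (.node 0x4dd9b33b419d56 .nil .nil) (.node 0xdd7b6e8e70f72d .nil .nil)) (.node 0x711514d20a0039 (.node 0x25416b1bec5242 .nil .nil) .nil))))) (.node 0x7f7609a64c157d (.node 0xeb10ff6032228 (.node 0x80f254d0d00410 (.node 0x7f560997b78894 (.node 0xb3fe1552f36b42 (.node 0x7a3cb97c810285 .nil .nil) (.node 0x17c941b7d9cd0d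 .nil .nil)) (.node 0xc2220e504d0b5d (.node 0x3ebda76b1ef5b7 .nil .nil) (.node 0xe3a7716d760a35 .nil .nil))) (.node 0x1d512a5324f01f (.node 0x9135f425621846 (.node 0x59e923592db3d0 .nil .nil) (.node 0xd2cb7c1e93f526 .nil .nil)) (.node 0x8c662442353101 (.node 0x4d79dbeaa62c07 .nil .nil) .nil))) (.node 0x9a52639742874e (.node 0x32b04cd3a3d9cf (.node 0x95aeaac56e98e8 (.node 0x6895003ce3c62e .nil .nil) (.node 0x71d38b8299226 .nil .nil)) (.node 0x2be45d11476427 (.node 0x56497279fce734 .nil .nil) .nil)) (.node 0xad6ec742a8b6ea (.node 0xac5658509412f6 (.node 0x364c6f8a1d15d8 .nil .nil) (.node 0xd2f7538df4271b .nil .nil)) (.node 0xd0320941ea8363 (.node 0x1face06c184a2f .nil .nil) .nil)))) (.node 0x291c3e40eb5ec5 (.node 0xccd7111679633e (.node 0x13f94d374c491c (.node 0x4538467310da89 (.node 0x78481b7ccec218 .nil .nil) (.node 0xccc1ce84dd024 .nil .nil)) (.node 0x890e66e15cf309 (.node 0x288849da645063 .nil .nil)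 (.node 0xe8cb5b0e11a8e1 .nil .nil))) (.node 0x87c635c3d97243 (.node 0xbca7450526132f (.node 0x5c898dc8fbec1d .nil .nil) (.node 0xd8ff798dd76bdd .nil .nil)) (.node 0x7655c4124b00ef (.node 0x3870588a949db8 .nil .nil) .nil))) (.node 0x8d232ce7a84789 (.node 0x3dc02913e3b21e (.node 0x7b84ef84e6c026 (.node 0x68290c8ce6052a .nil .nil) (.node 0xe34db38bd528b .nil .nil)) (.node 0xc93e7e06be9b9f (.node 0x454046aa43f68c .nil .nil) .nil)) (.node 0xac6ef122e8b67d (.node 0x68d9028028860c (.node 0x2fc04edb1beb0b .nil .nil) (.node 0xde579e1ddeec27 .nil .nil)) (.node 0x12b0e888e2e04e (.node 0x26f40dfbce8e90 .nil .nil) .nil)))))) (.node 0x5904b125bbe181 (.node 0x90f9f412155838 (.node 0xc45a4de5b3a16d (.node 0x8f0a3180f5176e (.node 0x8bba4f171847d9 (.node 0x716111850b82e4 (.node 0x7121155c940043 .nil .nil) (.node 0x21251e7baa11fa .nil .nil)) (.node 0x66212430c4c5a4 (.node 0x43cdd8c9aa3786 .nil .nil) (.node 0xe07b64fdd1ad6c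 .nil .nil))) (.node 0xa2def684e2edd7 (.node 0xb3b2f843f84c20 (.node 0x62e12c59186da9 .nil .nil) (.node 0x10316318b08bad .nil .nil)) (.node 0xd13a52a217c3cb (.node 0x41d5a8d9ecca85 .nil .nil) .nil))) (.node 0x2be05ce663e393 (.node 0xc71636e5092c5c (.node 0xb3d214a401fa62 (.node 0x71f0c9cca0c013 .nil .nil) (.node 0x570c898a78af7 .nil .nil)) (.node 0x88c2e02142b1c6 (.node 0x2c1c5dbb6f8bba .nil .nil) (.node 0xe7c39f8d4c53f4 .nil .nil))) (.node 0xb85ac8f3389081 (.node 0xc43ae9d07b49c4 (.node 0x39897ffb50b684 .nil .nil) (.node 0xd4937d1e49eb0a .nil .nil)) (.node 0x79548241af4170 (.node 0x491579b9db9516 .nil .nil) .nil)))) (.node 0x87563a60d94edf (.node 0x9286b6c66ad8ca (.node 0xa246d737914712 (.node 0x915e9fe4545697 (.node 0x76dc14bc7f426d .nil .nil) (.node 0x14895787e389dd .nil .nil)) (.node 0xbc374701924f8f (.node 0x2838492a6439e7 .nil .nil) (.node 0xdf83536df3a824 .nil .nil))) (.node 0xca2acaa57dee7d (.node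 0xb10e7a13cdf5b8 (.node 0x635d2f591ee669 .nil .nil) (.node 0xd6af6aada1cf7a .nil .nil)) (.node 0xa3726d61c62c71 (.node 0x4e2c44eb5c786c .nil .nil) .nil))) (.node 0x208ce2773b88d8 (.node 0xb0aa8f158d6942 (.node 0x8a5ecbd320f375 (.node 0x66cd496d1585e6 .nil .nil) (.node 0x1601648838b5f .nil .nil)) (.node 0x2cb098e6f91b92 (.node 0x40c5e74ab9ded9 .nil .nil) .nil)) (.node 0xbc0747236d9115 (.node 0xd01e0900a58368 (.node 0x50180c2b98d3ee .nil .nil) (.node 0xddf7699e1e27f2 .nil .nil)) (.node 0x6e20a6bc2b6021 (.node 0x1b7c217bfdd0d2 .nil .nil) .nil))))) (.node 0xc2d707159b6136 (.node 0xa236d705caa27f (.node 0x976b08a6a197da (.node 0xb6c71fe731477a (.node 0x841f253484c1 (.node 0x7b48fcacbf407e .nil .nil) (.node 0x16f4c157d1cf24 .nil .nil)) (.node 0xb59e16a0664ecd (.node 0x45c9b4ea390ca0 .nil .nil) (.node 0xe517959e18a6ed .nil .nil))) (.node 0xb272911397ca57 (.node 0x5a34e0d2b0f089 (.node 0x5930b1c93a2dcb .nil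 .nil) (.node 0xd3377b8debe6d7 .nil .nil)) (.node 0x729542b1dcc2c3 (.node 0x50f1ab6afd2d50 .nil .nil) .nil))) (.node 0x18d0ddf75e898a (.node 0x9996fc3544ada6 (.node 0x2cb8991291340b (.node 0x696cf62ce84564 .nil .nil) (.node 0x8b90ac83713b0 .nil .nil)) (.node 0xccb22c370cdc10 (.node 0x55646c3adc7951 .nil .nil) .nil)) (.node 0xae4e1bb447cf51 (.node 0x662d23e03c85a1 (.node 0x38259b6a7deb90 .nil .nil) (.node 0xd64b4d1e366d07 .nil .nil)) (.node 0xa446145206ab59 (.node 0x1e0d2e1c0d5369 .nil .nil) .nil)))) (.node 0x94b2a920e8d650 (.node 0x4e5dada68c6369 (.node 0xb9ea8aa3002932 (.node 0xa5e24293806e5b (.node 0x1a486f86041a2 .nil .nil) (.node 0x30190885f49e1 .nil .nil)) (.node 0x29183e3160a421 (.node 0x2b645779bd2789 .nil .nil) (.node 0xe92f90ee48e601 .nil .nil))) (.node 0xb9a2cd44ce8fb9 (.node 0x947ebcd35856ad (.node 0x60740fe910595a .nil .nil) (.node 0xd9bf5ade1b6d2a .nil .nil)) (.node 0xd07627e23e8345 (.node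 0x36d585fa235c7a .nil .nil) .nil))) (.node 0x840e2b307547f5 (.node 0xae9f379424e9f3 (.node 0xc60341f494a99d (.node 0x5ee822f96d68de .nil .nil) (.node 0xdb8c4c8e20d29 .nil .nil)) (.node 0xbe4b13d6de1bbc (.node 0x41ac5159e979ba .nil .nil) .nil)) (.node 0xc016a1751ad51b (.node 0xc2f307501fd3b1 (.node 0x32f82d8aa4f9b4 .nil .nil) (.node 0xe3275ecd6ad358 .nil .nil)) (.node 0x6cc13d7c359e83 (.node 0x1d25891bdd8d91 .nil .nil) .nil))))))))

/-- Part of `setTab`. -/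
noncomputable def setTab_r_l_r_r_r : Arr ℕ :=
  (.node 0xd0d1975d2a064 (.node 0x9812c085cea07d (.node 0x92ae73c1a016b9 (.node 0xc5d7216625a148 (.node 0xa08ef4d62fe1af (.node 0x9466bda12996aa (.node 0xac325937bc4819 (.node 0xaf52db249d4c89 (.node 0x6dccd04c2e5f6b .nil .nil) (.node 0x232d5c2c004bae .nil .nil)) (.node 0xc52a4bb0af0c8f (.node 0x518d97ea144d1d .nil .nil) (.node 0xe0376f2e5a2abb .nil .nil))) (.node 0xb12a79a273ed95 (.node 0x99c281d29af720 (.node 0x5c2c7b48f3f3a3 .nil .nil) (.node 0xd551a78b852a3 .nil .nil)) (.node 0xbbdeab5709dae2 (.node 0x4609d6cb618c9d .nil .nil) .nil))) (.node 0x3aa0329651e2a9 (.node 0xa47718635437e1 (.node 0xc92a7e6488a9c0 (.node 0x72ad431cb1c2d3 .nil .nil) (.node 0x438bb38324ef3 .nil .nil)) (.node 0x27e9b08173e592 (.node 0x2704925b28f9a3 .nil .nil) (.node 0xe6c7832d96ca0f .nil .nil))) (.node 0xc8ca9c8482ed85 (.node 0x9089f7c2df1873 (.node 0x37b46aa9d56b40 .nil .nil)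 (.node 0xd5077d8e0fee32 .nil .nil)) (.node 0xcfab24b1ca44b2 (.node 0x4740981b4b25e9 .nil .nil) .nil)))) (.node 0xb24e90e61de0a3 (.node 0x50adaad6ab63a0 (.node 0x8b6e0ab77289ac (.node 0x3361df13b6f2ff (.node 0x7541653c6d41fd .nil .nil) (.node 0x1689048814d23d .nil .nil)) (.node 0x9e8b362072913c (.node 0x44b834aaf2ada0 .nil .nil) (.node 0xe0f792bd9254e0 .nil .nil))) (.node 0xa6f6bfb430e861 (.node 0x7344f91548c296 (.node 0x5a44e15936e81e .nil .nil) (.node 0xd3eba22e89358e .nil .nil)) (.node 0x74d07bd1a20156 (.node 0x5071e4ab8178d7 .nil .nil) .nil))) (.node 0x8a3eca30b64689 (.node 0x93b28c62c59889 (.node 0x51c44fc409166f (.node 0x65f4e61cf7c5dd .nil .nil) (.node 0x9f08198519289 .nil .nil)) (.node 0xc832afc6d61b3c (.node 0x2831b14a5f27be .nil .nil) .nil)) (.node 0x9f0afb03bf6653 (.node 0x68dd0220b7860a (.node 0x3261c30b4036f4 .nil .nil) (.node 0xe5f35fbd2a09ea .nil .nil)) (.node 0xaf2734e21369b5 (.node 0x241479bbd14b46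 .nil .nil) .nil))))) (.node 0xc412e9363de111 (.node 0xaa169ac5dc60c5 (.node 0x92b274210996c0 (.node 0xa3a21707af08b7 (.node 0x7b8cef72f20024 (.node 0x7260c69ca8031b .nil .nil) (.node 0x18f8deb8034b5b .nil .nil)) (.node 0x65611ae049c657 (.node 0x429d956b23764e .nil .nil) (.node 0xe0336ebde8a777 .nil .nil))) (.node 0x9186a0132c1696 (.node 0xb4c29da568143c (.node 0x63a954592a3466 .nil .nil) (.node 0xdac7a3cdb9556e .nil .nil)) (.node 0xcee70201f10460 (.node 0x33b1e05aa2ab31 .nil .nil) .nil))) (.node 0x25016a3741c739 (.node 0xa30ea403ad37ed (.node 0xbc974574008e6e (.node 0x7ce936bc9b830b .nil .nil) (.node 0x780f17899ce43 .nil .nil)) (.node 0x85f5faf14ef2d0 (.node 0x58f092fb2a6d0f .nil .nil) .nil)) (.node 0xc74b1532afa656 (.node 0xc3e2527053959b (.node 0x49ec91aa1765e3 .nil .nil) (.node 0xd5c3879db0142f .nil .nil)) (.node 0x7a10b901e98275 (.node 0x1fe8b02ba44d5f .nil .nil) .nil)))) (.node 0x977e37f0fb9781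 (.node 0x29103e26752334 (.node 0xa5428287564907 (.node 0x968739c2cbd70a (.node 0x7749c87c7280e2 .nil .nil) (.node 0xb91c938758f5a .nil .nil)) (.node 0xc1368de19f8b5c (.node 0x582c41ca694d52 .nil .nil) (.node 0xe8e34cfe452782 .nil .nil))) (.node 0xc6ee00e3e1ece0 (.node 0x1a19cd7523af0e (.node 0x61cd8af9002a3c .nil .nil) (.node 0xd547558dcf2ce5 .nil .nil)) (.node 0xaddaac7253e7bb (.node 0x48b4612a92b6ad .nil .nil) .nil))) (.node 0x8e8b04b7a2c7a5 (.node 0x91aa6993eb590a (.node 0x9b5a1d34f07627 (.node 0x15f0f6f80f4515 .nil .nil) (.node 0xfccd1d8e9d442 .nil .nil)) (.node 0x42245166bd5ba9 (.node 0x44e1acfae9f528 .nil .nil) .nil)) (.node 0xc9de7fe2efad35 (.node 0xa5668290310ccb (.node 0x32203bc9e6ea37 .nil .nil) (.node 0xdc77a51e6378fa .nil .nil)) (.node 0x6b91182c22200f (.node 0x25c1ebcbf10c46 .nil .nil) .nil)))))) (.node 0x7fba29d5b65021 (.node 0x7fbe2985a09610 (.node 0x10652885aea15e (.node 0x855dfab11495e7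 (.node 0x7c4edd71747d2 (.node 0x8362e695133336 (.node 0x6c7530ec455d79 .nil .nil) (.node 0x21b1530c16550a .nil .nil)) (.node 0xce4e47e0cc443a (.node 0x3cbddd79a5f95d .nil .nil) (.node 0xe13f85ce336695 .nil .nil))) (.node 0x4c657324e017a7 (.node 0x2cb49923f65a12 (.node 0x5ab55d491aab16 .nil .nil) (.node 0xe995a48dd0d0e .nil .nil)) (.node 0x7b90ef5217401f (.node 0x3f819689f14a6c .nil .nil) .nil))) (.node 0x92a2b7065ed8cc (.node 0x60340ed503f08a (.node 0x9ffa9014f676d6 (.node 0x7bc8effca6c029 .nil .nil) (.node 0x5dd17481bd521 .nil .nil)) (.node 0xbd322e318412a2 (.node 0x54359f4b6e5188 .nil .nil) (.node 0xe62f97fd838a8d .nil .nil))) (.node 0x5781b8233731dd (.node 0x65791ad076c656 (.node 0x34c440bb92b57a .nil .nil) (.node 0xdabf4dae1bad1a .nil .nil)) (.node 0xae1adc51b9e917 (.node 0x4aa84389954f35 .nil .nil) .nil)))) (.node 0x458db3c0d71ef6 (.node 0xcaeacc56722309 (.node 0x14d8b4178e4714 (.node 0xaed618645acabc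 (.node 0xb601388720259 .nil .nil) (.node 0x15c501380cd03b .nil .nil)) (.node 0x2b819d218d258c (.node 0x530c9b2a36b695 .nil .nil) (.node 0xe47b976e7f385b .nil .nil))) (.node 0x2a546d2579741b (.node 0xc7023763d4ece1 (.node 0x5b19603923ed77 .nil .nil) (.node 0xd4f35fce8db4b9 .nil .nil)) (.node 0xcfa724526584b1 (.node 0x32c84d5b587871 .nil .nil) .nil))) (.node 0x7e8a074739c8c7 (.node 0x37e19a258b199c (.node 0xae16dbf3736d53 (.node 0x690102dcec8604 .nil .nil) (.node 0x2df3283fd3f7 .nil .nil)) (.node 0xbd5f0da6c69b5a (.node 0x53817eca503767 .nil .nil) .nil)) (.node 0x1c216d636aaf9f (.node 0xc32f2f8012d51f (.node 0x52add0f9880fe8 .nil .nil) (.node 0xe17781fd5fd572 .nil .nil)) (.node 0x6fd558bc40defa (.node 0x1a39cd9bc0148e .nil .nil) .nil))))) (.node 0xe55598596e129 (.node 0xb71c8a5c65c5d (.node 0x8392b551345553 (.node 0x17314a272e0778 (.node 0xc7923b03426b34 (.node 0x7318bcdcbb0099 .nil .nil) (.node 0x19d52697f94b41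 .nil .nil)) (.node 0xc5fb21c08ed412 (.node 0x42f9d3ea5a1482 .nil .nil) (.node 0xe5bf5aee422d2d .nil .nil))) (.node 0x56c1bfc39716fd (.node 0xa22ed6843e76f7 (.node 0x64e520a94969f6 .nil .nil) (.node 0xd5eb79ed2c1460 .nil .nil)) (.node 0xa06e3c71d9eb5a (.node 0x2f55994b016d40 .nil .nil) .nil))) (.node 0x8bb24e6796492a (.node 0x7a69458542c0a7 (.node 0xb3e615328e7788 (.node 0x6a88b3ad058502 .nil .nil) (.node 0x92545088c4ca9 .nil .nil)) (.node 0x4e61adc70a9c25 (.node 0x2bc19e39b2ec28 .nil .nil) .nil)) (.node 0x4414056446740f (.node 0xa63efd8037cd66 (.node 0x486da0ea77f8e8 .nil .nil) (.node 0xdb0b5b7e8534a7 .nil .nil)) (.node 0xcfef28122b44c8 (.node 0x1e489ffbb20ec4 .nil .nil) .nil)))) (.node 0x7efe27d0e38340 (.node 0xc806b0268ae317 (.node 0x78e19162fe81e1 (.node 0x64b11fa37cf0b8 (.node 0x78d0869c62c13e .nil .nil) (.node 0x1cc8838641598 .nil .nil)) (.node 0x8715fcf16972e5 (.node 0x54ac5c99b778bc .nil .nil)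 (.node 0xe907756e0d2949 .nil .nil))) (.node 0x44743454cd5981 (.node 0xad06f294b0535f (.node 0x1a040ea90f9dae .nil .nil) (.node 0xd8af581e4be9a5 .nil .nil)) (.node 0x77d1ee023e4109 (.node 0x4a6175ba1f1c92 .nil .nil) .nil))) (.node 0x8142edd721c860 (.node 0x46a980a42257a5 (.node 0x7709c75490c0db (.node 0x5dc1cf8905e67a .nil .nil) (.node 0xf50cec8c61551 .nil .nil)) (.node 0xcd3f40a6f45af3 (.node 0x435027aa73b584 .nil .nil) .nil)) (.node 0x229cd60517aecf (.node 0x69e54bf01c058b (.node 0x3129e11a85f689 .nil .nil) (.node 0xe23b96fe6cf820 .nil .nil)) (.node 0x6f00ccbc4c9d78 (.node 0x1bf08d2be2562e .nil .nil) .nil))))))) (.node 0xb0868e45fae0e2 (.node 0x105528d5e4a24e (.node 0x760f0e5a25d04 (.node 0x8f4a31f23597f0 (.node 0x84822f00df942e (.node 0x2228d287c5883d (.node 0x517d9754c0b468 (.node 0x1044d8a8a81fe2 .nil .nil) (.node 0x1eb4a32bb95059 .nil .nil)) (.node 0x663d23c001c5a3 (.node 0x3f40543a088e03 .nil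 .nil) (.node 0xe1eb836df52d8e .nil .nil))) (.node 0xbc4e05d4754c09 (.node 0xa0623cc41d149c (.node 0x5d4d6c097dedea .nil .nil) (.node 0x1170eb98ca9569 .nil .nil)) (.node 0xcb329686b91c2a (.node 0x3d1831c9c110af .nil .nil) .nil))) (.node 0x9486bd365856a2 (.node 0xcaa28904b9ade9 (.node 0x79448284f8c178 (.node 0x7abd460c8ac0a5 .nil .nil) (.node 0x988be48959165 .nil .nil)) (.node 0x88c6e0a17bb1c1 (.node 0x587170db32e59c .nil .nil) (.node 0xe7ef88dd2e0ac1 .nil .nil))) (.node 0xbb02a9738e115f (.node 0xa89a62b2d90c6e (.node 0x4b11bad98bf935 .nil .nil) (.node 0xdacf555e53a821 .nil .nil)) (.node 0x79508262584171 (.node 0x3521b76b8b11a1 .nil .nil) .nil)))) (.node 0xc30f2f0619a092 (.node 0x975308b6a6d7dd (.node 0x99be81076d46e6 (.node 0x952ad7f3b2191c (.node 0x77fdef3cc5c113 .nil .nil) (.node 0x1968e817f48cd9 .nil .nil)) (.node 0xc4bf23006dcd0f (.node 0x407c076ad9a765 .nil .nil) (.node 0xdceb6a9d7c0f7c .nil .nil)))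 (.node 0xba2eb7a281cfbb (.node 0xaeb21885527484 (.node 0x5b78d4c94e73f3 .nil .nil) (.node 0xd8b7649e80754d .nil .nil)) (.node 0xb9b6cdb26ea626 (.node 0x2dc02cf99eacab .nil .nil) .nil))) (.node 0x166d04077cc6ab (.node 0xa54a82c466cf05 (.node 0x87870e2379b28b (.node 0x6649245cf205a9 .nil .nil) (.node 0x23193b86d4cf6 .nil .nil)) (.node 0x3c31bcb6cf1b1c (.node 0x577c398acdec76 .nil .nil) .nil)) (.node 0x7645c44554c0f4 (.node 0xcf160690164488 (.node 0x2dc809c98079fa .nil .nil) (.node 0xdc6b7e6d670e4a .nil .nil)) (.node 0xd1f300120b43e5 (.node 0x1c5d6dabe8525a .nil .nil) .nil))))) (.node 0x6204a15645e1fe (.node 0xc5124b76072231 (.node 0x907df860d4d870 (.node 0x85bdfac0958759 (.node 0xa832e55348368e (.node 0x7378f93c86429b .nil .nil) (.node 0x15550da806ccf3 .nil .nil)) (.node 0xcf8724f08504b7 (.node 0x3d50068a5279c8 .nil .nil) (.node 0xdc2b51addde9dc .nil .nil))) (.node 0xc08a70f3274d89 (.node 0x31e83ab4401a47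 (.node 0x1fb0af49411ca6 .nil .nil) (.node 0xdaa3805d3e0e2f .nil .nil)) (.node 0x729142c237c2c2 (.node 0x4f6400da89284c .nil .nil) .nil))) (.node 0x741f479b493e (.node 0xa7327a93a4915c (.node 0x55ad76457373fc (.node 0x67dcb6bd1a4645 .nil .nil) (.node 0x64113f825120e .nil .nil)) (.node 0xbcf202014a1055 (.node 0x29bd832a012722 .nil .nil) .nil)) (.node 0xaa4e6593bc3a39 (.node 0x663124109785a6 (.node 0x393c5efab113bd .nil .nil) (.node 0xda278d6d964e62 .nil .nil)) (.node 0xab831e82272d48 (.node 0x21f0ad7c1c4a48 .nil .nil) .nil)))) (.node 0x81dec0f0ee100f (.node 0x972633d68317ab (.node 0x8d1f2c474f490f (.node 0xc76f156315ad74 (.node 0x761c1decc98235 .nil .nil) (.node 0x90203849503d .nil .nil)) (.node 0x53597d81532512 (.node 0x55e1776af42a58 .nil .nil) (.node 0xe84b60be3fe831 .nil .nil))) (.node 0xb1c23f732fba40 (.node 0x9522d824aa591a (.node 0x5e85cc09633467 .nil .nil) (.node 0xd59b586ddbab28 .nil .nil)) (.node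 0xcef302224c4466 (.node 0x38d5a29a989e14 .nil .nil) .nil))) (.node 0x18e4ddb722c87c (.node 0xb22ef773e48d21 (.node 0xb026f584e8a910 (.node 0x6761407d1f8541 .nil .nil) (.node 0x12293278d88cf4 .nil .nil)) (.node 0xbcde0236cc1bec (.node 0x3b244b7a483690 .nil .nil) .nil)) (.node 0x99aa80e509ba12 (.node 0xc5f321802d1164 (.node 0x513863cb16770f .nil .nil) (.node 0xe0eb92ee73b76b .nil .nil)) (.node 0x6d28e9fc491c43 (.node 0x1aa824bbca8eaa .nil .nil) .nil)))))) (.node 0xb942f0d5be218a (.node 0xa94b32e642e0f6 (.node 0x80132b65e11534 (.node 0x2de1d1f0fe1d46 (.node 0x8aea4c5714c7bc (.node 0x9cdb35850da99b (.node 0x7c793a0c920061 .nil .nil) (.node 0x20794f9bae11e1 .nil .nil)) (.node 0xc3b30580c8d228 (.node 0x4680043b771c48 .nil .nil) (.node 0xe12b9e9e22a8c5 .nil .nil))) (.node 0xb6722064de36c6 (.node 0x937692c3f1d6f0 (.node 0x62a4a5395a6c0d .nil .nil) (.node 0x10fca868ee5429 .nil .nil)) (.node 0xad16f211fa2ca4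 (.node 0x5200510a2b507e .nil .nil) .nil))) (.node 0xc996c44667a398 (.node 0x84662eb5007276 (.node 0xb2ea73b406b84f (.node 0x5b111681802db .nil .nil) (.node 0x7eceec8a30b10 .nil .nil)) (.node 0x58b492613a2503 (.node 0x53f8553b7355c2 .nil .nil) (.node 0xe66770ad3a8a5a .nil .nil))) (.node 0xb53a6f2333f8fd (.node 0xcf9324105784bb (.node 0x46d1817b54f6c9 .nil .nil) (.node 0xd35f593de6eca7 .nil .nil)) (.node 0xd13e5331af83c9 (.node 0x37217b09dfd4fd .nil .nil) .nil)))) (.node 0x389da1b10b9ec6 (.node 0x8e7251716c6343 (.node 0x7feb2bb78dc6f5 (.node 0x3c29bc82d0f18d (.node 0x77a417fc7bc254 .nil .nil) (.node 0x18951d77fe89c3 .nil .nil)) (.node 0x890a67a195f304 (.node 0x28e1b65ac72492 .nil .nil) (.node 0xdf6f7fbe46ac14 .nil .nil))) (.node 0x9ea25f4583765f (.node 0xae2a1b72d67a68 (.node 0x5ce08b09746af4 .nil .nil) (.node 0xd817a56d9195a0 .nil .nil)) (.node 0x7651c401bc00ee (.node 0x33f4714b06b5f0 .nil .nil) .nil)))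 (.node 0xa0e25cd73c08e9 (.node 0x881714958732a4 (.node 0x716911731842e2 (.node 0x65a91bccf84654 .nil .nil) (.node 0xbfc19787f0b79 .nil .nil)) (.node 0xcc363036fadb82 (.node 0x4001e62abddc83 .nil .nil) .nil)) (.node 0xa7227b4366f93c (.node 0x68c502109d860b (.node 0x300c0a8b9c955f .nil .nil) (.node 0xe44b899e576c64 .nil .nil)) (.node 0x6d7961cc525f7b (.node 0x2620113bf9d0ba .nil .nil) .nil))))) (.node 0xaffef51594611f (.node 0x81370175c3d363 (.node 0x344586f69962df (.node 0x7fae29377b4997 (.node 0xbec30955390f86 (.node 0x7998836cd54175 .nil .nil) (.node 0x1628f7b810cf3d .nil .nil)) (.node 0x66f4bf605d0553 (.node 0x3bb5c27a3e2aee .nil .nil) (.node 0xe4bfa0de23e9a6 .nil .nil))) (.node 0x9dcaddb43876a2 (.node 0x98c64492b3abb6 (.node 0x6464e5493e2e3f .nil .nil) (.node 0xdbdf850e5beb5b .nil .nil)) (.node 0xce3a5581dd4415 (.node 0x4e89ae39c8f7ea .nil .nil) .nil))) (.node 0x8da2ea37604977 (.node 0x9094402bd4359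 (.node 0x998afc22934b6e (.node 0x6720c02d11454e .nil .nil) (.node 0x4a548183b9398 .nil .nil)) (.node 0xc1eabea6ea5bd4 (.node 0x2a906e3ae22a9a .nil .nil) .nil)) (.node 0xa8fe11c3c7f4a5 (.node 0xc2e307a040503f (.node 0x346d870b0e78aa .nil .nil) (.node 0xd7fb5b6e236c23 .nil .nil)) (.node 0x711114b1fd0038 (.node 0x23915f3c095382 .nil .nil) .nil)))) (.node 0x54785b511e9e97 (.node 0xcbd2b64690a377 (.node 0x20294eb34b307e (.node 0xb5a71a438835ad (.node 0x79ed8f2cdf01b9 .nil .nil) (.node 0xa5d69885ac9c7 .nil .nil)) (.node 0xba767531639193 (.node 0x569c9579f35c93 .nil .nil) (.node 0xe99f695e57273d .nil .nil))) (.node 0xb3de15247c36ca (.node 0x2c9c99335d328d (.node 0x5e0c26390da9c2 .nil .nil) (.node 0xd8b3482df86c01 .nil .nil)) (.node 0xb7a29961d3adcc (.node 0x36f09589dc79ed .nil .nil) .nil))) (.node 0xb74b3047c20801 (.node 0xb5eee3527c34e8 (.node 0xc55efe29d040d (.node 0x5fb812e965998e .nil .nil) (.node 0x13753608b3d2bc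 .nil .nil)) (.node 0x40f40856e09b33 (.node 0x424052bb3a648e .nil .nil) .nil)) (.node 0xabea8b14a5b86d (.node 0xaa8a65c0b3110b (.node 0x332c2edaaaa5c3 .nil .nil) (.node 0xe0035cad6154c6 .nil .nil)) (.node 0x6b20c35c5e5ff7 (.node 0x24798babd98daa .nil .nil) .nil))))))))

/-- Part of `setTab`. -/
noncomputable def setTab_r_l_r_r : Arr ℕ :=
  .node 0x5cc08a8609e259 setTab_r_l_r_r_l setTab_r_l_r_r_r

/-- Part of `setTab`. -/
noncomputable def setTab_r_l_r : Arr ℕ :=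
  .node 0x817eed9610d394 setTab_r_l_r_l setTab_r_l_r_r

/-- Part of `setTab`. -/
noncomputable def setTab_r_l : Arr ℕ :=
  .node 0x11f2a60e1c74 setTab_r_l_l setTab_r_l_r

/-- Part of `setTab`. -/
noncomputable def setTab_r_r_l_l_l : Arr ℕ :=
  (.node 0xec51056092264 (.node 0xb986cdf5d4a06b (.node 0x92f6d27269d898 (.node 0xc5922565bf618f (.node 0xa3d71bd593211a (.node 0x96f2332122d7b9 (.node 0xa65e4357c247ff (.node 0xc70e36a4a72b13 (.node 0x6b4cc32c5cddaa .nil .nil) (.node 0x1d692b3c07b012 .nil .nil)) (.node 0xcf1a0670b20485 (.node 0x4d2002bab0e745 .nil .nil) (.node 0xdee7967d93944e .nil .nil))) (.node 0x90a5f7d2791876 (.node 0x986e7c62a1f8a3 (.node 0x5f9c134967ecb2 .nil .nil) (.node 0x12f0f498e42596 .nil .nil)) (.node 0xc1aa7766e45b2a (.node 0x3e58676b377934 .nil .nil) .nil))) (.node 0x42e1d34692e358 (.node 0xae8337134db7e7 (.node 0x9252a1d3851937 (.node 0x748567ccd981c9 .nil .nil) (.node 0x86cfbb82cd277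 .nil .nil)) (.node 0x3b6dc1516d2403 (.node 0x56a89499f3e6ef .nil .nil) (.node 0xe6df82fd5212b7 .nil .nil))) (.node 0xcb6661947cad96 (.node 0xafbe3da361f51f (.node 0x497c68b9d234c0 .nil .nil) (.node 0xd20b62dd710eaf .nil .nil)) (.node 0x8d964a01d2b147 (.node 0x3a1c967b49a692 .nil .nil) .nil)))) (.node 0xb312ba55c32293 (.node 0x3369df769922dc (.node 0x8e422157788992 (.node 0x3af84b052f734e (.node 0x2d87ed85bc188 .nil .nil) (.node 0x17754b17d8dc4c .nil .nil)) (.node 0xd18aece05e0406 (.node 0x3b9dc18a3e6514 .nil .nil) (.node 0xe08b782db20e63 .nil .nil))) (.node 0xabc2cf2436e873 (.node 0xbbceab72b54fd3 (.node 0x6470e5193febab .nil .nil) (.node 0xd8e38add85cd64 .nil .nil)) (.node 0x6b08c271a86000 (.node 0x4e75aef9c9d58e .nil .nil) .nil))) (.node 0x8966c920138960 (.node 0xb1525e92c17892 (.node 0x416465540f1969 (.node 0x6724bfdd11054b .nil .nil) (.node 0x2b08528548afd .nil .nil)) (.node 0xc63b4126e89bc9 (.node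 0x2a586e7ae18e1f .nil .nil) .nil)) (.node 0xb37a5c63c5ec09 (.node 0x650cdc50be44ee (.node 0x347d87fb0c89ef .nil .nil) (.node 0xe35770ce4fae14 .nil .nil)) (.node 0x8b860ae20130c3 (.node 0x1ccc75fbd66f52 .nil .nil) .nil))))) (.node 0xc38f050643e0ff (.node 0xa87a6315e260b3 (.node 0x93968cd1029892 (.node 0xb6cb1f2712c7ce (.node 0xc11a8d750e4d88 (.node 0x7c7d3a4c93c066 .nil .nil) (.node 0x1500b4c7e99d88 .nil .nil)) (.node 0x66ecbf70430559 (.node 0x469003fb7829df .nil .nil) (.node 0xe3ef8afd850e34 .nil .nil))) (.node 0x940ad214db56df (.node 0xcbeeb613f528dc (.node 0x6284a519596a6f .nil .nil) (.node 0xd77f52ee5bab48 .nil .nil)) (.node 0x8ab6e831faf171 (.node 0x2ee4625a275d84 .nil .nil) .nil))) (.node 0x1c156d4747c71f (.node 0xa1bab90501b977 (.node 0x9a5e6464048bef (.node 0x71a5123c9ec2e7 .nil .nil) (.node 0x52ccbd89b54c4 .nil .nil)) (.node 0x8a76cb813c7378 (.node 0x27687379ff79a7 .nil .nil) .nil)) (.node 0xc6a7438335abfa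 (.node 0xd08f262057039a (.node 0x46fd819b55edf3 .nil .nil) (.node 0xd4cf54bd90cf92 .nil .nil)) (.node 0x6db0cf51e21f75 (.node 0x20c4e32ba12e84 .nil .nil) .nil)))) (.node 0x8feb0ca11097d1 (.node 0x573439767b2346 (.node 0xa0168fe78cc6f6 (.node 0x874e3ad2d3f26b (.node 0x7699c4fc7440f1 .nil .nil) (.node 0x125c688789151 .nil .nil)) (.node 0xbdf317d1978a2b (.node 0x5705c07ac25dc9 .nil .nil) (.node 0xe91b9c0df8ec0e .nil .nil))) (.node 0xa9f7316581e82b (.node 0x3f5d95f5289684 (.node 0x24fc8d696e5d1e .nil .nil) (.node 0xd7f3508d439600 .nil .nil)) (.node 0xab02b0d1be665d (.node 0x341870eb05ae58 .nil .nil) .nil))) (.node 0x8ed650973e08da (.node 0x9a0ec5f5883887 (.node 0x1db92d13182efc (.node 0x65851b7cfa0660 .nil .nil) (.node 0x10712978a92453 .nil .nil)) (.node 0x2d157c76ff1b7c (.node 0x400de59abf6d0e .nil .nil) .nil)) (.node 0xb33abaa365ee08 (.node 0xb872c8a0a054af (.node 0x316435b9cab99c .nil .nil) (.node 0xe1f7776d828ce6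 .nil .nil)) (.node 0x6d9d61fc50dd90 (.node 0x1b01caabf7ef27 .nil .nil) .nil)))))) (.node 0x7f3f2955e68a29 (.node 0x7fc22995a69628 (.node 0xd151935a8e171 (.node 0x870dfc70e08d79 (.node 0x6893b17c5083b (.node 0xa8766354c57529 (.node 0x7018d9ec3e9feb .nil .nil) (.node 0x1f2d223c11aeb6 .nil .nil)) (.node 0xb7ea6520049356 (.node 0x414864ca03b9bf .nil .nil) (.node 0xe25b534e532cf9 .nil .nil))) (.node 0x34b03fb46b9aa5 (.node 0x2dedd1a415739c (.node 0x61296f4979b422 .nil .nil) (.node 0x12749ed8bf6454 .nil .nil)) (.node 0x6dbccf421c9f6f (.node 0x44240679c4f6b5 .nil .nil) .nil))) (.node 0x91b669465818fa (.node 0x7a614594bbc0a8 (.node 0x1ae5ca44f8af2c (.node 0x7aa146dc8b40b5 .nil .nil) (.node 0x6c93c381e0e79 .nil .nil)) (.node 0xbafe94517f1025 (.node 0x2c5da55b6974b4 .nil .nil) (.node 0xe637727d654dd6 .nil .nil))) (.node 0x4f280093901a29 (.node 0x69e94bd07dc58d (.node 0x4b25ba7989ce37 .nil .nil) (.node 0xd62fa49d60561a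 .nil .nil)) (.node 0xad92c78259edcf (.node 0x358c48c99975a7 .nil .nil) .nil)))) (.node 0x3bd43ca12d1c6d (.node 0xc7cf0fa6a923b9 (.node 0x19ad25b76486c4 (.node 0x9f0efb33b2e8a5 (.node 0x77e1ef5cc68112 .nil .nil) (.node 0x1848b857e15d43 .nil .nil)) (.node 0x3ea1a6118825fe (.node 0x4060072ad60b6c .nil .nil) (.node 0xde2b927e61b7ab .nil .nil))) (.node 0x40ec088284d716 (.node 0xafc63e2551f89a (.node 0x5b94d4b94b1a91 .nil .nil) (.node 0xd573489e80f548 .nil .nil)) (.node 0x9dfadd426e2bee (.node 0x2da82cb99b14cc .nil .nil) .nil))) (.node 0x7d5a56c78186a5 (.node 0x28c1b5545ef3cc (.node 0xc75f15237badb9 (.node 0x14bcb3f7e6857d .nil .nil) (.node 0xc85f06842cf93 .nil .nil)) (.node 0xbc9f45c6d21b12 (.node 0x576439facad0ac .nil .nil) .nil)) (.node 0x24a0891554af6e (.node 0xcfd728a01684d6 (.node 0x2e2dd229842bd3 .nil .nil) (.node 0xe59f72ad658e31 .nil .nil)) (.node 0x6bf49cac3b9fc5 (.node 0x2669e97bc56f12 .nil .nil)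 .nil))))) (.node 0xd19192644e20b (.node 0xaa07d95fc5cbc (.node 0x88f666d0d44b47 (.node 0x167d03d728c75e (.node 0xa58ec66347f87b (.node 0x7394f9dc85c293 .nil .nil) (.node 0x144d4da7f25c50 .nil .nil)) (.node 0x9cef35c086d44c (.node 0x3db5d54a566d3f .nil .nil) (.node 0xe3135f2d921571 .nil .nil))) (.node 0x3b7dc1739d33ee (.node 0x8675f95442f2c8 (.node 0x59b15189419973 .nil .nil) (.node 0xd39f709d3cce48 .nil .nil)) (.node 0xa6befec239e927 (.node 0x4f4c00ea88a5f9 .nil .nil) .nil))) (.node 0x8d6e4a779c4944 (.node 0x73a908453c80c1 (.node 0x8a52cba575737a (.node 0x67d8b66d1b0649 .nil .nil) (.node 0x3890798869631 .nil .nil)) (.node 0x29143e56b0dad1 (.node 0x299d831a0165c1 .nil .nil) .nil)) (.node 0x3d0c31444cb3ef (.node 0xce1a550098841d (.node 0x47cc596a7579f7 .nil .nil) (.node 0xdb874a9e88f55d .nil .nil)) (.node 0x9bcb1c922667ef (.node 0x226cd3dbb57021 .nil .nil) .nil)))) (.node 0x806653b117845e (.node 0xcbaae7d684e329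 (.node 0x7521646304c1fb (.node 0x78e991130b41de (.node 0x763c1e8cc9422b .nil .nil) (.node 0xacc7df86612f3 .nil .nil)) (.node 0x8a72cb51563372 (.node 0x55cd76aaf4e5fc .nil .nil) (.node 0xe8aba06dfe69d4 .nil .nil))) (.node 0x3bdc3c54d39999 (.node 0xb71a0fa4aaea7c (.node 0x5e91cc396159ed .nil .nil) (.node 0xd56f622e112d3a .nil .nil)) (.node 0x6c953cb243a04a (.node 0x38eda22a9c2825 .nil .nil) .nil))) (.node 0x815eede727c87a (.node 0x63312ef427713e (.node 0xc1128db4e98ad9 (.node 0x6009ea290833b1 .nil .nil) (.node 0x11bd3e98cce430 .nil .nil)) (.node 0xcabe88d6cb5be7 (.node 0x3b544c4a492986 .nil .nil) .nil)) (.node 0x490979551c996b (.node 0x6a48b280228506 (.node 0x5144648b14d2e3 .nil .nil) (.node 0xe183891e733765 .nil .nil)) (.node 0x6f510f6c339f49 (.node 0x24d0894be5af65 .nil .nil) .nil))))))) (.node 0x9d02d9c5ce207b (.node 0x11e93185eb223b (.node 0x35106e6265df4 (.node 0x8f922c41d45791 (.node 0x880714d1288baf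 (.node 0x1e1c9fa7cb8823 (.node 0x5c718ce4c6714c (.node 0x6df4cfdc2cdce9 .nil .nil) (.node 0x22ccd6cbbc6ec1 .nil .nil)) (.node 0x6870ff50080627 (.node 0x2e61aa6a0f35a1 .nil .nil) (.node 0xe0bb637e416755 .nil .nil))) (.node 0xbea234b2750c56 (.node 0x9deadda29992cd (.node 0x5c347a88f22d25 .nil .nil) (.node 0xecd10c8d16442 .nil .nil)) (.node 0xccf31137065ade (.node 0x3a49de2b6534fb .nil .nil) .nil))) (.node 0x92da74565256ba (.node 0xb6db1f53532d73 (.node 0xc02ea0c4871147 (.node 0x3acfd588d42a7 .nil .nil) (.node 0x3e8fe588e0d15 .nil .nil)) (.node 0x84062ab1763259 (.node 0x2761849b30a9b8 .nil .nil) (.node 0xe7f780fd2e4df0 .nil .nil))) (.node 0xbae6941481d43d (.node 0xcc1a2fc2e2ec0a (.node 0x37986b39d52448 .nil .nil) (.node 0xdb9f961daad214 .nil .nil)) (.node 0x705133225d9fa6 (.node 0x4be1bf5b8c1d24 .nil .nil) .nil)))) (.node 0xc49323661fa0a4 (.node 0x900f0cd6acd7c5 (.node 0xaf86a7c774c9b9 (.node 0xa90a1183bb75fa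 (.node 0x755564ec6f8204 .nil .nil) (.node 0x13d4ab27ee1e46 .nil .nil)) (.node 0xa2a63f30731434 (.node 0x4480358af214cb .nil .nil) (.node 0xe283576d9a0bb4 .nil .nil))) (.node 0xbe5b1394318a8b (.node 0x1fccaf6548ae9e (.node 0x5a54e2293766e3 .nil .nil) (.node 0xdaef6b2de7e7ed .nil .nil)) (.node 0xaa429ad1a4aa62 (.node 0x5085e4fb7fcab8 .nil .nil) .nil))) (.node 0x17414a67820691 (.node 0xa77a1e32c5cabd (.node 0x865df9040bb2c9 (.node 0x69d8a9dd0d05b2 .nil .nil) (.node 0xb55661870dab1 .nil .nil)) (.node 0x55fd7196ec1c08 (.node 0x2819b17a5c52e1 .nil .nil) .nil)) (.node 0x992240852e3a4d (.node 0xb876c840bb5184 (.node 0x3289c3fb3e6abc .nil .nil) (.node 0xe0d7815e72b83a .nil .nil)) (.node 0x8dc2ea2214b0a7 (.node 0x25356b7becaf8a .nil .nil) .nil))))) (.node 0x5b40d4364be1ec (.node 0xc556eb95dde0ca (.node 0x9079f781089878 (.node 0x84e5ff50344890 (.node 0x1dc12d72f1eefe (.node 0x7258c63ca84321 .nil .nil) (.node 0x17e54227dd5ea6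 .nil .nil)) (.node 0xd10252c04a83d1 (.node 0x42ad952b22f75b .nil .nil) (.node 0xe3df76ed20d58b .nil .nil))) (.node 0xb5c71a532c4a6f (.node 0x5100636560b19f (.node 0x63ad54b927e9b1 .nil .nil) (.node 0xd5fb526e85f6e1 .nil .nil)) (.node 0x6e69271230e03b (.node 0x339ddfcaa2243a .nil .nil) .nil))) (.node 0xd9c597410737 (.node 0xabfe8af3ab1174 (.node 0x5299d0356c5a5c (.node 0x68b8ffbce00621 .nil .nil) (.node 0x74538c82659dd .nil .nil)) (.node 0xc1be7791500cda (.node 0x58dc93cb2a23e0 .nil .nil) .nil)) (.node 0xac1a5822a37a59 (.node 0x67a0b5e091463c (.node 0x36746fea1a9ea2 .nil .nil) (.node 0xd52b915d334cfc .nil .nil)) (.node 0xaee218e1ed66a2 (.node 0x1f7cdfcc1b7059 .nil .nil) .nil)))) (.node 0x821ec360fb4c2d (.node 0x8f63166676d7f4 (.node 0x8c9320075548f5 (.node 0x9d26da72cd2955 (.node 0x7735c7ac7300e6 .nil .nil) (.node 0xcf41cd84a197a .nil .nil)) (.node 0x402806d15a2481 (.node 0x28644a7a66f533 .nil .nil)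 (.node 0xe9dfa5be082a0a .nil .nil))) (.node 0xbf5a03f3e0d1d8 (.node 0x90d3381524d757 (.node 0x61f18a68feda67 .nil .nil) (.node 0xd52f958e192e52 .nil .nil)) (.node 0xa55a82b2536b39 (.node 0x48c0616a91f8a0 .nil .nil) .nil))) (.node 0x17a54107a6479d (.node 0xa0a2f493eb0d07 (.node 0xb952f0a4ef370b (.node 0x68410cbce54519 .nil .nil) (.node 0xe14db68bae466 .nil .nil)) (.node 0xbd1e2db6c09ba4 (.node 0x4519ad5aeaeb0c .nil .nil) .nil)) (.node 0xabd68302e37a04 (.node 0x9c5ae42031d0d9 (.node 0x32083c19e6654a .nil .nil) (.node 0xdda3a78e272b0e .nil .nil)) (.node 0x6b8d18ec23a00e (.node 0x26d80e8bccaff5 .nil .nil) .nil)))))) (.node 0x98eeffc5b8219c (.node 0xa7621e659e21d2 (.node 0x7d364955b08c26 (.node 0x3ca1dc40f11e4c (.node 0x8ec651571ac7d6 (.node 0xa95f320514790e (.node 0x715d156c95803d .nil .nil) (.node 0x21151ecbabb062 .nil .nil)) (.node 0xaddeacf0cd54de (.node 0x3cb1dcf9a68c84 .nil .nil) (.node 0xe1cf8f1e3b2df0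 .nil .nil))) (.node 0x9b5e1cf4e476cb (.node 0x82fa60a3f971f0 (.node 0x1dad2b79145ee7 .nil .nil) (.node 0x101163a8ada465 .nil .nil)) (.node 0xb1f63fb219a70b (.node 0x41dda8e9ec7669 .nil .nil) .nil))) (.node 0xca1aca8661a386 (.node 0x28883d5038473 (.node 0x8fbe2d54f317a0 (.node 0x7bd4f05ca64023 .nil .nil) (.node 0x5a4c7c8a61a38 .nil .nil)) (.node 0x3a98328140e54b (.node 0x2c205e2b6f1d22 .nil .nil) (.node 0xe67f707d3c126c .nil .nil))) (.node 0x9f7279033b76bc (.node 0xa63afde078d528 (.node 0x34ec407b912758 .nil .nil) (.node 0xd8577e5d6792f1 .nil .nil)) (.node 0xb30672d1b96820 (.node 0x491179d9daf680 .nil .nil) .nil)))) (.node 0x4bb1be30d8de94 (.node 0x8bea4f317922e8 (.node 0x7fe72b4793c70f (.node 0x49cc90e452d980 (.node 0x76cc144c7d8265 .nil .nil) (.node 0x14a55767e55d3f .nil .nil)) (.node 0x883f14a18fb2a5 (.node 0x533c9baa37ae67 .nil .nil) (.node 0xe3af8b3de0686e .nil .nil))) (.node 0x81a67d057b7181 (.node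 0xbe063973d3ce86 (.node 0x63652fc920f465 .nil .nil) (.node 0xd96f507e8d34bf .nil .nil)) (.node 0x6ecccc61c25f60 (.node 0x32e44ddb564bbb .nil .nil) .nil))) (.node 0xb1565e073608cf (.node 0x842b10e58d32b4 (.node 0xb62699031cfa2c (.node 0x68f9032cef0611 .nil .nil) (.node 0x19016588299aa .nil .nil)) (.node 0xc97ec2e6c41b51 (.node 0x53957e4a4ece9b .nil .nil) .nil)) (.node 0xabf68ba36d3941 (.node 0x6874ff60a40626 (.node 0x4ff80c3b9af5d2 .nil .nil) (.node 0xe19b774d61155a .nil .nil)) (.node 0x6fc5585c405cd0 (.node 0x1b6c216bff6fca .nil .nil) .nil))))) (.node 0xa2baf6459a6131 (.node 0x811b0135c9d37c (.node 0x4c6973769f62cd (.node 0x81130127330777 (.node 0xbeae34a340d4b6 (.node 0x7b6cfd3cbc007c .nil .nil) (.node 0x1710c1d7d39d51 .nil .nil)) (.node 0x6878ff10630628 (.node 0x45cdb44a38ddc8 .nil .nil) (.node 0xe2d370bd3c92f7 .nil .nil))) (.node 0xb9ca8a739b36c0 (.node 0xc7c30f043ee81b (.node 0x5934b1793c7416 .nil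 .nil) (.node 0xd8e7852d2d9478 .nil .nil)) (.node 0x8b572e11d7b121 (.node 0x2f3d998b0124e6 .nil .nil) .nil))) (.node 0xb80a84c797c93a (.node 0x20f91e1542b06d (.node 0xcbcab622902a19 (.node 0x6a60b31d06c513 .nil .nil) (.node 0x8cd0b38344a65 .nil .nil)) (.node 0xbb9edf870fdc1c (.node 0x2ba99dd9b2a555 .nil .nil) .nil)) (.node 0x8a42cbc448f379 (.node 0xb76f30d0395511 (.node 0x485da0ca78cf67 .nil .nil) (.node 0xd77b52ce0ca856 .nil .nil)) (.node 0x6e652722036035 (.node 0x1e052ddc0daefb .nil .nil) .nil)))) (.node 0x2c4da4f0e59ccc (.node 0xc68b43968a631b (.node 0x2575eb72fe6f3f (.node 0x49947037c84a5 (.node 0x78a8863c60814b .nil .nil) (.node 0x33590085eda3b .nil .nil)) (.node 0xbcf602216acbc4 (.node 0x54945c89b84f36 .nil .nil) (.node 0xe85fa44dc36b17 .nil .nil))) (.node 0x86e9fca4d032e7 (.node 0x46c180d357744a (.node 0x60500f79132876 .nil .nil) (.node 0xd61f48be486b07 .nil .nil)) (.node 0x8d472c5240b0f1 (.node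 0x4a4975aa2078c9 .nil .nil) .nil))) (.node 0xa39e17c71e4866 (.node 0x8232c3342471ab (.node 0x1bb08c5490af7f (.node 0x5dcdcf5904edfb .nil .nil) (.node 0xd90c4e8dfa5a8 .nil .nil)) (.node 0x516d9706dadbc0 (.node 0x436c289a7338c4 .nil .nil) .nil)) (.node 0xa99610b51a778f (.node 0xce1e55b01cc41e (.node 0x3135e1ea85774b .nil .nil) (.node 0xe06b8bfe6c7825 .nil .nil)) (.node 0xd68c3f8de203c (.node 0x1d3988abdd6fb7 .nil .nil) .nil))))))))

/-- Part of `setTab`. -/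
noncomputable def setTab_r_r_l_l_r : Arr ℕ :=
  (.node 0xc44e4d660d2267 (.node 0xc41efa5cc1ee4 (.node 0x9d06da35f220d9 (.node 0xae7f370623a142 (.node 0x7f7e0a6630d0cc (.node 0x51699771265f0c (.node 0x80c646f7bdc812 (.node 0xa88262c4a0b63a (.node 0x7099339c249e39 .nil .nil) (.node 0x23255c4c03b002 .nil .nil)) (.node 0x9aba9830ad9047 (.node 0x51a9982a119dff .nil .nil) (.node 0xe3c7920dad4c1a .nil .nil))) (.node 0x1bb48bf2722f7d (.node 0x2c3da4d29818dc (.node 0x61647768f6ee1d .nil .nil) (.node 0xd2d19f8b6e443 .nil .nil)) (.node 0x4ec035c7049aeb (.node 0x4601d72b6136f8 .nil .nil) .nil))) (.node 0xc98ac4d697e35f (.node 0x410008b350d99d (.node 0x2169522484aeae (.node 0x72bd433cb282d1 .nil .nil) (.node 0x450bbf8315290 .nil .nil)) (.node 0xbc3347f171945c (.node 0x2a2c72a9faa6fd .nil .nil) (.node 0xe7a76ccd360fbc .nil .nil))) (.node 0x1f5cdf347eb05d (.node 0x38f85e92ddf31f (.node 0x375869b9d3f9e8 .nil .nil)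 (.node 0xdb279fcd3f4c49 .nil .nil)) (.node 0xa6febf71cceb19 (.node 0x474498ab4c7787 .nil .nil) .nil)))) (.node 0xde4daa61ae09b (.node 0xcbc6b6669ce2e5 (.node 0x2e18fd77149a6 (.node 0xb0a68e3530d175 (.node 0x74487fccd3819d .nil .nil) (.node 0x16b904d817dc64 .nil .nil)) (.node 0x6864ff20700623 (.node 0x3be83ceaee4d1e .nil .nil) (.node 0xe1274cad26507b .nil .nil))) (.node 0x1ae1ca642eaf2e (.node 0xa12ef982bb3828 (.node 0x6438af192fd9bc .nil .nil) (.node 0xdb6f60de40ecb7 .nil .nil)) (.node 0x8c2706b1aa30b4 (.node 0x318dbbb9ce0de8 .nil .nil) .nil))) (.node 0xa4fa9f275a096c (.node 0x4f140062c4172c (.node 0xcdc5ff74142c8e (.node 0x6614e6bcf445d0 .nil .nil) (.node 0xa0c81f8500b16 .nil .nil)) (.node 0xbe0a3906d81b42 (.node 0x57c5b8ca600fe9 .nil .nil) .nil)) (.node 0xa9cb31a3c175c5 (.node 0xb0ba8e90c18e7e (.node 0x4cad744b10d421 .nil .nil) (.node 0xe3ff5f8e7537b1 .nil .nil)) (.node 0x6db8cf620f9f74 (.node 0x2400792bd26f42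 .nil .nil) .nil))))) (.node 0x8176ed663a9254 (.node 0x12b8f3d5d960c0 (.node 0x7e6a072104038e (.node 0x7f5a0987b188ae (.node 0xa95b32b2fb78e3 (.node 0x7c08ecfcaf833c .nil .nil) (.node 0x192cde58049d70 .nil .nil)) (.node 0xcf020630444482 (.node 0x3ae0333b7ca91f .nil .nil) (.node 0xde07636d9dcb02 .nil .nil))) (.node 0x4f2c00832ab3b9 (.node 0x9a3e63e56ab4f9 (.node 0x5bd4d88956e97c .nil .nil) (.node 0xdbaf90be99f5b5 .nil .nil)) (.node 0x9f16fb61f36ddc (.node 0x30902f3a8b79b0 .nil .nil) .nil))) (.node 0xb7869947488734 (.node 0x4e0844d3aa59b7 (.node 0xb2a6d663fff940 (.node 0x7cd536dc9a4307 .nil .nil) (.node 0x790f21896d4dd .nil .nil)) (.node 0x3f0453114c63fd (.node 0x27ac744b26a429 .nil .nil) .nil)) (.node 0xa572c612af36ef (.node 0xd10a539050c3d2 (.node 0x4a0c919a196e02 .nil .nil) (.node 0xd8bb628da190d4 .nil .nil)) (.node 0xb7260fe1e6acc5 (.node 0x2008b04ba52e94 .nil .nil) .nil)))) (.node 0x422051d0f95f3d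 (.node 0xc75b15567f6350 (.node 0x19b52557528902 (.node 0x4da9b272caf3a8 (.node 0xc9c1ba84980d3 .nil .nil) (.node 0xb99c958741169 .nil .nil)) (.node 0x899eca119c31b2 (.node 0x5820428a691e30 .nil .nil) (.node 0xe983835de16d89 .nil .nil))) (.node 0x9e48083dc040a (.node 0xa856e5f52a5377 (.node 0x60d88e796eda1c .nil .nil) (.node 0xdbc7871d950c65 .nil .nil)) (.node 0x6c913c4250a049 (.node 0x4c508fbb096817 .nil .nil) .nil))) (.node 0x8c8f20c7a247a3 (.node 0x43302773ea320e (.node 0xba5e75b31ad51a (.node 0x6afd561d01c66b .nil .nil) (.node 0xfacd148e8e53e .nil .nil)) (.node 0xcc770ba7005b6c (.node 0x3c59bd2ae538a1 .nil .nil) .nil)) (.node 0xa68afe52ef3682 (.node 0x6868fef02f0625 (.node 0x4ee03659e264cb .nil .nil) (.node 0xdde7a12e05e972 .nil .nil)) (.node 0x70e0f37c581f10 (.node 0x258dec3bf3ef37 .nil .nil) .nil)))))) (.node 0x6440e415b5e193 (.node 0x90220181f49719 (.node 0xc3c65215ada17f (.node 0x973f08611717e4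 (.node 0x8c0706d7c8883e (.node 0xab92c702f03a19 (.node 0x6c55315c469fb4 .nil .nil) (.node 0x21a1532c15aea6 .nil .nil)) (.node 0x686cff00cb0624 (.node 0x417c660a05646a .nil .nil) (.node 0xe26f4b6dd06721 .nil .nil))) (.node 0xc7db0f34702dd9 (.node 0xc88668441a6b76 (.node 0x5ac15dc91b7424 .nil .nil) (.node 0xe795a18dba53d .nil .nil)) (.node 0x9b8a1d422068bf (.node 0x3f799699f0f66d .nil .nil) .nil))) (.node 0x53bc55065de381 (.node 0x9b3f3314bd2a4a (.node 0xbd1a2e44fb1316 (.node 0x73c109bc8e80ca .nil .nil) (.node 0x5f51778198e60 .nil .nil)) (.node 0x899aca018271b8 (.node 0x54519f3b6b1e61 .nil .nil) (.node 0xe74f610daf4ea3 .nil .nil))) (.node 0x9aea131392104e (.node 0xb72a100080d2f5 (.node 0x4b94380b95ede5 .nil .nil) (.node 0xda1b74cdde2980 .nil .nil)) (.node 0x6b0cc2c1b56003 (.node 0x4aa044099535a2 .nil .nil) .nil)))) (.node 0x841310212f511e (.node 0x944a764670d8b2 (.node 0x8c5623676786b8 (.node 0x88de66b45b7301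 (.node 0x75a1f22cc08133 .nil .nil) (.node 0x15e501980e5d5b .nil .nil)) (.node 0xc17ad3718c53e1 (.node 0x2cf09a3a30e90d .nil .nil) (.node 0xdc7b540d901125 .nil .nil))) (.node 0xa7cb1da287699c (.node 0x2571eb53d0af3d (.node 0x5b056089242ce3 .nil .nil) (.node 0xd24f7a1e9c76a3 .nil .nil)) (.node 0xa862e5a26869ea (.node 0x526c2ae99f54e5 .nil .nil) .nil))) (.node 0x1fb8afa73588be (.node 0xb7de656461aa17 (.node 0x8551fa6372f2f6 (.node 0x6a194c1d0ac595 .nil .nil) (.node 0x39f3383e4fad .nil .nil)) (.node 0x42859436c35b67 (.node 0x2d417caa4a8eb5 .nil .nil) .nil)) (.node 0xbd2e2e155790cb (.node 0x9842c010108f4b (.node 0x52c9d099859f32 .nil .nil) (.node 0xe54382cd4f8d9a .nil .nil)) (.node 0xfdd57c8acdfd0 (.node 0x1a65ce6bc16f02 .nil .nil) .nil))))) (.node 0xc2924f6649a20d (.node 0xb252907600221d (.node 0x96ea33f13617b5 (.node 0x9bb31cc72b4760 (.node 0x24a488b33e2f6c (.node 0x733cbd3cba808a .nil .nil) (.node 0x19e125f7fb5c68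 .nil .nil)) (.node 0xa14ef9208cceff (.node 0x42f5d47a59b605 .nil .nil) (.node 0xdd0b93ae15edc0 .nil .nil))) (.node 0xc68343d3a1e97a (.node 0x752564043b01f9 (.node 0x64cd2059477471 .nil .nil) (.node 0xd48f7cfdacd33a .nil .nil)) (.node 0x6db4cf71d51f6e (.node 0x30c8300a8ce5e7 .nil .nil) .nil))) (.node 0x1669041794c938 (.node 0xb8eaf3053e6db7 (.node 0x46a580b28b727d (.node 0x6538dcbcffc4f4 .nil .nil) (.node 0x93544d88b1619 .nil .nil)) (.node 0xcb726166b39ac4 (.node 0x5505a3f9ae2567 .nil .nil) .nil)) (.node 0xa43a13d44e0f38 (.node 0x67bcb5f0364643 (.node 0x48085a3ab6e4d9 .nil .nil) (.node 0xda83986d4ed387 .nil .nil)) (.node 0x8eea50f22c7081 (.node 0x1e60a0cbb17031 .nil .nil) .nil)))) (.node 0x9152a0711d1692 (.node 0x3039e25687e30f (.node 0x987e7c73066943 (.node 0xaafab0830d2b63 (.node 0x74e87c4c668162 .nil .nil) (.node 0x1f087a86192db .nil .nil)) (.node 0x3bd03c616765f8 (.node 0x2add787af86449 .nil .nil)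 (.node 0xe80b74edf4a636 .nil .nil))) (.node 0x982ebfe4d4cf9f (.node 0xa116f9a4b3368a (.node 0x5f51ed495d5a4e .nil .nil) (.node 0xd4d369de1ee762 .nil .nil)) (.node 0xaa82661248e63b (.node 0x47c99c0aa06814 .nil .nil) .nil))) (.node 0x84562e8054885c (.node 0xcb6a61d42ca944 (.node 0xb642b25499b8b5 (.node 0x1b382089025dde .nil .nil) (.node 0xf30ce58c525a9 .nil .nil)) (.node 0xc0466ad6f6dafa (.node 0x3df02a1a6ef8c8 .nil .nil) .nil)) (.node 0xa28e3f051e4c3a (.node 0xb9fa8a3025141d (.node 0x4fc1da6a7fab21 .nil .nil) (.node 0xde739f5e74b966 .nil .nil)) (.node 0x6ef4cccc4f1f58 (.node 0x1bfc8c9be1af75 .nil .nil) .nil))))))) (.node 0x80472765f994eb (.node 0xc5df2125efa245 (.node 0xafb63d9628214f (.node 0xa692fee63621be (.node 0x39c895b0de9e1e (.node 0xa096f4e7cd8837 (.node 0xb2bed674c9ee6a (.node 0x6e8d27dc56a02c .nil .nil) (.node 0x1ed0a3cbb86ed1 .nil .nil)) (.node 0xd14e45900943b2 (.node 0x3f20539a0af5e1 .nil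 .nil) (.node 0xe44789adb8961e .nil .nil))) (.node 0x97f3123472d816 (.node 0x89c685741e7350 (.node 0x5d796ca97cda30 .nil .nil) (.node 0x1150eb08c9a597 .nil .nil)) (.node 0xbc8745b6bb5c35 (.node 0x3d103249c0b6b1 .nil .nil) .nil))) (.node 0x8c3223519362b3 (.node 0xb14a5e24b97515 (.node 0x9556ddf48bd67d (.node 0x7ae1068cb7c2bb .nil .nil) (.node 0x9a4be98928cfb .nil .nil)) (.node 0x3d61d4c17a6556 (.node 0x5879713b337821 .nil .nil) (.node 0xe653657d638ebd .nil .nil))) (.node 0x94c6a8338b564c (.node 0xadaaaca2dbf63e (.node 0x35edb02991549a .nil .nil) (.node 0xd8df79ae9635a5 .nil .nil)) (.node 0x8cf60d92627115 (.node 0x3529b7eb8a761c .nil .nil) .nil)))) (.node 0x7e07032618cba8 (.node 0x43a1d7f6a423b1 (.node 0x9fc6d0a76ec6e7 (.node 0x344986d3b09987 (.node 0x7939921c6981dd .nil .nil) (.node 0x1988e7a7f71e2e .nil .nil)) (.node 0x98d644706b95d5 (.node 0x412c08cad2c9ec .nil .nil) (.node 0xe18b88fd62cc4e .nil .nil)))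 (.node 0x9c7a19c28237c7 (.node 0xba86d5054b8c8b (.node 0x625ca2094f5a35 .nil .nil) (.node 0xda1f8e1e31e845 .nil .nil)) (.node 0x705533726a9fa9 (.node 0x3079e37b844c37 .nil .nil) .nil))) (.node 0xb2ee7337840696 (.node 0xb08e8ef46935da (.node 0x5d296b837670cb (.node 0x667d24ecf1459a .nil .nil) (.node 0x26993586c5a99 .nil .nil)) (.node 0xcd7dfed6eedbfd (.node 0x29503ebaced094 .nil .nil) .nil)) (.node 0x95f73be55bd73a (.node 0x6510dbe01544ed (.node 0x4de5b30b452a79 .nil .nil) (.node 0xe45356ae707733 .nil .nil)) (.node 0x9912ff320d6752 (.node 0x1c696e5be8af9a .nil .nil) .nil))))) (.node 0x992640d64ea1f2 (.node 0xb62eb236052226 (.node 0x27158390d19e1c (.node 0xa76e1dc7b4c89e (.node 0xba567562f492e7 (.node 0x7a30b9dc800283 .nil .nil) (.node 0x15790e180a5e8e .nil .nil)) (.node 0x66f0bf80840552 (.node 0x3ee9a77b2029ed .nil .nil) (.node 0xe1ab5f0e7db7e9 .nil .nil))) (.node 0x98aa44e327f89f (.node 0xcde9ffd5652644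 (.node 0x59e122f92e2841 .nil .nil) (.node 0xdae3742e93752b .nil .nil)) (.node 0xb1b2fac2342a0d (.node 0x4d65dbaaa6a402 .nil .nil) .nil))) (.node 0xb322ba67424747 (.node 0x86f9fcd3a632e8 (.node 0xa92611956fac7b (.node 0x16c4b587d00633 .nil .nil) (.node 0x679142821d9f5 .nil .nil)) (.node 0x87663a4148f265 (.node 0x56317269fd25d3 .nil .nil) .nil)) (.node 0x974f0842a617e5 (.node 0x9b8e1ca0928ad0 (.node 0x39445f6ab19d41 .nil .nil) (.node 0xd903700d664d31 .nil .nil)) (.node 0x6e6d26f223e034 (.node 0x21e0acdc1f7049 .nil .nil) .nil)))) (.node 0x961df740f05832 (.node 0x495c6896806322 (.node 0x7ed32577518915 (.node 0x8665f9631332c7 (.node 0x78441afccf421e .nil .nil) (.node 0xc81fe8459992 .nil .nil)) (.node 0xba3ab7d15d4f59 (.node 0x2a346ceade79d9 .nil .nil) (.node 0xe93b557dce6ca3 .nil .nil))) (.node 0x9131f483d79848 (.node 0x5285d004a8587e (.node 0x5c858df8fd2958 .nil .nil) (.node 0xdbc37dcd3e51e3 .nil .nil))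 (.node 0x8d8a49f24df146 (.node 0x3888592a97acea .nil .nil) .nil))) (.node 0xa6a6fe77a9c799 (.node 0xb8caf363e7b546 (.node 0x223cd2c4e6b02e (.node 0x67893fed1d0536 .nil .nil) (.node 0x12093238d7252b .nil .nil)) (.node 0x3bcc3cb6c91bf2 (.node 0x4578470a44e974 .nil .nil) .nil)) (.node 0x9506d832e59923 (.node 0xcf5a25b02a049f (.node 0x2f8c4ecb1b4aa1 .nil .nil) (.node 0xdd1f9dbe326bb0 .nil .nil)) (.node 0x6d18ea1c4be051 (.node 0x1ac4255bc8afe5 .nil .nil) .nil)))))) (.node 0x119d3df5bb2183 (.node 0xf20cdd63f60fd (.node 0x5f01eca5dfe0a9 (.node 0x82c29560f40a7b (.node 0x15310d071087c7 (.node 0x2234d2650b702c (.node 0x54cc738a38051 .nil .nil) (.node 0x20494febafb072 .nil .nil)) (.node 0x9c1ab310c74c35 (.node 0x43e1d889a84f66 .nil .nil) (.node 0xdddf5a3d7c5015 .nil .nil))) (.node 0xb5e26483297a31 (.node 0x4ff00be3f0b46b (.node 0x62e92ca917ab99 .nil .nil) (.node 0x10dca7c8ed652c .nil .nil)) (.node 0x6e612701f6603a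 (.node 0x51e4504a2df615 .nil .nil) .nil))) (.node 0x8f1e3126645765 (.node 0xbf4a0445078d08 (.node 0x47899bc402f44c (.node 0x720cca4ca10010 .nil .nil) (.node 0x818ee38a19a50 .nil .nil)) (.node 0xbd362d9144d5e5 (.node 0x53d455fb75f6d5 .nil .nil) (.node 0xe7c76a8d930f6f .nil .nil))) (.node 0x4afdb9b330739a (.node 0x69f54bc056c586 (.node 0x398d806b507910 .nil .nil) (.node 0xdbef4aae25ead7 .nil .nil)) (.node 0xa702bf11b326d5 (.node 0x37257b29df367b .nil .nil) .nil)))) (.node 0x84ef3db0da1523 (.node 0x9512d7a66a9914 (.node 0x8332e0d02dc6f1 (.node 0xb1f2404455ac6a (.node 0x7784185c78024c .nil .nil) (.node 0x18b91d38005d57 .nil .nil)) (.node 0x3c95dc7193a468 (.node 0x28d9b63ac83792 .nil .nil) (.node 0xe58f5d2da694ae .nil .nil))) (.node 0x72e4bc757fc08e (.node 0xa4ba6d03cd375c (.node 0x5d088b3976f3f5 .nil .nil) (.node 0xd81b61bda2cf60 .nil .nil)) (.node 0x8d4b2c11c5f0f0 (.node 0x4e30459b5a4ba1 .nil .nil) .nil)))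 (.node 0x3b0fd973b48d7 (.node 0xb66a1ff276fa71 (.node 0xb95ef03321b818 (.node 0x66a149dd1605fb .nil .nil) (.node 0xc2c19687e19c2 .nil .nil)) (.node 0xc14ed2f6fc9b8d (.node 0x40d5e71aba6dc5 .nil .nil) .nil)) (.node 0x37cd9a5363d6b4 (.node 0xce5e4840a5c438 (.node 0x2ff00a9b9eb54a .nil .nil) (.node 0xdd736f6e3029ba .nil .nil)) (.node 0x6e54a6dc285d4b (.node 0x25f0112bfb6fda .nil .nil) .nil))))) (.node 0x6913b05901e3d (.node 0x94a2a8224f9641 (.node 0xcd174006a362cf (.node 0x25d410c777c98f (.node 0x97df122536d814 (.node 0x799c830cd64173 .nil .nil) (.node 0x164cf818129d39 .nil .nil)) (.node 0xb1befaf065cbb6 (.node 0x3b583c3a3cf9a8 .nil .nil) (.node 0xe42b9ebdd8287d .nil .nil))) (.node 0x78ed917434c1e0 (.node 0x97cbe12b084d9 (.node 0x1f4cdf093cdeb6 .nil .nil) (.node 0xd31f6d8e38a784 .nil .nil)) (.node 0xacd25a41e02bdf (.node 0x50d1abcafce4f8 .nil .nil) .nil))) (.node 0x806a548763097f (.node 0xbb4ed8c5450fa0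 (.node 0x822ac3529431a1 (.node 0x6944f68ceac575 .nil .nil) (.node 0x4c1487838ca7e .nil .nil)) (.node 0x4091e6f6e69bdd (.node 0x55546cbadd95f2 .nil .nil) .nil)) (.node 0x62c92be3c2f0be (.node 0x9f1efb103f5090 (.node 0x37ed9b4a7d0cd1 .nil .nil) (.node 0xdad34e9d7b90f0 .nil .nil)) (.node 0xab461f8206686b (.node 0x23995edc09aeeb .nil .nil) .nil)))) (.node 0x818a7d80e6cb61 (.node 0x8fce2d168f9794 (.node 0xbd4b0de3011563 (.node 0xba62759380946e (.node 0x79dd8f4cdcc1b2 .nil .nil) (.node 0xa8969585a5a53 .nil .nil)) (.node 0x84df0a31627291 (.node 0x2b485729ba160b .nil .nil) (.node 0xe8f77b1dcced9a .nil .nil))) (.node 0x7b2cfc44788073 (.node 0xc84ee1835beaf2 (.node 0x5e2826690e7470 .nil .nil) (.node 0xd2d7a14d764acb .nil .nil)) (.node 0x6ec8cbf1cf5f5f (.node 0x36cd860a24b8c5 .nil .nil) .nil))) (.node 0x193ce747be87fa (.node 0xa79e1ec276ba78 (.node 0xbd222e24934ea1 (.node 0x5ec022e96b6a1b .nil .nil) (.node 0x135d3588b26431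 .nil .nil)) (.node 0xc872e1d6dc9bb2 (.node 0x426c520b3ceaca .nil .nil) .nil)) (.node 0x2bec5d24a2d9b5 (.node 0x6a54b2d0b18509 (.node 0x33342e5aab776c .nil .nil) (.node 0xdf93512d6c133f .nil .nil)) (.node 0x6ccd3d9c34dee3 (.node 0x24658c1bd96fa7 .nil .nil) .nil))))))))

/-- Part of `setTab`. -/
noncomputable def setTab_r_r_l_l : Arr ℕ :=
  .node 0xa83ae57610a270 setTab_r_r_l_l_l setTab_r_r_l_l_r

/-- Part of `setTab`. -/
noncomputable def setTab_r_r_l_r_l : Arr ℕ :=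
  (.node 0xa4e69e860b2260 (.node 0xc5024b25d7a071 (.node 0xd211915f0a0d2 (.node 0x12ccf40621213b (.node 0x59c522862da1a5 (.node 0x82be94f1208d92 (.node 0x14d4b447b8081f (.node 0x47d459e49c18af (.node 0x706133fc275f9f .nil .nil) (.node 0x1d8d2acc04f013 .nil .nil)) (.node 0x6508dc40aac4ef (.node 0x4cf002eab04bd1 .nil .nil) (.node 0xe1a389de312909 .nil .nil))) (.node 0xbf4e04527b5050 (.node 0x9d1eda929f4bbd (.node 0x618077a8f87443 .nil .nil) (.node 0x12fcf508e589df .nil .nil)) (.node 0xcb3e9616e31b25 (.node 0x3e50672b381622 .nil .nil) .nil))) (.node 0x903b3af694171c (.node 0xac86f1534c13f0 (.node 0xc0eea31387ceee (.node 0x74b967fcd881c1 .nil .nil) (.node 0x884fb882bd964 .nil .nil)) (.node 0x87ea35f16fb249 (.node 0x270071d9f6f9a2 .nil .nil) (.node 0xe617a08d2055c7 .nil .nil))) (.node 0x9d3aa603893a20 (.node 0xcbe2b633622b03 (.node 0x49a06919d0eb30 .nil .nil) (.node 0xd5cb849de0a8c0 .nil .nil)) (.node 0x704d3381c81fa8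 (.node 0x39e496db4912e0 .nil .nil) .nil)))) (.node 0xc5c32155c5229e (.node 0x93e6d2669b16d3 (.node 0x81ce889013c9af (.node 0x9121f4c5311849 (.node 0x744c805cd2819b .nil .nil) (.node 0x17614aa7d58ea5 .nil .nil)) (.node 0xa14af9c05f4b9c (.node 0x3c203daaeee9a8 .nil .nil) (.node 0xe0736a1da1519e .nil .nil))) (.node 0xb41615c3dbfa7f (.node 0x1f64df82b8b05c (.node 0x6428ae4932682f .nil .nil) (.node 0xd83b6f8e92f4d3 .nil .nil)) (.node 0xa8a66301ab2a73 (.node 0x3199bb89cd3848 .nil .nil) .nil))) (.node 0xa9c7d87590959 (.node 0xa9673232c010fa (.node 0x85e1fb2411f2d9 (.node 0x671cc08d13c55f .nil .nil) (.node 0x2c084485512aa .nil .nil)) (.node 0x3dd028d6d51b4a (.node 0x57a9b91a62f66c .nil .nil) .nil)) (.node 0x71011483be0040 (.node 0x9a2ac520c1d19c (.node 0x4ca573fb105cb0 .nil .nil) (.node 0xdd577edda4152b .nil .nil)) (.node 0xa78a1e71ffe859 (.node 0x1cb475cbd62f58 .nil .nil) .nil))))) (.node 0x4f0ca96385e54 (.node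 0x945e8cf26996a0 (.node 0x85a33f5100cdf9 (.node 0x21c0ac77adc8a5 (.node 0x236d5e72f82eee (.node 0x7c0cecdcac0335 .nil .nil) (.node 0x14ecb547e7ca5c .nil .nil)) (.node 0xd11e52d04403d0 (.node 0x3abc33eb7db489 .nil .nil) (.node 0xe1fb764e1f26b6 .nil .nil))) (.node 0xbbe2ab84dd92e6 (.node 0x2f684e3566f18f (.node 0x5bc4d7e955b455 .nil .nil) (.node 0xd41f603d769524 .nil .nil)) (.node 0x6ec0cc41ef9f63 (.node 0x2ef462aa27e76a .nil .nil) .nil))) (.node 0x7de703474bc726 (.node 0xbe2a38d501cb56 (.node 0x2f0998c3fcd8f4 (.node 0x7185122c9f82f1 .nil .nil) (.node 0x524cbc89c0dc7 .nil .nil)) (.node 0xbeba34713e55fd (.node 0x27a4741b273895 .nil .nil) .nil)) (.node 0x75e81d92abc22e (.node 0x662923f04f85a0 (.node 0x46d9814b53e5a1 .nil .nil) (.node 0xd4cba09da395d2 .nil .nil)) (.node 0xa3be17d1e6e690 (.node 0x20b0e2fba36e81 .nil .nil) .nil)))) (.node 0x88ea67910d8e5e (.node 0x96d1f6267d5854 (.node 0x8ad64cb78b06ec (.node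 0xb50aa5c2d36967 (.node 0x7665c54c7680fc .nil .nil) (.node 0x115c6f8791463 .nil .nil)) (.node 0x43a9d7e19a2456 (.node 0x5709c03ac1d2c9 .nil .nil) (.node 0xe84f58fde5ec81 .nil .nil))) (.node 0xa38616f3dbba76 (.node 0xb0d6bcb52c7710 (.node 0x60b08e49716ac3 .nil .nil) (.node 0xd5cf8fee2fea20 .nil .nil)) (.node 0x8ca72051bf70e0 (.node 0x4c48901b081f39 .nil .nil) .nil))) (.node 0x1954e757a007ad (.node 0xbdcf1795885348 (.node 0xb88e5b331b7965 (.node 0x13ed4d17ef8667 .nil .nil) (.node 0x10a52958ac5241 .nil .nil)) (.node 0xbbe6ac3703db74 (.node 0x3af04ada4579ad .nil .nil) .nil)) (.node 0x7220c5b2ebc319 (.node 0xce4247c09f4439 (.node 0x4eec3679e2f875 .nil .nil) (.node 0xdf735c3e68773f .nil .nil)) (.node 0x70c4f35c5bdf8a (.node 0x1b29cb4bf5af22 .nil .nil) .nil)))))) (.node 0xb0c6bbc5e62252 (.node 0xa64a4315a5a1e0 (.node 0xb41b19b5aca179 (.node 0x57e8412112dead (.node 0x9c821a37c6484d (.node 0xcce311e4c5a9af (.node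 0x7028da1c3c9dc2 .nil .nil) (.node 0x1f3d219c116eb7 .nil .nil)) (.node 0xd15245a002c3b3 (.node 0x41a865aa076a67 .nil .nil) (.node 0xe4b361ad720f63 .nil .nil))) (.node 0x99b280f46f74b0 (.node 0x833ee68417f33b (.node 0x61156fd979ebea .nil .nil) (.node 0x12989e88c215e2 .nil .nil)) (.node 0xa0723c222026fa (.node 0x44400669c21313 .nil .nil) .nil))) (.node 0xc6ea00b65be2bf (.node 0x896ac994bd71b0 (.node 0x971233e4f917b8 (.node 0x73ed08dc8c80c7 .nil .nil) (.node 0x6c13c281f556f .nil .nil)) (.node 0x42e5d35180e568 (.node 0x2c79a5fb670a52 .nil .nil) (.node 0xe6ffa17d4994d1 .nil .nil))) (.node 0xb1e2400393f73c (.node 0xad1ef2f07f5540 (.node 0x4b6438ab96f597 .nil .nil) (.node 0xd6f35bad5dd05b .nil .nil)) (.node 0x8c6a23e25bf105 (.node 0x35a44839970ed0 .nil .nil) .nil)))) (.node 0x9611f6f1315829 (.node 0x34a83fc66fe2fe (.node 0x7ed725376986c0 (.node 0x36446ec458d998 (.node 0xc981bb849c121 .nil .nil) (.node 0x182cb827df8d8c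 .nil .nil)) (.node 0x844310d18932b5 (.node 0x2cc0996a32369a .nil .nil) (.node 0xdc3f97ed840e18 .nil .nil))) (.node 0xb20ef752893541 (.node 0xc12a8d95518c71 (.node 0x5b7cd5394da7a2 .nil .nil) (.node 0xd3a369be1ea772 .nil .nil)) (.node 0x6c813c5264a048 (.node 0x52442b09a1f5c8 .nil .nil) .nil))) (.node 0x8d5e4a678086a0 (.node 0x85833fb4617233 (.node 0x75e41d8371422f (.node 0x6a314c9d08057f .nil .nil) (.node 0xc6df018428d49 .nil .nil)) (.node 0xc63341d6d15b0a (.node 0x2d4d7cba49dcf4 .nil .nil) .nil)) (.node 0x8f3a31b555576f (.node 0x6a4cb2700f0507 (.node 0x2df1d2b9838fcf .nil .nil) (.node 0xdfdfa07e306b5f .nil .nil)) (.node 0x6c089d0c391c41 (.node 0x265de91bc76f18 .nil .nil) .nil))))) (.node 0xb67a20a6472209 (.node 0x811f0185fe5224 (.node 0x4f81d951331e7f (.node 0x8bf706a72b8754 (.node 0xbd022dd347549e (.node 0x7374f97c87c2a2 .nil .nil) (.node 0x14214e57f1cc41 .nil .nil)) (.node 0x692cf5a08a456c (.node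 0x3d7dd50a55946a .nil .nil) (.node 0xe34f710d7995ef .nil .nil))) (.node 0x86a73ef39f7205 (.node 0x9a6263b4432aae (.node 0x598951b944e9e4 .nil .nil) (.node 0xd86f7ace356e11 .nil .nil)) (.node 0xa146f9f23aa9fb (.node 0x30d02fca8db776 .nil .nil) .nil))) (.node 0xa846e5279e094d (.node 0x83aeb4f53e31d8 (.node 0xcb0a966577aaa0 (.node 0x6554dcecfd84e8 .nil .nil) (.node 0x37d0758848ff8 .nil .nil)) (.node 0xbdcb1706b59acd (.node 0x552da419b06bf2 .nil .nil) .nil)) (.node 0xa6564364507838 (.node 0xb6aa2010990aea (.node 0x48285a4ab8a8fa .nil .nil) (.node 0xda7f962daa8dfc .nil .nil)) (.node 0x6b7d17b229a011 (.node 0x2268d2ebb4f029 .nil .nil) .nil)))) (.node 0x4e59add1181c54 (.node 0x8a82516165e30d (.node 0x8423108306f2b6 (.node 0xb2de72f30eb4d6 (.node 0x751c7cdc66c15b .nil .nil) (.node 0xac87dc867113a .nil .nil)) (.node 0xc1b6775156cf73 (.node 0x2afd782afae680 .nil .nil) (.node 0xe9ef9a7dc8a8ce .nil .nil))) (.node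 0xb4766b54d77794 (.node 0x496c6864aef45d (.node 0x1b3c20995c5e0e .nil .nil) (.node 0xdafba0bd7f8b17 .nil .nil)) (.node 0x8cab20b24730e1 (.node 0x38cda25a99e535 .nil .nil) .nil))) (.node 0xb956f0c7258884 (.node 0x88bae0642a31c0 (.node 0x24ac890496af6f (.node 0x5fedea690a668b .nil .nil) (.node 0x11d53ec8d050a0 .nil .nil)) (.node 0x4595b3d6f29b05 (.node 0x3b304c5a472541 .nil .nil) .nil)) (.node 0xab671e052038de (.node 0xce02553023441f (.node 0x4f95d9ea817685 .nil .nil) (.node 0xdc6f6b7e3ee767 .nil .nil)) (.node 0x6f650fcc315dd8 (.node 0x24b8899be7af62 .nil .nil) .nil))))))) (.node 0x5d85cea5f7a0df (.node 0xa52e8245ed223f (.node 0x809e542628940e (.node 0xf14cdc632e1b9 (.node 0x7eb627c0dd4341 (.node 0x7e4627a7cf882a (.node 0xaa526694cb3578 (.node 0xdd4da38ba602b .nil .nil) (.node 0x22e4d70bbe2ec9 .nil .nil)) (.node 0x9abe98900b133d (.node 0x2e85a9fa0ccfce .nil .nil) (.node 0xdedf70de6ff884 .nil .nil))) (.node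 0x57e441647118de (.node 0x402006f41bf23e (.node 0x5c307aa8f3a706 .nil .nil) (.node 0xef510e8d4d088 .nil .nil)) (.node 0x3241c2a6b71c3c (.node 0x3a69de4b631018 .nil .nil) .nil))) (.node 0xc8d69ca65562ae (.node 0x644ce3e4b470ce (.node 0x1ef521248aaebe (.node 0x7b1d05bcb402ad .nil .nil) (.node 0x3fcfe889013fd .nil .nil)) (.node 0xbfbf4481781474 (.node 0x2731848b300d6a .nil .nil) (.node 0xe72ba57d5f9503 .nil .nil))) (.node 0x4c008f538a328c (.node 0x47d05982d7730f (.node 0x3605b009907931 .nil .nil) (.node 0xd427601ddfa8c1 .nil .nil)) (.node 0xa5a6c672606dbf (.node 0x4bedbe8b8c5141 .nil .nil) .nil)))) (.node 0xe1c5a6145f2d (.node 0xc9267eb6ae63ac (.node 0x159100976ac6dc (.node 0xcbdab583bbecb0 (.node 0x7915918c6801e9 .nil .nil) (.node 0x13bcabc7ed0aa9 .nil .nil)) (.node 0x67b8b5c06a463d (.node 0x410808dad4b564 .nil .nil) (.node 0xe0c749fd4cd436 .nil .nil))) (.node 0x3049e2327ed9cc (.node 0xa28a3ee54bf89e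 (.node 0x6234a1c952f413 .nil .nil) (.node 0xd5ff6fbd8c1585 .nil .nil)) (.node 0x8dcaea91a3b0a4 (.node 0x3059e34b8635ec .nil .nil) .nil))) (.node 0xb602e387864693 (.node 0x44c5ac64651685 (.node 0xc669fd540dec7d (.node 0x69a4a99d0f05c9 .nil .nil) (.node 0xb5966a86e19ab .nil .nil)) (.node 0xc1867746f01c02 (.node 0x29543eeace5e78 .nil .nil) .nil)) (.node 0x21f2d5590371 (.node 0xa266d6f0bb0e65 (.node 0x4d8835a9e0b99a .nil .nil) (.node 0xdcbb7f0d2d4cb3 .nil .nil)) (.node 0x6c993c6209604d (.node 0x25256b3bef2f87 .nil .nil) .nil))))) (.node 0x7e5e27564d8aa8 (.node 0xdf0da4602e229 (.node 0x87ba3571084cad (.node 0x82cfa77b30888 (.node 0xa9df3102f538e7 (.node 0x7a34b96c824281 .nil .nil) (.node 0x17cd4187d990cd .nil .nil)) (.node 0xcf1e06204ac483 (.node 0x42a5954b2224ef .nil .nil) (.node 0xe55f712e3b66fc .nil .nil))) (.node 0x272183d3249a59 (.node 0xb77a99756474f4 (.node 0x1f48df192ade86 .nil .nil) (.node 0xd41b5e0d240f15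 .nil .nil)) (.node 0xac92f1d2336938 (.node 0x4d5ddbcaa77929 .nil .nil) .nil))) (.node 0x8e07221742073d (.node 0x57fc4193a3b43b (.node 0x890267556ef30a (.node 0x6881000ce2462b .nil .nil) (.node 0x749387826d9a8 .nil .nil)) (.node 0x4158650145e3eb (.node 0x56517229ff2961 .nil .nil) .nil)) (.node 0x1cf58812a52fbc (.node 0xce06551092041c (.node 0x36786fda1a55a6 .nil .nil) (.node 0xd993781db2928f .nil .nil)) (.node 0x9afa1351ed2cb5 (.node 0x1f90dffc193056 .nil .nil) .nil)))) (.node 0x34398690eb9def (.node 0xca9e88c678233a (.node 0x18e8dde74c891f (.node 0x5eac22631070ea (.node 0x78501adccd821b .nil .nil) (.node 0xcf81c884cd9d8 .nil .nil)) (.node 0x820ec1015cb362 (.node 0x28904a1a65acbd .nil .nil) (.node 0xe89b9c7ddfe8e0 .nil .nil))) (.node 0x26b40d33d72ffc (.node 0xa8966345248e06 (.node 0x5c9d8d08faf393 .nil .nil) (.node 0xd7077c3e8b3516 .nil .nil)) (.node 0x6b14c2d24ae002 (.node 0x48c860da90e4b5 .nil .nil)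 .nil))) (.node 0x7ff32bc7ab0790 (.node 0x376469f3e3181e (.node 0xba9ed534ef8af3 (.node 0x683d0c6ce78527 .nil .nil) (.node 0xe28db18bd95fa .nil .nil)) (.node 0xc73a3696bfdb9b (.node 0x44f5ad4ae86460 .nil .nil) .nil)) (.node 0x1d5929f2e5301d (.node 0x67b4b5a029463f (.node 0x2f9c4ebb1a7715 .nil .nil) (.node 0xe1c795ed398d81 .nil .nil)) (.node 0x6bb118ac201ca1 (.node 0x26c00e5bcfeffb .nil .nil) .nil)))))) (.node 0x97ba2d71d41809 (.node 0xc58a24d5a1e1d6 (.node 0x9ea65fe5b12163 (.node 0x926eb760f618d3 (.node 0xb15a5ed71a47e4 (.node 0xbbdaabf514cb0b (.node 0x7135154c960047 .nil .nil) (.node 0x211d1edbab7061 .nil .nil)) (.node 0x67b0b5b0c5463e (.node 0x43d9d849a89e93 .nil .nil) (.node 0xdccb972e6a775f .nil .nil))) (.node 0xcac2ccc4e4e874 (.node 0xc842e163fb68ca (.node 0x63012c39172852 .nil .nil) (.node 0x10256368b0d259 .nil .nil)) (.node 0xb69e20b219e8d1 (.node 0x41f9a859e9d172 .nil .nil) .nil))) (.node 0x41546536626391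 (.node 0x9645f69506582c (.node 0xbe963534f5132e (.node 0x548c728a3c003 .nil .nil) (.node 0x5a8c878a69a0d .nil .nil)) (.node 0x820ac13142f368 (.node 0x2c245d5b70eafe .nil .nil) (.node 0xe6a3a48d6d5595 .nil .nil))) (.node 0xa816b44339a954 (.node 0x9b0613707a52dd (.node 0x3958973b49f9e9 .nil .nil) (.node 0xd72380edb18d96 .nil .nil)) (.node 0x6ed8cc01ae5f5e (.node 0x49397a19d85032 .nil .nil) .nil)))) (.node 0x92be74b0dbd6c7 (.node 0x32a84c8669a2f1 (.node 0x9bf6b287924719 (.node 0x82d294d4557311 (.node 0x76c8148c7fc26e .nil .nil) (.node 0x14815757e30bf4 .nil .nil)) (.node 0xbaf6946192d3c9 (.node 0x53149b4a35a5a0 .nil .nil) (.node 0xdc0b51dd404c00 .nil .nil))) (.node 0xc8e69ce57daa2a (.node 0x1aedca53ca6f2d (.node 0x63712f091d9a1e .nil .nil) (.node 0xda778eee1a2e51 .nil .nil)) (.node 0xa866e541c4e64c (.node 0x4e1c450b5cf4e7 .nil .nil) .nil))) (.node 0x864df8803408df (.node 0xb06ad0458da6ab (.node 0x63d13731d0387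 (.node 0x66c9493d15c5e8 .nil .nil) (.node 0x18816988152a9 .nil .nil)) (.node 0x3efc5376f8db90 (.node 0x40a9e7eabbf620 .nil .nil) .nil)) (.node 0xa31aa4e36b8e21 (.node 0x9a2ec590a6d497 (.node 0x50280cdb99ac8a .nil .nil) (.node 0xe36f6f5e7af7bd .nil .nil)) (.node 0x6e2ca72c2ba01e (.node 0x1b9821fbfe6fc5 .nil .nil) .nil))))) (.node 0xc48b23e59ba134 (.node 0x9c2ee445c96284 (.node 0x91c669c6a158fb (.node 0x997efc8732877f (.node 0x4a8043053516b6 (.node 0x7b44fc7cbe4079 .nil .nil) (.node 0x16f0c1a7d191aa .nil .nil)) (.node 0xd196ecd0648407 (.node 0x45d1b4da39aaff .nil .nil) (.node 0xdeff811db10de7 .nil .nil))) (.node 0xcc922bf39b66e1 (.node 0xada2a712b07a28 (.node 0x5948b25939ae2e .nil .nil) (.node 0xd783690e9f3537 .nil .nil)) (.node 0x70a4f271dc5f93 (.node 0x50f5ab2afeedb2 .nil .nil) .nil))) (.node 0x1a0dcd375f8974 (.node 0x92d6747543d6ca (.node 0x395d7f5291b26d (.node 0x697cf65ce94568 .nil .nil) (.node 0x8e10ab8349a6e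 .nil .nil)) (.node 0xc83eb0370c1c13 (.node 0x55886ccade2e04 .nil .nil) .nil)) (.node 0xb1ee3ff449ae5a (.node 0x6860ff303c0629 (.node 0x38059aca7c3811 .nil .nil) (.node 0xd3f36aed73ceac .nil .nil)) (.node 0x8e6a217207b0d3 (.node 0x1ddd2dfc0f6ef5 .nil .nil) .nil)))) (.node 0x934a9360e916f3 (.node 0x2a486d668d636e (.node 0xb052d03301771c (.node 0xa092f43380f953 (.node 0x78c8865c63c14e .nil .nil) (.node 0x32d90985ccec7 .nil .nil)) (.node 0x446c349160e5e6 (.node 0x2b545749ba5d52 .nil .nil) (.node 0xe97f7a6e16e600 .nil .nil))) (.node 0xcdce0014d1e850 (.node 0xa2723f535bb524 (.node 0x60600f691229d3 .nil .nil) (.node 0xd45b94fe8175cc .nil .nil)) (.node 0xa8ee9732426629 (.node 0x4a4d759a1fa43c .nil .nil) .nil))) (.node 0x8c3a243720485a (.node 0xc982c42426e7f9 (.node 0x9c36e4d493b8ba (.node 0x5ef423496a1976 .nil .nil) (.node 0xdccc558e109c5 .nil .nil)) (.node 0xbc2f4746df5bbb (.node 0x4360282a72644a .nil .nil)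 .nil)) (.node 0xa136f9451811bd (.node 0x988e7c101e9404 (.node 0x313de19a84a416 .nil .nil) (.node 0xdc2f530dceacfc .nil .nil)) (.node 0x6cbd3cec376043 (.node 0x1d15895bdc2fb0 .nil .nil) .nil))))))))

/-- Part of `setTab`. -/
noncomputable def setTab_r_r_l_r_r : Arr ℕ :=
  (.node 0x11fd31e5d32065 (.node 0x7e4a2705d08ef1 (.node 0xc31f2f95f5e0db (.node 0xc49b2356252147 (.node 0xa90212362f61a8 (.node 0x914ea0812a5699 (.node 0xa9e73197bb081d (.node 0x9fded0b49f261f (.node 0x6dc0d06c2e9f67 .nil .nil) (.node 0x23415bcc00f003 .nil .nil)) (.node 0xcf0606b0ab8484 (.node 0x51a597aa110d69 .nil .nil) (.node 0xe51f639e64f7dd .nil .nil))) (.node 0xb992cda2757812 (.node 0x9673392298d70d (.node 0x24f879e8f05d4e .nil .nil) (.node 0xd611a58b95581 .nil .nil)) (.node 0xc166d297091ae5 (.node 0x4629d70b5f0d9b .nil .nil) .nil))) (.node 0x39085e765122a3 (.node 0x835ae6b3537338 (.node 0x917a9fd485d695 (.node 0x72b5432cb082cf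 .nil .nil) (.node 0x468bbd830594c .nil .nil)) (.node 0x4591b38173a3f1 (.node 0x2a0c7349f8244d .nil .nil) (.node 0xe77b61dd700ba7 .nil .nil))) (.node 0x9482bd547f96b3 (.node 0xa4a66ca2e27642 (.node 0x37bc6ad9d7a6fb .nil .nil) (.node 0xd2eb9bcda6133b .nil .nil)) (.node 0x8bca4f01cc3157 (.node 0x472c986b4d0aed .nil .nil) .nil)))) (.node 0xa53282a61d60a0 (.node 0x297d8266aa63a3 (.node 0xa7267a777249b4 (.node 0x465c03c3b7741f (.node 0x7561655c6d0202 .nil .nil) (.node 0x168d0428148e8b .nil .nil)) (.node 0xb93a58107215bc (.node 0x449834daf17810 .nil .nil) (.node 0xde27928e5f2839 .nil .nil))) (.node 0x967739142fd70c (.node 0xba427582bb5392 (.node 0x5a68e17935f450 .nil .nil) (.node 0xd937662d5f4fde .nil .nil)) (.node 0x6edccc51a15f61 (.node 0x5061e4cb82365c .nil .nil) .nil))) (.node 0xad7ac7375c4969 (.node 0xb016f502c8372b (.node 0x3f0c533408d951 (.node 0x65fce66cf785de .nil .nil) (.node 0x9fc81185092c3 .nil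 .nil)) (.node 0xcd75feb6d71b3e (.node 0x2825b1ba5c1d53 .nil .nil) .nil)) (.node 0xc816af93c227fa (.node 0x6a50b2e0b80508 (.node 0x3275c38b3d5d3e .nil .nil) (.node 0xe32f5eadefac78 .nil .nil)) (.node 0xb976f00213e740 (.node 0x2418791bd22f48 .nil .nil) .nil))))) (.node 0xb216f7263c210d (.node 0xaf3edb55dc20c7 (.node 0x55446b61059e05 (.node 0xb3665bc7b048b5 (.node 0xc1dabe22fad2ff (.node 0x7274c6eca9c314 .nil .nil) (.node 0x1900ded802ca75 .nil .nil)) (.node 0x6930f5b0494573 (.node 0x3e24666b2079b9 .nil .nil) (.node 0xe4c3573d4b1542 .nil .nil))) (.node 0x9986fc032e7725 (.node 0xc645fd756b6632 (.node 0x63c55479293430 .nil .nil) (.node 0xd88f655e39e785 .nil .nil)) (.node 0x8eab0401f47161 (.node 0x33b9e01aa4ad4c .nil .nil) .nil))) (.node 0x891a9b202d873e (.node 0x8f7b1653ab9800 (.node 0x9c42e4f3fe92e5 (.node 0x7cfd371c9a82fa .nil .nil) (.node 0x798f208978de1 .nil .nil)) (.node 0x848a2ed14f7275 (.node 0x58fc933b2caafc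 .nil .nil) .nil)) (.node 0xb50ea522ada809 (.node 0xd093263050839b (.node 0x49e0918a1895bf .nil .nil) (.node 0xd24387be5ca94a .nil .nil)) (.node 0x70a0f251e95f98 (.node 0x1fdcb00ba76e91 .nil .nil) .nil)))) (.node 0x9546de30fcd682 (.node 0x44643486756332 (.node 0xaa6a65b754c900 (.node 0x84622f92cdb27b (.node 0x773dc82c70c0df .nil .nil) (.node 0xba9c9c874947b .nil .nil)) (.node 0xbe7f13b19e0a44 (.node 0x583041aa69a684 .nil .nil) (.node 0xe8b35afe13272a .nil .nil))) (.node 0x9fced0c3e03752 (.node 0x542d9e852373fa (.node 0x61e58ae9006c2e .nil .nil) (.node 0xd413600e907574 .nil .nil)) (.node 0x8bd64ef2547156 (.node 0x47685ffa8fb9f2 .nil .nil) .nil))) (.node 0x9cc735d7a487ae (.node 0x9b661d03edf927 (.node 0x1e209fc4ecb03e (.node 0x6add555d03067f .nil .nil) (.node 0xfb8d1b8e98e72 .nil .nil)) (.node 0x55386b76bc9bab (.node 0x3c65bd6ae464f0 .nil .nil) .nil)) (.node 0xcb8ee782efe875 (.node 0xcf4625f030849e (.node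 0x322c3c09e8e9da .nil .nil) (.node 0xe263936d304de4 .nil .nil)) (.node 0xea10fd8d0a007 (.node 0x25a5ec5bf1af32 .nil .nil) .nil)))))) (.node 0x7e562795b78f23 (.node 0x12c0f4159d21d5 (.node 0x830fa95ae1ddd (.node 0x89d28591138f5d (.node 0x17354a571607ea (.node 0x7d4ede5100471 (.node 0x6c6130ac459e51 .nil .nil) (.node 0x2191529c156ea7 .nil .nil)) (.node 0xb61ee390cdcc4f (.node 0x3cc1dd69a5b78c .nil .nil) (.node 0xde4b4bad5e913f .nil .nil))) (.node 0x7228c5a4e0c317 (.node 0x2fe80a43f6f38b (.node 0x5acd5d591cedba .nil .nil) (.node 0xe955ad8dcca47 .nil .nil)) (.node 0x6c9d3c82166046 (.node 0x3f9d9679ee515a .nil .nil) .nil))) (.node 0x9631f6c65fd825 (.node 0x9c661925037a7c (.node 0x2579eb44f2af3c (.node 0x7bbcf00ca4c02d .nil .nil) (.node 0x5fd17681ad557 .nil .nil)) (.node 0xc172d35185903e (.node 0x54559ffb6b9469 .nil .nil) (.node 0xe793545d8dcc3f .nil .nil))) (.node 0x3239c28337590d (.node 0x663524007685a7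 (.node 0x34e4408b901e5f .nil .nil) (.node 0xd65b8c4d87cd63 .nil .nil)) (.node 0xabc6ce81b9a6e6 (.node 0x4ac8437992ceea .nil .nil) .nil)))) (.node 0x813a54c0d6c411 (.node 0xcd4dfec672e308 (.node 0x23cc78a78f8704 (.node 0xa0663c945bac5a (.node 0x75c1f23cc38136 .nil .nil) (.node 0x15c101580c8da5 .nil .nil)) (.node 0x427d94218ea5ec (.node 0x52e09a6a33f9df .nil .nil) (.node 0xdd2b6add739049 .nil .nil))) (.node 0x59c922b57870fe (.node 0xadb6ad03d37762 (.node 0x5b116059236658 .nil .nil) (.node 0xd74b914d30ccfd .nil .nil)) (.node 0xb4d69de267abff (.node 0x32b84d1b58f4ed .nil .nil) .nil))) (.node 0x807a53e73988c9 (.node 0x7641c4758bc0f7 (.node 0xcd6dff03756b45 (.node 0x6911030ced8600 .nil .nil) (.node 0x51f3a83e0d2f .nil .nil)) (.node 0xbc134736c7db5c (.node 0x53897e0a4e1cdc .nil .nil) .nil)) (.node 0x41b1a7a369f19c (.node 0xcfcb28701004d7 (.node 0x52c5d149850ce9 .nil .nil) (.node 0xdebf81ae3dee47 .nil .nil))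 (.node 0x6fb9593c439fd5 (.node 0x1a31cd8bc36f08 .nil .nil) .nil))))) (.node 0x11893de596a133 (.node 0x5c007a25c7a27d (.node 0x8a66cc01354e91 (.node 0x14d0b4572e8782 (.node 0xad72c773417877 (.node 0x7324bcecbb4098 .nil .nil) (.node 0x19cd2667facc27 .nil .nil)) (.node 0xb5db1ae08d5433 (.node 0x4315d46a5715a9 .nil .nil) (.node 0xdfc38c7da7cd65 .nil .nil))) (.node 0x4af9b993965aa2 (.node 0xa1e691643eb5e8 (.node 0x64f5203946da18 .nil .nil) (.node 0xd24779de0ba857 .nil .nil)) (.node 0xa5ee4271d9abcf (.node 0x2f61997b032da1 .nil .nil) .nil))) (.node 0x8152ed77998930 (.node 0xade6dab2bd3a35 (.node 0x8986c9828df1b1 (.node 0x6a90b39d054501 .nil .nil) (.node 0x94144a8891011 .nil .nil)) (.node 0x5791b8570b5c26 (.node 0x2bc99e59b4ec03 .nil .nil) .nil)) (.node 0x3101e09446f2df (.node 0xb3caf85038d0a8 (.node 0x488da0da7927ab .nil .nil) (.node 0xd9f3919d545244 .nil .nil)) (.node 0xb6e71f322ce800 (.node 0x1e64a00bb0f039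 .nil .nil) .nil)))) (.node 0x83ce2b111bd08b (.node 0x930ad45688589b (.node 0xae6e1812fcba75 (.node 0x9cf2d9a37c7a3d (.node 0x2dc85585b813a .nil .nil) (.node 0x1f48798629121 .nil .nil)) (.node 0x87a30e7168f281 (.node 0x54c85c59b8e79a .nil .nil) (.node 0xe92ba19ddaeae4 .nil .nil))) (.node 0x34b43f94cdb46d (.node 0xc88e6864b3e956 (.node 0x5f55ed895d1945 .nil .nil) (.node 0xdbf36dfd228b32 .nil .nil)) (.node 0x6b10c2623de001 (.node 0x47a19c7a9e2547 .nil .nil) .nil))) (.node 0x554c7671d4854 (.node 0x7109149422c03e (.node 0xbe8e34d4994ebb (.node 0x5dc5cfc9042b89 .nil .nil) (.node 0xf58ce38c58fc0 .nil .nil)) (.node 0xc9f280b6f4daf0 (.node 0x3dfc298a6e2438 .nil .nil) .nil)) (.node 0x52e89ac516d7d5 (.node 0x6514dbf01bc4ec (.node 0x30f82d9a82f9b5 .nil .nil) (.node 0xdf2b935d300e7f .nil .nil)) (.node 0x6f1ccd0c4c5cb8 (.node 0x1bd48d3be3af72 .nil .nil) .nil))))))) (.node 0x99fec575faa0e3 (.node 0x28083e5e41cd5 (.node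 0x62c52bc5a3a1da (.node 0xc2c307f637e1c7 (.node 0x96a9f590e1d85c (.node 0x87fe2fb054c843 (.node 0x764dc464c1c0f6 (.node 0x6eb927cc541c72 .nil .nil) (.node 0x1eb8a3fbba2ed9 .nil .nil)) (.node 0x67acb600024641 (.node 0x3f48540a092ccc .nil .nil) (.node 0xdc0351ee77b722 .nil .nil))) (.node 0x9fdad094728fd2 (.node 0xca6e868420ecb1 (.node 0x5d656c297d2ca2 .nil .nil) (.node 0x1168eae8ca0fd9 .nil .nil)) (.node 0xc7be3bb6b9dc29 (.node 0x3d343259bdd32b .nil .nil) .nil))) (.node 0x2eac620656a2b8 (.node 0xcb6261e4b9eb65 (.node 0xbb82dee48d112e (.node 0x7ab5461c8940a4 .nil .nil) (.node 0x990bea8949416 .nil .nil)) (.node 0x8256c3d17bf1a8 (.node 0x586d709b345514 .nil .nil) (.node 0xe68759cd458c73 .nil .nil))) (.node 0x9bbf1c338c09d6 (.node 0xc7963b42dc6bf9 (.node 0x4b01ba998c763d .nil .nil) (.node 0xd62b5a4d495012 .nil .nil)) (.node 0x6c853ca257a04b (.node 0x3549b73b884e1e .nil .nil) .nil)))) (.node 0xa166722616608f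 (.node 0x90cf3806a7574d (.node 0x9a4a64176c46e2 (.node 0x889adff3b331ca (.node 0x7819eefcc4c10d .nil .nil) (.node 0x1960e857f60a8f .nil .nil)) (.node 0xaff23d806c944d (.node 0x4048073ad8f591 .nil .nil) (.node 0xe36b7b9deb6e44 .nil .nil))) (.node 0x9906ff227fcdb9 (.node 0x2090e2654eae8e (.node 0x1da8d3f94a5f17 .nil .nil) (.node 0xd74f950d831417 .nil .nil)) (.node 0xab06b1226ee9d8 (.node 0x2d902c999db5c2 .nil .nil) .nil))) (.node 0x14c0b4077c46a9 (.node 0xcc2e306469ac8f (.node 0x980ebff37b34d2 (.node 0x6641248cf245aa .nil .nil) (.node 0x26593786999c3 .nil .nil)) (.node 0x278473f6cf9b1f (.node 0x57603a6aca5e60 .nil .nil) .nil)) (.node 0xbf0346c55d0cd6 (.node 0xb9becd50170f32 (.node 0x4dc1b31b432457 .nil .nil) (.node 0xdfcfa6ddfaa9c8 .nil .nil)) (.node 0x8c2f06120e30b7 (.node 0x1c396dcbeb2f97 .nil .nil) .nil))))) (.node 0x9609f651f4d821 (.node 0xc39b052607a230 (.node 0x91569fc0d5d694 (.node 0x8e322167b5c88d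 (.node 0x1bb88be344af7c (.node 0x3a8f8888d028d .nil .nil) (.node 0x15510d480690b5 .nil .nil)) (.node 0xb1bafa40864f18 (.node 0x3ecda68b1da537 .nil .nil) (.node 0xe2bf67cd8953ea .nil .nil))) (.node 0xb3f615432550c8 (.node 0x5f6812343ff12b (.node 0x5a1d23392b9947 .nil .nil) (.node 0xd85b87cdf56614 .nil .nil)) (.node 0x6b7917d236a016 (.node 0x4f4400ba897771 .nil .nil) .nil))) (.node 0x15a900879ac951 (.node 0x9c0ab293a5ea8e (.node 0x4950684572f2be (.node 0x67ecb6dd184639 .nil .nil) (.node 0x67513882259c0 .nil .nil)) (.node 0xba32b811498cc1 (.node 0x29c582da03694f .nil .nil) .nil)) (.node 0xbe431332a7d01e (.node 0x687cff40970622 (.node 0x39485eeab2692f .nil .nil) (.node 0xd7578d9e27e9d9 .nil .nil)) (.node 0x8b064cc225f091 (.node 0x220cad1c1d3046 .nil .nil) .nil)))) (.node 0x8651f920ed15cf (.node 0x952ed866821915 (.node 0x9822c0774f0923 (.node 0xcd49ff1315e8b8 (.node 0x76181ebcc80234 .nil .nil) (.node 0xc41fd84859f0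 .nil .nil)) (.node 0x40fc086153a493 (.node 0x55c9775af57772 .nil .nil) (.node 0xe86f9a0e026bec .nil .nil))) (.node 0xbd122de3d9d626 (.node 0x828e7f34ab334b (.node 0x5e75cc596433f7 .nil .nil) (.node 0xda7b6dde9db48d .nil .nil)) (.node 0xad5683c24ceb29 (.node 0x3868591a95645a .nil .nil) .nil))) (.node 0x23655e3723c870 (.node 0xa3b61763e5aa6c (.node 0x98feff84e93705 (.node 0x6765404d1ec545 .nil .nil) (.node 0x123532f8d84a2e .nil .nil)) (.node 0xbedb0976ccdbeb (.node 0x4554471a42e52f .nil .nil) .nil)) (.node 0xbb5ed952e78ad8 (.node 0xb666b1802b50c1 (.node 0x5124642b16f61d .nil .nil) (.node 0xdf136a5d9ecf48 .nil .nil)) (.node 0x6d30e9dc499d03 (.node 0x1a9c251bcbefeb .nil .nil) .nil)))))) (.node 0xb66e20f5bc2185 (.node 0x9e5336f64020f7 (.node 0x7dd6ef35e18d40 (.node 0x4845a040ff1eae (.node 0x7ecf25171587c2 (.node 0xa7721e250df7cc (.node 0x7c653aac91c05e .nil .nil) (.node 0x20414fcbaf7071 .nil .nil)) (.node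 0xa4da6cf0c6d4c5 (.node 0x466c04bb79f69b .nil .nil) (.node 0xdd9b8a7d52930f .nil .nil))) (.node 0x22a4d5a4da6ecd (.node 0x89469bc3f331e0 (.node 0x62b4a52958198d .nil .nil) (.node 0x1108a828ee0e59 .nil .nil)) (.node 0xb3c2f891f9edec (.node 0x5214512a2ce711 .nil .nil) .nil))) (.node 0xcc0e2ff6662394 (.node 0x1a8023e4feefed (.node 0x95e73b0404173b (.node 0x7208c98ca3c017 .nil .nil) (.node 0x814ee98a21a25 .nil .nil)) (.node 0x465403713a6539 (.node 0x53fc559b74285f .nil .nil) (.node 0xe713664db98c0b .nil .nil))) (.node 0x85933fc332f234 (.node 0xd11653205743d3 (.node 0x3991801b4f23dc .nil .nil) (.node 0xd7038dfe89f589 .nil .nil)) (.node 0x9f5abac1b2e80f (.node 0x373d7b79dc904b .nil .nil) .nil)))) (.node 0x5045e3f10c9d2e (.node 0xc8a267f66d62f5 (.node 0xca41c078946e8 (.node 0x3251c2f2d13448 (.node 0x77bc17ec78c243 .nil .nil) (.node 0x189d1d27fe0c0d .nil .nil)) (.node 0x8252c3f195b1a2 (.node 0x28c5b60ac90cd2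 .nil .nil) (.node 0xdd3f970dae4c81 .nil .nil))) (.node 0x82f660c58131f1 (.node 0xbdaa3283cd8e6d (.node 0x5d108b49739944 .nil .nil) (.node 0xdacb7d5e16a65c .nil .nil)) (.node 0x70493311bb1fa7 (.node 0x3410712b041ed3 .nil .nil) .nil))) (.node 0xa42e14473dc8ec (.node 0x24418b6585afaf (.node 0xbb66d9032112b5 (.node 0x65a51b6cf90655 .nil .nil) (.node 0xc0419c87cd2c2 .nil .nil)) (.node 0xca32cab6fb9b86 (.node 0x3fe9e66ac07645 .nil .nil) .nil)) (.node 0xaad2b16367f56c (.node 0x67a8b6109e4640 (.node 0x30200b3b9d2e49 .nil .nil) (.node 0xdd3b718e6a3840 .nil .nil)) (.node 0x6d6161bc539f7a (.node 0x260411abfa6fd5 .nil .nil) .nil))))) (.node 0x7dcaef7592cd0c (.node 0x111ceab5c0e29a (.node 0x8b5a0a914ba2d6 (.node 0x803727477b0996 (.node 0xb0e2bbe5368b0a (.node 0x798082dcd5017e .nil .nil) (.node 0x162cf7d81091c3 .nil .nil)) (.node 0x67a4b5d05d4642 (.node 0x3bb9c19a40e6ca .nil .nil) (.node 0xe347711e6fb79c .nil .nil)))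 (.node 0x87830ef4363287 (.node 0xa27e3f42b5395f (.node 0x6474e4793fad14 .nil .nil) (.node 0xd4877cde847694 .nil .nil)) (.node 0x8e0b2251de3131 (.node 0x4ea9aed9ca6adb .nil .nil) .nil))) (.node 0x8ae64ca7620976 (.node 0x4c1c8f62be3399 (.node 0xc866e192966a07 (.node 0x1794bf27d90549 .nil .nil) (.node 0x4dd47f8391a86 .nil .nil)) (.node 0xc01aa1a6eb1bd2 (.node 0x2a6c6ddae0f924 .nil .nil) .nil)) (.node 0x835ee633c63331 (.node 0x9b4b33f03fd4f8 (.node 0x3475871b0c1c4a .nil .nil) (.node 0xd49f675dbb8ee3 .nil .nil)) (.node 0x6ec4cc21fc9f5c (.node 0x23815efc0b6ee5 .nil .nil) .nil)))) (.node 0x40f00841201e66 (.node 0xccaa2be6906376 (.node 0x3035e2034ad836 (.node 0x21011dc384b06c (.node 0x79cd8e8cdfc1b7 .nil .nil) (.node 0xa616998584ee1 .nil .nil)) (.node 0xbf7a0471644bdd (.node 0x56789519f53580 .nil .nil) (.node 0xe9c7537df3673c .nil .nil))) (.node 0x81eac1947a7367 (.node 0x39797f335db3aa (.node 0x5e0826d90f675e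 .nil .nil) (.node 0xd2d3541d25d122 .nil .nil)) (.node 0xabcacef1d36b08 (.node 0x36c985ea23e44e .nil .nil) .nil))) (.node 0x8df72207c187f2 (.node 0xcb01bd2770425 (.node 0x47859bd29dda8c (.node 0x5f901309693431 .nil .nil) (.node 0x136135e8b4d59a .nil .nil)) (.node 0x2f784e66e15b37 (.node 0x4238527b3c4e82 .nil .nil) .nil)) (.node 0xaa5e6604a6b679 (.node 0xb7ee64a0b4102e (.node 0x33282e8aac0f1a .nil .nil) (.node 0xdc975c6e54671e .nil .nil)) (.node 0x6b28c2fc5f1ff8 (.node 0x24898c7bd82fa0 .nil .nil) .nil))))))))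

/-- Part of `setTab`. -/
noncomputable def setTab_r_r_l_r : Arr ℕ :=
  .node 0x918a68d24fd8f9 setTab_r_r_l_r_l setTab_r_r_l_r_r

/-- Part of `setTab`. -/
noncomputable def setTab_r_r_l : Arr ℕ :=
  .node 0x7fb6297611d084 setTab_r_r_l_l setTab_r_r_l_r

/-- Part of `setTab`. -/
noncomputable def setTab_r_r_r_l_l : Arr ℕ :=
  (.node 0x8162ed560ad3ac (.node 0xaa129a75d66066 (.node 0x2848405f01e9d (.node 0x6444e42621e139 (.node 0xc54aeb25956124 (.node 0x9196692123d902 (.node 0x87fa36707bc80f (.node 0xbe2e38f4a61424 (.node 0x117d3308cc1f9b .nil .nil) (.node 0x1d6d2b4c077011 .nil .nil)) (.node 0xc432e960b50b90 (.node 0x4d18027aaee988 .nil .nil) (.node 0xdee3969d6f55d7 .nil .nil))) (.node 0xcc0a30127cea6d (.node 0xa1cab992a0a8c9 (.node 0x5f801379682705 .nil .nil) (.node 0x12ecf4b8e3e4af .nil .nil)) (.node 0xbd2a2da6e59b29 (.node 0x3e7c679b362e78 .nil .nil) .nil))) (.node 0x3179bb76926357 (.node 0x9b7e1ce34d6acf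 (.node 0xad0af2038628a6 (.node 0x7495682cdac1cf .nil .nil) (.node 0x87cfb982c5a0b .nil .nil)) (.node 0x303de2416e6558 (.node 0x568494f9f58aef .nil .nil) (.node 0xe777548d71cf88 .nil .nil))) (.node 0xb7120f8478d5aa (.node 0xaf0f340361376e (.node 0x49ac6999d36b5d .nil .nil) (.node 0xd8ef795dfe2a0f .nil .nil)) (.node 0xce7647b1d08433 (.node 0x3a1096eb476b20 .nil .nil) .nil)))) (.node 0xb0828eb5c4a291 (.node 0x8ff70cc69b97c2 (.node 0xb09a8e677a099b (.node 0xa6dabee533b5e4 (.node 0x7444804cd20199 .nil .nil) (.node 0x178d4af7d79da1 .nil .nil)) (.node 0xa7961e805ecdff (.node 0x3c103d5aebde74 .nil .nil) (.node 0xe277612da25186 .nil .nil))) (.node 0x9aa298f43512b3 (.node 0x344d86a2b7f47e (.node 0x641cae7930b3e1 .nil .nil) (.node 0xd29b6fee07ea64 .nil .nil)) (.node 0x2581eb11a76570 (.node 0x31adbba9cb1deb .nil .nil) .nil))) (.node 0x14dcb477584970 (.node 0xcb9ee762c32621 (.node 0x25e41074102fdd (.node 0x6710c09d13855e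 .nil .nil) (.node 0x2b4845854cf94 .nil .nil)) (.node 0xc77315d6e95bcc (.node 0x571c38fa5ff9e0 .nil .nil) .nil)) (.node 0xaf1334b3c551a5 (.node 0x5d99ce80bd183e (.node 0x3469872b0da42a .nil .nil) (.node 0xe48f7ece7e783b .nil .nil)) (.node 0x8c6e23d1feb103 (.node 0x1cb075ebd5af59 .nil .nil) .nil))))) (.node 0x960df6421bd820 (.node 0xc4424d95e360b9 (.node 0x958eab310358e9 (.node 0x8d664a171247bf (.node 0x39757f22f7dabb (.node 0x7c30ecacad432c .nil .nil) (.node 0x1504b4b7eadf01 .nil .nil)) (.node 0x64bd1f9041d646 (.node 0x4664047b7a1066 .nil .nil) (.node 0xe0fb826e0028f8 .nil .nil))) (.node 0xb022f5b4dcadc7 (.node 0xc1d6be03f3520b (.node 0x2220d249531c5f .nil .nil) (.node 0xdb1f528e827487 .nil .nil)) (.node 0xd0eb2ad1f74378 (.node 0x2ed0622a293799 .nil .nil) .nil))) (.node 0x159500f746c730 (.node 0xcd51fe750327a0 (.node 0x79ad8e63fd81ad (.node 0x71b912bc9c82de .nil .nil) (.node 0x544cb989dd965 .nil .nil))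 (.node 0x856df9f13b32fa (.node 0x279c74ab277565 .nil .nil) .nil)) (.node 0xbc9b45a3345562 (.node 0xc5e721705ad1c6 (.node 0x46ed815b52d0c5 .nil .nil) (.node 0xd9a7a29da495b9 .nil .nil)) (.node 0x217151f1e1e4aa (.node 0x20c8e2eba02e88 .nil .nil) .nil)))) (.node 0x880314c10ed383 (.node 0x9576ddd67dd672 (.node 0xb0928ed78b46f8 (.node 0xa842e5d2d4b906 (.node 0x768dc56c7480f8 .nil .nil) (.node 0x119c6c8780cb0 .nil .nil)) (.node 0xbb32aa21988e74 (.node 0x5715c08ac56bc2 .nil .nil) (.node 0xe93f66ce50a867 .nil .nil))) (.node 0xb966f095800c21 (.node 0x86b73e652bf209 (.node 0x60ac8ea9723464 .nil .nil) (.node 0xd79f5e5d8f90a4 .nil .nil)) (.node 0x98867c21bdea63 (.node 0x33e8718b071608 .nil .nil) .nil))) (.node 0x21c4ac47a1c7a1 (.node 0xa256d775876931 (.node 0x838eb4831a31db (.node 0x65951b5cfb8662 .nil .nil) (.node 0x106d2938aa64ae .nil .nil)) (.node 0x38a9a1c6ff9b7a (.node 0x3fdde5cac09127 .nil .nil) .nil)) (.node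 0xbfab44236750fc (.node 0xcedb02109e846d (.node 0x4ef83699e0dd98 .nil .nil) (.node 0xde939ece46e86c .nil .nil)) (.node 0x6d8161ec501c89 (.node 0x1b25cb6bf4af29 .nil .nil) .nil)))))) (.node 0xb4a29df5e8e24b (.node 0xb56e15f5a6e1e5 (.node 0x80e646d5ac14a0 (.node 0x4eb835d1119f27 (.node 0x7f9a29c7c94847 (.node 0x96833954c2d70e (.node 0x7030d9ac3d1c5a .nil .nil) (.node 0x1f2521fc10aeba .nil .nil)) (.node 0xa86ae5900454ac (.node 0x419065ea049d13 .nil .nil) (.node 0xdcb37f2e6b377f .nil .nil))) (.node 0x1c196d046bef9c (.node 0x2230d2d416702d (.node 0x61196f397ae75f .nil .nil) (.node 0x127c9ef8bfe3e6 .nil .nil)) (.node 0x23155b121c6487 (.node 0x445005f9c5eca8 .nil .nil) .nil))) (.node 0xc71236c65ae2c1 (.node 0x2d6c2c44ba9715 (.node 0x87363a84fa3261 (.node 0x820fa382a00b9 .nil .nil) (.node 0x6d93bc81d1ab5 .nil .nil)) (.node 0xbfb744f17e4c5e (.node 0x2c6da54b68f874 .nil .nil) (.node 0xe79f595d5e50fd .nil .nil)))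 (.node 0x822ec3a392f1a4 (.node 0x5bbcd7407c5886 (.node 0x4b15ba598b250e .nil .nil) (.node 0xd807670d5f1074 .nil .nil)) (.node 0x8b472e925bb122 (.node 0x35c048899a671f .nil .nil) .nil)))) (.node 0x4f2000512c9d2c (.node 0xc62f4106a823bf (.node 0xa987d676506b5 (.node 0xc1debe63b395f6 (.node 0x7809ef2cc7011b .nil .nil) (.node 0x1844b807e11db2 .nil .nil)) (.node 0x3371df6187a495 (.node 0x405807aad765fd .nil .nil) (.node 0xdc3b6cbd5acecb .nil .nil))) (.node 0x1f60df9285b05e (.node 0xcb1e960552a689 (.node 0x5b9cd4a94b5a19 .nil .nil) (.node 0xd873983d2dcbb2 .nil .nil)) (.node 0xcf3a06826c847c (.node 0x2da42cc99be57f .nil .nil) .nil))) (.node 0x981ac0077f46b1 (.node 0x2641e8545faf1c (.node 0xa01a8f537815c3 (.node 0x6a354ced098582 .nil .nil) (.node 0xc81f0e8434acc .nil .nil)) (.node 0xbb6ed966d35b11 (.node 0x5754399acb64d8 .nil .nil) .nil)) (.node 0x84f73dd556f218 (.node 0xc2aa4ff01912a4 (.node 0x2e21d2a9826651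 .nil .nil) (.node 0xe2eb58ce1b27d0 .nil .nil)) (.node 0x6be09d5c3a9fc7 (.node 0x2681e90bc5af15 .nil .nil) .nil))))) (.node 0x7f7a09b6461596 (.node 0xd251965fca219 (.node 0x7d4e55f131c3dd (.node 0x7f0f29e72d475b (.node 0xc651fd4348ada7 (.node 0x7384f9cc84c298 .nil .nil) (.node 0x14454e07f21e89 .nil .nil)) (.node 0xc4a323d087cc44 (.node 0x3da9d5ba546db5 .nil .nil) (.node 0xdf637fcd785607 .nil .nil))) (.node 0xedc5c39c04a9 (.node 0xadbeac644477fc (.node 0x59a55109452b36 .nil .nil) (.node 0xd68f58be41e7cb .nil .nil)) (.node 0x8c1706c23930b3 (.node 0x30bc30aa8e76c8 .nil .nil) .nil))) (.node 0xae06dc379c094f (.node 0x4d2dda853c184f (.node 0x931ad3a57458a7 (.node 0x655cdd2cfc04e5 .nil .nil) (.node 0x3a108188599db .nil .nil)) (.node 0x4a257496b01ad5 (.node 0x5519a449ac9dce .nil .nil) .nil)) (.node 0xab121f445175ee (.node 0xaeee18d09a1389 (.node 0x47f45adab7f6a5 .nil .nil) (.node 0xdab7989d9a8c7c .nil .nil))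 (.node 0xd0e32a5224837c (.node 0x224cd32bb77025 .nil .nil) .nil)))) (.node 0x5789b841195cfe (.node 0xc79e3bd684a328 (.node 0x2f1d98b3041a10 (.node 0x4df444c30ad686 (.node 0x76141e3ccbc23b .nil .nil) (.node 0xae87e98679a6c .nil .nil)) (.node 0x871dfc815572e4 (.node 0x2ae5783af79f34 .nil .nil) (.node 0xe8f383ee4f69e7 .nil .nil))) (.node 0xb29ad584d7f611 (.node 0xc0666a94abd46f (.node 0x5e6dccd963eb56 .nil .nil) (.node 0xd4437d0e8635c1 .nil .nil)) (.node 0x1bc08c324363c0 (.node 0x38dda2fa9914fe .nil .nil) .nil))) (.node 0x8b760b67254873 (.node 0x523c2ac427b47b (.node 0x4d8db26496337d (.node 0x6019ea4907d971 .nil .nil) (.node 0x11b13e68cd23d6 .nil .nil)) (.node 0xc7771506ca1be0 (.node 0x3b404c2a465515 .nil .nil) .nil)) (.node 0x8a0287a51f7198 (.node 0x5c1c7a4021180f (.node 0x5130649b156473 .nil .nil) (.node 0xe2e34c7d23cfb1 .nil .nil)) (.node 0x6f450edc335f47 (.node 0x24e8895be6af67 .nil .nil) .nil)))))))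 (.node 0xc3970545d1e082 (.node 0x8166ed05ee51f4 (.node 0xf10cda626e156 (.node 0x834fa86321d95 (.node 0x83066101271274 (.node 0x17494a47ca082f (.node 0x3899a1e4c6d6e4 (.node 0x6decd03c2c5d30 .nil .nil) (.node 0x22d8d62bbcaec0 .nil .nil)) (.node 0x5f78125007571e (.node 0x2e91aa4a102975 .nil .nil) (.node 0xe237497dc66a21 .nil .nil))) (.node 0x76a413c4724262 (.node 0xb7f28423ef3a0e (.node 0x5c387ac8f32936 .nil .nil) (.node 0xed11068d1a3c4 .nil .nil)) (.node 0xca7686b7075ada (.node 0x3a85de3b6627d1 .nil .nil) .nil))) (.node 0x8f363136531762 (.node 0xc0e6a37354d43e (.node 0x49b491048a32ac (.node 0x7aed064cb602b2 .nil .nil) (.node 0x3e0fdf88d93e4 .nil .nil)) (.node 0x8886af11757327 (.node 0x275d843b2e678b .nil .nil) (.node 0xe68b53dd485116 .nil .nil))) (.node 0x6450e3f389b15f (.node 0xbc660512e1cdba (.node 0x3615b0398edd3c .nil .nil) (.node 0xd26b8a8dabd22c .nil .nil)) (.node 0x1a25cd125d25a6 (.node 0x4bd1bf6b8e391b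 .nil .nil) .nil)))) (.node 0x918e68c1c0d8f8 (.node 0xc81ab046aea3a6 (.node 0x1a09cd276b86d0 (.node 0xacbe5a13bab85f (.node 0xa947d386481d6 .nil .nil) (.node 0x13e0abf7ee9dfe .nil .nil)) (.node 0xc2be5000748aab (.node 0x3fb8083abd79cc .nil .nil) (.node 0xe287577d79d5bd .nil .nil))) (.node 0x7348f8b27f4294 (.node 0xa3db1b154c35d5 (.node 0x5a5ce1493628f0 .nil .nil) (.node 0xd4af4a2e92b4ac .nil .nil)) (.node 0x8e272221a47133 (.node 0x5075e42b80a5d6 .nil .nil) .nil))) (.node 0x7dff03a787c68a (.node 0xa07e3f64393a41 (.node 0x971e33640ad7bb (.node 0x69dca9ed0c85b4 .nil .nil) (.node 0xb4166886f1075 .nil .nil)) (.node 0x4f180046ed1c0d (.node 0x2811b15a5d2511 .nil .nil) .nil)) (.node 0x4581b3e55a31bd (.node 0xad9ec720b9902d (.node 0x325dc39b405639 .nil .nil) (.node 0xdcbf7f3d41cb01 .nil .nil)) (.node 0xcfff28d21104cf (.node 0x25596b5bed6f81 .nil .nil) .nil))))) (.node 0xf24cdb64b61ee (.node 0x5f05ecb603e223 (.node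 0x89329b810711b0 (.node 0x14ccb427b28897 (.node 0x896ec962f3f1b9 (.node 0x7254c6ccab0323 .nil .nil) (.node 0x17f54217dbdc90 .nil .nil)) (.node 0xa7921dd04b15bb (.node 0x42b194fb20d206 .nil .nil) (.node 0xdeb3823d2255a4 .nil .nil))) (.node 0x710514f3250041 (.node 0x23d8786560ef4c (.node 0x63c15409282a81 .nil .nil) (.node 0xd4b752ad7a0b00 .nil .nil)) (.node 0x1fd4af922fa4bc (.node 0x4d51db6aa7b4bb .nil .nil) .nil))) (.node 0x7d1648e7454741 (.node 0xaff65dc3a27a55 (.node 0x434bae56bc3ef (.node 0x68a8ff9ce0c620 .nil .nil) (.node 0x73539282789e4 .nil .nil)) (.node 0xbb3ea9a150cd11 (.node 0x563d7219fbded1 .nil .nil) .nil)) (.node 0x4b4437a2a4d6e6 (.node 0x59dd22908f98e6 (.node 0x3684700a1daa99 .nil .nil) (.node 0xd5139abd64cb63 .nil .nil)) (.node 0x8dd6eae1edf0a2 (.node 0x1fa0e02c1af052 .nil .nil) .nil)))) (.node 0x85e9fb50fa5213 (.node 0x92c274167796bc (.node 0x891e95a0a28912 (.node 0xbf8744e2ce8c3d (.node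 0x78741b4cce8210 .nil .nil) (.node 0xcf01c984c9a9f .nil .nil)) (.node 0x32a04c915aa3cf (.node 0x28744a9a66b8fc .nil .nil) (.node 0xe9f3941e3d69f9 .nil .nil))) (.node 0x39145ea3d673ab (.node 0x99da81e52566aa (.node 0x1c707518f91e26 .nil .nil) (.node 0xd98f4afe53e811 .nil .nil)) (.node 0xcf2e06d2528481 (.node 0x48d4609a8fcaec .nil .nil) .nil))) (.node 0x828fa67a70784 (.node 0xb836c813e27a13 (.node 0xcb0695f4f0a77f (.node 0x682d0c7ce68526 .nil .nil) (.node 0xe0cdb78bb63f8 .nil .nil)) (.node 0xba667546c11ba6 (.node 0x4509ad2ae74c6d .nil .nil) .nil)) (.node 0x2dd1d192e432ce (.node 0xc4ee22e033106f (.node 0x2fa84f9b181d38 .nil .nil) (.node 0xdd279f2e65f947 .nil .nil)) (.node 0x6ba1181c209e22 (.node 0x26c80debcf6ff0 .nil .nil) .nil)))))) (.node 0xc3420cb5b9e1a2 (.node 0x9e9a5f359ee1cf (.node 0xaca659e5b0e160 (.node 0x33d070a0f21dbc (.node 0xacb65a271887e2 (.node 0xc89e685515a886 (.node 0x712d158c948046 .nil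 .nil) (.node 0x213d1e5baa7060 .nil .nil)) (.node 0xc2320e20cf15cb (.node 0x43900349a7f987 .nil .nil) (.node 0xe1439e4e0b2b6d .nil .nil))) (.node 0x997afc74e37829 (.node 0xb7020f93f9f8c7 (.node 0x630d2c491773a2 .nil .nil) (.node 0x101d6348aee49c .nil .nil)) (.node 0xa0fa5cc21a6e71 (.node 0x4209a809ed662c .nil .nil) .nil))) (.node 0x8b120bb186638b (.node 0xaf72a78508b673 (.node 0xa8e697b4f4ac9e (.node 0x7bccefcca74030 .nil .nil) (.node 0x588c8b8a58a63 .nil .nil)) (.node 0x2ea861b13fa5ed (.node 0x2c045dcb7178b8 .nil .nil) (.node 0xe7035a0d24cf54 .nil .nil))) (.node 0xb4726be33a77d5 (.node 0xb246f7f07953b8 (.node 0x34bc409b930c04 .nil .nil) (.node 0xd69b729d6612d9 .nil .nil)) (.node 0xd1a2ec01b683fa (.node 0x49217a79dab95e .nil .nil) .nil)))) (.node 0x919e69b0dc5907 (.node 0x40f808766922ee (.node 0xb4f2a57790c71b (.node 0x2238d27453b02f (.node 0x76e0143c7d4269 .nil .nil) (.node 0x14ad5727e4dcc9 .nil .nil))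 (.node 0x88cae0b190f1c9 (.node 0x53289b3a348e83 .nil .nil) (.node 0xe3eb688e7477d2 .nil .nil))) (.node 0x93fed1a57a56dc (.node 0x35c9af63c9733d (.node 0x63792f191dda96 .nil .nil) (.node 0xd79b5e8da3ca4d .nil .nil)) (.node 0x23e47881c123f6 (.node 0x32d44d7b5764b9 .nil .nil) .nil))) (.node 0xa0563c373688cc (.node 0x8f7316858c5801 (.node 0x58b892b31e59b6 (.node 0x179140d7d945e4 .nil .nil) (.node 0x17415e880950d .nil .nil)) (.node 0xcb3a96a6c5db53 (.node 0x53857e7a4f25d8 .nil .nil) .nil)) (.node 0x9f52bba36ce872 (.node 0x60fd6ec0a357af (.node 0x50080ccb9a7898 .nil .nil) (.node 0xe463604e1d2803 .nil .nil)) (.node 0x6e38a70c2aa01b (.node 0x1b60219bff2fc8 .nil .nil) .nil))))) (.node 0xb94ef085986130 (.node 0xabde8b75c9a27e (.node 0x54e1a3169e22c7 (.node 0xacf2f23730c780 (.node 0x5c6d8c9534f10b (.node 0x7b78fcecbd006e .nil .nil) (.node 0x1714c207d41ebf .nil .nil)) (.node 0x62dd2bd06216a6 (.node 0x45bdb46a3ab88b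 .nil .nil) (.node 0xdfd7807d3dd2df .nil .nil))) (.node 0x9bfab3539ab782 (.node 0xad86c7143c1145 (.node 0x5924b1f93aace2 .nil .nil) (.node 0xdb2b735deaa6e8 .nil .nil)) (.node 0xd1365301d683c7 (.node 0x50bdabeafe3638 .nil .nil) .nil))) (.node 0xa6e6bf5796893c (.node 0x89ba8615443356 (.node 0xbb86df428f0c8a (.node 0x6a70b32d07450d .nil .nil) (.node 0x8dd0a68359339 .nil .nil)) (.node 0xbfaf44c70edc1e (.node 0x55786c7adadc4f .nil .nil) .nil)) (.node 0x935a93244856f8 (.node 0xc3bf05303a4ea6 (.node 0x38159a9a7a5e5a .nil .nil) (.node 0xdb9b84fe9eb5d6 .nil .nil)) (.node 0x1e309fb2022451 (.node 0x1df12dbc0eeef3 .nil .nil) .nil)))) (.node 0x96633940e8570f (.node 0x35d9af168c236c (.node 0x862b3c02fff229 (.node 0x89ca86037ff357 (.node 0x78d4867c624140 .nil .nil) (.node 0x31590185d11fe .nil .nil)) (.node 0xbe7313116b91de (.node 0x2b005639b979c0 .nil .nil) (.node 0xe8737aee3469a1 .nil .nil))) (.node 0x913df4e4cf1840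 (.node 0x1fc0afc357ee9d (.node 0x607c0f991099ea .nil .nil) (.node 0xd92b6e3e32a844 .nil .nil)) (.node 0xb86ac8c241ead6 (.node 0x4a6575da1e54b3 .nil .nil) .nil))) (.node 0xb3ea158720c864 (.node 0x9b2333b425376f (.node 0x99ae81c49435a3 (.node 0x5ec823796df446 .nil .nil) (.node 0xd9cc4f8df649d .nil .nil)) (.node 0x54e5a376da1bc3 (.node 0x437c27ca71cc1e .nil .nil) .nil)) (.node 0xcb5261c51bac2c (.node 0xd05e28401c834e (.node 0x3145e13a831111 .nil .nil) (.node 0xdf538bdd560bb5 .nil .nil)) (.node 0x6ca93d5c37a045 (.node 0x1d11890bdc6fb5 .nil .nil) .nil))))))))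

/-- Part of `setTab`. -/
noncomputable def setTab_r_r_r_l_r : Arr ℕ :=
  (.node 0x60808dc5d3e061 (.node 0x1118ea45cce075 (.node 0xa232d695f4e0d0 (.node 0xb87e5b6622e13e (.node 0x9c761a062e61ab (.node 0x408de6e1269d15 (.node 0x9b2733a7bc081b (.node 0x978e37c49dd789 (.node 0x7089344c241cba .nil .nil) (.node 0x23215c3c037001 .nil .nil)) (.node 0xa70abf60ae4c32 (.node 0x519d984a137904 .nil .nil) (.node 0xe28b578e5b6aab .nil .nil))) (.node 0x9c22e45275f66f (.node 0x859f3f3299f23a (.node 0x61687748f8e7ea .nil .nil) (.node 0xd311a68b724e2 .nil .nil)) (.node 0x3cfc3117041aee (.node 0x4619d75b60b7a7 .nil .nil) .nil))) (.node 0xc85ee1b696a365 (.node 0x21051db351b06e (.node 0x8876aec4867324 (.node 0x72d942fcb182c5 .nil .nil) (.node 0x470bbc830da23 .nil .nil)) (.node 0xbeb634f170cdf6 (.node 0x2a1072f9f753d7 .nil .nil) (.node 0xe61b704db84d25 .nil .nil))) (.node 0x9e121af48276c5 (.node 0x1b5020a2deafcc (.node 0x37a86b29d49f35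 .nil .nil) (.node 0xdb338a5d52cde0 .nil .nil)) (.node 0x8e1322a1cbf136 (.node 0x4758988b4b683b .nil .nil) .nil)))) (.node 0x7e9207f61c0ebe (.node 0x37d99a66aae3a5 (.node 0x7f9229477549b1 (.node 0xa82a6253b5fa26 (.node 0x757164fc6c81f6 .nil .nil) (.node 0x16a10478169db9 .nil .nil)) (.node 0x5bb8d7606f589f (.node 0x44a834faef9d73 .nil .nil) (.node 0xe44f893de32e37 .nil .nil))) (.node 0xb4ae9e443276a7 (.node 0xc852e122bcee6c (.node 0x2080e0a9339cee .nil .nil) (.node 0xd71b73ce8eb5aa .nil .nil)) (.node 0xd0e72a61a9437b (.node 0x50342a599ef9fd .nil .nil) .nil))) (.node 0x8c0f06075a495d (.node 0x82ca9512c73312 (.node 0xbc560564129252 (.node 0x65f0e64cf685e0 .nil .nil) (.node 0xa088108504fae .nil .nil)) (.node 0xba82d4f6d9db41 (.node 0x57b1b93a61e45c .nil .nil) .nil)) (.node 0xa612fd03c0f863 (.node 0xc572eb30c2cd42 (.node 0x4c9973ab1123f4 .nil .nil) (.node 0xe577686db795a3 .nil .nil)) (.node 0x1e349f920f2529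 (.node 0x241c793bd1af49 .nil .nil) .nil))))) (.node 0xa9cf31c63ce108 (.node 0x7fff2b15db151c (.node 0x4fe00b91061e7d (.node 0x8d7649c7af48a9 (.node 0x9e7b3692f9e7b1 (.node 0x680c5981cc30f .nil .nil) (.node 0x1928de0805dee9 .nil .nil)) (.node 0xc37a0c30471334 (.node 0x3ab4335b7e538f .nil .nil) (.node 0xde03633d33d3a3 .nil .nil))) (.node 0x886aae832d3320 (.node 0x98667bd56a7976 (.node 0x5be0d7a9556903 .nil .nil) (.node 0xda6fa4bd294b49 .nil .nil)) (.node 0xb02ef551f2a66d (.node 0x3389dfeaa3b681 .nil .nil) .nil))) (.node 0x9da2ad8749c732 (.node 0x841b1073acf2b1 (.node 0xad8ec7f3ff2e18 (.node 0x7ce5375c998304 .nil .nil) (.node 0x7a8f1b899594d .nil .nil)) (.node 0x30a82f514ce566 (.node 0x58e8935b295cfb .nil .nil) .nil)) (.node 0xaa6265a2ae38d4 (.node 0x9ed25ff0528c9c (.node 0x4a04915a16ae27 .nil .nil) (.node 0xdbab905e28e88b .nil .nil)) (.node 0xcf3e06e1e4447b (.node 0x2004afdba42e98 .nil .nil) .nil))))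 (.node 0x48a46070f89cfd (.node 0x8aca4bd16c2330 (.node 0x7e8207975708fa (.node 0x1c8c7582cb6f5f (.node 0x774dc78c7200e5 .nil .nil) (.node 0xba5c9f8738c97 .nil .nil)) (.node 0x85b73f019d7230 (.node 0x581c424a6ab719 .nil .nil) (.node 0xe9d38f4e23a68d .nil .nil))) (.node 0xb52a6ec3e1766a (.node 0x7461677523c1c6 (.node 0x61c18ab8ff3402 .nil .nil) (.node 0xd97b4b5dd0acd5 .nil .nil)) (.node 0x23e078925025ee (.node 0x4c28906b0b0e02 .nil .nil) .nil))) (.node 0xb74730f7a347b1 (.node 0x81e6c113ecb361 (.node 0x33182e04ebf449 (.node 0x6acd554d028679 .nil .nil) (.node 0xfb0d238e7a4e3 .nil .nil)) (.node 0xc63f4157019b6f (.node 0x3c71bd9ae2caee .nil .nil) .nil)) (.node 0xab631eb2eeb8f9 (.node 0x5c187a502e17f6 (.node 0x31fc3b79e7b49f .nil .nil) (.node 0xe3338c3e6ef791 .nil .nil)) (.node 0x70f4f31c58dd91 (.node 0x25a9ec7bf0af39 .nil .nil) .nil)))))) (.node 0xd111955b4e19e (.node 0x4f4cab59c5d1c (.node 0x97be38b22f1808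 (.node 0x84171031154f91 (.node 0x23615e5717c7d4 (.node 0x2d057c4510d7be (.node 0x6c41316c479fb1 .nil .nil) (.node 0x21a952ec14aeaa .nil .nil)) (.node 0x5d9dce90ca1827 (.node 0x3cb9dca9a676e2 .nil .nil) (.node 0xdef79e8e7a3961 .nil .nil))) (.node 0xbfe203846f0c22 (.node 0xba9ad4d4198e08 (.node 0x5ad95d9919d98a .nil .nil) (.node 0xe715a98db25f3 .nil .nil)) (.node 0xcf3606521e847f (.node 0x3fb59659f1e63e .nil .nil) .nil))) (.node 0x920e6fd65e965c (.node 0xa6aefe64bc1268 (.node 0x56bdbf84f1f1fd (.node 0x73e9099c8f00ce .nil .nil) (.node 0x6151728189a9d .nil .nil)) (.node 0x86473c91833228 (.node 0x544d9f6b6d77f6 .nil .nil) (.node 0xe6f377ed9c0e56 .nil .nil))) (.node 0xa0c65cb3093a56 (.node 0xc23e0ee0810dc1 (.node 0x4b6c383b974e9c .nil .nil) (.node 0xd58b584e87b53d .nil .nil)) (.node 0x1a21cd01b4243e (.node 0x4ad443b9962731 .nil .nil) .nil)))) (.node 0x8a1e87c12ed17f (.node 0x8f8716767057f3 (.node 0xb81284576746cc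 (.node 0xacba59b45cb747 (.node 0x75d1f1ecc20126 .nil .nil) (.node 0x15e901680e1d9a .nil .nil)) (.node 0xbbfaac218b9288 (.node 0x2cc499ba3295da .nil .nil) (.node 0xe52761cd74d030 .nil .nil))) (.node 0xc1827722884fa1 (.node 0xa15e7273d474a1 (.node 0x5b316099229a32 .nil .nil) (.node 0xd70f8dcd6b8b7e .nil .nil)) (.node 0xa216918267e72c (.node 0x52502b69a02591 .nil .nil) .nil))) (.node 0x1938e7273408d4 (.node 0xbc8b45d4624a8a (.node 0x9139f4f371d842 (.node 0x690502acecc601 .nil .nil) (.node 0x3df3d83ecae6 .nil .nil)) (.node 0x5041e3e6c39b60 (.node 0x2d317d2a4ae5c6 .nil .nil) .nil)) (.node 0x758df1636ac12b (.node 0xa706bef0124f7f (.node 0x52b9d0e98778e0 .nil .nil) (.node 0xe5474f6d7d10c3 .nil .nil)) (.node 0x6fad591c429fd8 (.node 0x1a4dce2bc1af05 .nil .nil) .nil))))) (.node 0x5b44d45597e126 (.node 0xc28e4fe601221f (.node 0x95cb3bc137d742 (.node 0x8649f8908f0773 (.node 0x8705fc233ff2eb (.node 0x7308bcfcb98095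 .nil .nil) (.node 0x19e92637fb1ea1 .nil .nil)) (.node 0xaa0731f08dca1f (.node 0x432dd3ba5aac34 .nil .nil) (.node 0xe197778e727770 .nil .nil))) (.node 0xbda232d3a08f3a (.node 0x3bc83c443a590e (.node 0x64ed204947ec0c .nil .nil) (.node 0xd44b75ed99d1ca .nil .nil)) (.node 0x1fd0af81d4a504 (.node 0x2f31999b027633 .nil .nil) .nil))) (.node 0xca01c17954924 (.node 0xab321f653cceb9 (.node 0x216551c28beead (.node 0x13e8b267efc4fa .nil .nil) (.node 0x94d45488a19f3 .nil .nil)) (.node 0xcdf9ffe6b29ac1 (.node 0x2bb59e19b11de6 .nil .nil) .nil)) (.node 0xa7e296d3c27a3b (.node 0x64b91f6034d65f (.node 0x4851a08a7876f5 .nil .nil) (.node 0xd477884d53125c .nil .nil)) (.node 0xb5d31aa22de67f (.node 0x1e40a02bb37035 .nil .nil) .nil)))) (.node 0x898ac9f11a10bb (.node 0x8faa2ce6891793 (.node 0xa80ab463054e3a (.node 0x99d281230c0fd1 (.node 0x74fc7cbc67016a .nil .nil) (.node 0x2048828631a84 .nil .nil)) (.node 0x2d742c3166247f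 (.node 0x54905c79b7f52c .nil .nil) (.node 0xe85b7d6dc32659 .nil .nil))) (.node 0x9eda3c1335fa42 (.node 0xa42613e4b27921 (.node 0x5f49ed095dad26 .nil .nil) (.node 0xd75b481e9df6e6 .nil .nil)) (.node 0xd1aaec924543f8 (.node 0x47b19c8a9d5517 .nil .nil) .nil))) (.node 0x14c8b4371c0862 (.node 0xb3765c4429d29b (.node 0xaf5adb8498277d (.node 0x5db9cf0903f3c6 .nil .nil) (.node 0xf3cce28c4e5bb .nil .nil)) (.node 0xbf8f44b6f79af9 (.node 0x3e00295a6d8c05 .nil .nil) .nil)) (.node 0x710d14e517c03f (.node 0xc3ea51c026d445 (.node 0x4f9dd9ca81946b .nil .nil) (.node 0xdf276a0d48d19f .nil .nil)) (.node 0x6ee0cd5c4fdf55 (.node 0x1be48c8be2af77 .nil .nil) .nil))))))) (.node 0xabe28b35f9e0e1 (.node 0x945ab791a696a1 (.node 0xc24b2d062ba15a (.node 0xb20af7e635e1c1 (.node 0x9302d3f0e298a8 (.node 0x9982fce7cd4835 (.node 0xa3666e44c813a8 (.node 0x6ea527bc54ddab .nil .nil) (.node 0x1ec4a31bb8aed0 .nil .nil)) (.node 0xc5eb21300cc9fa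 (.node 0x3f2853fa0a7939 .nil .nil) (.node 0xe12f787df66d7d .nil .nil))) (.node 0xaf5edaf4746abf (.node 0xb70e0f441f392a (.node 0x5d6d6c797f2610 .nil .nil) (.node 0x114ceac8c965cd .nil .nil)) (.node 0xc0967156ba5c37 (.node 0x3d4c31d9c1ac97 .nil .nil) .nil))) (.node 0x464c036657e2bb (.node 0xae8f3754b87779 (.node 0xa66e43b48cec6b (.node 0x7aa5465c8980af .nil .nil) (.node 0x9acbe289213cc .nil .nil)) (.node 0x3171bb6179e5c0 (.node 0x589570fb32add4 .nil .nil) (.node 0xe73b7e1d570e3d .nil .nil))) (.node 0xa5e642538c6c08 (.node 0xa16a71f2dab82d (.node 0x4adc37598979d2 .nil .nil) (.node 0xd6c7a3ed8c4a64 .nil .nil)) (.node 0xce7e48025f4431 (.node 0x355db70b8b6cfb .nil .nil) .nil)))) (.node 0x9fc2d0e617e091 (.node 0x2f1198e6a563b2 (.node 0x8b232e276e46d3 (.node 0x1dbd2d63b12efd (.node 0x7901919c6b41ec .nil .nil) (.node 0x197ce877f79e16 .nil .nil)) (.node 0xcfd328806a84d5 (.node 0x4118097ad3a426 .nil .nil) (.node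 0xe15f92dd644c34 .nil .nil))) (.node 0xab3a1f5280acef (.node 0x49d090f54e3389 (.node 0x623ca26952ae5e .nil .nil) (.node 0xd4db953e9bf4f0 .nil .nil)) (.node 0x2585eb026a6408 (.node 0x306de31b856410 .nil .nil) .nil))) (.node 0x81cac0e0bcc6a3 (.node 0x90533ad4669721 (.node 0x357c47d376996d (.node 0x6679249cf0c598 .nil .nil) (.node 0x24d93886a905c .nil .nil)) (.node 0xc8ba67e6ef9bfb (.node 0x29403e6acf64c6 .nil .nil) .nil)) (.node 0xc69743a55ea9e2 (.node 0x5f7c1240145707 (.node 0x4dd1b37b421609 .nil .nil) (.node 0xe50f760d99530c .nil .nil)) (.node 0xac96f1820cacc4 (.node 0x1c456e7be96f91 .nil .nil) .nil))))) (.node 0xc3520c064f61fd (.node 0xaadab11604a225 (.node 0x9276b6b0d558d4 (.node 0xaec61837b5089d (.node 0x511c639344747f (.node 0x7a2cb9ac838289 .nil .nil) (.node 0x15690dd808dc78 .nil .nil)) (.node 0x59d922608298ff (.node 0x3ed5a6ab1cd129 .nil .nil) (.node 0xe2bb67ed57cb4e .nil .nil))) (.node 0xca02cad328ec2d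 (.node 0xbfd202e563d0e2 (.node 0x5a1923092b1a1f .nil .nil) (.node 0xd44f741d388c30 .nil .nil)) (.node 0xceeb02c2324464 (.node 0x4f38019a8a36c3 .nil .nil) .nil))) (.node 0x23c878b79b8940 (.node 0xaf4adac3a6b7f3 (.node 0xc1068d35704fd4 (.node 0x67e0b71d188637 .nil .nil) (.node 0x65914682309ca .nil .nil)) (.node 0x8912671147b303 (.node 0x29b182ca001eb9 .nil .nil) .nil)) (.node 0xcce71142a92667 (.node 0xc4664d009490ea (.node 0x39345f7ab3788a .nil .nil) (.node 0xd5c77e2d67cd4b .nil .nil)) (.node 0x2175520222e4f2 (.node 0x21fcad3c1ef042 .nil .nil) .nil)))) (.node 0x92b67400ef96c8 (.node 0x5795b86680e324 (.node 0xad3683b7504921 (.node 0x90adf823121871 (.node 0xd01d4876c225 .nil .nil) (.node 0xcc1fc8481ab7 .nil .nil)) (.node 0xbf7204c15e1366 (.node 0x55b1769af5b4a8 .nil .nil) (.node 0xe91f606e2b67fd .nil .nil))) (.node 0xc7aa3b53db2bc8 (.node 0x9114414a7c3bb (.node 0x5cb58d88fa1a1b .nil .nil) (.node 0xd92f6e5dda2b38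 .nil .nil)) (.node 0x8b532e024e3127 (.node 0x387458da94d38d .nil .nil) .nil))) (.node 0x8a96e897a8c78b (.node 0x95b6aaf3e4d8f2 (.node 0x890666c4e87300 (.node 0x6799403d1dc537 .nil .nil) (.node 0x121132b8d6a5e1 .nil .nil)) (.node 0x357847e6c85bf6 (.node 0x4564472a4214fc .nil .nil) .nil)) (.node 0xca528692e92d24 (.node 0xab0ab0a02c519d (.node 0x50fc632a10f98d .nil .nil) (.node 0xe213499e78770d .nil .nil)) (.node 0x6d24e9ac485ca3 (.node 0x1a9424abcb6fe0 .nil .nil) .nil)))))) (.node 0x7fc629f5bc503a (.node 0x7e130306424da4 (.node 0x11ed31f5df20b0 (.node 0x860b3cb0f38a49 (.node 0x550c7871147b8 (.node 0x81f6c1250d3363 (.node 0x7c993a8c910055 .nil .nil) (.node 0x20614f6bae7070 .nil .nil)) (.node 0xaa4a9ab0c78c02 (.node 0x43c9d899a9a5e2 .nil .nil) (.node 0xe4a791dd53d327 .nil .nil))) (.node 0x343586c4d9d7bf (.node 0x1dc52d03f0eeff (.node 0x6288a5695ab3d3 .nil .nil) (.node 0x10d0a8b8ec24f5 .nil .nil)) (.node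 0x23115b31f5655f (.node 0x521c508a2eab3c .nil .nil) .nil))) (.node 0x942e768664d8b4 (.node 0x415064e4fdd90f (.node 0xb52e6f440776ae (.node 0x7210c99ca04007 .nil .nil) (.node 0x804eef8a10a7c .nil .nil)) (.node 0xbbf6aba143d257 (.node 0x53e4560b753849 .nil .nil) (.node 0xe6b382dd6e8d8a .nil .nil))) (.node 0x1a15cd43316f0d (.node 0x62d92bb05516bf (.node 0x39a97fdb4e8d9e .nil .nil) (.node 0xd2976fde5fe908 .nil .nil)) (.node 0xb0f6bbd1b1e783 (.node 0x37357bd9def963 .nil .nil) .nil)))) (.node 0x55a576710c1d76 (.node 0xc946c2166c22f7 (.node 0x18d4dd978886fa (.node 0xba92d52456ca59 (.node 0x7798184c7ac24e .nil .nil) (.node 0x18b11d17ffdcb1 .nil .nil)) (.node 0x2f0d989194e3ea (.node 0x28f9b5eac7a7f5 .nil .nil) (.node 0xdca3689da55496 .nil .nil))) (.node 0x2d802c757e99b3 (.node 0xcda74283ce6bc9 (.node 0x5ce88bb975a865 .nil .nil) (.node 0xd3fb66add1e7a7 .nil .nil)) (.node 0xd0f32a01c34376 (.node 0x4e20455b5b64a7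 .nil .nil) .nil))) (.node 0x7e7607573fc8e1 (.node 0x4849a065851984 (.node 0xc9ee807322a885 (.node 0x66ad49fd1645fa .nil .nil) (.node 0xc1819187c14f4 .nil .nil)) (.node 0xbe163916fd1b8f (.node 0x40ade7aabc9452 .nil .nil) .nil)) (.node 0x250d6a73646f8f (.node 0xc3372f30a8cf8e (.node 0x30280b1b9fe92b .nil .nil) (.node 0xe4db568e126cca .nil .nil)) (.node 0x12489db8bedf77 (.node 0x25fc117bfb2fd8 .nil .nil) .nil))))) (.node 0x12c4f3f5912116 (.node 0xe5c5b5c05c45 (.node 0xcad6cd26a262ce (.node 0x15ad00e776c9a5 (.node 0xcc6b0b553a6645 (.node 0x798482bcd4017c .nil .nil) (.node 0x1648f858131ed7 .nil .nil)) (.node 0xc566ebf06754bd (.node 0x3b81c1aa3fb4af .nil .nil) (.node 0xde5383ce556e74 .nil .nil))) (.node 0x54119ef434733c (.node 0x892e9b72b431e9 (.node 0x6460e4894033a7 .nil .nil) (.node 0xdb3f8cee3e2dcd .nil .nil)) (.node 0x9e873601dee605 (.node 0x4e71ae49c976e7 .nil .nil) .nil))) (.node 0xa1b6b92760c982 (.node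 0x59d522a2bdb16e (.node 0x948ebcc29316ac (.node 0x6948f5fcea8574 .nil .nil) (.node 0x4b147b83a1352 .nil .nil)) (.node 0x48f97966e61bdf (.node 0x2a646dbae176de .nil .nil) .nil)) (.node 0x4c188f73c39a88 (.node 0xcfc728e03d04d1 (.node 0x342c8f1b07f993 .nil .nil) (.node 0xd387598d7cd109 .nil .nil)) (.node 0xd022089204c35c (.node 0x23ad5e9c0aeee3 .nil .nil) .nil)))) (.node 0x7f4209611e44ad (.node 0xcd8b4296912370 (.node 0x7acd05934b42ae (.node 0x343186b383f27f (.node 0x79d18f6cddc1b4 .nil .nil) (.node 0xa7969485891e5 .nil .nil)) (.node 0x895e9b416331e3 (.node 0x2b4456e9bae4dc .nil .nil) (.node 0xe8d393ce2ca6c3 .nil .nil))) (.node 0x4d41dab4781a16 (.node 0xc1e6bdc35a9146 (.node 0x5e3c26890b9a49 .nil .nil) (.node 0xdb674bcd24513b .nil .nil)) (.node 0x1bc48c21ce65b8 (.node 0x36d1867a22949b .nil .nil) .nil))) (.node 0x7d0a48c7c307f7 (.node 0x53b054f27856b7 (.node 0x5d356bf29d708d (.node 0x263411f9651d66 .nil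 .nil) (.node 0x13513618b2a4f4 .nil .nil)) (.node 0xc9367ea6dd5bb6 (.node 0x426452db3aec9b .nil .nil) .nil)) (.node 0xbec1884a183bd (.node 0x60f96eb0b05796 (.node 0x33502e3aaa28a3 .nil .nil) (.node 0xe593682e4b2a56 .nil .nil)) (.node 0x6b3cc38c5fdff6 (.node 0x248d8bbbd86fa5 .nil .nil) .nil))))))))

/-- Part of `setTab`. -/
noncomputable def setTab_r_r_r_l : Arr ℕ :=
  .node 0xc2db0746136278 setTab_r_r_r_l_l setTab_r_r_r_l_r

/-- Part of `setTab`. -/
noncomputable def setTab_r_r_r_r_l : Arr ℕ :=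
  (.node 0xb4a69d960ce261 (.node 0x94a6a2d1c09640 (.node 0x7e1f03b5f30d72 (.node 0x7d7e56a6240cbf (.node 0x12c8f3e62d21b0 (.node 0x87be3561221477 (.node 0x68d3af7b90807 (.node 0x1c8875249cef5d (.node 0x7075348c279fa2 .nil .nil) (.node 0x1d792a7c048ef7 .nil .nil)) (.node 0x5d3d6bc0a9d7ae (.node 0x2e9c618a10b98c .nil .nil) (.node 0xdc4b922e627809 .nil .nil))) (.node 0x39105eb2715983 (.node 0x7581f17298812a (.node 0x619477b8f51a37 .nil .nil) (.node 0x1310f4c8e60cdb .nil .nil)) (.node 0xca7a86d6e2db21 (.node 0x43f404e9c1f982 .nil .nil) .nil))) (.node 0x955ade96955673 (.node 0xb03a79334ffa15 (.node 0x362c6ee48432bc (.node 0x748167ecdb01d3 .nil .nil) (.node 0x848fb782d8b92 .nil .nil)) (.node 0x836ae6d16ef337 (.node 0x2a187329f7dc7b .nil .nil) (.node 0xe7b7998d37d426 .nil .nil))) (.node 0x567494347df42f (.node 0xba4a750360d12d (.node 0x49786959d292c8 .nil .nil) (.node 0xd42b676e973569 .nil .nil)) (.node 0x24b088f1c7e5ca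 (.node 0x4754987b4a1cc5 .nil .nil) .nil)))) (.node 0x5c047a361ba097 (.node 0xcccb11d69de2e4 (.node 0x19b125477089bd (.node 0xcd59fef533eae1 (.node 0x7454802cd1418c .nil .nil) (.node 0x17694b07d6909d .nil .nil)) (.node 0xc2fb07e060d4d6 (.node 0x3c183d7aec2881 .nil .nil) (.node 0xe1e354ed279062 .nil .nil))) (.node 0x484da0042e345c (.node 0xa41e1402bc75fb (.node 0x6400aea9336646 .nil .nil) (.node 0xd593587d6089cd .nil .nil)) (.node 0x8b3b2e71aaf123 (.node 0x31bdbc29cc2b82 .nil .nil) .nil))) (.node 0x810f01a75d4964 (.node 0x728542e2c542cb (.node 0x8fb22cd41117a3 (.node 0x6610e67cf5c5cd .nil .nil) (.node 0x2a084e8568dc3 .nil .nil)) (.node 0x39d495a6d59b48 (.node 0x57b9b95a6277a2 .nil .nil) .nil)) (.node 0x3a45dda3bdb3f8 (.node 0xa5aac630c01046 (.node 0x4cbd73eb13ea00 .nil .nil) (.node 0xe01b5c5e256b3e .nil .nil)) (.node 0xd03e0881fe435d (.node 0x1cc0764bd4559c .nil .nil) .nil))))) (.node 0xd1d194638e104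 (.node 0xaa47d75d85eb4 (.node 0x82667fb101d3cb (.node 0x166103c7acc8bb (.node 0x8242c322fa31a9 (.node 0x7c10ed1cae0334 .nil .nil) (.node 0x14fcb537e88c8e .nil .nil)) (.node 0xab4e1ee04495d4 (.node 0x3ac4331b7d78f7 .nil .nil) (.node 0xe50b6ede65b7fe .nil .nil))) (.node 0x62d52b9329f08e (.node 0x1c847535672f5c (.node 0x5bc8d83955ebfc .nil .nil) (.node 0xd64f730de3edae .nil .nil)) (.node 0x1d652a11eee54d (.node 0x2ec0630a2a1312 .nil .nil) .nil))) (.node 0x8bff06674a8721 (.node 0x74656713aac1c4 (.node 0x9cfedaa400f53b (.node 0x68536281c82f5 .nil .nil) (.node 0x514cb289ecd45 .nil .nil)) (.node 0xc07a6a613d523f (.node 0x27bc749b258aba .nil .nil) .nil)) (.node 0x28584972aa9a13 (.node 0x5a9d5cd04e96a7 (.node 0x49d491fa1875f4 .nil .nil) (.node 0xd617486da290bc .nil .nil)) (.node 0x8c1b06f1e770b2 (.node 0x20e0e3aba0d53a .nil .nil) .nil)))) (.node 0x801e2580f70492 (.node 0xcb6e61767f2351 (.node 0x1c116d3753c8f3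 (.node 0xbc2b47b2d4cc57 (.node 0x7685c4ac778103 .nil .nil) (.node 0x105c6987acc45 .nil .nil)) (.node 0x50b1aaa19b63fc (.node 0x56edc09ac2e480 .nil .nil) (.node 0xe863554e22681f .nil .nil))) (.node 0x51046373dd169f (.node 0xc69f43052ded02 (.node 0x60cc8e596feb05 .nil .nil) (.node 0xda53873e8cb51c .nil .nil)) (.node 0xd0ef2a31bcc377 (.node 0x4c3c8fab0a383c .nil .nil) .nil))) (.node 0x7def0377a547a8 (.node 0x7224c603eac318 (.node 0xcbc2b5b31c6d54 (.node 0x6af555cd00466e .nil .nil) (.node 0x109d2948ab4ae1 .nil .nil)) (.node 0xbf234647025b77 (.node 0x3c69bd0ae35e10 .nil .nil) .nil)) (.node 0x55957632eb1776 (.node 0xc4ab2310a24fa8 (.node 0x4ef436e9e10a54 .nil .nil) (.node 0xe1d78c9dab52f4 .nil .nil)) (.node 0x70d0f2ec5b1f8c (.node 0x1b09cafbf693fb .nil .nil) .nil)))))) (.node 0xc4c62245e92256 (.node 0xc4564d35a721ea (.node 0xab5b1e35aba176 (.node 0x919a6911169909 (.node 0xae461c77c8c84b (.node 0xa4be6d34c24e52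 (.node 0x10412858a85fac .nil .nil) (.node 0x1f19218c12cd2c .nil .nil)) (.node 0xc2772d20064a14 (.node 0x418c661a044e1d .nil .nil) (.node 0xe07fa30e4829ef .nil .nil))) (.node 0xb7c264946e7932 (.node 0xb6c31fb4197802 (.node 0x61216f69796dfa .nil .nil) (.node 0x12a09ee8c18c5f .nil .nil)) (.node 0xb1765e1220ee61 (.node 0x44280609c3244f .nil .nil) .nil))) (.node 0x49bc90c65ca37b (.node 0xaec21854bef8b1 (.node 0xaa7a6674faacaf (.node 0x73f108fc8ec0bc .nil .nil) (.node 0x6a93c0820d5b3 .nil .nil)) (.node 0x4e65adb18065d2 (.node 0x2c71a50b682531 .nil .nil) (.node 0xe75f99fd34d349 .nil .nil))) (.node 0xcba6e7439526ad (.node 0xa0baf4c07fd3a0 (.node 0x4b9837eb97a799 .nil .nil) (.node 0xd4837c9e00a89c .nil .nil)) (.node 0xce62482258c430 (.node 0x3598490997e548 .nil .nil) .nil)))) (.node 0x973308712f97e6 (.node 0x2d117c066ea2fc (.node 0xa802b4176806c9 (.node 0x1e249f7459b03f (.node 0x75b1f18cc1c12d .nil .nil) (.node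 0x1838b837de920d .nil .nil)) (.node 0x83b6b5618a71d9 (.node 0x2cd49a4a31f944 .nil .nil) (.node 0xe5b74bdd8f113e .nil .nil))) (.node 0x951ed812861919 (.node 0x4ae1b9a3cfb32d (.node 0x5b1d60692333e4 .nil .nil) (.node 0xda8b786e502d7b .nil .nil)) (.node 0x1af1ca1263e41a (.node 0x52542bb9a1388f .nil .nil) .nil))) (.node 0xaa229aa77f06ac (.node 0xa4f69f5462f8b6 (.node 0x453c463370b409 (.node 0x6a154c2d0a058f .nil .nil) (.node 0xc59f088449102 .nil .nil)) (.node 0xcbf6b656d01b0c (.node 0x2d597cda4daa11 .nil .nil) .nil)) (.node 0xc7863bc558ee4c (.node 0x5eb822900dd71f (.node 0x4fd00b6984f9f8 .nil .nil) (.node 0xe11f9efe7d793d .nil .nil)) (.node 0x6c109d8c389dd9 (.node 0x2691e92bc60cde .nil .nil) .nil))))) (.node 0xae361b8647e208 (.node 0xa4e29f05fee215 (.node 0x3c39bca1339f3e (.node 0xb43319e72a4763 (.node 0x2f844e833df39f (.node 0x7304bd0cb8c091 .nil .nil) (.node 0x142d4e97f08a2a .nil .nil)) (.node 0x639d53908918e7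 (.node 0x40e4082a56f9ca .nil .nil) (.node 0xe53b9dce012ba0 .nil .nil))) (.node 0x95df3b939e5741 (.node 0xabb6ce44418af1 (.node 0x2084e249459cbe .nil .nil) (.node 0xd5d3797e933504 .nil .nil)) (.node 0xcef702f238c465 (.node 0x30d8309a8c4e81 .nil .nil) .nil))) (.node 0x83366130a2c92d (.node 0xb15e5e353f397f (.node 0xbb46d935761393 (.node 0x6528dcdcfe44f6 .nil .nil) (.node 0x3750748878fa6 .nil .nil)) (.node 0xba4e7526b49ace (.node 0x5515a479acd438 .nil .nil) .nil)) (.node 0xc8da9c7451acc0 (.node 0xc3fa51909b1103 (.node 0x48185a0ab513a5 .nil .nil) (.node 0xd3c79cbd4d536e .nil .nil)) (.node 0x1f0120f22964e0 (.node 0x225cd38bb6cbe0 .nil .nil) .nil)))) (.node 0x96f634011d97b7 (.node 0x4589b39686a314 (.node 0x97d3129305d81b (.node 0x9de2dcc30df8d5 (.node 0x74ec7c2c658164 .nil .nil) (.node 0xabc7e48680a93 .nil .nil)) (.node 0xbcfe029157937f (.node 0x2ae1786af70f4d .nil .nil) (.node 0xe9bf539def2937 .nil .nil)))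 (.node 0xcc430b04d86d01 (.node 0x1f58df24afb05f (.node 0x5f29ed995eb387 .nil .nil) (.node 0xd94378ee56a708 .nil .nil)) (.node 0x9a26c5b2486ac6 (.node 0x478d9c2a9f76ed .nil .nil) .nil))) (.node 0xb3aaf8c7250882 (.node 0x9b721cd42bb8b0 (.node 0xb80285049a35a8 (.node 0x600deac90aaa91 .nil .nil) (.node 0x11c13ef8cf4b78 .nil .nil)) (.node 0x4ba9be26f3db01 (.node 0x3e04299a6d5f19 .nil .nil) .nil)) (.node 0xb5cb1a351fa82a (.node 0xd042280023034f (.node 0x4fcdd99a822d1b .nil .nil) (.node 0xe5bba6fe5b2a35 .nil .nil)) (.node 0x6f750f9c30def8 (.node 0x24e489dbe5caae .nil .nil) .nil))))))) (.node 0xdf4dab5f6e0e6 (.node 0xb982cd85ec6241 (.node 0x9b1f33262ae153 (.node 0x7e9e0806350e8a (.node 0x2be85d00df1edf (.node 0x8aa6e8d7cc0827 (.node 0x8f8b1694c897fa (.node 0x6e99278c57a02e .nil .nil) (.node 0x22c0d6bbbdd3b2 .nil .nil)) (.node 0xab0eb1000ad494 (.node 0x2e75a9aa0e252e .nil .nil) (.node 0xe443898d3694ad .nil .nil)))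 (.node 0x8437104473f2bb (.node 0x7d0ed941b043c (.node 0x5d516c697db3b4 .nil .nil) (.node 0xf011108d3cb5e .nil .nil)) (.node 0x45f1d656b79c39 (.node 0x3a65deab64659a .nil .nil) .nil))) (.node 0xc9ea805655a2ac (.node 0x37157aa4b4f3ba (.node 0x833ae6648c7334 (.node 0x7b0105ccb5c2b9 .nil .nil) (.node 0x3d8fe78915443 .nil .nil)) (.node 0xbd3a2e01774e10 (.node 0x5861716b33f644 .nil .nil) (.node 0xe65f9b2d6bd37b .nil .nil))) (.node 0x82b694e38cf315 (.node 0x25dc1062d82fdc (.node 0x3619afa98fed31 .nil .nil) (.node 0xd9cf5dedfceab7 .nil .nil)) (.node 0x8e1b2242623132 (.node 0x4bd5bebb8d64ea .nil .nil) .nil)))) (.node 0xec10fe6152087 (.node 0x8c7a0de13ea3ae (.node 0x7e3227376fc6db (.node 0xbbd2abb3bad23a (.node 0x792d91ec6941e3 .nil .nil) (.node 0x13acab07ec4bdb .nil .nil)) (.node 0x627ca44068d887 (.node 0x4120098ad4385d .nil .nil) (.node 0xe22b640d4e544f .nil .nil))) (.node 0x8342e6a2817339 (.node 0xc89268154ca678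 (.node 0x624ca18951e82e .nil .nil) (.node 0xd59755cd47d029 .nil .nil)) (.node 0xd0fb2a11a2c37a (.node 0x3069e32b85f81d .nil .nil) .nil))) (.node 0x8e87041784c687 (.node 0x9dc80e46404c3 (.node 0xbfda03040c526a (.node 0x69a8a98d0fc5c3 .nil .nil) (.node 0xb2166087151c4 .nil .nil)) (.node 0xbdd31716f15c00 (.node 0x29383f2ad07714 .nil .nil) .nil)) (.node 0xabda8b855e35de (.node 0xc2ef0700bc4d28 (.node 0x4dadb2ab4476f0 .nil .nil) (.node 0xdf078d2e442e34 .nil .nil)) (.node 0x2240d2b208a53b (.node 0x25496abbed0d12 .nil .nil) .nil))))) (.node 0xb1465de64ca1f3 (.node 0x7ef725a60689f6 (.node 0x4b503790d25ce7 (.node 0x7d565637b7c892 (.node 0xb4471982f3a7c3 (.node 0x7a50ba1c804277 .nil .nil) (.node 0x17d541e7da8f0b .nil .nil)) (.node 0xc4e622a04d934d (.node 0x3ed9a6eb1c5e41 .nil .nil) (.node 0xdcdf7f6e29693d .nil .nil))) (.node 0x9b1b33432874c3 (.node 0xb9da8a05643972 (.node 0x5a0523692eb386 .nil .nil) (.node 0xd7ef7c0e0a6a53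 .nil .nil)) (.node 0x8ddaead232b0a3 (.node 0x4d71db7aa5d18b .nil .nil) .nil))) (.node 0xa1beb967434745 (.node 0x1b5420c3a42fce (.node 0xb3f215057037cb (.node 0x6890fffce3462a .nil .nil) (.node 0x71538a82912a1 .nil .nil)) (.node 0x4f1c0021466554 (.node 0x563572c9fb54ca .nil .nil) .nil)) (.node 0x866df942a6b2c4 (.node 0xa3c217a0939370 (.node 0x36606f7a1be5f5 .nil .nil) (.node 0xd517810db15276 .nil .nil)) (.node 0xcf220701eac47a (.node 0x1fa8e01c189212 .nil .nil) .nil)))) (.node 0x3d043100ea9d5f (.node 0xc64dfda679a33b (.node 0xddc5874d090b (.node 0x3580481310b47d (.node 0x78601aaccd0217 .nil .nil) (.node 0xcc41cc84d1333 .nil .nil)) (.node 0x8561fa515bf2f4 (.node 0x28604a5a6793d4 .nil .nil) (.node 0xe8c34e1e1028f3 .nil .nil))) (.node 0x9cfada03dab4e9 (.node 0xb07e8e135c7a08 (.node 0x5ca18dd8fbaa2b .nil .nil) (.node 0xdbb7908d55936b .nil .nil)) (.node 0x1c94754249a5dc (.node 0x385c593a96b48e .nil .nil)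 .nil))) (.node 0xb95af047a8079a (.node 0x1d5d2a63e4301c (.node 0x4ce00224e5f3a9 (.node 0x16c0c0b7d0452e .nil .nil) (.node 0xe20db58bd0c79 .nil .nil)) (.node 0xcd71fe46be1b98 (.node 0x4560477a415e2b .nil .nil) .nil)) (.node 0x82ce9532e77316 (.node 0x615c770027980e (.node 0x2fbc4f3b192697 .nil .nil) (.node 0xe1c36d1dbc5093 .nil .nil)) (.node 0x6d0ce96c4b2054 (.node 0x26f00e4bccd027 .nil .nil) .nil)))))) (.node 0x35506f5ba5d7c (.node 0x62c12ba63fa0f0 (.node 0xc51a4ba5b3216a (.node 0x95d73bb0f6d739 (.node 0x84522e907b87c0 (.node 0x37786a150a5aa4 (.node 0x7141159c97404d .nil .nil) (.node 0x21211efbaaca16 .nil .nil)) (.node 0x5fd9e980c3983f (.node 0x43d1d8d9aa7962 .nil .nil) (.node 0xdddb82ed970d97 .nil .nil))) (.node 0x9e2e1a94e1163c (.node 0xba5a7553f991f2 (.node 0x62f92c69162b27 .nil .nil) (.node 0x102d6378afcac7 .nil .nil)) (.node 0xcf2a064218047e (.node 0x41e5a8f9eae513 .nil .nil) .nil))) (.node 0x30a02f4662e38e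 (.node 0xb862c87506ede7 (.node 0x5d91cef40270ad (.node 0x71e4c9bca2c00f .nil .nil) (.node 0x578c888a70a13 .nil .nil)) (.node 0x8711fc1141b2ea (.node 0x2bfc5ddb724eb7 .nil .nil) (.node 0xe7d79b5d4dd40d .nil .nil))) (.node 0xbe1239433ad29c (.node 0xc5a225707a8ddb (.node 0x399d7fbb4e1ebe .nil .nil) (.node 0xd7e7758db2cdaf .nil .nil)) (.node 0x2655e811ada42c (.node 0x49297999da23ee .nil .nil) .nil)))) (.node 0x893e9bf0dad4d9 (.node 0x9111f5066bd83b (.node 0x8cd20d87918708 (.node 0xa5ce424456b74c (.node 0xd416c876823f .nil .nil) (.node 0x147d5707e44af6 .nil .nil)) (.node 0xc0766ae192126f (.node 0x28c9b67ac8f64d .nil .nil) (.node 0xdc0f51fd20961d .nil .nil))) (.node 0xb89e5af57a9315 (.node 0xb0cabc83ce349c (.node 0x63552f291f6d67 .nil .nil) (.node 0xd8cb86ee91759b .nil .nil)) (.node 0xb9f28a61c46a74 (.node 0x4e4c454b5de63d .nil .nil) .nil))) (.node 0x17a941173a48e4 (.node 0x9d62a6f58c12fc (.node 0xb6f60fb32276ce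 (.node 0x66dd494d1485ea .nil .nil) (.node 0x1681608834e8d .nil .nil)) (.node 0x2d7c2c06f81b97 (.node 0x40e1e79abd2c13 .nil .nil) .nil)) (.node 0xa982102362ba64 (.node 0xcec70240a5046c (.node 0x4ff40c5b9b13be .nil .nil) (.node 0xe0af63ed6f1606 .nil .nil)) (.node 0x6e4ca64c28dcd2 (.node 0x1b7821cbfc0f42 .nil .nil) .nil))))) (.node 0x902602a21b9718 (.node 0xc34a0bc5cb628d (.node 0x967b3906a01702 (.node 0x8b332ee7310770 (.node 0x8701fcc53872e3 (.node 0x7b54fc9cbf007f .nil .nil) (.node 0x1704c1b7d08d73 .nil .nil)) (.node 0xab4a1fb0654e19 (.node 0x45a5b4aa3bca9f .nil .nil) (.node 0xe383780db24dcd .nil .nil))) (.node 0xbc9345e399d49f (.node 0x3105e082b11867 (.node 0x5954b2393919bb .nil .nil) (.node 0xd9779acd834c15 .nil .nil)) (.node 0x20a4e291db2516 (.node 0x50ddab0afbcfb5 .nil .nil) .nil))) (.node 0x173d4a175e0988 (.node 0x994e417544eb96 (.node 0x1ef920c2922ebd (.node 0x6968f5ece80566 .nil .nil) (.node 0x8b50a78375058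 .nil .nil)) (.node 0xc6b743c70d1c16 (.node 0x55846c4adbe8fc .nil .nil) .nil)) (.node 0xbb56d8e449d20a (.node 0x597d50903b5647 (.node 0x381d9b5a7babd5 .nil .nil) (.node 0xd383a54dbe8a97 .nil .nil)) (.node 0x8cf20d42053113 (.node 0x1de52d8c0dd08a .nil .nil) .nil)))) (.node 0x86c73e50e712bf (.node 0x9402d2468f16d5 (.node 0xc61b4163026d65 (.node 0xc84ae143822de8 (.node 0x79f18f0cdc01a6 .nil .nil) (.node 0x30d90385fd4d4 .nil .nil)) (.node 0x52302a815fa491 (.node 0x2b3857a9bbb8c0 .nil .nil) (.node 0xe92787fe47a613 .nil .nil))) (.node 0xbfd60394d08b57 (.node 0xa3e31b735af768 (.node 0x263025790b1d96 .nil .nil) (.node 0xd33f6d3dbc8ec6 .nil .nil)) (.node 0xd1b6ec523ec3f9 (.node 0x36b9865a257665 .nil .nil) .nil))) (.node 0x1e189f87bf87ef (.node 0xb22af7a4230b89 (.node 0xa326a4b492276c (.node 0x5ee023896bae6e .nil .nil) (.node 0xdb0c518e18cc2 .nil .nil)) (.node 0xbb12aa36de9bb9 (.node 0x425452cb391d42 .nil .nil)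 .nil)) (.node 0x9b0e0f14a17a6d (.node 0xc4764dd020542c (.node 0x33202eeaabf6d0 .nil .nil) (.node 0xe1bf680e7cf7f4 .nil .nil)) (.node 0x6cdd3dac355dc3 (.node 0x1d2d88bbde51c8 .nil .nil) .nil))))))))

/-- Part of `setTab`. -/
noncomputable def setTab_r_r_r_r_r : Arr ℕ :=
  (.node 0x7dbeef45d44bda (.node 0xaf3adae5cfe07a (.node 0x5d81ceb5eba235 (.node 0x8f962c522f5790 (.node 0xc41ee9f63161b2 (.node 0x973b08d12957e2 (.node 0x8d2b2c37ba880b (.node 0xbcc201c49f8eba (.node 0x6dd4d09c2f9f6a .nil .nil) (.node 0x23555b9c008f10 .nil .nil)) (.node 0xc3af0560ae8baa (.node 0x5195987a12651c .nil .nil) (.node 0xe4d756bdb5538b .nil .nil))) (.node 0xb0eebc22742be6 (.node 0xc7e70f929caa5d (.node 0x5c207b28f373d5 .nil .nil) (.node 0xd4d1a28b8d3c8 .nil .nil)) (.node 0xbeeb0967081ae6 (.node 0x4615d6eb5fa5be .nil .nil) .nil))) (.node 0x2780739651a2a5 (.node 0x95b2aad35258eb (.node 0xac4a58e486ec5b (.node 0x72b143ccb382d4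 .nil .nil) (.node 0x444bba8320bac .nil .nil)) (.node 0x5049e3d174e56a (.node 0x274d84bb2d5e88 .nil .nil) (.node 0xe6cf762d9589f5 .nil .nil))) (.node 0xa6724374802e3a (.node 0xb0debc12e13832 (.node 0x37ac6a49d45310 .nil .nil) (.node 0xdb379a9da75354 .nil .nil)) (.node 0xce6a4851ca0432 (.node 0x4a7842b99239d7 .nil .nil) .nil)))) (.node 0xb77299561da09e (.node 0x9322d476ad989d (.node 0x8d172c277349ad (.node 0x6391303b60352 (.node 0x7551657c6e4200 .nil .nil) (.node 0x168504a8159085 .nil .nil)) (.node 0xcfcf28907104d4 (.node 0x44b0356af0e964 .nil .nil) (.node 0xe35b641e7bb7c8 .nil .nil))) (.node 0xccc7118432e912 (.node 0x36486ed5483469 (.node 0x5a58e1c9366729 .nil .nil) (.node 0xd2c787edf6e615 .nil .nil)) (.node 0x1af5ca01a0e582 (.node 0x5091e49b832b81 .nil .nil) .nil))) (.node 0x25d010d783c683 (.node 0xb92e57c2c6e6cf (.node 0x1b4820b409efcd (.node 0x14b8a8c7e6c5b0 .nil .nil) (.node 0x9ec81d8520ddd .nil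 .nil)) (.node 0xcc3e3026d6db3b (.node 0x2809b19a5db96d .nil .nil) .nil)) (.node 0xae521c03be4b55 (.node 0x5fdde990b69826 (.node 0x3269c37b3f77fa .nil .nil) (.node 0xdf87525e0869a7 .nil .nil)) (.node 0xa6bafeb2132cb4 (.node 0x240c796bd05583 .nil .nil) .nil))))) (.node 0xc2532dc63d2113 (.node 0x9f7a7845dae0bf (.node 0x8fa22c910a179a (.node 0xa2863e77b0c8b2 (.node 0x46bd80c2f19aa3 (.node 0x7248c6bca9831e .nil .nil) (.node 0x18f0de88038ca7 .nil .nil)) (.node 0x5979506048565e (.node 0x42bd950b215e00 .nil .nil) (.node 0xdd6f6eed49d52a .nil .nil))) (.node 0xc82eaf632f674b (.node 0xbc5e05056a10ca (.node 0x63dd5489275974 .nil .nil) (.node 0xd6b7940e43a6c5 .nil .nil)) (.node 0xd0f72af1f0c379 (.node 0x33a1dfbaa0d266 .nil .nil) .nil))) (.node 0x167503a740c749 (.node 0xb656b193ac2d33 (.node 0xb28e72b2907a00 (.node 0x7cc136ec9b030a .nil .nil) (.node 0x778f1689a4d2b .nil .nil)) (.node 0x82de95014e3313 (.node 0x58ec938b29935d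 .nil .nil) .nil)) (.node 0xb1267942ac5144 (.node 0xc27b2db05451ad (.node 0x34286e9a19f995 .nil .nil) (.node 0xd7975e6e987557 .nil .nil)) (.node 0x1f052101e86498 (.node 0x1fecb09ba4d522 .nil .nil) .nil)))) (.node 0x93ded1e0fc16d9 (.node 0x2d702c26742339 (.node 0xa3526d975688fe (.node 0xaaeeb142ce790a (.node 0x7751c7fc7180d6 .nil .nil) (.node 0xb89c948764c2b .nil .nil)) (.node 0xc0be71619f0e5b (.node 0x580441ea6b9031 .nil .nil) (.node 0xe8eb533e466793 .nil .nil))) (.node 0xa5528263df6676 (.node 0xa306a4d527752f (.node 0x61fd8a98fe5943 .nil .nil) (.node 0xd31b830d988e5f .nil .nil)) (.node 0x8e0f226254b137 (.node 0x48d0617a901d29 .nil .nil) .nil))) (.node 0x84e200708f478c (.node 0xc942c233eeacc1 (.node 0x82aa94a4ee7310 (.node 0x684d0c4ce5851b .nil .nil) (.node 0xfc0d228ea94ed .nil .nil)) (.node 0x48986006bc1bad (.node 0x4501ad6ae7dd0f .nil .nil) .nil)) (.node 0xb1a6fa52ec935e (.node 0xa86ee51032d185 (.node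 0x321c3bf9e58bed .nil .nil) (.node 0xe4bb6bbdefe7bf .nil .nil)) (.node 0x6b99187c23600b (.node 0x25c5ec2bf29414 .nil .nil) .nil)))))) (.node 0xa38a17f5b76198 (.node 0x7ea607759f0b40 (.node 0x11993e15af2168 (.node 0x7d925280f083c2 (.node 0x802327371b47df (.node 0xaceef265153687 (.node 0x6c7d309c445ceb .nil .nil) (.node 0x21b552ac16cd46 .nil .nil)) (.node 0xa8ae62f0ce0c1b (.node 0x3ce1dd49a4ebc4 .nil .nil) (.node 0xde4f7e4d674e1b .nil .nil))) (.node 0x29e87204df9a46 (.node 0x23695e03f72eef (.node 0x5ac95de91ca9f7 .nil .nil) (.node 0xe8d59f8dd537e .nil .nil)) (.node 0x1d612a3215e475 (.node 0x3f9196b9ef6525 .nil .nil) .nil))) (.node 0xcdd1ff9660a387 (.node 0x2bf05cc504f41d (.node 0x847a2f44f43271 (.node 0x7bc0f04ca6802c .nil .nil) (.node 0x5e517581c55cc .nil .nil)) (.node 0xbc3b478184cc78 (.node 0x54419fdb6ca50d .nil .nil) (.node 0xe6278b1d84caa7 .nil .nil))) (.node 0x290843336038a (.node 0x6278a46075d89e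 (.node 0x34d440db92377b .nil .nil) (.node 0xd69f984db04bcb .nil .nil)) (.node 0xa18a71c1b86794 (.node 0x4ab443c993a536 .nil .nil) .nil)))) (.node 0x277c73e0d81d8f (.node 0xcc670b2673a306 (.node 0x19a925a78e8717 (.node 0xc11e8da45cca40 (.node 0x76f414ac7e025c .nil .nil) (.node 0x15b501780b9225 .nil .nil)) (.node 0x4d35daf18e2483 (.node 0x532c9b5a345c7f .nil .nil) (.node 0xdeef966dcd6e66 .nil .nil))) (.node 0x36f97ac578f24d (.node 0xc60b41c3d4abb9 (.node 0x2224d2591d1c8f .nil .nil) (.node 0xd9d35dce4ce93b .nil .nil)) (.node 0xcf2606c266047d (.node 0x32f04d6b59e62b .nil .nil) .nil))) (.node 0x8cde0d373888c2 (.node 0x3f7595e58af42e (.node 0x9f4ebae3724f9e (.node 0x68f502bcef4610 .nil .nil) (.node 0x35f3484010e9 .nil .nil)) (.node 0xc0cea3c6c65b5f (.node 0x53a57e1a51e9ff .nil .nil) .nil)) (.node 0x878f0e936cb283 (.node 0xc5364b801292bd (.node 0x52bdd0c986a5fa .nil .nil) (.node 0xe2df773e667841 .nil .nil))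 (.node 0x6fd9586c419e6a (.node 0x1a3dcdfbc20cc5 .nil .nil) .nil))))) (.node 0x812f01159a11c2 (.node 0x11f93195c72286 (.node 0x83ca2ae135cef8 (.node 0x3b4fd872f476b (.node 0xcdddff63422db8 (.node 0x824fa282a406b .nil .nil) (.node 0x19c126b7f98a43 .nil .nil)) (.node 0xc33f2ff08e4c2a (.node 0x4305d3ca58a3ec .nil .nil) (.node 0xdfc76cedb9cfca .nil .nil))) (.node 0x23dc78c3976f4e (.node 0x96c5f6043bd862 (.node 0x64f12009465940 .nil .nil) (.node 0xd63b854e8434d9 .nil .nil)) (.node 0xb44b1971d86617 (.node 0x2f51992b000f9b .nil .nil) .nil))) (.node 0x8b660b3798c928 (.node 0x5658944541f2af (.node 0x92d273e28cd6c4 (.node 0x6a84b36d04c503 .nil .nil) (.node 0x91944988c0f8c .nil .nil)) (.node 0x33d870b70b9c22 (.node 0x2bb99e09b15451 .nil .nil) .nil)) (.node 0x22a0d5f4476ecc (.node 0xcfdb28c03684d0 (.node 0x4885a13a776a14 .nil .nil) (.node 0xd80f692dc5aaf6 .nil .nil)) (.node 0xd0ff2a222b037d (.node 0x1e70a06bb2cbc7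 .nil .nil) .nil)))) (.node 0x39657f60e51d8d (.node 0xca6287468be31a (.node 0x3e95a642fe1654 (.node 0x3119e0b37d19e6 (.node 0x78a4862c60414d .nil .nil) (.node 0x1d08808638aad .nil .nil)) (.node 0x8322605169b1f3 (.node 0x54c05c09b66b50 .nil .nil) (.node 0xe90f7dbe0ea95b .nil .nil))) (.node 0x25e01094cdefdf (.node 0xc1228d24b28eef (.node 0x605c0ff911f400 .nil .nil) (.node 0xdb7b562d7b4f2e .nil .nil)) (.node 0x24b488e23ce3d2 (.node 0x4a3d75fa213661 .nil .nil) .nil))) (.node 0x7da2efc721085f (.node 0x4085e69421f2cd (.node 0x3235c2e490336d (.node 0x5db5cf390527d9 .nil .nil) (.node 0xf6cce98c693f8 .nil .nil)) (.node 0xcc3a3046f59af7 (.node 0x4378284a719f31 .nil .nil) .nil)) (.node 0xa5ba42b51b751a (.node 0x615877101a97f7 (.node 0x3149e17a835cd9 .nil .nil) (.node 0xdd4b96bdf626a5 .nil .nil)) (.node 0x6f08cd2c4d9d18 (.node 0x1be88cfbe1ca94 .nil .nil) .nil))))))) (.node 0xc2060eb5fb60ec (.node 0x12bcf425e5624f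 (.node 0x118d3e05a2a1dc (.node 0x59c12275a9a16f (.node 0x81d2c150e0548f (.node 0x153d0d17c48852 (.node 0x54299ee4c15a5a (.node 0x700cd93c3f9fe9 .nil .nil) (.node 0x1edca39bb9d39a .nil .nil)) (.node 0x5ebc228000d706 (.node 0x3f18546a0b0dd0 .nil .nil) (.node 0xde8b4c0d8d0ee4 .nil .nil))) (.node 0x989243f39bfa51 (.node 0xbb6ad9441f4a26 (.node 0x1c747509771e56 .nil .nil) (.node 0x115ceb48cb1411 .nil .nil)) (.node 0xc93a7e96b8dc2d (.node 0x3d2c31e9bee43d .nil .nil) .nil))) (.node 0x9085f7e658986a (.node 0xa5da4224b64cd3 (.node 0x28a5b544f7f1ed (.node 0x7aa9464c89c0ab .nil .nil) (.node 0x984bed895d42a .nil .nil)) (.node 0x85ab3fe17cb238 (.node 0x2c34549b66b9c1 .nil .nil) (.node 0xe7e7937d2f8adb .nil .nil))) (.node 0x7a00b8e391427d (.node 0xbfca02f2db4da1 (.node 0x4b3dbaa98d2c56 .nil .nil) (.node 0xd883a69d619632 .nil .nil)) (.node 0x2651e80256a594 (.node 0x3535b7db89646b .nil .nil) .nil)))) (.node 0xc21a0e3619e093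 (.node 0x91fe7056a7d65d (.node 0x89627fd0bc86bc (.node 0xac7af133b3f94e (.node 0x7805ef7cc44116 .nil .nil) (.node 0x1970e797f54bc2 .nil .nil)) (.node 0xc5224b006e0a91 (.node 0x407807dad9e891 .nil .nil) (.node 0xdf479d6dc0a848 .nil .nil))) (.node 0xb24a904283fa1d (.node 0xaef734755235d0 (.node 0x5b6cd5494c3392 .nil .nil) (.node 0xdabb866dd4a68f .nil .nil)) (.node 0xb072cf626e671a (.node 0x2da02d799cf894 .nil .nil) .nil))) (.node 0x2e58fb77d469a (.node 0xbd262e74680dd4 (.node 0xb63ab1a37af918 (.node 0x664d24acf345ac .nil .nil) (.node 0x23d93486cd1ab .nil .nil)) (.node 0x3375df46ce9b1a (.node 0x575c3a2acc770e .nil .nil) .nil)) (.node 0x35cdaf255398dd (.node 0xabd2ce6018cf65 (.node 0x2df5d2f9837660 .nil .nil) (.node 0xde13824e60f78b .nil .nil)) (.node 0xcfe328f20a84ce (.node 0x1c556e0be90cf8 .nil .nil) .nil))))) (.node 0x6953ae6441d35 (.node 0x92f274f1a6d899 (.node 0x8535fa40d38ac9 (.node 0x1fbcaf77298752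 (.node 0x8539f9c34672fb (.node 0x7370f94c85029f .nil .nil) (.node 0x15490dc8078ef2 .nil .nil)) (.node 0xa97b32d0874a05 (.node 0x3da5d58a52de91 .nil .nil) (.node 0xdf7f51bd911559 .nil .nil))) (.node 0xa5fe59536f3a45 (.node 0x573c391440742b (.node 0x598d515943f3c7 .nil .nil) (.node 0xdb73564e8fb57e .nil .nil)) (.node 0x20a0e2823624ce (.node 0x4f5c016a880e68 .nil .nil) .nil))) (.node 0x808254979f094b (.node 0xbfe60363a71627 (.node 0x20fd1e2573b06f (.node 0x67c8b6fd1bc648 .nil .nil) (.node 0x64913e82492ba .nil .nil)) (.node 0xc0b270e14a4cf7 (.node 0x29b98369ff94e3 .nil .nil) .nil)) (.node 0x722cc6144dc316 (.node 0x639953609618fe (.node 0x391c5f1ab453d5 .nil .nil) (.node 0xd7eb949e5fa918 .nil .nil)) (.node 0x9ce7355227666e (.node 0x21f4acfc1c922a .nil .nil) .nil)))) (.node 0x830a6040ed959d (.node 0x95fb3bf6829733 (.node 0x8e9704674fc911 (.node 0x98727bb312560c (.node 0x76241eaccac232 .nil .nil) (.node 0x981ff848934c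 .nil .nil)) (.node 0x4e0444a15423e1 (.node 0x55d576eaf35264 .nil .nil) (.node 0xe8436b4e3ea843 .nil .nil))) (.node 0x79a98e04d441ab (.node 0xa3ef1bb4acb801 (.node 0x5e79ccc962ec1e .nil .nil) (.node 0xdb77566dbed554 .nil .nil)) (.node 0xcf3206624c0480 (.node 0x38c1a27a9b36e8 .nil .nil) .nil))) (.node 0x1950e737228887 (.node 0xbbeeabe3e70a58 (.node 0xc8aa67c4eaa76e (.node 0x677540ad1e0544 .nil .nil) (.node 0x123d3228d8d365 .nil .nil)) (.node 0xbaaed496cd9be9 (.node 0x3b444bfa459e43 .nil .nil) .nil)) (.node 0x632d2e851c710f (.node 0xc3720c502c9056 (.node 0x515c63eb17eb1c .nil .nil) (.node 0xe5cfa05dc6aab8 .nil .nil)) (.node 0x12b4f3b8e29f40 (.node 0x1aac250bc8d040 .nil .nil) .nil)))))) (.node 0xa11ef9d5bee189 (.node 0xaceaf2764160fa (.node 0x9a426425e1e0b4 (.node 0x42819440ffdc6e (.node 0xa7b31d1713c7cc (.node 0x9c9619d50d6c7c (.node 0x7c8d3a1c90005d .nil .nil) (.node 0x207d500baec9fc .nil .nil)) (.node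 0xc5ae2480c895b2 (.node 0x4698046b7aacc8 .nil .nil) (.node 0xde7b97dd83ce4d .nil .nil))) (.node 0x89c285f4dbf354 (.node 0x9ae612d3f3b8cb (.node 0x6280a5895926c1 .nil .nil) (.node 0x1100a8a8ef1506 .nil .nil)) (.node 0xa2e2f621f9267e (.node 0x51e8509a2e0b53 .nil .nil) .nil))) (.node 0xcb029626672395 (.node 0x8541fa250132f2 (.node 0xcc470b9407a8ef (.node 0x719d127c9d02e6 .nil .nil) (.node 0x7e4eed8a289f9 .nil .nil)) (.node 0x51d44fe13925ff (.node 0x53d8556b760c1f .nil .nil) (.node 0xe66f806d390a73 .nil .nil))) (.node 0x966b39e331d712 (.node 0xb38e5c00590cb5 (.node 0x46e9818b525c7e .nil .nil) (.node 0xd563a63d43ca19 .nil .nil)) (.node 0xd1beec31b003fb (.node 0x372d7b49de6400 .nil .nil) .nil)))) (.node 0x90333a410f1723 (.node 0x46b180967ba348 (.node 0x7f9629678d46f4 (.node 0x23d078d2d1af4f (.node 0x779017cc7b4253 .nil .nil) (.node 0x18a11cf7ff4b0f .nil .nil)) (.node 0x863b3c6196f220 (.node 0x56b8411a6879e5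 .nil .nil) (.node 0xe4eb8b9daf8c67 .nil .nil))) (.node 0x9e6336558278df (.node 0x5fd5e9e528716d (.node 0x5d1c8b29731a60 .nil .nil) (.node 0xd29f505e8ab4be .nil .nil)) (.node 0x1c907551baa3e4 (.node 0x3420711b07aab9 .nil .nil) .nil))) (.node 0xa99e10f73e48eb (.node 0xb77e99f5893556 (.node 0x311de0a317b45e (.node 0x65b11b9cf88653 .nil .nil) (.node 0xbf419587ecea7 .nil .nil)) (.node 0xc876e156fa5b84 (.node 0x3ff1e63abfb861 .nil .nil) .nil)) (.node 0x901b0c936517c9 (.node 0x5d396bb09cd797 (.node 0x2fec0afb9f5095 .nil .nil) (.node 0xe1f3779d8a8b34 .nil .nil)) (.node 0x6d75620c529f78 (.node 0x2624118bf80f29 .nil .nil) .nil))))) (.node 0x9b1333c593e11b (.node 0x7f6e0a05c2d053 (.node 0x4279945699a2db (.node 0xb53e6f1779c99e (.node 0x76a813d5300263 (.node 0x7974832cd74185 .nil .nil) (.node 0x1618f7f80f8d5a .nil .nil)) (.node 0x5a995cb05b96be (.node 0x3ba5c24a3d8cb9 .nil .nil) (.node 0xe08759fd460f49 .nil .nil)))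 (.node 0x9fcad14437784b (.node 0x990affa2b3edc6 (.node 0x647ce4c93eaddb .nil .nil) (.node 0xd8f7799db5cbe5 .nil .nil)) (.node 0xd12a5341dd03c6 (.node 0x4ea5ae99c86a8b .nil .nil) .nil))) (.node 0x9ddadd77610987 (.node 0xae7737a2c275c4 (.node 0xc02aa152954c70 (.node 0x6730c00d10454a .nil .nil) (.node 0x4a947883bd071 .nil .nil)) (.node 0xbf074636eadbd0 (.node 0x2a8c6deadfaa6a .nil .nil) .nil)) (.node 0xa65a43c3c6f743 (.node 0xc422e91040ce8c (.node 0x3461878b0e387d .nil .nil) (.node 0xd9cb5b4dba4ec9 .nil .nil)) (.node 0x2244d291fba463 (.node 0x23b95eac09d0a2 .nil .nil) .nil)))) (.node 0x51c850011fdc9f (.node 0x8ba24e1158e355 (.node 0x8a4ecb934d337b (.node 0x89429ba386b1e6 (.node 0xa907d2864c1bc .nil .nil) (.node 0xa5169385b54bb .nil .nil)) (.node 0xbdff17616511f7 (.node 0x569094a9f4b899 .nil .nil) (.node 0xe997621e58674f .nil .nil))) (.node 0xb3aef8847b7945 (.node 0x209ce2c35e2e8d (.node 0x5e3826a90bd942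 .nil .nil) (.node 0xdbe7480d728e95 .nil .nil)) (.node 0x8b4f2e61d27126 (.node 0x3a0896cb461f05 .nil .nil) .nil))) (.node 0xa2823ea7c0c7fd (.node 0x8659f8a27a32c1 (.node 0xb5f2e3e2a23534 (.node 0x5f8412a968e8cc .nil .nil) (.node 0x137d35d8b453e0 .nil .nil)) (.node 0x2bdc5cf6e19b34 (.node 0x3e68675b35dd83 .nil .nil) .nil)) (.node 0x9095f7a4a45875 (.node 0xabcecec0b4cc4c (.node 0x4ce8033aafb51d .nil .nil) (.node 0xdeaf820e61788e .nil .nil)) (.node 0x6b58c3bc5c1f2b (.node 0x24718c0bda51af .nil .nil) .nil))))))))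

/-- Part of `setTab`. -/
noncomputable def setTab_r_r_r_r : Arr ℕ :=
  .node 0xc45efb6081c8c setTab_r_r_r_r_l setTab_r_r_r_r_r

/-- Part of `setTab`. -/
noncomputable def setTab_r_r_r : Arr ℕ :=
  .node 0x99fac5a612626d setTab_r_r_r_l setTab_r_r_r_r

/-- Part of `setTab`. -/
noncomputable def setTab_r_r : Arr ℕ :=
  .node 0xde0da560ee274 setTab_r_r_l setTab_r_r_r

/-- Part of `setTab`. -/
noncomputable def setTab_r : Arr ℕ :=
  .node 0x60848dd60fe26b setTab_r_l setTab_r_r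

/-- The four generators on the sets. -/
noncomputable def setTab : Arr ℕ :=
  .node 0x957ea0b24958e1 setTab_l setTab_r

/-- Part of `setWord`. -/
noncomputable def setWord_l_l_l_l_l : Arr (List ℕ) :=
  (.node [2,1,3,3,0,2,1,0,2,3] (.node [1,3,2,1,3,1,0,2] (.node [0,1,3,2,2,2,0,1,3,0,2] (.node [3,1,3,0,2,2,0] (.node [2,2,0,2,2,0,2,2,1] (.node [0,2,0,2,3,3,0,1,3,1] (.node [1,0,2,0,2,3,1,3,0,1] (.node [0,2,1,3,1,3,3,0,2] (.node [2,3,3,1,3,2,0,2,2,1] .nil .nil) (.node [2,1,3,2,1,3,2,1,3,2] .nil .nil)) (.node [3,2,1,0,2,2,1] (.node [2,3,3,0,1,3,2,0,2,0,1] .nil .nil) (.node [1,0,2,1,3,3,2,0,2,0,1] .nil .nil))) (.node [0,1,3,2,0,2,2,1,0,2,0] (.node [0,2,2,0,2,1,3,3,1,3,2] (.node [2,3,2,2,0,1,3,0,2] .nil .nil) (.node [3,2,2,2,1,0] .nil .nil)) (.node [2,3,3,0,1,3,3,1,3,1] (.node [3,2,2,2,0,1,3,1,3,3] .nil .nil) .nil))) (.node [1,3,2,0,2,3,0,1,0] (.node [3,2,0,2,1,3,1,3,2,2,1,0] (.node [3,1,0,2,3,1,3,0] (.node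 [3,3,1,3,3,0,2,2,2,0,1,0] .nil .nil) (.node [1,3,0,2,1,0,2,3,1,0,2,1] .nil .nil)) (.node [1,3,3,0,1,3,3,1,3] (.node [0,2,0,2,3,0,2,2,0,2,0,1] .nil .nil) (.node [3,2,0,1,3,2,0,2,0] .nil .nil))) (.node [0,2,1,3,3,0,2,0,1,3] (.node [1,3,0,2,2,2,0,2,2,1] (.node [0,2,1,3,1,3,3,0,1,0] .nil .nil) (.node [3,2,0,2,3,1,0,2,2] .nil .nil)) (.node [2,3,3,1,3,2,0,2,0,1] (.node [3,3,0,2,1,0,2,2,2,1] .nil .nil) .nil)))) (.node [0,2,0,2,1,0,2,3] (.node [1,3,1,3,2,0,2,3,1,0] (.node [3,2,1,0,2,3,1,0,2,0] (.node [3,3,0,2,0,2,2,1] (.node [3,1,0,2,3,3,2,0,1,0] .nil .nil) (.node [2,2,0,1,3,2,1,3,2,0] .nil .nil)) (.node [0,2,3,3,2,1,3,2,0,1] (.node [2,2,0,1,3,0,2] .nil .nil) (.node [3,3,2,1,0,2,0,2,2,0,2,1,0] .nil .nil))) (.node [3,1,3,2,0,2,1,3,2,2,1] (.node [3,1,3,2,0,2,2,2,0,2] (.node [3,0,2,2,0,2,1,3,1,3,3] .nil .nil) (.node [0,2,3,0,2,1,3] .nil .nil)) (.node [3,3,1,3,3,1,3,1,0] (.node [2,1,3,2,2,0] .nil .nil) .nil)))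 (.node [3,1,3,0,2,1,3,1,3,0] (.node [0,1,3,0,1,3,2,2] (.node [2,1,3,3,1,3,3,0,2,1] (.node [2,3,2,1,3,3] .nil .nil) (.node [0,1,3,1,3,2,0,1,0] .nil .nil)) (.node [2,3,3,0,2,0,1,3,3,2,0] (.node [2,3,3,2,1,3,3,1,3,1] .nil .nil) .nil)) (.node [2,3,3,0,2,0,2,0,1] (.node [1,0,2,1,3,3,2,2,1] (.node [2,1,3,2,0,2,0,2,2,2,1] .nil .nil) (.node [1,3,2,0,2,2,0,1,3,2] .nil .nil)) (.node [1,0,2,0,2,0,2,2] (.node [0,2,3,1,0,2,0,2,2,0,2] .nil .nil) .nil))))) (.node [2,3,1,3,0,1,3,0,1] (.node [1,3,1,3,3,2,0,2,2,0,1,0] (.node [0,2,0,1,3,3,2,2,1] (.node [3,1,0,2] (.node [3,1,3,3,1,3,2,2] (.node [0,2,1,0,2,3,1,3,1,3,0] .nil .nil) (.node [0,1,3,0,2,0,2,2,0,2] .nil .nil)) (.node [3,3,2,1,3,3,0,2,1] (.node [3,0,2,1,0,2,3,1,0,2,2] .nil .nil) (.node [2,2,0,2,0,2,1,0,2,1] .nil .nil))) (.node [2,0,2,3,3,0,2,1] (.node [2,2,0,2,0,2,3,3] (.node [1,3,0,2,1,0,2,2] .nil .nil) (.node [2,0,1,3,3,1,3,3,0,1] .nil .nil)) (.node [2,1,3,3,2,1,3,3,1]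 (.node [3,3,1,3,2,2,1] .nil .nil) .nil))) (.node [1,0,2,0,2,3,0,1] (.node [2,2,0,1,3,3,1,3,3,0,1] (.node [3,3,2,2,0,1,3,2,0,1] (.node [3,0,1,3,0,1,3,2,2] .nil .nil) (.node [3,2,0,1,3,0,1,3,2,2,2] .nil .nil)) (.node [3,2,1,3,0,2,2,2,1,0] (.node [2,3,2,2,2] .nil .nil) (.node [2,0,2,1,3,2,2,0,2,0] .nil .nil))) (.node [3,2,0,2,1,3,3,2,0] (.node [3,0,1,3,1,3,3,2,2] (.node [2,1,3,3,1,3,0] .nil .nil) (.node [3,0,2,2,0,2,1,0,2,0] .nil .nil)) (.node [1,0,2,3,3,1,3,2,1,3,1] (.node [2,3,1,3,3,0,1,3,3,1] .nil .nil) .nil)))) (.node [2,3,0,2,0,1,3,3,0,2] (.node [2,3,3,0,2,1,3,2,0] (.node [3,1,3,1,3,2,1,3,3] (.node [1,3,3,2,1,3,2,0,1,0] (.node [2,1,0,2,3,3,2,1,0,2,1,0] .nil .nil) (.node [0,2,0,2,1,3,0] .nil .nil)) (.node [2,3,3,0,1,3,3,2] (.node [2,0,1,3,2,2,0,2,1,0,2,0] .nil .nil) (.node [3,0,1,3,1,3,3,2,0] .nil .nil))) (.node [0,2,0,2,1,3,0,1,3,1] (.node [1,3,2,2,0,1,3,0] (.node [2,1,3,0,2,2,0,2,0] .nil .nil) (.node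 [2,2,2,0,1,3,0,1,3,2,0] .nil .nil)) (.node [3,2,2,0,2,3,3,2,2,1] (.node [1,0,2,3,3,2,0,2,0,1] .nil .nil) .nil))) (.node [1,3,1,0,2,3,3,1,0] (.node [2,3,1,3,0,1,3,0,1,3,0] (.node [0,2,1,3,3,0,2] (.node [2,0,2,2,1,0,2,0,2] .nil .nil) (.node [1,3,3,2,2,2,0,2,1,0] .nil .nil)) (.node [0,2,3,0,2,2,0,2,0,1] (.node [2,3,3,2,2,0,1,3,2,0] .nil .nil) .nil)) (.node [3,2,1,3,1,3,3,0] (.node [1,0,2,2,0,2,0,2,0] (.node [2,3,3,2,2,2,0] .nil .nil) (.node [2,1,3,1,3,1,3,0,2,1,0,2,0] .nil .nil)) (.node [3,3,0,2,1,3,3,0,2,2,0] (.node [1,3,3,1,0,2,3,3,0,1,0] .nil .nil) .nil)))))) (.node [0,2,0,2,3,1,0,2,1] (.node [2,0,1,3,2,2,2,0,1,0] (.node [2,3,0,1,3,2,1,3,3] (.node [3,3,2,2,0,1,3,0,2,0] (.node [3,1,3,2,0,2,3,3,1] (.node [0,1,3,3,1,3,3,1,3,0] (.node [2,0,2,3,0,2,1,3,3,2,2] .nil .nil) (.node [2,3,2,1,0,2,1,3,3] .nil .nil)) (.node [3,2,0,2,3,0,2,2,1] (.node [2,1,0,2,0,2,2,0,2,1] .nil .nil) (.node [3,3,2,2,1,0,2,0] .nil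 .nil))) (.node [1,3,2,1,3,0,2,2,2,0,1,0] (.node [2,0,2,3,0,2,1,3,2] (.node [0,2,3,1,3,3,2,0,1,3,0] .nil .nil) (.node [3,0,1,3,2,0,1,3,3] .nil .nil)) (.node [3,3,2,2,2,0,1,3,3,0,1] (.node [3,0,2,1,3,3,0] .nil .nil) .nil))) (.node [2,1,3,1,3,2,1] (.node [3,1,3,2,0,2,0,2,1,3,2] (.node [2,0,2,3,0,2,1,3,2,2,0] (.node [0,1,3,3,2,1,3,3,1,0] .nil .nil) (.node [3,0,2,0,2,2,2,1,0] .nil .nil)) (.node [1,0,2,3,3,2,0,1,3,3] (.node [3,2,2,1,0,2,2,0,1] .nil .nil) (.node [2,0,1,3,2,0,2,0] .nil .nil))) (.node [3,0,1,3,0,2,0,2,0,2,0,1] (.node [2,1,3,3,1,3,3,0,2,0,1] (.node [0,2,1,0,2,3,1,3,3,2] .nil .nil) (.node [3,3,1,0,2,0,2,0,1,3,3] .nil .nil)) (.node [2,1,3,2,2,0,1,3,1,3,1,0] (.node [1,3,3,1,3,3,0,2,0,2,1,0] .nil .nil) .nil)))) (.node [2,0,1,3,0,2,1,3,0,2,0] (.node [2,2,0,1,3,2,1,0,2] (.node [1,0,2,3,0,1,3,3,0] (.node [1,3,2,0,2,1,3,3,0] (.node [3,1,3,3,0,2,1,3,3,0] .nil .nil) (.node [2,3,3,0,1,3,2,2,1,0] .nil .nil))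 (.node [1,3,2,1,3,1,0] (.node [2,0,2,1,0,2,1] .nil .nil) (.node [2,1,3,2,0,1,3,2,2,2] .nil .nil))) (.node [2,0,2,2,2,0,2,0,2,2,0,1] (.node [0,2,1,3,1,3,0,1,3,2,0] (.node [1,3,3,1,3,2,2,2,0] .nil .nil) (.node [1,0,2,1,3] .nil .nil)) (.node [2,2,2,1,0,2,1] (.node [3,2,1,0,2,3,1,3,3] .nil .nil) .nil))) (.node [3,3,2,2,2,0,2,1,3,2] (.node [0,2,3,3,2,1,0,2,2,0,2,1] (.node [2,0,2,0,2,0,2,0,2,3,3] (.node [3,1,3,1,3,1,3,1,3] .nil .nil) (.node [2,1,3,1,3,0,2,2,0] .nil .nil)) (.node [0,2,2,0,2,0,2,1,3] (.node [0,2,2,0,1,3,0,2,2,2] .nil .nil) .nil)) (.node [0,2,3,3,1,3,1,3,3,2] (.node [3,0,2,0,2,1,0,2,2] (.node [2,3,3,1,3,1,3,2,2] .nil .nil) (.node [0,2,0,1,3,1,3,2,2,2,1] .nil .nil)) (.node [0,2,2,0,2,2,2,1,0] (.node [3,2,1,3,3,0,2] .nil .nil) .nil))))) (.node [3,2,2,0,2,3,1,0] (.node [2,3,0,2,0,1,3,2,0,2,0] (.node [2,1,3,0,2,2,1,0] (.node [0,2,3,0,1,3,3] (.node [3,2,2,0,2,2,0,2] (.node [3,3,2,1,3,2,2,2] .nil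 .nil) (.node [2,3,2,1,0,2,3,0,2] .nil .nil)) (.node [0,1,3,1,3,1,3,1,0,2] (.node [0,2,1,3,2,0,2,0,2,1,0] .nil .nil) (.node [1,0,2,2,2,1] .nil .nil))) (.node [2,2,1,0,2,1,3,3,0,2] (.node [0,2,0,1,3,3,2,2] (.node [2,0,2,2,0,2,3,3,0,2,2] .nil .nil) (.node [3,1,3,1,3,0,2,1,0,2,0] .nil .nil)) (.node [2,3,3,2,0,2,0,2,2,1] (.node [2,1,3,3,1,3,1,3,0,2,2,0] .nil .nil) .nil))) (.node [3,2,1,3,3,1,0,2,2,0] (.node [2,1,3,2,0,2,2] (.node [1,0,2,2,0,2,0,2] (.node [2,0,2,3,1,3,0,2,1,0] .nil .nil) (.node [2,3,2,2,0,2,2] .nil .nil)) (.node [1,0,2,0,1,3,2,2] (.node [2,3,1,3,3,0,1,3,3,2] .nil .nil) .nil)) (.node [3,3,1,3,0,1,3,0] (.node [0,2,3,3,1,3,2,0,1] (.node [2,3,0,2,0,2,1,3,2,1] .nil .nil) (.node [1,3,0,2,2,0,2,0,2,1] .nil .nil)) (.node [0,2,1,3,3,1] (.node [0,2,0,1,3,2,2,2,0] .nil .nil) .nil)))) (.node [2,1,3,2,0,1,3,1,3,0] (.node [3,0,2,1,3,3,0,1,0] (.node [0,2,3,1,3,2,0,1] (.node [0,1,3,2,1,0,2,3,0,2] (.node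 [3,3,2,1,3,0,2,0,1] .nil .nil) (.node [3,0,2,0,1,3,1,3,3,1,0] .nil .nil)) (.node [1,3,0,1,3,3,1,3,3,1] (.node [2,1,3,3,1,3,1,0] .nil .nil) (.node [2,2,0,2,1,0,2,0,2,0,2,0] .nil .nil))) (.node [3,2,1,3,1,0,2,3,0,1] (.node [2,3,1,3,1,3,0,2,2,1,0] (.node [2,0,2,0,2,2,0,2,1,0,2,0] .nil .nil) (.node [3,1,3,1,3,2,2,2,0,2,0] .nil .nil)) (.node [0,2,3,1,3,0,2,1,3,2,0] (.node [2,2,2,0,1,3,3,1,3,3,0] .nil .nil) .nil))) (.node [3,2,0,1,3,2,2,2,0] (.node [2,3,1,3,2,1,3,2,2,2,1] (.node [1,3,3,2,1,3,1,3,3] (.node [2,2,2,0,1,3,0,2,2,0] .nil .nil) (.node [2,1,3,2,2,2,0,2,1,0] .nil .nil)) (.node [2,3,1,3,0,2,2,0,2] (.node [2,1,3,3,2,0,2,0,1,3] .nil .nil) .nil)) (.node [2,3,1,0,2,3,0,1] (.node [3,0,2,0,2,0,2,2,1] (.node [1,0,2,3,1,3,1,0,2,2,1] .nil .nil) (.node [3,1,3,2,1,3,1,0,2,0] .nil .nil)) (.node [1,0,2,0,2,0,2,0] (.node [2,0,2,3,1,3,3,1] .nil .nil) .nil))))))) (.node [2,3,0,2,0,2,1,0,2] (.node [2,2,0,1,3,1,3,3,1,0]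 (.node [3,2,2,0,2,0,2,0] (.node [3,0,1,3,0,2,1,3,3,0,1,0] (.node [3,2,0,2,3,3,2,0,1,0] (.node [0,2,0,2,3,3,0,2,0,2,0] (.node [2,3,1,3,3,2,1,3,2,0] (.node [1,3,1,3,3,1,3,3,1,3,0] .nil .nil) (.node [3,3,2,0,1,3,1,3,0,2] .nil .nil)) (.node [3,1,0,2,1,3,0,1,3,1] (.node [0,2,0,2,0] .nil .nil) (.node [0,1,3,1,3,2,0] .nil .nil))) (.node [3,2,0,2,0,2,3,3,1] (.node [0,2,1,0,2,3,3,2,2,2,0] (.node [1,3,2,1,3,1,3,2] .nil .nil) (.node [0,1,3,3,2,0,1,0] .nil .nil)) (.node [2,3,2,0,1,3,1,3,3] (.node [2,0,1,3,2,2,2,0,1,3,0] .nil .nil) .nil))) (.node [0,1,3,0,1,3,1,3,3,0] (.node [2,1,3,2,1,0,2,3,3,0] (.node [2,0,2,1] (.node [0,2,2,2,0,1,3,3,0,2] .nil .nil) (.node [3,2,0,1,3,1,3,2,1,0] .nil .nil)) (.node [2,1,3,3,0,1,3,0] (.node [3,3,0,1,3,1,3,3,2] .nil .nil) (.node [3,1,3,0,2,1,0,2,0] .nil .nil))) (.node [1,3,3,2,2,0,2,2,1] (.node [3,0,1,3,3,2,0,2,2,0,1,0] (.node [0,2,2,2,0,2,0,2,1,0] .nil .nil) (.node [2,3,2,0,1,3,0,2,2,2]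 .nil .nil)) (.node [3,2,1,3,1,0,2,3,3,1,0] (.node [1,3,2,1,3,0,2,1,3,1,0] .nil .nil) .nil)))) (.node [3,3,1,0,2,1,3,1,3,0] (.node [3,3,2,2,1,0,2,1,3,1] (.node [2,0,2,1,3,3,2,0,2,0] (.node [2,1,3,3,0,2,0,1] (.node [1,3,0,2,1,0,2,2,2] .nil .nil) (.node [3,0,1,3,3,0,1,3] .nil .nil)) (.node [3,0,1,3,3,0,2] (.node [2,2,0,1,3,1,0,2] .nil .nil) (.node [3,3,1,3,2,2,1,0,2,0] .nil .nil))) (.node [2,1,3,2,2,2,0,2,1] (.node [2,3,3,2,2,2,0,1,0] (.node [3,3,1,0,2,0,2,0,2,0,2] .nil .nil) (.node [3,3,1,0,2,3,1] .nil .nil)) (.node [3,2,0,2,1,3,2,1,3,1] (.node [2,1,0,2,1,3,3,2,0] .nil .nil) .nil))) (.node [3,3,2,0,1,3,1,3,1,0] (.node [2,0,2,1,3,3,1,3,2,2,2] (.node [2,3,2,2,0,1,3,3] (.node [0,2,0,2,1,0,2,1,0,2,0] .nil .nil) (.node [2,1,3,0,2,2,2,0,2,0,1] .nil .nil)) (.node [2,3,2,0,2,0,2,1,3,2] (.node [0,1,3,1,3,2,0,2,3,1] .nil .nil) .nil)) (.node [2,2,0,2,2,0,1] (.node [3,3,1,3,2,2,2,0,1,3] (.node [0,2,1,3,0,2,1,0,2,1,3]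 .nil .nil) (.node [3,3,1,3,2,0,2,1,3] .nil .nil)) (.node [1,3,3,1,3,1,3,3,1,0] (.node [2,3,2,0,2,0,1,0] .nil .nil) .nil))))) (.node [1,3,3,2,0,2,2,0,2,3,1] (.node [2,0,2,3,0,2,2,0,2,0] (.node [2,1,3,1,3,1,0,2] (.node [0,1,3,0,2,0,1,3,2] (.node [2,3,3,2,1,0,2,3,0,2,1] (.node [2,3,2,1,3,1,0,2,1] .nil .nil) (.node [3,1,3,0,2,0,1,3,2,2,1] .nil .nil)) (.node [2,3,1,3,2,1,3,2,0,1,0] (.node [1,3,2,1,3,3,1,3,3,0] .nil .nil) (.node [1,3,3,1,3,0,1,3,2,1,0] .nil .nil))) (.node [3,2,2,0,1,3,2,0,2,1,0] (.node [1,3,2,0,1,3,1,0] (.node [1,0,2,3,1,3,2,1,3] .nil .nil) (.node [3,1,3,1,0,2,1,3] .nil .nil)) (.node [3,3,1,0,2,1,0,2,2] (.node [1,0,2,0,2,2,1,0,2,3] .nil .nil) .nil))) (.node [0,2,1,3,0,2,0,2,3,1] (.node [0,2,2,0,2,0,1,3] (.node [2,3,3,0,1,3,1,3,1,0] (.node [0,2,0,2,1,0,2,2,2,1] .nil .nil) (.node [3,1,3,1,3,0,2,0,2,3,3] .nil .nil)) (.node [2,1,3,3,0,2,2,0,2,0] (.node [2,3,3,2,1,3,1,3,1,3] .nil .nil) .nil))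 (.node [3,3,2,0,2,0,1,3] (.node [0,2,0,2,3,3] (.node [2,0,1,3,1,3,2,1,3,0,1] .nil .nil) (.node [0,2,0,2,0,1,3,3,2,0,1] .nil .nil)) (.node [1,3,1,3,3,2,1,3,0,1] (.node [3,0,2,0,1,3,0] .nil .nil) .nil)))) (.node [2,1,0,2,2,0,2,0] (.node [0,2,0,1,3,2,2,0] (.node [3,2,1,0,2,2,2,0,2,0] (.node [0,1,3,1,3,2,2,2,1,0,2,0] (.node [0,2,2,0,2,0,2,1,3,1,3,0] .nil .nil) (.node [3,3,1,3] .nil .nil)) (.node [2,1,3,3,0,1,3,3,0,2,1] (.node [3,1,3,1,3,2,2] .nil .nil) (.node [0,2,3,0,1,3,2,1,0,2,0] .nil .nil))) (.node [3,2,0,2,3,0,2,2,0] (.node [2,2,0,1,3,2,0,1,3,1,0] (.node [3,3,2,2,0,2,2,0,2,0] .nil .nil) (.node [2,2,0,2,2,2,1] .nil .nil)) (.node [3,1,3,2,0,2,0,2,1,0] (.node [3,2,2,1,0,2,3,1,0,2,1] .nil .nil) .nil))) (.node [0,2,0,1,3,2,1,3,0,2,2,1] (.node [0,2,3,3,1,3,1,0] (.node [3,2,0,2,0,1,3,3,2,0,1] (.node [2,3,2,2,0,2,2,0,2] .nil .nil) (.node [3,3,2,1,0,2,2,1,0] .nil .nil)) (.node [2,0,2,1,3,1,3,2,2] (.node [1,0,2,0,2,1,3,0,2,2,0]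 .nil .nil) .nil)) (.node [3,2,1,3,2,0,2,2,1,0,2,0] (.node [3,3,2,1,3,1,3,1,0,2] (.node [2,2,0,2,2,0,2,3,3,2,0] .nil .nil) (.node [0,1,3,3,2,0,1,3,1] .nil .nil)) (.node [2,0,2,0,2,0,2,3,3] (.node [1,3,1,3,3,2,1,0,2,3] .nil .nil) .nil)))))) (.node [3,3,2,1,3,2,0,2,1] (.node [2,0,1,3,1,3,3,2] (.node [3,3,2,0,2,1,0,2,2,1,0] (.node [3,0,1,3,2,1,0,2,0,2,0] (.node [0,2,1,3,3,0,2,0,2,1] (.node [1,3,1,3,1,3,2,1] (.node [1,0,2,3,3,0,1,3,2,1] .nil .nil) (.node [3,0,2,0,2,3,3,1] .nil .nil)) (.node [2,3,2,2,0,2,0,2,3,1,0] (.node [2,0,2,0,1,3,0,2,0] .nil .nil) (.node [1,3,3,2,2,2,1,0,2,0] .nil .nil))) (.node [1,0,2,1,3,3,0,2] (.node [1,3,2,1,0,2,3,3] (.node [0,2,2,1,0,2,3,3] .nil .nil) (.node [2,1,3,2,1,3,3,1] .nil .nil)) (.node [1,3,1,3,3,2,2,2,0,1,0] (.node [0,1,3,2,2,1] .nil .nil) .nil))) (.node [3,0,2,1,3,0,2,2,2] (.node [3,2,0,2,0,2,2,2,1,0,2,0] (.node [1,0,2,3,1,0,2,2,0,1,0] (.node [1,3,2,2,0,1,3,3,1,0] .nil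 .nil) (.node [3,0,1,3,3,0,2,0,2,2] .nil .nil)) (.node [2,1,3,2,0,2,2,0,2,1,0] (.node [3,3,0,1,3,3,0,2] .nil .nil) (.node [3,0,2,1,3,0,2,2,2,0,1,0] .nil .nil))) (.node [0,2,2,0,2,2,1,0,2] (.node [2,0,1,3,3,2,1,0,2,2] (.node [2,3,3,1,3,1,0,2,3] .nil .nil) (.node [3,0,1,3,3,1,3,2,0] .nil .nil)) (.node [3,3,1,3,2,0,2,2,0,1,0] (.node [0,2,3,3,2,2,0,2,1,0] .nil .nil) .nil)))) (.node [3,2,0,2,2,1,0,2,0,2,0] (.node [1,3,2,0,1,3,1,3,0,2] (.node [3,0,1,3,3,0,1,3,1] (.node [1,0,2,2,0,2,2,0,2] (.node [1,3,2,2,0,1,3,3,2,0] .nil .nil) (.node [2,3,1,0,2,3,1,3,1,3] .nil .nil)) (.node [2,1,3,3,0,1,3] (.node [2,0,2,3,3,2,2,2,0] .nil .nil) (.node [1,3,2,0,2,1,0,2,0,1,3] .nil .nil))) (.node [2,1,3,3,2,2,0,1,3] (.node [0,2,1,0,2,3,0,2,0,1] (.node [3,1,0,2,1,3,0,1,3,0] .nil .nil) (.node [3,3,1,3,0,2,2,0,2,1] .nil .nil)) (.node [1,3,2,1,3,2,0,2,0,1,0] (.node [2,1,3,2,2,1,0] .nil .nil) .nil))) (.node [0,1,3,0,2,1,0,2,3] (.node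 [3,1,0,2,0,2,0,2,1,0] (.node [0,2,3,3,1,3,1,3,0] (.node [2,3,2,2,2,0,2,1,0] .nil .nil) (.node [3,0,2,0,2,0,2,2,0,2] .nil .nil)) (.node [0,2,1,3,0,2,2,2,0,2,0] (.node [3,1,3,2,2,2,0,2,0,1,0] .nil .nil) .nil)) (.node [2,3,3,2,1,0,2,2,0,1] (.node [2,2,0,1,3,1,3,2,2] (.node [3,2,1,0,2,2,1,0,2,0,1,0] .nil .nil) (.node [1,0,2,0,2,3,0,2,2,2,1] .nil .nil)) (.node [0,2,1,0,2,1,3,3,0,2] (.node [2,1,0,2,3,3,2,0,2,1,0] .nil .nil) .nil))))) (.node [3,2,0,2,2,0,1] (.node [3,3,1,0,2,1,3,3,0,2] (.node [2,1,3,1,3,0,2,0,1,3,2] (.node [2,2,0,2,2,0,2,0,1] (.node [0,2,1,3,3,1,0,2,2,1,0] (.node [0,2,2,0,2,0,2,2,0,2] .nil .nil) (.node [1,3,0,2,2,0,1,3,2,0] .nil .nil)) (.node [0,2,3,0,1,3,2,2,2,0] (.node [3,1,3,3,0,2,1,0,2,2,2] .nil .nil) (.node [1,3,0,1,3,0,2,2,0,2] .nil .nil))) (.node [3,1,0,2,1,3,3,0,2] (.node [1,3,1,3,3,1,0,2,3] (.node [3,2,1,0,2,3,3,1,0] .nil .nil) (.node [3,0,2,2,2,0,2,1,3] .nil .nil)) (.node [0,2,2,0,1,3,2,1,3]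 (.node [3,3,2,2,0,1,3,2,1] .nil .nil) .nil))) (.node [3,1,3,3,1,3,1] (.node [2,3,3,2,1,0,2,0,2,2] (.node [2,2,0,2,2,0,2,2,2,1,0] (.node [3,1,0,2,1,3,3,1] .nil .nil) (.node [2,1,0,2,1,3,3,2,2,1] .nil .nil)) (.node [3,2,0,2,2,0,2,0,2,0] (.node [2,3,0,2,1,3,1,3,2,0] .nil .nil) .nil)) (.node [1,3,1,3,1,3,0,1,3,0] (.node [1,3,3,1,3,2,0,2,1,0] (.node [1,3,2,1,3,0,1,3,0,1,0] .nil .nil) (.node [2,0,2,1,0,2,0,1,3] .nil .nil)) (.node [3,3,2,0,2,2,0,2,0] (.node [3,2,1,0,2,1,3,0,1,3,1,0] .nil .nil) .nil)))) (.node [2,2,1,0,2,3,3,1] (.node [3,3,0,2,0,2,1,3,3] (.node [0,2,3,1,3,3,2,0,2,2,1,0] (.node [1,3,1,3,3,0,2,0,2,2] (.node [1,3,3,0,1,3,2,1] .nil .nil) (.node [1,3,3,0,1,3,3,1,3,0] .nil .nil)) (.node [2,1,3,0,2,1,3,2,2,0] (.node [2,3,2,0,2,0,2,0,1,3] .nil .nil) (.node [2,0,1,3,3,0,2,0,2,0] .nil .nil))) (.node [2,2,0,1,3,2,1,3,3] (.node [3,2,1,3,3,1,0,2,1,0] (.node [3,0,2,2,1,0,2,0,2] .nil .nil) (.node [0,1,3,2,1,3,1,3,3,2]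 .nil .nil)) (.node [3,2,2,2,0,2,1,3,2] (.node [2,3,3,0,2,0,1,3,3,2,1] .nil .nil) .nil))) (.node [2,3,0,1,3,1,3,0,2,1] (.node [2,3,2,0,1,3,1,3,1,3,0] (.node [3,2,2,1,0,2,3,3] (.node [3,3,1,0,2,1,0,2,0,2,3] .nil .nil) (.node [0,2,0,2,2,2,0,1] .nil .nil)) (.node [2,3,3,2,0,1,3,3,1,0] (.node [0,2,3,0,2,0,2,3] .nil .nil) .nil)) (.node [3,3,1,3,2,1] (.node [1,0,2,2,1,0,2,0,2,0] (.node [1,3,3,2,0,1,3,0,2,0] .nil .nil) (.node [2,3,3,0,2,0] .nil .nil)) (.node [2,0,2,2,0,2,0,1,3] (.node [2,0,2,1,0,2,3,0,2] .nil .nil) .nil))))))))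

/-- Part of `setWord`. -/
noncomputable def setWord_l_l_l_l_r : Arr (List ℕ) :=
  (.node [2,3,2,0,1,3,0,2] (.node [0,2,3,0,2,0,2,2,0,1] (.node [0,2,3,1,3,3,0,1,3] (.node [3,3,2,0,1,3,1,3,2,1,0] (.node [1,3,1,3,2,0,2,3,3] (.node [1,3,0,2,1,3,1,0,2] (.node [0,2,0,2,2,2,0,1,0] (.node [1,3,3,1,3,2,0,1] (.node [2,3,0,1,3,2] .nil .nil) (.node [1,3,1,3,2,2,0,2,0,1] .nil .nil)) (.node [1,3,2,0,2,3,3,2,1] (.node [3,1,0,2,2,1] .nil .nil) (.node [2,3,1,3,3,2,0,2,1,0,2,0] .nil .nil))) (.node [0,2,2,1,0,2,1,3,1] (.node [2,1,3,2,2,0,1,3,3,0] (.node [2,3,3,1,3,3,0,2,2,1] .nil .nil) (.node [3,3,0,1,3,0,2,1,3,1,3] .nil .nil)) (.node [0,2,3,3,1,3,0,1] (.node [3,2,1,0,2,0,2,1] .nil .nil) .nil))) (.node [2,0,2,2,1,0,2,1] (.node [0,2,3,0,2,2,2,1] (.node [3,2,1,3,3,2,2,0,1,0] (.node [3,2,0,1,3,2,2,1] .nil .nil) (.node [1,0,2,2,2,0,2] .nil .nil)) (.node [3,2,0,1,3,2,2] (.node [3,2,0,2,1,0,2,0,2,2,1] .nil .nil) (.node [2,1,3,0,2,1,3]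 .nil .nil))) (.node [3,3,2,1,3,0,2,2,2,1,0] (.node [3,2,2,0,2,1,3,1,0,2] (.node [2,0,1,3,3,2,0,2,2,2,1,0] .nil .nil) (.node [1,3,3,1,3,1,0,2,3,1] .nil .nil)) (.node [2,2,1,0,2,3,0,1,3,2,0] (.node [2,2,0,1,3,1,3,2,1,0] .nil .nil) .nil)))) (.node [3,2,1,3,0,1,3,0] (.node [2,3,3,2,2,0,1,3,0,2] (.node [0,2,1,0,2,3,3,0,2,0] (.node [2,3,3,0,1,3,1,3,0] (.node [1,3,0,2,0,1,3,2,2] .nil .nil) (.node [3,0,2,0,1,3,2,2,2,0,2] .nil .nil)) (.node [2,2,0,2,0,2,0,1,3] (.node [2,1,3,1,0,2,2] .nil .nil) (.node [2,3,1,3,2,2,2,1,0,2,0] .nil .nil))) (.node [3,0,1,3,1,3,1,3,3,0] (.node [2,0,1,3,3,0,2,1] (.node [2,2,0,2,3,1,0,2,0,1] .nil .nil) (.node [2,3,3,1,3,0,2,2,0,2,1] .nil .nil)) (.node [2,0,2,1,3,0,2,2,0] (.node [1,3,0,1,3,0,2,0] .nil .nil) .nil))) (.node [3,1,3,3,2,0,2,1,3,1,0] (.node [3,2,1,3,2,0,2,1,0,2,3] (.node [3,3,0,2,0,2,1,3] (.node [0,2,3,3,0,1,3,0] .nil .nil) (.node [2,0,2,1,3,2,1,3,1,3,2] .nil .nil)) (.node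 [2,3,3,0,2,1,3,0,2] (.node [3,3,0,1,3,1,3,2,2,2] .nil .nil) .nil)) (.node [2,3,2,0,1,3,3,0,1,3,1] (.node [0,1,3,2,1,3,2,1,3,3,1] (.node [2,1,3,1,0,2,3,3,2,2,0] .nil .nil) (.node [3,2,2,0,2,1,3,2,2,1,0] .nil .nil)) (.node [2,3,3,2,0,1,3,1,0] (.node [2,3,3,0,2,2,0] .nil .nil) .nil))))) (.node [0,1,3,0,2,0,1,3,2,2] (.node [2,2,2,0,2,1,3,2,0] (.node [2,3,3,2,2,0,2,0,2,1] (.node [3,2,1,0,2,0,2,3,0,2,2] (.node [1,0,2,1,3,1] (.node [3,1,3,3,1,0,2,2,1,0] .nil .nil) (.node [3,2,1,3,3,0,1,3,0,2] .nil .nil)) (.node [2,2,1,0,2,0,2,3,0,2] (.node [2,0,1,3,2,0,1] .nil .nil) (.node [2,1,0,2,3,3,0,2,2,1] .nil .nil))) (.node [2,1,0,2,3,0,1,3,0] (.node [2,1,0,2,0,2,3,1,0,2,1] (.node [3,2,0,2,0,1,3,3,2,0] .nil .nil) (.node [2,0,1,3,2,1,3,2,2,0] .nil .nil)) (.node [3,2,2,1,0,2,3,1,0] (.node [3,0,2,0,2,3,0,2] .nil .nil) .nil))) (.node [0,2,3,1,3,3,1,3,0,1] (.node [2,3,3,2,2,1,0,2,3,0,2,1] (.node [3,2,0,1,3,1,3,2,2] (.node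 [2,1,3,2,1,0,2,3,0,1,0] .nil .nil) (.node [0,2,0,2,3,0,1,3,3] .nil .nil)) (.node [2,2,2,0,1,3,1] (.node [0,2,0,2,2,1,0,2,3] .nil .nil) .nil)) (.node [1,3,1,3,0,2,1,3,2,0] (.node [1,3,3,1,0,2,3,0,1,3,3] (.node [2,0,2,1,3,3,0,2,0,1,3] .nil .nil) (.node [2,3,2,1,3,0,2,2,0,2,1] .nil .nil)) (.node [2,1,3,2,1,3,0,2,2,1] (.node [0,2,2,0,2,1,3,0] .nil .nil) .nil)))) (.node [3,0,2,1,0,2,3,0,1,0] (.node [2,0,1,3,1,3,1,3,2,2,0] (.node [2,2,0,2,3,3,2,2] (.node [3,3,2,0,2,1,3,2,2,1] (.node [1,3,2,0,2,0,2,1,0] .nil .nil) (.node [3,2,1,3,0,2,1,0,2,3,0,2] .nil .nil)) (.node [1,3,0,1,3,1,3,3,1,3] (.node [3,2,2,0,2,1,3,1,3,3] .nil .nil) (.node [0,2,0,2,2,1,0,2,1,0,2,0] .nil .nil))) (.node [0,1,3,1,3,0,1,3,0,1] (.node [2,0,2,2,2,0,1,3,2,2] (.node [1,0,2,3,1,3,2,2,2,1,0] .nil .nil) (.node [3,2,2,0,2,1,0,2,0] .nil .nil)) (.node [3,3,2,1,3,0,2,2,1,0] (.node [3,0,2,1,3,1,3,2,2,1,0] .nil .nil) .nil))) (.node [2,2,1,0,2,1,0,2,3,1]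 (.node [0,2,1,3,2,1,3,0,2,0,1] (.node [0,2,3,0,1,3,3,1,3,3] (.node [3,1,3,0,1,3,2,0,2,2,1] .nil .nil) (.node [3,3,0,1,3,2,0,2,1,3,0] .nil .nil)) (.node [0,2,3,3,1,0,2,3,3,0] (.node [2,1,3,3,2,0,2,0,1] .nil .nil) .nil)) (.node [0,2,0,2,0,1,3,3,0,2,0] (.node [2,2,2,1,0,2] (.node [1,3,2,2,1,0,2,2,1] .nil .nil) (.node [1,3,0,2,0,2,3,3,0,2,1] .nil .nil)) (.node [2,1,0,2,0,2,3] (.node [2,3,3,2,1,3,2,0,2,1] .nil .nil) .nil)))))) (.node [3,1,3,3,0,2,0,1,3] (.node [3,0,1,3,3,1] (.node [2,2,0,2,3,1,3,3,1] (.node [1,3,1,3,0,2,1,3,3,1] (.node [2,3,3,2,1,3,3] (.node [3,2,0,1,3,1,3,0,2,2,0] (.node [3,3,1,0,2,0,2,0,2,0] .nil .nil) (.node [3,2,0,2,2,0,2] .nil .nil)) (.node [0,2,1,0,2,3,0,1,3,3] (.node [3,1,3,1,3,2,1,0] .nil .nil) (.node [0,2,2,2,1,0,2,0,2,1,0] .nil .nil))) (.node [3,0,1,3,2,1,3,3,0] (.node [0,1,3,1,0,2,3,1] (.node [3,2,2,0,2,1,3,2,2,2,0] .nil .nil) (.node [2,3,0,1,3,3,1,3,0,1] .nil .nil)) (.node [3,0,1,3,2,1,0,2,1,3,1]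 (.node [1,0,2,3,1,3,1,3,0] .nil .nil) .nil))) (.node [2,0,2,3,0,1,3,3,1,3,0] (.node [2,2,0,1,3,1,3,3,0,1] (.node [3,0,2,2,1,0,2,2,1] (.node [3,1,3,3,1,3,1,0] .nil .nil) (.node [2,1,3,1,0,2,2,2,0,2] .nil .nil)) (.node [2,0,2,3,0,1,3,2,2,0] (.node [0,2,0,2,2,0,2,0,1,3,2] .nil .nil) (.node [1,3,2,0,2,1,3,2,2,1,0] .nil .nil))) (.node [0,2,3,3,0,2,0,2,0,1,0] (.node [0,1,3,3,1,3,0,2] (.node [1,0,2,3,3,2,2,0,2,1,0] .nil .nil) (.node [1,0,2,0,2,3,3,0,2,1] .nil .nil)) (.node [2,3,3,0,2,0,2,1,3,2,1] (.node [3,1,0,2,3,3,2,1,0] .nil .nil) .nil)))) (.node [2,3,0,2,2,1,0] (.node [2,2,0,2,1,3,2,0] (.node [2,1,3,3,1,0,2,2] (.node [3,1,3,0,2,0,1,3,2,2,0] (.node [3,3,1,0,2,0,2,1] .nil .nil) (.node [3,1,3,0,2,0,2,0,2,0,1] .nil .nil)) (.node [2,3,3,2,1,3,2,2,0] (.node [0,1,3,2,0,1,3,0,2] .nil .nil) (.node [3,1,3,2,0,2,1,3] .nil .nil))) (.node [0,2,0,2,0,2,3,0,2,0,1] (.node [0,1,3,0,1,3,3,1,3,3] (.node [2,3,3,0,2,2,0,1,0]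 .nil .nil) (.node [2,3,1,3,1,3,3,2,0,2,0] .nil .nil)) (.node [2,0,2,3,1,3,1,0,2,1] (.node [3,3,1,3,2,0,2,3,3,0,2] .nil .nil) .nil))) (.node [2,1,3,3,1,3,2,0,2,0,1] (.node [3,2,2,0,2,2,0,2,0] (.node [1,3,1,3,0,2,1,3,2] (.node [3,3,1,3,3,1,3] .nil .nil) (.node [2,1,3,0,2,1,0,2,1,0] .nil .nil)) (.node [2,0,2,1,3,0,2,0,1,3,0] (.node [0,1,3,2,1,3,2,0,2,0] .nil .nil) .nil)) (.node [3,2,0,1,3,0,2,0,2,2,0,1] (.node [1,3,2,2,2,0,1,3] (.node [0,1,3,1,3,3,2,0,2,0] .nil .nil) (.node [0,2,3,0,1,3,1,3,3,2] .nil .nil)) (.node [3,1,3,3,1,3,1,3,3,0] (.node [1,3,2,1,3,0,2,2,1] .nil .nil) .nil))))) (.node [0,2,2,0,2,2,0,2,1,0] (.node [2,3,0,1,3,2,2,1,0] (.node [0,2,2,2,1,0] (.node [3,2,2,1,0,2,3] (.node [0,2,1,3,0,1,3,3,2,1] (.node [3,3,1,3,1,3,2,1] .nil .nil) (.node [3,2,1,3,2,1,3,3,1,0] .nil .nil)) (.node [2,0,1,3,3,1,3,1,3,3] (.node [3,2,0,2,1,3,0,1,3,3] .nil .nil) (.node [3,2,2,1,0,2,3,1] .nil .nil))) (.node [3,3,2,2,2,0,2,0,2,1,0]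 (.node [0,2,2,0,1,3,2,2,0] (.node [1,0,2,1,3,0,1,3,3] .nil .nil) (.node [3,1,0,2,3,1,3,2,1,3,2] .nil .nil)) (.node [3,3,2,2,2,0,1,3,2,1] (.node [0,1,3,1,3,0,2,1,0] .nil .nil) .nil))) (.node [2,3,3,1,0,2,0,2,0] (.node [1,3,1,3,2,0] (.node [1,0,2,0,2,2,0,1,3,3] (.node [2,1,3,0,2,1,0,2] .nil .nil) (.node [3,3,1,3,0,1,3,3,1,3] .nil .nil)) (.node [1,0,2,0,2,2,2,1,0] (.node [2,3,1,3,1,3,0,2,0,2,1] .nil .nil) .nil)) (.node [1,0,2,2,2,0,2,0] (.node [2,2,1,0,2,1,3,1] (.node [2,0,2,3,1,0,2,1,3,3] .nil .nil) (.node [3,3,0,2,0] .nil .nil)) (.node [3,3,1,0,2,3,0,1] (.node [2,2,2,0,2,1,0,2,3,1] .nil .nil) .nil)))) (.node [2,3,3,0,2,2,2,0,2,0,1] (.node [1,3,1,3,2,2,0,1,0] (.node [1,0,2,2,2,0,2,0,1,0] (.node [0,1,3,2,2,0,1,3,3,0,1] (.node [3,0,1,3,2,2] .nil .nil) (.node [2,3,3,1,3,1,3,3,0,2] .nil .nil)) (.node [3,2,0,1,3,1,3,0,2] (.node [3,2,1,3,2,2,2,0,2,1] .nil .nil) (.node [2,1,3,1,3,0,2,1,0,2,0] .nil .nil))) (.node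 [3,1,3,1,3,2,2,0,2] (.node [3,0,2,2,1,0,2,3,3,2,2,0] (.node [2,2,2,0,2,1,3,3,1,3,0] .nil .nil) (.node [3,0,2,1,0,2,1,3,3,1,0] .nil .nil)) (.node [0,2,3,1,3,3,2,2,0,2,1] (.node [1,0,2,3,1,3,2,2,0] .nil .nil) .nil))) (.node [2,3,2,2,0,2,1,0] (.node [2,1,0,2,2,2,0,2,0,1] (.node [3,0,2,2,1,0,2,0,1,0] (.node [2,3,0,1,3,3,2] .nil .nil) (.node [1,0,2,1,0,2,3,1,3,0] .nil .nil)) (.node [2,3,3,0,1,3,3,0,1,3,1] (.node [0,1,3,2,2,0,2,3] .nil .nil) .nil)) (.node [0,2,2,0,2,2,1,0,2,1] (.node [3,3,0,2,0,1,3,0,2] (.node [2,3,3,1,3,1,0,2] .nil .nil) (.node [2,1,3,2,2,2,1,0,2,0] .nil .nil)) (.node [2,3,3,0,1,3,3,1,0] (.node [1,3,1,3,1,3] .nil .nil) .nil))))))) (.node [0,2,1,0,2,0,2,3,3] (.node [0,2,1,3,2,1,3,3,2,2,1] (.node [3,1,3,2,0,2,3,3,1,0] (.node [0,2,1,0,2,1,3,3,0,2,1] (.node [3,2,0,1,3,3] (.node [3,0,2,2,0,2,1,3,0] (.node [3,0,1,3,2,2,1,0,2,0] (.node [3,1,0,2,2,0,2,0,2,2,1] .nil .nil) (.node [3,3,1,3,2,1,0,2,2]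 .nil .nil)) (.node [0,1,3,2,2,2,1,0,2,1,0] (.node [3,1,3,2,0,2,0,1,0] .nil .nil) (.node [0,2,1,0,2,0] .nil .nil))) (.node [3,1,0,2,3,3,2,1,3,2] (.node [3,2,2,0,2,3,1,3,1,3,0] (.node [3,2,1,3,0,1,3,3,2,2] .nil .nil) (.node [2,2,0,2,0,2,3,3,0,2,0] .nil .nil)) (.node [0,2,1,0,2,3,3,2,2,0] (.node [3,1,3,0,1,3,3,0,2,2,1] .nil .nil) .nil))) (.node [0,2,1,3,2,0,2,2,0,1,0] (.node [3,1,3,3,0,2,1,3,0,2] (.node [0,2,1,3,0,2,2,0,2] (.node [2,0,2,0,2,1,3,3,2,2,1] .nil .nil) (.node [3,3,1,0,2,3,0,2,1,0] .nil .nil)) (.node [2,3,0,1,3,2,0] (.node [3,3,2,0,1,3,1,3,3,2,1,0] .nil .nil) (.node [1,3,3,2,2,2,0,2,1,3] .nil .nil))) (.node [3,2,2,0,2,2,1,0,2,0,1,0] (.node [3,3,1,3,2,0,1,3,3] (.node [2,2,2,0,1,3,0,2,0,1] .nil .nil) (.node [3,1,3,3,1,3,0,2,2,2,1] .nil .nil)) (.node [3,1,3,3,0,1,3,2,1] (.node [3,2,0,2,2,0,2,3,0,1,3] .nil .nil) .nil)))) (.node [2,3,3,2,0,2,1,3,3,0,2] (.node [0,2,0,2,3,0,2,2,0,2,2] (.node [0,1,3,2,1,3,2]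 (.node [2,3,0,2,2,2,0,1,3] (.node [3,0,2,1,3,2,1,3,0,2] .nil .nil) (.node [0,1,3,1,3,3,0,1,3] .nil .nil)) (.node [0,2,3,0,1] (.node [1,3,3,2,2,0,2,0,1,3,2] .nil .nil) (.node [2,3,0,2,2,1,0,2] .nil .nil))) (.node [3,1,3,3,1,3,1,0,2,0,2] (.node [0,1,3,3,2,2,0,1,3,2] (.node [1,3,3,1,3,3,0,2] .nil .nil) (.node [0,2,1,3,1,3,3,1,3,3] .nil .nil)) (.node [1,3,2,1,3,3,0,2,2,0] (.node [3,3,2,0,2,2,0,1,3,2,1] .nil .nil) .nil))) (.node [2,3,0,2,2,2] (.node [0,2,0,2,2,0,2,3,3,1] (.node [0,2,1,3,1,3,0] (.node [2,3,0,1,3,1,0,2,3,1,0] .nil .nil) (.node [2,3,2,2,1,0,2,3] .nil .nil)) (.node [2,1,3,1,3,1,0,2,1] (.node [3,1,3,2,2,0,1,3,0,2] .nil .nil) .nil)) (.node [3,1,3,2,1,3,1] (.node [1,3,3,2,1,0,2,3,1,3,0] (.node [3,2,2,0,1,3,3,0,2,2] .nil .nil) (.node [2,3,0,1,3,3,2,1,0] .nil .nil)) (.node [3,3,2,1,3,0,1] (.node [2,0,1,3,0,2,0,2,0,1] .nil .nil) .nil))))) (.node [1,0,2,2,1] (.node [0,2,3,3,0,1,3,1,3,1,0] (.node [3,3,0,1,3,3,1,3,1,0]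 (.node [1,3,2,0,2,0,2,1,3,2,0] (.node [3,3,1,3,1,3,3,1,3,3,2] (.node [2,1,0,2,1,3,3,1] .nil .nil) (.node [2,0,2,1,3,2,1,3,2] .nil .nil)) (.node [2,1,0,2,3,1,3,3,1,0] (.node [3,2,1,3,3,1,3,1] .nil .nil) (.node [1,0,2,1,3,0,2,2] .nil .nil))) (.node [1,3,1,3,2,1,3,1,3,3] (.node [2,1,3,0,2,1,0,2,3,1,0] (.node [2,1,3,0,1,3,0,1,3,0] .nil .nil) (.node [1,3,0,1,3,2,1,0] .nil .nil)) (.node [3,1,3,2,1,3,2,0,2,1] (.node [1,3,3,0,2,1,0,2,1,3] .nil .nil) .nil))) (.node [1,3,1,3,3,0,1,3,0,2,1] (.node [1,3,3,0,1,3,3,2,2,2,0] (.node [1,0,2,3,0,2,2,0] (.node [2,0,2,1,3,2,1,3,2,1] .nil .nil) (.node [1,3,3,2,0,1,3,2,2] .nil .nil)) (.node [2,2,0,2,1,3,0,2] (.node [2,0,2,3,0,2,1,3,1,0] .nil .nil) .nil)) (.node [1,3,2,0,2,3,3,1,3,1,0] (.node [3,3,0,1,3,1,0] (.node [3,3,1,3,0,1,3,2,2,0] .nil .nil) (.node [0,1,3,3,1,3,1,0,2,3] .nil .nil)) (.node [3,1,0,2,3,1,3,2,1] (.node [2,1,3,0] .nil .nil) .nil)))) (.node [0,2,1,3,2,0,1,3,1]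 (.node [1,0,2,0,2,3,3,1] (.node [1,3,3,0,1,3,2,1,3,0,1] (.node [1,3,0,2,0,2,3,1,3,0] (.node [2,3,3,1,3,3,2,1,0] .nil .nil) (.node [2,1,3,3,2,0,1,3,3,2] .nil .nil)) (.node [1,3,3,1] (.node [1,3,1,3,1,0,2] .nil .nil) (.node [0,2,0,2,3,0,2,2,2,1] .nil .nil))) (.node [3,0,2,0,2,0,2,1,0,2,0] (.node [3,2,1,3,0,2,1,0,2,3] (.node [0,2,0,2,0,2,3,1,0] .nil .nil) (.node [3,0,1,3,2,0,2,0] .nil .nil)) (.node [2,0,2,3,0,2,0,1,3,3] (.node [0,2,2,0,2,0,1,3,0] .nil .nil) .nil))) (.node [1,3,3,0,2,2,0] (.node [2,3,1,3,3,0,1,3,0] (.node [2,3,1,3,2,0,2,0,2,2] (.node [2,0,2,3,0,2,2,0,2,2] .nil .nil) (.node [3,1,3,2,1,3,3,0,2,2,0] .nil .nil)) (.node [0,2,0,1,3,1,3,3,1,0] (.node [3,1,3,3,2,2,1] .nil .nil) .nil)) (.node [2,0,2,3,1,0,2,3,0,1] (.node [0,2,0,2,3,0,2,2,1] (.node [0,2,2,0,1,3,3,2,1] .nil .nil) (.node [0,2,3,0,2,1,3,2,1,0] .nil .nil)) (.node [2,3,1,0,2,0,1,3] (.node [3,3,2,0,2,1,3,1,0] .nil .nil) .nil)))))) (.node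 [3,3,2,1,0,2,3,0,2,1] (.node [2,0,1,3,1,3,2,1,3,2,0] (.node [2,2,0,2,1,3,1] (.node [2,1,3,1,3,3,2,2] (.node [2,1,0,2,1,3,0,1] (.node [3,1,3,1,3,3,0,1,0] (.node [2,0,2,1,3,3,1,3,2,1,0] .nil .nil) (.node [3,1,3,1,3,3,1,0] .nil .nil)) (.node [2,3,1,0,2,3,3,1] (.node [2,1,3,1,3,1,3,1,0] .nil .nil) (.node [2,1,3,1,0,2,1,3] .nil .nil))) (.node [2,3,3,1,3,0,2,1,3,3,1] (.node [2,3,0,2,2,0] (.node [3,2,1,3,2,0] .nil .nil) (.node [3,2,0,2,1,0,2,1,3] .nil .nil)) (.node [0,1,3,1,3,3,0,1] (.node [2,2,2,0,2,1,3,1,0] .nil .nil) .nil))) (.node [0,2,0,2,1,3,1,3,0] (.node [1,3,3,1,0,2,1,0] (.node [3,0,1,3,1,3,1,0] (.node [2,3,1,3,1,3,3,1] .nil .nil) (.node [0,1,3,0,2,0,2,2,1] .nil .nil)) (.node [1,0,2,3,3,2,0,1,0] (.node [3,3,0,2,1,0,2,1,0] .nil .nil) (.node [2,3,3,2,2,1,0,2,3,1] .nil .nil))) (.node [1,3,2,0,2,1,3,0,1,3,0] (.node [1,3,3,1,3,1,3,1,3,1,0] (.node [3,2,1,3,2,0,2,1,0,2] .nil .nil) (.node [3,3,0,1,3,3,0,2,1,0]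 .nil .nil)) (.node [2,3,1,3,3,2,0,1,3,0] (.node [3,1,3,0,2,0,2,3,3,0] .nil .nil) .nil)))) (.node [0,1,3,3,2,0,2,2,2,1,0] (.node [1,3,1,3,2,1,3,2,1,3,1] (.node [2,2,0,1,3,3,0,2,0,2,1] (.node [2,1,3,0,2,0,2,2,1,0] (.node [0,2,3,3,1,3,3,1,3,0,1] .nil .nil) (.node [1,3,2,2,2,0] .nil .nil)) (.node [2,1,3,0,1,3,2,0,2,0,1] (.node [3,1,3,0,1,3,3,2] .nil .nil) (.node [0,2,0,2,1,3,3,0,1,0] .nil .nil))) (.node [2,3,3,2,1,3,3,0,2,1,0] (.node [0,1,3,2,0,2,3,3,0] (.node [0,1,3,1,0,2,3,3,1] .nil .nil) (.node [3,0,2,0,2,2,1,0,2,1,3,3] .nil .nil)) (.node [0,2,1,3,1,3,3,1,0,2,3] (.node [2,0,2,0,2,2,0,1,3] .nil .nil) .nil))) (.node [1,0,2,3,3,0,1,3,3,1,0] (.node [3,2,2,0,1,3,3,0,2] (.node [3,1,0,2,0,2,1,0] (.node [3,1,3,0,2,2,2,0,2] .nil .nil) (.node [2,1,3,0,1,3,3,2,1] .nil .nil)) (.node [3,3,1,0,2,3,1,3,3,2,2] (.node [3,3,2,1,3,2,0,2,1,0] .nil .nil) .nil)) (.node [3,3,2,0,2,1,3,0,1,3,3] (.node [3,3,2,1,3,3,0] (.node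 [0,1,3,0,1,3,0,2,2] .nil .nil) (.node [0,2,1,3,1,3,3,1,3,1,0] .nil .nil)) (.node [1,3,2,0,2,0,2,1,3,2,1] (.node [1,3,2,1,0,2,0,2,1,0] .nil .nil) .nil))))) (.node [2,1,0,2,2,2,0,1,0] (.node [3,3,2,1,0,2,3,1,3,0] (.node [0,1,3,2,0,2,2,2,0,2,1] (.node [1,0,2,1,3,3,0,1,3,3,1,0] (.node [3,1,3,3,2,0,1,3,2,0] (.node [1,0,2,2,2,0,2,2,0,2,0,1] .nil .nil) (.node [1,3,1,3,3,0,2,2,0,1,0] .nil .nil)) (.node [2,3,0,2,1,3,1,3,1,3,3] (.node [3,0,1,3,3,2,2,0] .nil .nil) (.node [3,1,3,0,1,3,1,3,2,0] .nil .nil))) (.node [3,3,1,3,1,0,2,2] (.node [3,3,2,0,2,1,3,3,0,2] (.node [3,1,3,3,0,1,3,3,2,2,0] .nil .nil) (.node [1,3,3,0,2,0] .nil .nil)) (.node [3,2,0,2,3,0,2,1] (.node [3,3,2,1,3,1,0,2,2] .nil .nil) .nil))) (.node [2,2,1,0,2,3,0,1,3,0] (.node [2,2,0,1,3,3,1,0] (.node [0,2,3,1,3,1,0,2] (.node [3,1,3,2,1,0,2,2,0,1] .nil .nil) (.node [1,3,3,0,1,3,3,0,2,0,1,0] .nil .nil)) (.node [2,2,0,2,3,3,0,2,0,1] (.node [1,0,2,1,0,2,1,3]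 .nil .nil) .nil)) (.node [1,3,3,0,2,2,1,0] (.node [2,3,0,1] (.node [2,1,3,2,1,3,1,3,2,0] .nil .nil) (.node [3,2,0,1,3,0,2,2,2] .nil .nil)) (.node [3,1,3,3,1,3,0,2,2,1,0] (.node [1,3,1,3,3,2,0,2,2] .nil .nil) .nil)))) (.node [0,2,0,2,2,2,0,1,3,2,0] (.node [3,2,0,2,1,3,2,1,3,0,2] (.node [1,3,3,1,3,2,2,2] (.node [1,0,2,0,2,3,3,1,3,2,1] (.node [3,1,0,2,1,0,2,3,0,2,2] .nil .nil) (.node [1,3,1,3,0,1,3,0,1] .nil .nil)) (.node [2,1,3,3,0,2,1,3,2,0] (.node [2,3,2,1,3,1,3,2,0] .nil .nil) (.node [3,1,0,2,3,0,2,1,3] .nil .nil))) (.node [3,2,2,0,2,0,2,3,0,2,2,0] (.node [2,3,1,3,0,2,0,1] (.node [0,2,0,2,3,0,2,0,1,3,3] .nil .nil) (.node [3,3,0,2,2,0,2,1,0,2,0] .nil .nil)) (.node [3,2,2,2,0,2,0,1,3,2,0] (.node [0,2,0,2,0,2,1,0,2,0] .nil .nil) .nil))) (.node [0,2,0,2,0,2,2] (.node [0,2,1,3,1] (.node [3,1,3,3,1,3,2,0,1,3,1] (.node [3,0,2,0,2,2,1,0,2,2,1] .nil .nil) (.node [3,0,1,3,3,1,3,0,1,0] .nil .nil)) (.node [0,2,0,2,1,3,3,1,0,2,0]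 (.node [2,3,2,1,0,2,1,3,1] .nil .nil) .nil)) (.node [0,1,3,1,3,2,1,3,2,0] (.node [3,0,1,3,2,0,1,0] (.node [2,2,0,1,3,2,2,0,2,3,1] .nil .nil) (.node [3,1,0,2,3,0,1,3,2,1,0,2,0] .nil .nil)) (.node [0,2,2,0,2,0,2,0,2,2] (.node [2,0,1,3,3,2,2] .nil .nil) .nil))))))))

/-- Part of `setWord`. -/
noncomputable def setWord_l_l_l_l : Arr (List ℕ) :=
  .node [2,2,0,2,2,0,2,2,0,2,2] setWord_l_l_l_l_l setWord_l_l_l_l_r

/-- Part of `setWord`. -/
noncomputable def setWord_l_l_l_r_l : Arr (List ℕ) :=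
  (.node [3,2,0,1,3,3,0,1,3,2] (.node [2,3,2,0,1,3,1,0,2] (.node [2,2,1,0,2,3,3,2,2,1] (.node [1,0,2,2,2,0,1] (.node [2,3,0,2,1,0,2,2,2] (.node [3,1,0,2,3,3,0,1,3] (.node [3,0,1,3,2,0,2,0,2,2] (.node [0,2,3,3,2,2,1,0,2,3,1] (.node [2,1,0,2,2,2,0,2,1,3,2] .nil .nil) (.node [1,0,2,2,0,2,3] .nil .nil)) (.node [3,3,0,2,0,2,2,0,2,2] (.node [1,0,2,1,3,0,1,3,2,1,0] .nil .nil) (.node [0,2,0,2,2,2,0,1,3,3,0,2] .nil .nil))) (.node [1,3,2,1,3,3,1,3,2] (.node [3,0,1,3,0,2,1] (.node [2,0,2,2,1,0,2,2,1,0,2] .nil .nil) (.node [0,2,1,0,2,2,1] .nil .nil)) (.node [0,2,1,0,2,0,2,1,0] (.node [3,2,2,0,1,3,2,1,0,2,3] .nil .nil) .nil))) (.node [2,1,0,2,3,0,1,3,2,2,0] (.node [2,3,2,2,0,2,0,1,0] (.node [0,1,3,0,1,3,3,1,3,2,2] (.node [3,2,0,2,3,3,0,2,2,0,1,0] .nil .nil) (.node [1,3,0,2,2,0,1,3,3] .nil .nil)) (.node [2,1,3,2,2,0,1,3,0] (.node [1,3,3,0,1,3,3,2,2,1] .nil .nil) (.node [3,2,0,2,0,2,2,0,2,1,0] .nil .nil))) (.node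 [1,3,3,2,0] (.node [3,2,2,2,0,2,2,0,1,0] (.node [2,2,0,1,3,3,0,2,1] .nil .nil) (.node [3,2,0,2,2,0,2,0,2,3,3] .nil .nil)) (.node [3,3,2,2,1,0,2,2,2] (.node [0,2,0,1,3,1] .nil .nil) .nil)))) (.node [0,2,1,0,2,2,0,2,3,3,1] (.node [0,2,3,3,2,0,1,0] (.node [1,0,2,0,1,3,2,0,2,3,1] (.node [3,1,0,2,0,2,1] (.node [1,3,1,0,2,1,3,1,3,0] .nil .nil) (.node [3,1,3,1,3,0,1,3,1,0] .nil .nil)) (.node [1,3,2,2,0,2,2] (.node [2,0,2,2,0,2,3,3,0,2,0] .nil .nil) (.node [1,3,2,2,0,2,2,1,0,2] .nil .nil))) (.node [2,0,1,3,2,2,2,0,1,3,3,2] (.node [3,3,0,2,1,3,3,0,2,1] (.node [2,2,0,2,1,3,1,3,2,0] .nil .nil) (.node [1,0,2,3,0,2,0,1,3,0] .nil .nil)) (.node [2,3,0,1,3] (.node [1,0,2,1,3,1,3,3,1,3,0] .nil .nil) .nil))) (.node [2,0,2,3,3,1,3,0,2,0,1] (.node [2,1,3,0,2,0,1,3,0] (.node [2,3,0,2,0,2,2] (.node [3,1,0,2,0,2,0,2,2,0,1] .nil .nil) (.node [0,2,3,1,3,3,1,3,2,1] .nil .nil)) (.node [3,0,2,2,0,2,3,1,0,2,1,0] (.node [2,1,3,2,0,1,3,2,0]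 .nil .nil) .nil)) (.node [2,3,3,2,1,0,2,2,2] (.node [3,0,1,3,2,0,2,3,3,2,1] (.node [0,2,3,3,0,2,2,0,2,1] .nil .nil) (.node [3,1,3,2,2,1,0,2,1,0,2,0] .nil .nil)) (.node [2,1,3,1,3,2,1,3,1,3] (.node [3,2,0,2,2,0,2,3,3] .nil .nil) .nil))))) (.node [0,2,3,3,1,3,2,0,1,3] (.node [1,3,3,0,2,0,1,3,3,0] (.node [2,1,3,3,1,3,2,1,0] (.node [0,2,1,0,2,1,3,0,1,0] (.node [0,2,1,0,2,2,0,2,1,3] (.node [2,3,3,0,1,3,1,0] .nil .nil) (.node [0,2,3,0,1,3,0,2,2,0] .nil .nil)) (.node [2,0,2,0,2,3,1,3,3,1] (.node [3,2,0,1,3,2,1] .nil .nil) (.node [2,0,1,3,2,2,2] .nil .nil))) (.node [2,0,2,3,3,1,0,2,1] (.node [3,3,2,1,3,0,2,0,2,3] (.node [0,1,3,3,2,0,2,0,2,2] .nil .nil) (.node [2,0,1,3,1,3,2,1,0,2,0] .nil .nil)) (.node [2,0,2,3,3,0,1,3,1] (.node [1,3,0,2,1,0,2,3,3,0] .nil .nil) .nil))) (.node [3,3,1,3,3,1,3,3,0,1] (.node [3,2,0,2,3,1,0,2,2,0] (.node [2,1,3,2,0,2,2,1,0,2,1,0] (.node [3,2,1,0,2,1,3,3,0,2,0] .nil .nil) (.node [2,1,3,1,3,1,3,3,1]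 .nil .nil)) (.node [0,2,1,3,1,0] (.node [3,2,1,3,1,3,2,0,2,2,1,0] .nil .nil) .nil)) (.node [2,0,2,1,3,0,2,2,2] (.node [1,0,2,3,1,0,2,1] (.node [2,2,0,2,2,1,0,2,3] .nil .nil) (.node [2,2,0,2,1,0,2,3,0,2,2,0] .nil .nil)) (.node [1,3,2,0,2,0,2,2] (.node [2,0,1,3,3,2,2,0,2,2] .nil .nil) .nil)))) (.node [0,2,3,1,3,1,3,0,1,3,0] (.node [2,0,1,3,2,1,3] (.node [2,2,1,0,2,0,2,3,3,1] (.node [2,1,3,1,3,2,0,2,2,1,0] (.node [1,3,3,2,1,3,3,1,3,0] .nil .nil) (.node [2,0,2,2,1,0] .nil .nil)) (.node [2,3,0,2,0,2,0,1,3,2] (.node [0,2,0,2,0,2,0,2] .nil .nil) (.node [2,0,1,3,2,0,1,3,3,2,1,0] .nil .nil))) (.node [1,3,3,1,0,2,1,3,1] (.node [1,0,2,3,3,1,0,2,0,1] (.node [1,0,2,3,1,0,2,3,1,0] .nil .nil) (.node [0,1,3,1,3,3,1,3,2,1,0] .nil .nil)) (.node [1,3,1,3,0,2,1,3,1,3,0] (.node [3,3,1,3,2,1,3,3,0] .nil .nil) .nil))) (.node [1,3,3,2,2,2,0,1,0] (.node [2,3,3,0,1,3,0,1,3,0] (.node [2,3,3,0,1,3,3,1,3,3] (.node [2,3,0,2,0,2,1,3,1]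 .nil .nil) (.node [2,0,2,3,3,2,0,1,0] .nil .nil)) (.node [3,2,1,0,2,0,2,2,0,1] (.node [0,2,1,3,2,0,2,1] .nil .nil) .nil)) (.node [1,3,2,1,3,2,2,0,2,0,1] (.node [1,0,2,1,0,2,0,1,0] (.node [3,0,2,1,3,2,0,2,0] .nil .nil) (.node [2,0,2,3,1,3,3,2] .nil .nil)) (.node [3,3,2,2,2,0,2,2,1] (.node [2,1,3,3,1,0,2,2,0] .nil .nil) .nil)))))) (.node [2,3,3,0,2,1,3,1,3,2,0] (.node [3,1,3,1,3,1,3,3,2,1] (.node [1,3,1,3,2,1,3,2,0] (.node [2,2,0,2,2,2,1,0] (.node [2,3,0,1,3,1,3,0,2] (.node [2,2,0,1,3,1,3,2,1] (.node [3,2,1,0,2,3] .nil .nil) (.node [2,3,1,3,2,0,2,0,2,1,0] .nil .nil)) (.node [2,3,1,3,3,2,0,1,3,1] (.node [1,3,1,0,2,2,1] .nil .nil) (.node [2,3,2,2,0,2,1,0,2,0] .nil .nil))) (.node [2,1,3,0,2,1,3,1,3] (.node [3,1,3,3,1,0,2,3,3,1] (.node [2,1,3,3,2,1,3,0,2,2,0] .nil .nil) (.node [2,0,1,3,0,1,3,2] .nil .nil)) (.node [2,2,0,2,1,3,1,3,2,1] (.node [3,1,0,2,2,2,0,2,0,1,0] .nil .nil) .nil))) (.node [3,2,0,1,3,2,0,2,3,0,2]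 (.node [3,2,2,0,2,0,2,2,1] (.node [0,2,0,2,3,1] (.node [3,3,1,3,1,0,2,3,0,1,0] .nil .nil) (.node [3,2,1,3,0,2,2,0] .nil .nil)) (.node [2,1,3,2,0,1,3,3,1] (.node [0,2,0,2,3,3,2,2,2,1,0] .nil .nil) (.node [2,3,1,3,1,3,3,1,0,2,0] .nil .nil))) (.node [2,0,1,3,3,2] (.node [2,1,3,3,1,3,3,2,2,0,1,0] (.node [2,0,2,3,1,3,0,2,0] .nil .nil) (.node [3,3,1,3,0,2,2,2,1] .nil .nil)) (.node [3,2,0,1,3,1,0,2,3,1] (.node [3,3,2,2,0,2,0,2,1] .nil .nil) .nil)))) (.node [0,2,0,2,2,2,0,2,0,2,0,1] (.node [3,2,0,2,0,1,3,0,2] (.node [3,2,0,2,3,0,2,0,1,3,3] (.node [1,3,1,3,0,2,2,1,0] (.node [2,3,0,2,2,2,0,2,0,1] .nil .nil) (.node [3,3,0,2,0,2,0,2,0,1] .nil .nil)) (.node [2,3,0,2,0,2,0,1,3,2,1] (.node [0,2,3,0,2,2,2,1,0,2,0] .nil .nil) (.node [3,3,2,2,2,1,0,2,2,2,1] .nil .nil))) (.node [2,2,1,0,2,3,1,3,0,2] (.node [1,0,2,3,3,2,0,2,2,2,1] (.node [2,3,1,3,2,1,3,3,1,3,2,2] .nil .nil) (.node [2,1,0,2,3,1] .nil .nil)) (.node [2,1,3,2,0,1,3,1]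 (.node [2,1,3,3,0,2,1,3,3] .nil .nil) .nil))) (.node [3,2,0,2,3,1,0,2,3,1] (.node [3,2,1,0,2,3,0,1] (.node [0,2,1,3,0,2,0,2,3,3] (.node [1,3,2,2,1,0,2,0,2] .nil .nil) (.node [3,1,0,2,1,3,1,3,0] .nil .nil)) (.node [1,3,3,2,0,2,2] (.node [0,1,3,2,1,0,2,3,3,0] .nil .nil) .nil)) (.node [2,1,3,1,3,1,3,3,1,3] (.node [3,3,1,3,2,2,2,0,2,1,0] (.node [2,2,0,1,3,3,2,1] .nil .nil) (.node [0,2,3,1,3,1,3,1,3,0] .nil .nil)) (.node [1,3,0,1,3,1,3,2,0,1] (.node [2,1,3,2,0,2,0,1,0] .nil .nil) .nil))))) (.node [3,3,0,1,3,2,0,1] (.node [3,0,1,3,3,2,1,0,2,2] (.node [0,1,3,2,1,0,2,3,0,1,0] (.node [3,3,1,3,2,2,0,2,0,1] (.node [3,2,1,0,2,3,3,2,2,2,0] (.node [2,3,1,3,2,2,0,2,2,2] .nil .nil) (.node [2,1,3,3,0,1,3,3,1,0] .nil .nil)) (.node [3,3,2,1,3,2,0] (.node [0,2,3,1,3,0,1,3,2,2] .nil .nil) (.node [3,3,0,2,0,2,2,0,2,1,3,0] .nil .nil))) (.node [0,1,3,2,2] (.node [3,2,2,0,2,1] (.node [0,2,1,0,2,1,0] .nil .nil) (.node [0,1,3,3,2,1,0]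 .nil .nil)) (.node [0,2,3,3,0,1,3,3,0,1,3] (.node [0,2,1,0,2,2,2,1] .nil .nil) .nil))) (.node [0,1,3,3,0,1,3,0,2,2,0] (.node [3,1,3,3,2,2,0,1,3,3] (.node [0,2,1,3,2,0,2,0] (.node [2,1,0,2,2,2,0,2,1,3,1] .nil .nil) (.node [3,1,3,2,0,2,1,0] .nil .nil)) (.node [2,3,1,3,3,0,1,3,2,2,2,0] (.node [3,2,2,2,1,0,2,2] .nil .nil) .nil)) (.node [2,3,1,3,1,3,3,0,2,1] (.node [1,3,3,0,2,0,2,2,2,1,0] (.node [2,1,3,1,3,3,1,0,2,3] .nil .nil) (.node [2,1,3,0,2,1,3,3,1,3,2] .nil .nil)) (.node [3,0,2,0,1,3,3] (.node [2,3,1,3,3,2,1,3,1,3] .nil .nil) .nil)))) (.node [3,1,0,2,1,3,1,3,2] (.node [2,3,2,1,3,0,1,3,0,1,0] (.node [1,0,2,2,1,0,2,1,3,1] (.node [2,3,0,2,2,2,0,1,3,2,0] (.node [3,2,1,0,2,3,1,3,2,2,0] .nil .nil) (.node [2,1,3,3,2,0,1,3,3,0,1] .nil .nil)) (.node [0,2,0,1,3,3,0,2,2,0,1,0] (.node [0,2,0,2,3,1,0,2,2] .nil .nil) (.node [0,2,2,0,1,3,2,0,2,0,2,2] .nil .nil))) (.node [0,1,3,0,2,0,1,3,0,2,0] (.node [1,3,0,1,3,2,1,0,2,0]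 (.node [3,2,2,0,2,0,2,0,2,1] .nil .nil) (.node [2,2,0,2,1,0,2,0] .nil .nil)) (.node [2,0,1,3,0,1,3,1,0] (.node [0,1,3,3,0,1,3,0,2,0] .nil .nil) .nil))) (.node [1,3,2,1,3,0,1,3,3,0,1] (.node [2,3,0,2,2,2,0,2,2,1] (.node [2,3,0,2,1,0,2,3] (.node [2,3,3,1,3,0,1,3,2,2,1] .nil .nil) (.node [0,2,3,1,3,1,3,0,2,0,1] .nil .nil)) (.node [3,2,2,1,0,2,3,1,3,0] (.node [3,3,1,3,3,0,2,2,0,2,0] .nil .nil) .nil)) (.node [3,2,1,0,2,0,2,2,0,2,1] (.node [2,3,0,1,3,2,2,2,0,2] (.node [2,0,2,3,0,2,0,2,1,0] .nil .nil) (.node [2,3,1,3,2,0,2,0] .nil .nil)) (.node [2,3,1,3,0,1,3,3,1,0] (.node [3,3,0,2,0,2,0,1,3,0] .nil .nil) .nil))))))) (.node [2,3,3,2,1,0,2,0,2] (.node [0,2,3,3,0,1,3,0,1,3,1,0] (.node [2,0,2,2,1,0,2,0,2,0] (.node [3,3,1,3,1,0,2,3,0,1] (.node [2,3,1,0,2,1,3,1] (.node [1,3,3,1,3,1,3,0,1,3,0] (.node [2,3,3,1,0,2,2,0,2,2] (.node [3,0,2,2,0,2,0,2,2,0,1] .nil .nil) (.node [2,3,3,0,2,1,0,2,2] .nil .nil)) (.node [3,2,0,2,0,2,0,2,1,0]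 (.node [3,3,1,0,2,2,0,2,3,3,1,0] .nil .nil) (.node [2,2,0,1,3,2,2,2] .nil .nil))) (.node [0,1,3,2,0,2,1,3,0,2,0] (.node [2,0,2,1,0,2,3] (.node [1,3,2,2,0,2,2,2] .nil .nil) (.node [3,0,2,1,0,2,2,0,2,0] .nil .nil)) (.node [2,3,0,2,1,0,2,1,0,2,2,1] (.node [2,3,3,0,2,0,1,3,2,0] .nil .nil) .nil))) (.node [0,1,3,2,2,0,1,0] (.node [3,3,0,1,3,3,2,2] (.node [3,2,1,3,1,3,3,0,1] (.node [1,0,2,3,3,2,2,0,2,2] .nil .nil) (.node [1,3,2,0,1,3,3,2] .nil .nil)) (.node [2,1,3,2,1,3,0,1,3,1,0] (.node [2,1,3,3,0,1,3,3,0,2,2] .nil .nil) (.node [2,3,1,3,3,2,1,0,2,2,2,1] .nil .nil))) (.node [3,3,1,3,1,3,0,1] (.node [2,0,2,1,3,1,3,2,0,1] (.node [1,3,3,1,3,2,0] .nil .nil) (.node [2,3,3,2,1,3,0,2,0] .nil .nil)) (.node [1,3,2,2,2,0,2,1,3,0,2] (.node [2,3,2,1,3,0,2,2,0,2,0] .nil .nil) .nil)))) (.node [2,2,1,0,2,3,0,1,3,3,0] (.node [0,2,0,1,3,2,2] (.node [2,3,1,3,1,3,2,0,1,3] (.node [1,3,3,0,2,2,0,2,2,1] (.node [3,2,1,0,2,1,3,0,1]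 .nil .nil) (.node [3,2,2,0,2,1,3,1] .nil .nil)) (.node [3,2,1,3,0,1,3,3,1] (.node [1,3,0,1,3,2,1,0,2] .nil .nil) (.node [1,0,2,3,3,0,2,0,1,3,2,1] .nil .nil))) (.node [1,3,3,2,2,1,0,2,3,3] (.node [2,0,2,1,3,3,1,3,3] (.node [3,3,2,0,2,0,2,3,3,1,3,2] .nil .nil) (.node [3,3,0,2,2,0,1,3,2] .nil .nil)) (.node [3,2,0,1,3,1,0,2,3] (.node [3,0,2,0,1,3,2,0,2,0] .nil .nil) .nil))) (.node [3,2,1,3,0,1,3,3,0,2,1] (.node [3,0,1,0] (.node [3,2,1,3,1,0,2,3,3,2,2,0] (.node [3,3,1,3,3,0,1,3,1] .nil .nil) (.node [2,1,3,3,1,3,3,1,3,0,2] .nil .nil)) (.node [0,2,2,0,2,3,3,2,1,0,2,0] (.node [3,2,0,2,0,2,1,3,2] .nil .nil) .nil)) (.node [0,2,0,2,2,0,2] (.node [2,1,0,2,3,3,1,0,2,0] (.node [2,1,0,2,3,3,0,2,0,1] .nil .nil) (.node [0,1,3,3,2,0,2,0] .nil .nil)) (.node [3,1,3,0,2,2,2,0,2,1,0] (.node [2,0,2,0,1,3,2,0] .nil .nil) .nil))))) (.node [2,0,2,1,0,2,3,0,2,1] (.node [1,0,2,1,3,0,2,1,3,2] (.node [3,2,0,2,1,0,2,0,1] (.node [1,0,2,3,3,1]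 (.node [2,3,3,1,3,3,0,1,3,3,1] (.node [2,1,3,0,1,3,3,0,1] .nil .nil) (.node [0,2,1,3,0,1,3,1,3,2] .nil .nil)) (.node [3,0,2,0,2,3,1,3,0,2,0] (.node [1,3,0,2,0,2,3,0,2] .nil .nil) (.node [2,3,3,2,0,2,1,3] .nil .nil))) (.node [2,0,1,3,2,1,3,0,1,3,1] (.node [1,3,1,3,3,1,0,2,3,1,0] (.node [3,2,1,3,2,1,3,2,0,2,1] .nil .nil) (.node [3,1,3,2,1,0,2,1,0,2,0] .nil .nil)) (.node [1,0,2,3,0,1,3,3] (.node [0,2,1,3,3,2,1,0,2,1,3] .nil .nil) .nil))) (.node [3,2,0,1,3,2,0,2,0,1] (.node [2,0,2,2,0,2,1,3,0,2,1,3] (.node [2,3,3,2,0,1,3,2,2,0] (.node [2,1,3,0,2,1,3,1,0,2] .nil .nil) (.node [0,2,1,3,1,3,3,0,2,2,0] .nil .nil)) (.node [2,0,2,0,2,3,1,3,3] (.node [2,1,3,1,0,2,3,1,3,0] .nil .nil) .nil)) (.node [1,3,1,3,0,1,3,0] (.node [2,1,3,0,1,3,2,1,3,3] (.node [2,1,3,1,3,0,2,2,1,0] .nil .nil) (.node [0,1,3,2,2,1,0,2,1] .nil .nil)) (.node [0,2,0,2,3,0,2] (.node [1,0,2,3,3,1,3,3] .nil .nil) .nil)))) (.node [1,0,2,0,2,3] (.node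 [3,2,0,2,0,2,0,2,3,1] (.node [1,0,2,3,3,0,2,0,2,2,1] (.node [3,0,2,2,1,0,2,2,0,2,0] (.node [2,1,3,1,0,2,3,3,1,0] .nil .nil) (.node [3,1,3,2,0,2,0,1,3,0] .nil .nil)) (.node [2,3,3,2,2,0,1,3,3] (.node [0,1,3,2,0,2,2,2,1] .nil .nil) (.node [0,2,3,0,2,1,3,0,1] .nil .nil))) (.node [1,0,2,1,3,1,0,2,1] (.node [3,2,0,1,3,1,0] (.node [2,0,1,3,2,0,2,1,3,2,2,1,0] .nil .nil) (.node [3,0,2,1,3,3,1,3,3,1,0] .nil .nil)) (.node [2,1,3,3,1,3,2,1,3,1] (.node [0,2,2,0,1,3,2,2] .nil .nil) .nil))) (.node [0,1,3,2,2,0,2,0,2,0] (.node [1,0,2,2,1,0,2,1,0,2,0] (.node [2,3,1,3,1,3,3,2] (.node [1,3,0,1,3,1,3,3,0,1] .nil .nil) (.node [3,1,3,2,1,0,2,1,3,3] .nil .nil)) (.node [2,3,3,1,3,2,0] (.node [3,1,3,0,2,2,0,2,3,1] .nil .nil) .nil)) (.node [3,0,2,0,1,3,3,2,2,1] (.node [0,1,3,2,0,2,2,2,1,0] (.node [1,3,1,3,2,1,3,2,2,1,0] .nil .nil) (.node [2,3,3,0,1,3,0,2,2,2] .nil .nil)) (.node [1,3,1,0,2,0,2,3,3] (.node [3,2,1,3,0,1,3,3,1,3]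 .nil .nil) .nil)))))) (.node [2,1,3,1,3,1,3,3,2,2,0] (.node [1,3,0,1,3,0,1,3,3,2,2] (.node [2,3,3,0,2,1,3,2,1] (.node [2,3,3,1,0,2,3,3] (.node [0,2,3,3,2,1,3,3,1] (.node [2,0,2,3,1,3,2,2,2,1] (.node [2,3,3,2,1,3,1,3,0,2] .nil .nil) (.node [3,1,0,2,3,0,2,0,1] .nil .nil)) (.node [3,1,3,0,2,0,2,3] (.node [2,2,2,0,2,2,1,0,2,3,1,0] .nil .nil) (.node [0,2,3,1,3,1,3,3,2,2] .nil .nil))) (.node [3,2,2,0,2,2,0,2,2,1,0] (.node [3,1,3,2,0,2,3,1,3,2,1] (.node [0,2,3,0,1,3,0,2,1] .nil .nil) (.node [3,3,1,3,3,2,1,3,1,3] .nil .nil)) (.node [2,0,2,1,0,2,3,3] (.node [3,3,1,0,2,2,0,2] .nil .nil) .nil))) (.node [3,2,0,2,1,3,0,2,1,3,2,0] (.node [0,2,0,1,3,2,1] (.node [3,2,0,2,3,0,2,0,1,3,2] (.node [2,1,3,3,1,3,0,2,0,1] .nil .nil) (.node [3,1,3,2,2,0,2,1,3,2,1] .nil .nil)) (.node [3,1,3,2,0,2,3,1,0] (.node [0,1,3,3,0,1,3,3,2] .nil .nil) (.node [2,2,2,0,1,3,0,2,2,2] .nil .nil))) (.node [0,1,3,1,3,1,0,2,1] (.node [3,2,0,2,2,1,0,2,0,1]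 (.node [1,0,2,3,3,1,3,3,0,2,0,1] .nil .nil) (.node [0,2,0,1,3,1,3,2,0,1,0] .nil .nil)) (.node [0,2,1,3,1,3,0,2,1,3,2,0] (.node [2,3,2,2,2,0,1,3,2,2,0] .nil .nil) .nil)))) (.node [2,0,1,3,3,2,1,3,0,2,0] (.node [2,0,1,3,1,3,0,1,3,0,1] (.node [0,2,1,3,1,3,2,2,0] (.node [2,1,3,0,1,3,1,3,3,1] (.node [3,3,1,0,2,1,0,2] .nil .nil) (.node [3,3,1,3,2,2,1,0,2,2,2] .nil .nil)) (.node [2,2,2,0,2,0,2,1,3,1] (.node [0,2,3,1,3,2,1,0,2,2,1] .nil .nil) (.node [3,0,2,0,2,2,0,2,1,3,0] .nil .nil))) (.node [3,3,1,0,2,3,3,2,1,0] (.node [2,3,3,0,2,0,2,2,0,2] (.node [2,1,0,2,2,0,2,2,2] .nil .nil) (.node [1,3,0,2,1,3,3,1,3,2] .nil .nil)) (.node [2,1,0,2,0,2,1,3,1,3,0] (.node [1,3,1,3,0,2,0,1,3,2] .nil .nil) .nil))) (.node [2,0,2,1,3,3,0,2,2,0] (.node [2,0,2,1,3,1,3,3,0,1] (.node [1,3,2,0,2,0,2,2,1] (.node [2,2,0,2,2,2,0,1,0] .nil .nil) (.node [2,2,0,1,3,1,3,0] .nil .nil)) (.node [2,3,0,2,1,0,2,2,1,0,2] (.node [3,3,1,3,2,1,3,3,1,0]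 .nil .nil) .nil)) (.node [2,3,0,2,2,0,2,0,2,1,0] (.node [2,1,0,2,3,1,0,2,1,0] (.node [2,1,3,1,3,1,3,2,1] .nil .nil) (.node [1,3,2,1,3,3,1,3,0,2,0] .nil .nil)) (.node [2,0,1,3,2,2,0,1,0] (.node [3,2,0,2,1,3,0,2,2,2] .nil .nil) .nil))))) (.node [3,3,2,2,0,1,3,3,1,0] (.node [3,2,0,2,0,2,3,3,1,3,2,1] (.node [3,3,1,0,2,3,0,2,1] (.node [0,1,3,1,3,2,1,0,2] (.node [0,2,1,3,2,2,2,0,2,1,0] (.node [2,0,2,0,2,1,3,2,0] .nil .nil) (.node [3,3,1,3,3,0,2,0,1,3] .nil .nil)) (.node [2,3,1,3,3,1,0,2,3,1,0] (.node [3,0,2,2,1,0,2,2,1,0] .nil .nil) (.node [0,2,1,0,2,2,0,2,3,0,1] .nil .nil))) (.node [3,2,0,2,2,0,1,0] (.node [3,2,1,0,2,1,0,2,1] (.node [0,2,2,0,2,1,3,0,2] .nil .nil) (.node [0,1,3,2,0,1,3,1,3,0,1] .nil .nil)) (.node [0,2,0,2,3,0,1,3,1] (.node [0,2,1,0,2,1,0,2] .nil .nil) .nil))) (.node [2,3,2,2,0,2,0,1,3,0] (.node [3,3,1,3,1,0,2,3,0,2,0] (.node [1,3,2,1,0,2,0,2,1,3] (.node [3,0,2,2,0,2,3,1,3,2,2,0] .nil .nil)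 (.node [1,3,3,1,3,1,3,2,1] .nil .nil)) (.node [2,3,2,1,3,1,3,3] (.node [2,0,2,3,0,1,3,3,0,2] .nil .nil) .nil)) (.node [0,2,1,3,1,3,0,1,3,0,1] (.node [3,0,2,2,0,1,3,0] (.node [0,1,3,2,2,0,2,3,1] .nil .nil) (.node [2,3,3,1,3,0,2,0] .nil .nil)) (.node [2,2,2,0,1,3,3,0] (.node [1,0,2,0,2,0,2,3,0,2,2] .nil .nil) .nil)))) (.node [2,3,1,3,1,3,2,1,0,2] (.node [2,1,3,1,0,2,3,1,0] (.node [3,2,1,3,0,2,0,2,0,1] (.node [3,3,0,2,2,1,0,2,0] (.node [2,0,2,0,2,3,1,3,0,1] .nil .nil) (.node [1,3,3,0,2,0,1,3] .nil .nil)) (.node [3,3,2,0,2,1,3,1,3,2,0] (.node [2,0,2,3,3,1,0,2,3,1] .nil .nil) (.node [2,1,3,2,0,2,1,0,2,0] .nil .nil))) (.node [0,1,3,2,1,3,1,0,2,0] (.node [3,1,0,2,0,2,2,0,2] (.node [3,1,0,2,3,1,3,3,1,3,1] .nil .nil) (.node [3,3,1,0,2,3,0,1,3,1,0] .nil .nil)) (.node [0,2,2,2,0,2,0,2,3,0,1] (.node [3,2,0,2,3,3,0,1,0] .nil .nil) .nil))) (.node [2,0,1,3,2,2,0,1,3,0] (.node [2,2,1,0,2,3,1,0,2,1] (.node [2,3,2,1,0,2,2]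 (.node [1,3,3,2,1,3,1,3] .nil .nil) (.node [3,3,2,1,0,2,2,1] .nil .nil)) (.node [3,1,0,2,3,0,2,2,2] (.node [2,0,2,0,2] .nil .nil) .nil)) (.node [3,2,2,0,2,0,2,1,3,1] (.node [1,3,0,2,0,2,3,3,1,0] (.node [2,0,1,3,2,1,0,2,1,0,2] .nil .nil) (.node [3,3,2,2,2,0,2,0] .nil .nil)) (.node [3,3,2,2,2,0,1,3,0,2,0] (.node [2,1,0,2,0,2,3,0,2] .nil .nil) .nil))))))))

/-- Part of `setWord`. -/
noncomputable def setWord_l_l_l_r_r : Arr (List ℕ) :=
  (.node [2,2,0,2,1,3,1,0,2,1] (.node [3,1,3,3,1,3,2,0,1] (.node [3,3,0,2,0,2,0,2,3,1] (.node [2,1,3,1,3,2,1,3,3] (.node [2,1,3,3,1,3,1] (.node [3,1,3,2,0,2,1,3,0] (.node [3,1,3,3,0,2,0,2,1,0] (.node [0,2,2,2,0,2,2,2,1,0,2,0] (.node [2,2,1,0,2,3,3,0,2,2] .nil .nil) (.node [3,1,3,1,3,0,2,2,1,0] .nil .nil)) (.node [0,1,3,0,2,0,1,3] (.node [0,2,3,1,3,0,2,2,1] .nil .nil) (.node [2,3,3,0,2,1,3] .nil .nil))) (.node [0,2,0,1,3,3,0,2,0,1] (.node [3,3,1,0,2,1,0] (.node [0,1,3,1,3,2,2,1,0]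 .nil .nil) (.node [3,3,2,2,2,0,2,2,1,0] .nil .nil)) (.node [1,3,3,1,3,2,0,1,3] (.node [2,1,3,1,3,3,2] .nil .nil) .nil))) (.node [3,2,1,3,1,3,0,2,0,1,0] (.node [0,2,1,3,1,3,3,2,2,1] (.node [3,3,2,1,3,2,0,2,0,2,1,0] (.node [3,1,3,3,2,1,0,2,2] .nil .nil) (.node [0,2,0,2,0,2,0,1] .nil .nil)) (.node [1,3,1,3,0,1,3,0,1,3,3,0] (.node [2,0,2,3,1,0,2,2,0] .nil .nil) (.node [3,3,0,2,1,0,2,0,2,0,2,0] .nil .nil))) (.node [2,0,1,3,1,3,0] (.node [2,3,2,1,3,1,3,0,1] (.node [3,3,1,3,3,0,2,1,0,2] .nil .nil) (.node [3,1,0,2,1,3,3,2,1,3,2] .nil .nil)) (.node [2,0,2,3,1,3,3] (.node [3,3,1,3,1,3,2,2,2] .nil .nil) .nil)))) (.node [3,0,2,2,0,2,1,3,0,1,0] (.node [2,3,2,1,3,3,1,3,3,0,1] (.node [2,3,2,1,3,1] (.node [3,1,3,1,3,0,1,3,0] (.node [3,0,2,1,3,2,0,1,3] .nil .nil) (.node [0,2,3,0,2,0,2,3,1] .nil .nil)) (.node [1,3,0,2,0,2,2,2,0,1,0] (.node [2,3,3,2,0,2,0,1,3] .nil .nil) (.node [3,0,2,2,0,2,1] .nil .nil))) (.node [1,0,2,1,0]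 (.node [3,1,3,1,3,3,2,1,0] (.node [0,2,1,3,0,1,3,3] .nil .nil) (.node [0,2,2,2,0,2,1,3] .nil .nil)) (.node [3,1,3,0,2,0,1,3,2,2] (.node [2,2,0,1,3,2,1,3] .nil .nil) .nil))) (.node [1,3,2,0,2,3,3,2,0] (.node [2,2,0,2,2,0,2,0,2,1,0] (.node [0,2,3,1,3,0,2,0,1,3,3] (.node [3,3,2,2,2,1,0,2,2,1] .nil .nil) (.node [3,3,2,1,0,2,3,0,2] .nil .nil)) (.node [1,3,0,2,1,3,1,3,2,0,1] (.node [3,2,1,0,2,0,2,0,2,0] .nil .nil) .nil)) (.node [1,3,2,0,2,1,3,3,1,0] (.node [3,2,0,2,2,1] (.node [1,3,0,2,0,2,1,0,2] .nil .nil) (.node [0,2,0,2,1,3,1,3,3,0,1] .nil .nil)) (.node [2,2,2,0,2,0,2,2,0,1] (.node [1,3,2,0,2,3,3,0,2] .nil .nil) .nil))))) (.node [2,1,3,0,2,1,3,1,0] (.node [1,0,2,2,0,2,2,2] (.node [3,0,2,1,3,2] (.node [2,0,2,1,3,1,3,2,0] (.node [1,0,2,1,0,2,1] (.node [3,1,0,2,2,1,0,2,3,1,0] .nil .nil) (.node [3,0,1,3,3,0,2,0,1] .nil .nil)) (.node [1,3,0,2,0,2,0,2,0,1] (.node [3,0,1,3,3,1,3,2,2] .nil .nil) (.node [2,3,0,2,2,0,2,1]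 .nil .nil))) (.node [3,3,2,1,3,1,3,3,1] (.node [2,2,0,1,3,1,3,1,0,2,1] (.node [2,3,3,1,3,0,1,3,1] .nil .nil) (.node [0,2,0,2,1,0,2,2,1] .nil .nil)) (.node [2,1,3,2,2,0,2,1,0] (.node [3,1,3,1,0,2,2] .nil .nil) .nil))) (.node [3,3,0,2,2,0,1,3,2,2,0] (.node [1,3,1,3,1,0,2,2,2] (.node [3,0,2,0,1,3,1,3,3] (.node [0,1,3,0,2,1,3,1,3,1,3,0] .nil .nil) (.node [2,1,3,2,1,3,0,2] .nil .nil)) (.node [0,2,2,0,2,3,1,3,3,1,0] (.node [3,3,0,1,3,0,2,2,0,2,1] .nil .nil) .nil)) (.node [2,3,3,2,0,2,0,1,3,2,0] (.node [2,1,3,0,1,3,3,1,3,3,0] (.node [3,2,1,3,1] .nil .nil) (.node [3,1,3,0,2,1,3,0,2,2] .nil .nil)) (.node [2,2,0,2,1,0,2,3,1] (.node [0,2,0,2,0,2,1,3,3] .nil .nil) .nil)))) (.node [3,0,2,2,0,2,0,2,3,3,0] (.node [0,2,2,1,0,2,3,0,1,3] (.node [0,2,0,2,1,3,0,2,0] (.node [1,3,0,1,0] (.node [3,3,0,2,0,2,1] .nil .nil) (.node [0,2,0,2,1,0,2,2,2,0,2] .nil .nil)) (.node [2,3,3,0,2,1,3,3,1,3,3] (.node [2,1,3,1,3,2,1,3] .nil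 .nil) (.node [3,1,3,0,1,3,2,0,2,0] .nil .nil))) (.node [2,1,3,1,3,2,0,2,2,1] (.node [2,1,0,2,2,1,0,2,1,0] (.node [0,1,3,0,2,0,1,0] .nil .nil) (.node [0,2,0,1,3,0,2,0,2,1] .nil .nil)) (.node [2,3,0,2,1,3,3,0,1,3,2,1] (.node [2,3,0,2,0,1,3,2,1,3,1,0] .nil .nil) .nil))) (.node [0,2,2,0,2,2,1] (.node [2,0,1,3,2,0,2,1,3,1] (.node [3,3,2,0,2,0,2,2,0,1] (.node [0,2,3,3,0,1,3,3,0,2,1] .nil .nil) (.node [3,0,2,2,0,2,2,2] .nil .nil)) (.node [1,0,2,1,0,2,0,2,1,0] (.node [3,1,3,2,2,1,0,2,3] .nil .nil) .nil)) (.node [1,0,2,2,0,2,1,0,2] (.node [3,1,3,2,2,2,0,1,3] (.node [2,3,2,1,0,2,0,2] .nil .nil) (.node [0,2,3,3,1,3,3,1,0,2,0] .nil .nil)) (.node [3,2,0,2,1,3,3,1,3,1] (.node [0,2,0,2,1,3,1,3,3] .nil .nil) .nil)))))) (.node [3,1,0,2,1,0,2,3] (.node [3,1,3,2,1,3,0,1] (.node [0,2,1,3,0,2,1,3,2,0] (.node [1,3,1,3,0,2,0,1,0] (.node [3,2,0,1,3,3,1,3,1] (.node [0,1,3,3,2,0,2,1,3,3] (.node [2,1,0,2,0,2,0,2,3,1] .nil .nil)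 (.node [2,0,1,3,0,1,3,2,0,1] .nil .nil)) (.node [3,2,1,3,0,2,1,3,2] (.node [1,0,2,0,2,3,1,3] .nil .nil) (.node [3,1,3,3,0,2,2,2,1] .nil .nil))) (.node [3,2,1,3,2,0,1,3,2,2,0] (.node [3,0,1,3,0,2,2,1] (.node [3,1,3,2,1,0,2,0,2,3,1] .nil .nil) (.node [0,2,3,0,2,2,0,2,1,0] .nil .nil)) (.node [3,3,1,3,1,3,1,3,0] (.node [3,3,1,3,1,3,3,2,0] .nil .nil) .nil))) (.node [2,0,2,0,1,3,2,2,0,2] (.node [0,2,3,3,2,1,3,0,2] (.node [3,1,3,3,0,1,3,2,2,2,0] (.node [2,1,3,1,3,0,2,2,0,1,0] .nil .nil) (.node [3,3,0,1,3,2,1,3,1,3,2,0] .nil .nil)) (.node [0,2,2,0,1,3,3,0,2,2,1] (.node [0,1,3,0,2,1,3] .nil .nil) (.node [2,3,2,1,0,2,1,0,2,0] .nil .nil))) (.node [0,2,0,1,3,1,3,3,2] (.node [3,0,2,2,0,2,1,3,0,2] (.node [3,0,2,0,1,3,3,0,2] .nil .nil) (.node [3,0,1,3,2,2,1,0,2,1] .nil .nil)) (.node [2,3,1,3,2,0,2,1,3,0] (.node [2,3,2,0,1,3,0,2,0] .nil .nil) .nil)))) (.node [0,1,3,0,1,0] (.node [2,1,0,2,2,1,0,2,3,1,3] (.node [2,2,0,1,3,1,0]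 (.node [0,2,2,0,2,0,2,1,0,2,1] (.node [2,0,2,2,0,2,2,0,2,1,0] .nil .nil) (.node [3,1,3,3,2,1,3,2,0] .nil .nil)) (.node [2,1,3,0,1,3,3,0,2,2] (.node [2,0,1,3,2,2,1,0,2,2,2] .nil .nil) (.node [3,0,1,3,0,2,2,0,2,2,0,1] .nil .nil))) (.node [3,3,0,2,1,3,1,3,3] (.node [0,2,1,3,2,1,3,2,1] (.node [3,0,1,3,1,3,2,2] .nil .nil) (.node [1,3,3,2,0,1,3,2,0,2,0] .nil .nil)) (.node [0,1,3,1,3,3,0,1,3,1,0] (.node [0,1,3,2,0,2,2,0,1,3] .nil .nil) .nil))) (.node [3,0,2,2,2,0,1,3,2,0] (.node [2,2,0,2,0,1,3,0,2] (.node [2,1,3,3,1,3,1,3,1,3] (.node [0,1,3,3,1,3,0,1] .nil .nil) (.node [1,0,2,3,3,0,2,0,1,3] .nil .nil)) (.node [2,1,3,3,0,2,1,3,0,2] (.node [2,2,0,2,2,0,2,0] .nil .nil) .nil)) (.node [3,0,1] (.node [2,3,3,0,1,3,0,1,3,3,2] (.node [2,0,2,0,1,3,0] .nil .nil) (.node [3,3,1,0,2,2,2,1] .nil .nil)) (.node [0,2,3,1,3] (.node [2,1,3,3,0,2,2,0] .nil .nil) .nil))))) (.node [3,0,2,1,0,2,1,3,0,1] (.node [2,0,2,2,0,2,1,3] (.node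 [0,1,3,1,3,1,3,3,1] (.node [2,0,2,3,0,1,3] (.node [3,3,2,2,1,0,2,3,0,2] (.node [3,3,2,0,2,0,2,3,1] .nil .nil) (.node [2,3,0,2,1,3,1,3,3,0,1] .nil .nil)) (.node [3,3,1,3,3,1,3,0,2,1] (.node [3,3,2,2,0,2,1] .nil .nil) (.node [0,2,0,1,3,3,2,0,2,1] .nil .nil))) (.node [3,2,1,3,0,2,1,3,0,1] (.node [2,1,0,2,3,3,1] (.node [0,1,3,0,1,3,0] .nil .nil) (.node [2,3,0,1,3,3,0,1,3,2,0] .nil .nil)) (.node [2,1,3,0,1,3,3] (.node [1,3,1,0,2,3,3,2,0,2,1,0] .nil .nil) .nil))) (.node [2,1,3,0,1,3,0] (.node [3,0,2,1,0,2,1,0,2,1] (.node [3,3,1,3,0,2,1,3,2] (.node [2,0,2,3,1,0,2,3,3] .nil .nil) (.node [3,2,1,0,2,1,0,2,1,0] .nil .nil)) (.node [0,2,0,1,3,2,2,0,2,1,0] (.node [3,1,3,1,0,2,3,0,2,0] .nil .nil) .nil)) (.node [3,0,1,3,0,2,0,2,1,0,2,0] (.node [1,3,2,2,0,2,2,0,2,0,1] (.node [2,2,0,2,3,1,0,2,0,2] .nil .nil) (.node [0,2,3,3,2,1,3,2,1] .nil .nil)) (.node [2,3,0,2,0,1,3,0,2] (.node [3,2,2,0,2,0,1,0] .nil .nil) .nil))))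 (.node [3,1,3,3,2,0,2,1,3,3] (.node [2,0,1,3,3,0,1,3,3,2] (.node [2,3,0,1,3,2,1,3,2] (.node [2,3,2,1,3,1,3,2,2,2] (.node [3,2,2,0,2,1,0] .nil .nil) (.node [2,3,2,2,0,1,3,2] .nil .nil)) (.node [1,3,0,2,2,0,2,2,1,0,2,0] (.node [2,3,1,3,1,3,2,2,2,1] .nil .nil) (.node [3,3,2,1,3,0,1,3,2,0,2,0] .nil .nil))) (.node [0,1,3,2,1,3,2,2,0,2,0] (.node [2,3,0,1,3,1,0] (.node [0,2,3,1,0,2,0,1] .nil .nil) (.node [1,3,1,3,1,3,2,0,2,3,1] .nil .nil)) (.node [2,1,3,2,1,3,1] (.node [0,2,1,3,0,1,3,2,0,1] .nil .nil) .nil))) (.node [3,3,0,1,3,1,3,2,0,2,2] (.node [3,1,3,3,0,1,3,3,0,2,1] (.node [3,2,2,2] (.node [3,3,0,2,1,0,2,2,1] .nil .nil) (.node [3,3,1,3,2,1,3,2,0] .nil .nil)) (.node [2,3,3,1,0,2,2,0,2,3] (.node [1,3,2,0,2,1,0,2,2,1] .nil .nil) .nil)) (.node [3,1,3,3,0,1,3] (.node [1,3,3,1,3,3,0,2,0,1,0] (.node [3,3,0,1,3,3,2,2,1] .nil .nil) (.node [3,0,2,1,0,2,0] .nil .nil)) (.node [3,1,3,0,1,3,3,0,1] (.node [2,3,1,3,2,2,0,2,2,0,1]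 .nil .nil) .nil))))))) (.node [2,0,1,3,2] (.node [0,2,0,2,3,0,2,1] (.node [0,2,0,2,3,3,2,0] (.node [3,0,2,2,2,0,2,0,1] (.node [2,3,0,2,2,0,1,3,0,2] (.node [1,0,2,0,2,0,2,3,0,2,0] (.node [1,3,0,2,2,0,2,2,1,0] (.node [2,3,2,0,1,3,2,0,1] .nil .nil) (.node [1,3,2,0,2,2,2,1,0,2,0] .nil .nil)) (.node [3,3,2,1,3,3,0,1,3,3,2] (.node [1,3,1,3,2,0,2,0,1,0] .nil .nil) (.node [0,2,2,0,2,0,1,3,2] .nil .nil))) (.node [3,0,1,3,1,3,0,2,1,0] (.node [0,2,2,0,2,1,3,2,2,1] (.node [3,3,2,1,3,1,3,3,0] .nil .nil) (.node [3,2,1,0,2,3,1,3,2,1,0] .nil .nil)) (.node [2,1,3,2,1,0] (.node [2,3,2,0,2,0,2,2,2,1] .nil .nil) .nil))) (.node [2,2,0,2,3,3] (.node [1,3,2,1,0,2,2,2] (.node [2,3,3,0,1,3,2,2,1] (.node [3,3,1,3,1,3,0,2] .nil .nil) (.node [0,2,3,3,1,0] .nil .nil)) (.node [3,2,1,3,3,1,0,2,3,1,0] (.node [0,2,1,0,2,0,2,1,0,2] .nil .nil) (.node [1,0,2,0,2,2,2,1,0,2,2] .nil .nil))) (.node [3,3,0,1,3,2,0] (.node [3,1,3,2,0,2,1,0,2]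 (.node [0,1,3,2,1,0,2,0] .nil .nil) (.node [3,1,3,2,2,2,0,2,2,2,1] .nil .nil)) (.node [2,3,1,3,1,3,0,2,1,0] (.node [3,3,2,0,2,0,2,1,0,2] .nil .nil) .nil)))) (.node [1,3,1,3,2,1,3,3,0] (.node [0,1,3,2,0,2,3] (.node [0,1,3,2,1,3,1,3,0,1] (.node [3,3,2,1,3,1,3,0,1,3,0] (.node [2,3,3,2,0,1,3,3,0,2] .nil .nil) (.node [3,0,2,1,3,3,2,2,1] .nil .nil)) (.node [2,0,2,3,0,2,2,1,0,2,0] (.node [0,2,3,3,2,1,0,2,3,1] .nil .nil) (.node [3,3,1,3,0,1,3,3,0,2,1,0] .nil .nil))) (.node [0,2,1,3,0,2,0,1] (.node [3,3,1,0,2,3,1,0] (.node [1,0,2,3,3,1,0,2,1,0] .nil .nil) (.node [0,2,3,1,3,0,2,2,0,2,1] .nil .nil)) (.node [3,1,0,2,3,1,3,1,3,2,0,1,0] (.node [2,1,3,3,0,2,1,3,3,2,2] .nil .nil) .nil))) (.node [0,2,2,2,0,1,3] (.node [2,0,1,3,3,2,1,3,3,0,1,0] (.node [0,2,1,0,2,0,1,3,2,0] (.node [2,0,1,3,2,2,0] .nil .nil) (.node [2,3,1,0,2,3,3,1,0] .nil .nil)) (.node [2,1,3,1,3,0,2,2,0,2] (.node [2,3,3,1,0,2,1,0] .nil .nil) .nil)) (.node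 [3,2,0,2,0,1,3,0,2,0] (.node [0,2,3,1,0,2,3,3,1] (.node [0,2,1,3,1,3,3,1,3,0] .nil .nil) (.node [2,3,2,1,3,2,1,3,2,0,2,0] .nil .nil)) (.node [3,0,1,3,2,0,2,2,1] (.node [2,1,3,0,2,1] .nil .nil) .nil))))) (.node [2,3,0,2,0,2,0,1,0] (.node [3,2,1,3,3,2,0] (.node [2,2,2,0,1,3,0,2,1] (.node [1,0,2,1,3,3,1,3,0] (.node [2,0,2,0,2,2,0,2,3,1] (.node [0,1,3,3,0,2,0,1,3,3,0] .nil .nil) (.node [1,3,0,2,0,2,1,0,2,3] .nil .nil)) (.node [3,2,2,2,1,0,2,2,0,2,2] (.node [3,2,1,3,0,1,3,2,0,1] .nil .nil) (.node [2,1,3,3,1,3,2,0,2,2,2,1] .nil .nil))) (.node [3,2,0,2,2,0,2,2,0,2,1] (.node [3,2,0,2,0,1,3,0] (.node [1,3,3,0,1,3,2,2,1] .nil .nil) (.node [3,0,2,0,2,3,0,2,0,1] .nil .nil)) (.node [0,2,1,0,2,3,0,1,3,1] (.node [2,3,3,0,1,3,3,0,2,2] .nil .nil) .nil))) (.node [2,1,3,1,3,3,2,0,1,3,0] (.node [3,1,3,2,1,3,3,2,2,0] (.node [0,2,2,2,0,2,1,0,2,0] (.node [3,3,1,3,1,3,0,2,0,1] .nil .nil) (.node [0,1,3,2,1,3,1,3] .nil .nil))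 (.node [1,3,1,3,2,2,2,0] (.node [2,0,2,3,1,3,3,0,2,2,1] .nil .nil) .nil)) (.node [2,1,3,0,2,1,3,3,1] (.node [0,2,0,2,1,3,2,0] (.node [3,1,3,3,1,3,1,3,3,2] .nil .nil) (.node [3,2,0,2,3,0,1,3,2,0,1] .nil .nil)) (.node [2,3,0,2,1,3,3,0,2] (.node [3,3,0,2,0,2,1,0] .nil .nil) .nil)))) (.node [2,3,2,0,1,3,1,3,0] (.node [3,3,0,1,3,3,0,1,3,1] (.node [2,2,2,1,0,2,2,0,2] (.node [2,3,0,2,2,0,2,3,1,3,0] (.node [0,2,3,1,3,2,0,2,2,2,1,0] .nil .nil) (.node [3,0,1,3,2,2,1,0,2,2,1] .nil .nil)) (.node [2,1,3,3,2,2,0,1,3,2] (.node [2,0,2,0,2,0,2,0,1,3] .nil .nil) (.node [2,1,0,2,3,0,2,1,3] .nil .nil))) (.node [0,2,2,0,2,2,1,0,2,3] (.node [2,3,3,1,3,1,3,1,0] (.node [0,2,1,3,2,0,1,3,3] .nil .nil) (.node [0,1,3,3,2,2,0,1,3,0,2] .nil .nil)) (.node [0,1,3,3,2,2,0,2,2] (.node [1,3,2,1,3,3,0,2,0,1] .nil .nil) .nil))) (.node [2,2,0,2,0,1,3,2,0,2,1] (.node [2,2,2,0,2,2,0,2,1,3] (.node [1,3,3,2,1,0] (.node [0,2,1,3,3,2,2,0,1,0]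 .nil .nil) (.node [2,3,2,0,2,1,0,2,2] .nil .nil)) (.node [2,1,3,3,1,3,0,1] (.node [3,2,1,3,1,3,3,1,3,0] .nil .nil) .nil)) (.node [3,3,2,1,3,0,1,3,2,0,1] (.node [0,2,2,0,2,0,2,3,1] (.node [2,3,0,1,3,3,2,1,0,2,0] .nil .nil) (.node [2,3,1,3,2,2,0,2,1,0,2,0] .nil .nil)) (.node [3,2,0,2,3,0,2,2] (.node [3,1,3,0,1,3,2] .nil .nil) .nil)))))) (.node [0,2,0,2,1,3,1,3,2,1] (.node [1,0,2,1,3,3,1,3,2,1,0] (.node [1,0,2,1,3,1,0,2,2,1] (.node [3,1,3,1,3,1,3,1,3,1,3] (.node [3,1,0,2,3,0,1,3,3] (.node [0,2,2,0,1,3,2,1,3,1] (.node [3,0,1,3,3,1,3,2,0,1] .nil .nil) (.node [2,2,0,1,3,1,3,0,2,1,0] .nil .nil)) (.node [2,3,1,3,3,2,1,3,1,3,0] (.node [3,1,3,3,2,0,2,0,1] .nil .nil) (.node [0,2,0,2,1,3,3,0,1,3,3] .nil .nil))) (.node [2,1,3,2,1,3,0,1] (.node [1,0,2,0,2,3,0,2,2] (.node [3,2,0,2,3,3,1,3,0,2] .nil .nil) (.node [3,2,0,2,3] .nil .nil)) (.node [2,3,0,2,1,0,2,1,3,3] (.node [1,3,2,1,3,3,0,1,3,1] .nil .nil) .nil))) (.node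 [3,1,3,0,2,2,0,1,3,2,0] (.node [2,0,2,1,0,2,2,1,0] (.node [3,2,0,1,3,2,2,0,2,2] (.node [2,3,3,2,1,3,2,1,0] .nil .nil) (.node [2,3,0,1,3,1,3,3] .nil .nil)) (.node [3,3,0,2,0,1,0] (.node [2,1,3,3,0,1,3,1,3,2] .nil .nil) (.node [0,2,1,0,2,1,0,2,0,2,0] .nil .nil))) (.node [2,2,0,2,1,3,3,0,2] (.node [2,2,0,2,0,2,3,1,0,2,1] (.node [0,1,3,1,3,0,2,2,1] .nil .nil) (.node [3,0,2,2,2,1,0,2,2] .nil .nil)) (.node [1,3,2,0,1,3,2,2,2,1] (.node [2,0,2,0,2,1,3,3,1,3,2,0] .nil .nil) .nil)))) (.node [2,3,1,3,0,2,1,3,2] (.node [2,2,0,1,3,3,1,3,3,2,1,0] (.node [2,1,3,3,1,3,2,2,0,1,0] (.node [3,3,1,0,2,3,3,1,3,0] (.node [2,3,1,0,2,3,0,2,0] .nil .nil) (.node [2,3,3,1,3,3,1,3,3,1] .nil .nil)) (.node [1,3,2,0,2,1,3,3,0,2] (.node [2,3,2,1,0,2,3,1,0,2,0] .nil .nil) (.node [0,2,1,3,0,1,3,3,1,0] .nil .nil))) (.node [0,1,3,0,2,0,2,2,1,0] (.node [2,2,0,2,0,2,3] (.node [0,1,3,2,1,3,3,2,2,1,0] .nil .nil) (.node [1,0,2,0,2,0,1,3,3]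 .nil .nil)) (.node [2,0,2,3,3,2,0,2,0,1] (.node [3,3,0,1,3,1,3,3,2,2] .nil .nil) .nil))) (.node [0,2,1,3,0,1,3,2,2,0] (.node [2,3,2,0,1,3,2,2,2,0] (.node [2,1,0,2,3,3,0,2,1] (.node [1,3,2,1,3,2,1,3,1] .nil .nil) (.node [3,1,3,1,3,1,3,2,2,0] .nil .nil)) (.node [0,1,3,3,2,1,0,2,3] (.node [0,1,3,2,1,3,3,1,0] .nil .nil) .nil)) (.node [3,0,1,3,0,2,1,3,3,1] (.node [3,1,3,0,2,1,3,2,1,3] (.node [3,1,3,2,2,2] .nil .nil) (.node [0,2,2,1,0,2] .nil .nil)) (.node [2,2,1,0,2,2,2,0,1,0] (.node [2,2,0,2,3,1,3,2] .nil .nil) .nil))))) (.node [1,3,1,3,1,0,2,3,3,2,2] (.node [3,1,3,3,2,1,3,0,1,3,0] (.node [2,0,1,3,3,1,3,3,2,1] (.node [3,3,2,1,0,2,2,2,0,1] (.node [3,3,0,2,2,1,0,2,3,3,0] (.node [0,1,3,0,1,3,3,2,1] .nil .nil) (.node [1,3,2,1,0,2,3] .nil .nil)) (.node [0,2,0,1,3,2,2,2,0,2] (.node [2,2,0,1,3,2] .nil .nil) (.node [2,3,3,1,0,2,1,3] .nil .nil))) (.node [3,0,2,0,2,1,3,1,3,0] (.node [2,1,3,3,0,2,0,2,1,0] (.node [3,1,3,2,0,1,3,0,2,2]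 .nil .nil) (.node [3,0,1,3,0,2,2,1,0,2,1] .nil .nil)) (.node [0,2,0,2,0,2,3,3,1] (.node [2,0,2,0,1,3,3,2,0,1] .nil .nil) .nil))) (.node [3,3,2,1,3,1,3,1,0] (.node [0,2,3,1,0,2,2,0,2,1,0] (.node [3,2,1,3,1,3,2,1,3,3,0] (.node [2,2,0,1,3,3,1,3,3,2] .nil .nil) (.node [1,3,2,0,2,3,3,1,0] .nil .nil)) (.node [2,0,1,3,0,1,3,3,1,0] (.node [0,2,0,2,1,0,2,3,3] .nil .nil) .nil)) (.node [3,3,0,2,0,1,3,2,2,0] (.node [0,2,3,3,1,0,2,3,1,3,0] (.node [2,3,2,1,0,2,1,0] .nil .nil) (.node [2,1,3,1,3,0,2,2,2,1] .nil .nil)) (.node [2,1,3,3,1,3,3,2,2,0] (.node [1,0,2,1,0,2,0,2,3,0,2,2] .nil .nil) .nil)))) (.node [1,3,0,2,2,0,2,1,3,0,1] (.node [2,3,0,1,3,1,0,2,3,1] (.node [3,3,2,2,1,0,2,3,3] (.node [3,3,2,0,1,3,2,1,3,3] (.node [2,3,0,2,2,0,2,3,1] .nil .nil) (.node [3,2,2,0,1,3,3,2,0] .nil .nil)) (.node [2,3,2,1,3,3,0,2,0,1] (.node [0,1,3,3,2,2,0,1,3,1] .nil .nil) (.node [2,3,2,2,0,1,3,2,0,2,0] .nil .nil))) (.node [3,1,3,3,0,2,0,2,2]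 (.node [3,2,1,3,1,0,2,3] (.node [1,3,3,2,0,2,2,0,1,0] .nil .nil) (.node [2,2,0,2,3,0,1,3,1,0] .nil .nil)) (.node [2,0,2,2,0,2,3,3,0,2] (.node [3,3,2,1,3,3,0,2,2,1] .nil .nil) .nil))) (.node [3,1,0,2,3,3,2,2,0,1,3] (.node [3,3,0,2,1,3,2] (.node [2,2,2,0,1,3,0,1,3,1,0] (.node [3,0,2,2,0,2,3,3,2,2,1] .nil .nil) (.node [2,0,2,2,2,0,2,1,3,1] .nil .nil)) (.node [0,2,1,3,3,1,3,0,1] (.node [2,3,3,0,2,0,2,0,1,0] .nil .nil) .nil)) (.node [0,2,1,3,2,1,3,1,0,2] (.node [2,0,2,0,2,0,2,1,0] (.node [3,2,2,2,0,2,0,2,1,0] .nil .nil) (.node [0,1,3,1,3,3,1,0,2,3] .nil .nil)) (.node [2,3,1,3,3,0,2,2] (.node [3,3,1,3,1] .nil .nil) .nil))))))))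

/-- Part of `setWord`. -/
noncomputable def setWord_l_l_l_r : Arr (List ℕ) :=
  .node [3,2,2,2,0,1,3,3,0,2,2] setWord_l_l_l_r_l setWord_l_l_l_r_r

/-- Part of `setWord`. -/
noncomputable def setWord_l_l_l : Arr (List ℕ) :=
  .node [0,2,3,3,0,2,1,3,2,1,0] setWord_l_l_l_l setWord_l_l_l_r

/-- Part of `setWord`. -/
noncomputable def setWord_l_l_r_l_l : Arr (List ℕ) :=
  (.node [0,2,0,1,3,3,2,2,0,1,0] (.node [0,1,3,2,2,1,0,2,0,1,0] (.node [2,0,2,0,1,3,3,2,1,0] (.node [2,0,2,3,1,3,2,0,2,2] (.node [2,2,0,2,0,2,0,2,2,2,1,0] (.node [0,1,3,0,2,0,2,1,3,2] (.node [3,0,2,0,2,0,2,1,3,3] (.node [2,0,1,3,2,0,2,0,1,3,2,1] (.node [3,3,2,2,0,2,2] .nil .nil) (.node [2,3,1,3,3,2,1,3,3] .nil .nil)) (.node [0,2,1,3,3,0] (.node [1,3,1,3,1,0,2,3] .nil .nil) (.node [3,2,2,2,0,1,3,2,0,2,0] .nil .nil))) (.node [0,2,2,1,0,2,3,3,0] (.node [1,0,2,0,2,0,2] (.node [0,1,3,2,0,1,0] .nil .nil) (.node [2,3,0,1,3,0,2,1] .nil .nil)) (.node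 [3,3,2,2,0,1,3,2,0] (.node [3,1,3,3,0,2,2,0] .nil .nil) .nil))) (.node [2,3,0,2,1,3,2,1,3,1] (.node [3,0,1,3,1,3,2,0,2,3,1] (.node [3,0,1,3,2,0,2,1,3] (.node [0,1,3,0,1,3,3,2] .nil .nil) (.node [2,0,2,0,1,0] .nil .nil)) (.node [3,3,0,2,0,2,0,2,3] (.node [3,1,3,3,1,0,2,1,0] .nil .nil) (.node [0,2,3,1,0,2,2,2,0,1,3] .nil .nil))) (.node [2,1,3,1,3,1,3,3,1,0] (.node [3,3,1,3,1,0,2] (.node [2,3,3,2,0,1,3,1,3,3] .nil .nil) (.node [0,2,0,2,1,0,2,2,0,2] .nil .nil)) (.node [1,3,3,0,1,3,0,1,3,0,2] (.node [2,0,2,1,3,3,2,0] .nil .nil) .nil)))) (.node [1,3,0,2,1,3,1,3,1,3,0] (.node [3,2,2,1,0,2,3,1,0,2,1,0] (.node [1,3,3,1,3,0,1,3,0,1] (.node [2,3,1,0,2,1,0,2,3] (.node [2,3,0,1,3,1,3,3,2,0,2,0] .nil .nil) (.node [3,2,0,2,0,2,3,1,3,2,2,1] .nil .nil)) (.node [3,2,1,0,2,2,1,0,2,0,1] (.node [1,3,0,2,2,0,2,2,1] .nil .nil) (.node [3,2,0,2,3,3,1,0,2,2,1,0] .nil .nil))) (.node [3,1,3,2,1,0,2,0,2,1] (.node [3,0,2,1,0,2,1,0,2,0]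 (.node [2,1,3,0,1,3,3,1] .nil .nil) (.node [2,3,1,3,3,0,1,3,0,2,2,2] .nil .nil)) (.node [3,0,2,0,2,2] (.node [2,0,2,3,1,0,2,2,0,2,1] .nil .nil) .nil))) (.node [3,3,1,0,2,3,0,1,0] (.node [1,3,1,3,1,3,2] (.node [2,3,0,2,0,2,3,0,2,2] (.node [1,3,2,1,3,2,1,3] .nil .nil) (.node [3,3,2,1,3,3] .nil .nil)) (.node [1,3,0,1,3,1] (.node [0,2,1,3,2,2,1] .nil .nil) .nil)) (.node [3,2,1,3,1,0,2,2] (.node [1,3,2,0,2,3,1,0] (.node [0,2,3,1,3,3,1,3,0,2] .nil .nil) (.node [2,2,1,0,2,3,1] .nil .nil)) (.node [2,0,2,2,0,2,1,3,0,1,0] (.node [2,3,3,0,1,3,0,2,0] .nil .nil) .nil))))) (.node [2,0,2,3,0,2,0,2,3,0,1] (.node [2,0,2,3,0,2,0,2,3] (.node [2,3,0,2,0,2,1,3,3,0] (.node [3,2,1] (.node [3,3,1,3,1,0,2,3,3,0] (.node [3,3,2,0,1,3,1,3,0,2,1] .nil .nil) (.node [2,0,2,0,1,3,0,2] .nil .nil)) (.node [1,3,3,1,3,3,0,1,3,0] (.node [2,0,2,1,3,0,2,2,0,2] .nil .nil) (.node [0,2,1,3,0,2,0,2,2,1,0] .nil .nil))) (.node [0,2,3,1,3,3,0,2,0,1,0]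 (.node [2,3,1,3,0,2,0,2,1,0] (.node [2,3,0,2,0,1,3,3] .nil .nil) (.node [1,3,1,3,2,2,2,0,2,0] .nil .nil)) (.node [1,3,1,0,2,3,3,1,3,3] (.node [1,3,3,2,1,3,2,2,0] .nil .nil) .nil))) (.node [0,2,2,0,2,3,0,1,3,2,0] (.node [0,2,1,0,2,2,1,0,2,0,1,0] (.node [3,1,3,2,0,2,0,2,1] (.node [2,1,3,0,1,3,1,3,3] .nil .nil) (.node [1,3,1,3,1,3,3,2,1] .nil .nil)) (.node [3,0,2,2,0,1,3,3,2,0] (.node [2,1,3,3,1,3,2] .nil .nil) .nil)) (.node [1,3,3,2,1,3] (.node [3,1,3,3,0,1,3,2,2,1] (.node [3,0,2,0,1,3,2,2,2] .nil .nil) (.node [2,0,1,3,1,3,3,1,0,2,3] .nil .nil)) (.node [0,2,3,3] (.node [3,2,2,2,0,2,1,3,2,0,2,1] .nil .nil) .nil)))) (.node [3,0,1,3,2,2,1,0,2,1,0] (.node [0,2,3,0,1,3,1] (.node [1,0,2,3,0,1,3,1,3,0,2,0] (.node [0,2,0,2,2,0,2,1] (.node [0,2,2,1,0,2,3,0,2,2,1] .nil .nil) (.node [3,1,0,2,1,0,2,2,2,0,1] .nil .nil)) (.node [0,2,3,3,2,0,1,3,0] (.node [3,0,1,3,0,2,2,2,1] .nil .nil) (.node [3,3,1,3,2,1,0,2,0] .nil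 .nil))) (.node [0,2,1,3,3,2,0,2,2] (.node [2,1,3,3,2,2,0,2,0,2,2] (.node [0,2,3,0,1,3] .nil .nil) (.node [3,0,1,3,1,3,2,1,0,2,0] .nil .nil)) (.node [3,1,0,2,1,3,3,2,0,2,1,0] (.node [0,1,3,0,2,2,0,2,1,3] .nil .nil) .nil))) (.node [2,1,3,1,3,0,2,0,2,1] (.node [2,0,2,2,0,1,3,2,2,2,0] (.node [1,3,2,2,0,2,1,3,0,1,0] (.node [3,3,2,1,3,3,2,2,1] .nil .nil) (.node [1,3,3,2,0,1,3,3,2,2] .nil .nil)) (.node [2,1,0,2,0,2,2,0,2] (.node [0,2,3,3,0,1,3,1,3,2] .nil .nil) .nil)) (.node [0,2,0,2,3,3,1,3,2] (.node [2,2,0,2,0,2,2,2,1,0] (.node [1,3,3,1,3,0,2,2,0] .nil .nil) (.node [3,3,2,0,2,1,3,3,1,3,2] .nil .nil)) (.node [1,3,3,0,2,0,2,0,2,0,1] (.node [2,3,2,1,3,1,0,2,2] .nil .nil) .nil)))))) (.node [1,3,3,2,1,3,1,3,1,0,2] (.node [3,2,2,1,0,2,3,1,3,2,0] (.node [0,2,2,2,0,2,0,1,3,2,0] (.node [2,3,2,1,3,3,2,1,3,3] (.node [2,1,3,1,3,1,3,2,0,1,0] (.node [2,3,3,2,0,2,2,1] (.node [3,1,3,1,3,3,2,1,3,3] .nil .nil) (.node [0,1,3,2,1,3,0,2,1,3,1]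 .nil .nil)) (.node [2,1,3,3,0,2,1,3,0,2,0] (.node [2,2,1,0,2,3,0,2,1,3,2] .nil .nil) (.node [2,3,3,1,3,1,3,1,3,0,2,0] .nil .nil))) (.node [1,3,3,1,0,2,3,3] (.node [3,1,3,3,2,2,0,1,3,3,0] (.node [1,3,3,0,2,1,3,3,0,1,0] .nil .nil) (.node [3,2,1,3,2,1,3] .nil .nil)) (.node [0,2,3,0,2,0,1,3] (.node [2,1,3,2,2,0,2,1,3,2,1] .nil .nil) .nil))) (.node [2,1,0,2,3,1,3,1,0,2,2,1] (.node [3,1,0,2,3,3,2,2] (.node [3,3,2,2,0,2,0,2,2,1] (.node [1,3,3,1,0,2,3,0,2,1,0] .nil .nil) (.node [3,2,1,0,2,3,3,0,2,1,0] .nil .nil)) (.node [0,1,3,2,2,0,2,0,2,2,1] (.node [1,3,0,2,0,1,3,3,2,1] .nil .nil) (.node [2,3,3,2,1,0,2,2,0,2,1] .nil .nil))) (.node [0,2,3,3,1,3,0,2,0,1] (.node [1,3,2,1,3,2,0,1,3] (.node [3,2,1,3,0,2,0,1,3,0] .nil .nil) (.node [3,1,3,3,0,2,1,3] .nil .nil)) (.node [0,1,3,0,2,2,1,0] (.node [3,0,1,3,3,0,1,3,2,1] .nil .nil) .nil)))) (.node [3,3,1,3,0,1,0] (.node [3,3,1,0,2,0,2,3,3] (.node [1,3,2,1,3,0,2,0,2,2]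 (.node [1,0,2,1,0,2,2,1,0,2,3] (.node [2,2,0,2,2,0,2,3,0,1] .nil .nil) (.node [3,1,3,0,1,3,0,1,3,0] .nil .nil)) (.node [3,0,2,1,3,3,0,2,1] (.node [2,3,0,2,0,2,1,0] .nil .nil) (.node [3,3,2,1,3,0,2,0] .nil .nil))) (.node [2,1,0,2,3,0,1] (.node [1,0,2,1,3,1,0,2,2] (.node [3,3,1,3,3,0,2] .nil .nil) (.node [0,2,1,3,0,2,2,2,1] .nil .nil)) (.node [3,3,2,2,0,2,1,0] (.node [2,1,3,1,3,1,3,0,2] .nil .nil) .nil))) (.node [3,0,2,0,1,3,2,0,2,0,1] (.node [0,1,3,0,1,3,3,1] (.node [0,2,1,3,1,3,1,3,0,2] (.node [1,3,3,2,1,0,2,3,0,1,0] .nil .nil) (.node [0,2,0,1,3,2,2,0,2,3,1] .nil .nil)) (.node [0,2,3,3,2,0,2,0,1,0] (.node [1,3,2,0,2,0,1,3,3] .nil .nil) .nil)) (.node [3,3,1,3,3,1,3,0,1,0] (.node [2,0,2,0,2,1] (.node [2,3,0,1,3,2,2,1] .nil .nil) (.node [0,2,3,0,2,2,0,1,0] .nil .nil)) (.node [0,1,3,0,2,0,2,3,3] (.node [3,2,0,2,3,3,0,2] .nil .nil) .nil))))) (.node [3,1,3,2,2,0,2,1,3,0,1,0] (.node [2,0,1,3,0,2,1,0,2,2] (.node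 [2,3,3,1,3,3,0,2,2,0,2,0] (.node [0,2,2,0,2,2,0,1,3,0,2] (.node [0,2,3,3,2,0,2,0] (.node [1,0,2,3,1,3,2] .nil .nil) (.node [0,1,3,3,0,2,0,1,3,0] .nil .nil)) (.node [2,1,0,2,3,1,3,2,1,0] (.node [2,0,2,3,1,3,2,1,3,3] .nil .nil) (.node [2,3,3,2,1,0,2,0] .nil .nil))) (.node [1,3,3,0,2,1,3,0,1,3,0,1] (.node [1,0,2,2,2,0,2,2] (.node [2,0,2,2,1,0,2,0,1] .nil .nil) (.node [3,2,1,3,1,3,2,0,2,0] .nil .nil)) (.node [2,3,2,1,3,1,3,2,1] (.node [2,0,2,0,2,3,1,0] .nil .nil) .nil))) (.node [2,1,3,0,2,1,0] (.node [1,3,2,0,2,1,3,2,0] (.node [2,0,2,1,0,2,0,2,0,2] (.node [3,0,2,2,1,0,2,0,1] .nil .nil) (.node [1,3,1,3,3,2,1,0,2,2] .nil .nil)) (.node [0,2,1,0,2,3,0,2,0] (.node [2,1,0,2,3,3,1,3,0,1] .nil .nil) .nil)) (.node [1,3,0,2,2,2,1,0] (.node [3,1,3,2,2,1] (.node [3,3,0,2,0,1,3,3,2,1,0] .nil .nil) (.node [3,2,1,3,1,3,0,1,3,2,1,0] .nil .nil)) (.node [2,3,1,3,1,3] (.node [2,2,0,2,1,0,2,1,3] .nil .nil) .nil)))) (.node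 [2,0,1,3,2,0,2,1,0,2,0] (.node [1,3,3,2,2,2,0,2,1] (.node [3,0,2,1,3,1,3,2,2,2] (.node [2,3,0,2,0,1,3,3,2,2] (.node [2,3,1,0,2,2,0,2,3] .nil .nil) (.node [3,2,1,3,0,1,3,1,3,3,0] .nil .nil)) (.node [2,3,0,2,2,1,0,2,0] (.node [0,1,3,2,0,1,3,3,0,2,1,0] .nil .nil) (.node [2,0,2,2,0,2,0,1,3,2] .nil .nil))) (.node [1,0,2,3,0,1,3,0,2,2] (.node [2,0,2,2,2,0,1,3,0,2,0] (.node [3,2,0,1,3,3,0,2,0,1,0] .nil .nil) (.node [2,2,0,1,3,1,3,2,2,2,1] .nil .nil)) (.node [3,2,1,3,2,2,0,1,3,3] (.node [2,0,2,1,3,3,1,0,2,2] .nil .nil) .nil))) (.node [2,3,0,1,3,2,2] (.node [3,3,1,3,3,0,1,3,3,0] (.node [2,1,3,1,3,1,3,3,2] (.node [3,2,2,0,2,2,2] .nil .nil) (.node [3,2,1,0,2,2] .nil .nil)) (.node [2,1,3,0,1,3,0,2,0] (.node [0,2,1,3,3,0,2,0] .nil .nil) .nil)) (.node [2,1,3,1,0,2,0,2,2,0,2] (.node [2,2,1,0,2,3,0,1] (.node [3,1,3,2,2,2,0,1,3,1,0] .nil .nil) (.node [1,3,2,0,1,3,2,0,2,0] .nil .nil)) (.node [1,3,0,2,0,2,3,3] (.node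 [0,2,1,3,1,3,2,0] .nil .nil) .nil))))))) (.node [2,1,0,2,3,1,3,1,3,0] (.node [3,3,2,1,0,2,3,0,1] (.node [3,1,3,1,0,2,3,0,1] (.node [0,2,2,0,2,3,3,2,2,1] (.node [1,0,2,3,1,0,2,2,2] (.node [1,3,3,2,1,3,0,1] (.node [3,1,3,0,2,1,3,0,2] (.node [1,3] .nil .nil) (.node [2,3,0,2,0,1,3,0,2,2,0] .nil .nil)) (.node [3,3,1,0,2,0,2,2,0,1] (.node [0,2,0,2,3,1,3,3] .nil .nil) (.node [3,3,1,3,1,3,3,1,0,2,0] .nil .nil))) (.node [0,1,3,0,2,2,0,2,2,1,0] (.node [3,2,1,0,2,1,3,3,2,0] (.node [2,0,2,2,1] .nil .nil) (.node [1,3,1,0,2,1,3,3] .nil .nil)) (.node [1,0,2,0,2,3,3,2,2,0] (.node [3,2,1,0,2,0,1,3] .nil .nil) .nil))) (.node [3,0,2,0,2,1,3,0] (.node [2,3,1,3,3,1,3,0,2] (.node [2,1,0,2,1] (.node [3,0,2,0,2,3,3,2,1] .nil .nil) (.node [1,3,3,1,3,1,3,0,2] .nil .nil)) (.node [2,3,1,3,2] (.node [2,1,0,2,0,2,3,1,0] .nil .nil) (.node [2,1,0,2,2,2,1,0,2,2] .nil .nil))) (.node [3,1,3,3,0,1,3,3,0,2] (.node [0,2,3,3,1,3,3,2,2] (.node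 [2,3,1,0,2,0,1] .nil .nil) (.node [0,1,3,2,2,1,0,2,0,2,1] .nil .nil)) (.node [3,0,1,3,0,1,3,1,3,0] (.node [2,1,3,1,3,2,1,3,3,0] .nil .nil) .nil)))) (.node [0,1,3,0,1,3,2,0,1] (.node [3,2,0,2,0,2,3] (.node [1,0,2,3,3,2,0,1,3,1] (.node [0,1,3,1,3,2,0,2,3,3,0] (.node [0,2,3,0,2,1,0,2,2,2] .nil .nil) (.node [1,0,2,2,1,0,2,2,2,0,1] .nil .nil)) (.node [3,2,2,0,2,0,2,1,3,2,1] (.node [2,1,0,2,2,0,2,2,0,1] .nil .nil) (.node [1,3,2,1,3,0,2,1,3] .nil .nil))) (.node [2,1,0,2,3,3,0,2,1,3,2] (.node [0,2,1,3,2,2,1,0,2,2,1] (.node [3,2,2,1,0,2,2,0,2,2,2] .nil .nil) (.node [3,1,3,2,2,2,1,0,2,0] .nil .nil)) (.node [3,0,1,3,0,1,3,3,2] (.node [1,0,2,1,0,2] .nil .nil) .nil))) (.node [2,3,1,0,2,3,0,1,3,1] (.node [2,3,1,0,2,3,0,2] (.node [3,3,0,2,0,2,0,2,1,3] (.node [3,2,0,2,0,2,1,0,2,3,1] .nil .nil) (.node [2,1,3,1,3,0,1,3,2,0] .nil .nil)) (.node [3,3,0,2,1,0,2,3] (.node [0,2,2,1,0,2,0,2,3,3] .nil .nil) .nil)) (.node [0,2,0,2,3,1,3,2,0]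 (.node [1,3,2,1,3,1,0,2,1] (.node [2,3,0,2,1,3,3,1,3,1] .nil .nil) (.node [0,2,2,0,1,3,3,0,2,1] .nil .nil)) (.node [3,0,2,1,0,2,0,2,1] (.node [1,3,0,2,0,2,3,0,1] .nil .nil) .nil))))) (.node [3,3,1,3,2,0,2,0,2,2] (.node [2,2,2,0,2,0,1,3,2] (.node [0,2,3,1,0,2,2,2] (.node [3,0,2,1,0,2,0,2,2] (.node [2,0,2,1,3,0,2,2,1,0] (.node [2,0,1,3,2,1,0,2,2,1,0] .nil .nil) (.node [3,2,2,2,0,1,3,3,0,2] .nil .nil)) (.node [0,1,3,1,3,1,3,0,2] (.node [2,3,3,2,1,3,2,2,2,1,0] .nil .nil) (.node [3,3,1,3,2,0,2,3,1] .nil .nil))) (.node [1,3,2,0,2,3,3,1,3,1,3,0] (.node [0,2,3,0,1,3,3,1,3,0] (.node [2,3,0,1,3,0,1,3,0,1,3,0] .nil .nil) (.node [2,0,2,3,1,0,2,2] .nil .nil)) (.node [2,0,2,0,2,3,3,2] (.node [0,2,1,3,0,1,3,2,0,2,0] .nil .nil) .nil))) (.node [1,3,0,2,2,0,2,3,1,0] (.node [3,2,0,2,3,3,1,3,1,0] (.node [2,2,0,1,3,1,3,1,3,0] (.node [0,1,3,1,0,2,3,1,0] .nil .nil) (.node [0,2,3,0,1,3,3,0,1,3] .nil .nil)) (.node [2,3,1,3,2,0,2,0,1,0]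 (.node [1,3,1,3,2,2,1,0] .nil .nil) .nil)) (.node [2,1,3,2,1,0,2,0,2,0] (.node [2,2,0,2,3,3,2] (.node [2,1,3,2,2,0,2,0,1] .nil .nil) (.node [3,2,1,3,3,2,0,2,2,0,2,1] .nil .nil)) (.node [2,1,0,2,2,0,2,2,0,2,0] (.node [1,3,1,0,2,3,0,2,0,1] .nil .nil) .nil)))) (.node [0,2,1,3,0,2,1,3,1,3] (.node [2,3,1,3,1,3,0,2,2,0] (.node [0,1,3,1,3,0,1,3,3,0] (.node [0,2,3,0,2,0,2,0,1] (.node [2,1,3,3,1,3,1,3,3,0,2] .nil .nil) (.node [0,2,3,3,1,3,0,2,2,1,0] .nil .nil)) (.node [1,3,0,1,3,2,1,0,2,2,0,1] (.node [2,2,1,0,2,3,3,0,1,0] .nil .nil) (.node [3,1,3,1,3,2,0,2,0] .nil .nil))) (.node [1,3,1,3,3,0,2,0,2,0] (.node [2,3,2,1,3,2,1,3,1] (.node [2,1,0,2,2,1,0,2,2,2,1] .nil .nil) (.node [2,1,3,1,0,2,0] .nil .nil)) (.node [3,0,1,3,3,2,2,1] (.node [3,0,1,3,1,0,2,3] .nil .nil) .nil))) (.node [2,3,1,0,2,2,0,2,3,1,0] (.node [3,2,0,1,3,0,2,1,0,2] (.node [2,1,3,0,2,2,2,0,2,1,0] (.node [2,0,2,2,0,2,3,0,2,0,1,0] .nil .nil) (.node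 [0,2,1,3,0,1,3,3,2] .nil .nil)) (.node [3,0,1,3,1] (.node [2,2,2,0,2,0,2,3,0,2,0] .nil .nil) .nil)) (.node [3,0,1,3,3,2,1,0,2,0] (.node [1,3,2,0,2,0,2,0,1,3] (.node [2,1,0,2,2,2,0,2,0,1,0] .nil .nil) (.node [3,0,2,1,3,1,3,1,3,3,0] .nil .nil)) (.node [0,2,0,2,1,0,2,2,2] (.node [1,0,2,1,3,1,3,2,1,0] .nil .nil) .nil)))))) (.node [1,3,3,2,1,0,2,3,3,0] (.node [2,3,1,3,0,1,3,1] (.node [3,3,0,2,0,2,2,2,1,0] (.node [0,2,3,1,3,3,0,2,1,0] (.node [3,3,1,3,1,3,2,0,2,2] (.node [2,0,1,3,1,3,0,1] (.node [3,1,3,3,0,1,3,1,3,3,0] .nil .nil) (.node [0,2,1,3,3,1,3,3,1] .nil .nil)) (.node [2,1,0,2,2,1,0,2,3,1] (.node [3,3,0,2,1,3,3,1,3,1] .nil .nil) (.node [0,1,3,2,1,3,1,0,2,2] .nil .nil))) (.node [0,1,3,3,0,2,1,0,2] (.node [2,3,3,1,3,1,3,0,2] (.node [0,2,1,0,2,0,2,2] .nil .nil) (.node [2,3,3,0,1,3,2,1,3,2] .nil .nil)) (.node [2,1,3,1,3,3,1] (.node [2,3,2,2,2,1,0,2,1,3,3] .nil .nil) .nil))) (.node [2,1,3,0,2,0,2,0,1,3,2]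 (.node [0,2,2,0,2,3,0,2,0,1,0] (.node [1,3,2,2,2] (.node [3,3,1,3,0,2,1,3,3] .nil .nil) (.node [0,2,3,3,0,2,1] .nil .nil)) (.node [2,3,0,1,3,1,3,1,0] (.node [0,1,3,3,2,1,3,1,3,1,0] .nil .nil) (.node [3,3,2,1,3,2,1,3,2,0,2,0] .nil .nil))) (.node [2,1,3,3,2,1,3,2] (.node [2,1,3,3,2,1,3,0,2,0,1] (.node [1,3,3,2,2,0,2,0,2,1] .nil .nil) (.node [2,0,2,3,1,3,3,1,3,0] .nil .nil)) (.node [3,3,1,0,2,3,3,2,0,1,0] (.node [3,0,2,2,0,2,2,2,1] .nil .nil) .nil)))) (.node [2,2,0,1,3,2,0,2,3] (.node [1,3,2,2,0,2,2,2,0,1,0] (.node [3,3,1,3,1,3] (.node [0,1,3,0,2,1,3,3] (.node [1,3,0,2,0,2,3,3,1,3,2] .nil .nil) (.node [0,2,3,0,2,1,0] .nil .nil)) (.node [2,3,1,3,2,1] (.node [2,2,0,2,1] .nil .nil) (.node [2,1,3,0,1,3,3,2,1,0] .nil .nil))) (.node [2,3,3,1,3,2,1,0,2,2] (.node [0,2,2,0,2,1,0,2,0,1] (.node [3,0,2,1,0,2,2] .nil .nil) (.node [3,2,0,1,3,1,3,2,1,0,2,0] .nil .nil)) (.node [0,1,3,3,1,3,0,2,2,0,1,0] (.node [0,2,1,3,2,1,3,2,1,0]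 .nil .nil) .nil))) (.node [2,2,0,2,3,3,2,0,2,1,0] (.node [3,1,0,2,3] (.node [1,3,0,2,1,3,2,1,3,3,1] (.node [2,0,1,3,2,0,2,3,3,0] .nil .nil) (.node [0,2,0,2,3,3,0] .nil .nil)) (.node [2,0,2,1,3,3,0,2,1,3] (.node [1,3,3,2,2,2,1] .nil .nil) .nil)) (.node [2,0,2,3,3,0,2,0,2,2] (.node [0,2,1,3,1,3,2] (.node [0,1,3,0,2,1] .nil .nil) (.node [2,0,2,2,2,1,0,2,0,2,1,0] .nil .nil)) (.node [0,2,0,2,1,3,0,1,0] (.node [3,3,2,0,2,0,1,3,0] .nil .nil) .nil))))) (.node [1,3,3,1,0,2,2,0] (.node [3,1,3,2,2,0,2,1,0] (.node [3,0,2,1,3,3,0,1,3,2,1] (.node [0,2,1,3,2,1,3,3,0] (.node [3,3,2,1,3,3,2,2,0] (.node [2,0,2,1,3,2,2,0,2,2] .nil .nil) (.node [3,3,1,3,0,1,3,0,1,0] .nil .nil)) (.node [3,2,1,3,3,1,3,0,1,3,0] (.node [2,0,2,2,2,0,2,2] .nil .nil) (.node [1,3,1,3,1,0,2,1,3] .nil .nil))) (.node [2,3,0,1,3,3,2,2,0,1,0] (.node [2,0,2,3,3,0,1,0] (.node [1,0,2,2,0,2,1,3,0,2] .nil .nil) (.node [2,2,1,0,2,1,0,2,0,2] .nil .nil)) (.node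 [2,2,1,0,2,3,3,2,0,2,1,0] (.node [1,3,1,3,3,0,2,2,0] .nil .nil) .nil))) (.node [0,2,1,3,1,3,2,2,1,0] (.node [0,2,1,3,0,2,2,1,0] (.node [2,1,3,1,3,3,2,0,2,2] (.node [1,3,1,3,0,1,3,1,3,3] .nil .nil) (.node [1,3,1,0,2,3,3,1,3,1] .nil .nil)) (.node [0,1,3,2,2,0,2,0,1] (.node [0,2,3,3,2,2,1,0,2,1,0] .nil .nil) .nil)) (.node [3,2,2,0,1,3,2] (.node [0,2,0,2,1,3,3,1,3,3,1] (.node [2,1,3,3,1,3,2,2,2,1] .nil .nil) (.node [3,2,0,2,3,3,0,2,2,1,0] .nil .nil)) (.node [2,2,0,2,0,1,3,2,2,0] (.node [1,3,3,0,1,3,0,2,2,1] .nil .nil) .nil)))) (.node [2,3,1,3,1,0,2,0,2,2] (.node [0,1,3,3,2,1,3,0,2] (.node [3,2,0,2,2,2,0,1] (.node [0,2,1,3,1,3,2,2,1,0,2,0] (.node [2,0,2,2,0,2,0,1,3,3,0] .nil .nil) (.node [2,2,2,1,0,2,0,1,3,2,0] .nil .nil)) (.node [0,2,0,2,3,3,1] (.node [0,2,3,3,0,1,3,0,1,3,0] .nil .nil) (.node [3,2,1,3,1,3,2,0,2,3,1] .nil .nil))) (.node [2,3,0,1,3,3,0,2,0,1] (.node [2,1,3,2,2,1,0,2,3,1,0] (.node [2,3,1,3,1,3,3,2,0]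 .nil .nil) (.node [1,3,1,3,1,3,0,2,1,3] .nil .nil)) (.node [2,0,2,0,2,0,2,2,1,0] (.node [0,2,3,3,0,2,1,3,3] .nil .nil) .nil))) (.node [3,1,0,2,1,3,3,1,3,3,1] (.node [2,0,2,3,3,1,0] (.node [0,2,3,3,2,2,0,2,0,2,1] (.node [3,2,1,3,3,0] .nil .nil) (.node [3,1,3,1,0] .nil .nil)) (.node [1,3,1,3,3,0,1,3,3] (.node [1,3,3,2,0,2,1,3,1] .nil .nil) .nil)) (.node [2,3,1,3,3,1,3,0] (.node [0,2,1,3,2,2,2,1,0] (.node [2,1,3,2,0,1,3,2,2,0] .nil .nil) (.node [2,2,0,2,2,2,0,2,1,3] .nil .nil)) (.node [3,1,3,2,1,0,2,3,0,1,0] (.node [3,3,1,0,2,3,3,0,1,0] .nil .nil) .nil))))))))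

/-- Part of `setWord`. -/
noncomputable def setWord_l_l_r_l_r : Arr (List ℕ) :=
  (.node [3,2,2,0,1,3,1,3,3] (.node [2,0,2,1,3,2,0,1,3,1] (.node [3,2,0,2,1,3,2,2,0] (.node [2,2,0,2,0,2,3,0,2] (.node [0,1,3,2,0,2,2,2,0,1] (.node [3,3,2,2,0,1,0] (.node [3,3,1,0,2,0,2,2,2,1,0] (.node [0,1,3,2,2,0,2,0] (.node [2,3,0,1,3,0,2] .nil .nil) (.node [2,2,0,2,3,3,1,0,2,0] .nil .nil)) (.node [0,2,1,3,3,2,2,0,2,2] (.node [3,2,0,2,2,0,2,1,3,0] .nil .nil) (.node [2,2,1,0,2,2,2,1,0,2,2] .nil .nil))) (.node [2,2,0,1,0] (.node [2,0,1,3,0] (.node [1,3,1,3,0,2,0,2,1] .nil .nil) (.node [3,0,1,3,1,3,0,2,1,3,3] .nil .nil)) (.node [2,3,1,3,0,2,1,3,1,3] (.node [3,2,0,2,1,3,2,2,1] .nil .nil) .nil))) (.node [2,3,3,0,1,3,3,2,1] (.node [3,2,1,3,2,0,1,0] (.node [0,2,3,0,2,0,1,3,2,0] (.node [1,3,2,0,2,1] .nil .nil) (.node [0,1,3,3,0,2,1,3,3,0] .nil .nil)) (.node [0,2,3,3,2,0,2,1,3,2] (.node [3,3,2,1,0,2,3,0,2,2,0] .nil .nil) (.node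 [1,0,2,3,0,2,1,3] .nil .nil))) (.node [3,2,0,2,3,0,2,0,1,3] (.node [2,2,0,2,3,1,0,2,3,3,1] (.node [0,2,0,2,0,2,1,0,2,1] .nil .nil) (.node [3,2,0,2,2,1,0,2,1,3,3] .nil .nil)) (.node [3,3,1,3,0,2,1,3,3,0,1,0] (.node [2,3,3,0,2,1,3,3,2,2] .nil .nil) .nil)))) (.node [2,1,3,2,0,2,0,2,2,1] (.node [2,3,2,2,0,2,2,1,0] (.node [1,3,2,1,0,2,3,3,2,1] (.node [0,2,3,1,0,2,3,0,2] (.node [2,3,0,2,1,0,2,1,0] .nil .nil) (.node [1,3,3,2,0,2,2,0,2,2,1] .nil .nil)) (.node [3,2,0,1,3,2,1,3,2,1,0] (.node [0,2,0,2,2,1,0,2,0,1] .nil .nil) (.node [2,0,2,0,2,3,0,2,0,1] .nil .nil))) (.node [1,0,2,3,1,3,0,2,1,0,2] (.node [2,3,1,3,3,0,2,1,3,3] (.node [2,0,1,3,3,1,0] .nil .nil) (.node [3,3,2,1,0,2,2,2,1] .nil .nil)) (.node [3,1,3,3,0,1,3,0,2,1] (.node [3,1,3,1,0,2,1] .nil .nil) .nil))) (.node [2,3,3,1,3,2,1,3,3,0] (.node [0,2,2,2,0,1,3,2,2,0] (.node [3,2,2,2,0,2,0,1,0] (.node [2,0,2,0,2,2,0,2,2] .nil .nil) (.node [2,3,1,3,2,0,2,3,3,1,0]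 .nil .nil)) (.node [2,3,3,2,0,2,0,1,0] (.node [2,1,0,2,3,3,2,1,0,2,0] .nil .nil) .nil)) (.node [2,1,3,3,0,2,0,2,0,1] (.node [2,3,0,2,0,2,2,2,1] (.node [1,3,3,2,1,0,2,0,2] .nil .nil) (.node [2,3,0,2,2,2,1,0,2,2,2,1] .nil .nil)) (.node [3,0,2,0,2,3,0,2,2] (.node [2,0,2,2,2,0,2,0] .nil .nil) .nil))))) (.node [3,3,1,0,2,0,2,3,0,2,0] (.node [0,2,2,0,2,0,2,3,3,0] (.node [3,2,2,0,2,1,3,0,1] (.node [3,3,2,1,3,2,1,0] (.node [3,0,2,2,0,2,3,1] (.node [2,1,3,2,2,0,2,2] .nil .nil) (.node [3,1,3,0,2,2,1,0,2,3,3] .nil .nil)) (.node [2,0,2,0,1,3,2,0,2,0,1] (.node [3,3,2,1,3,1,3,3,2] .nil .nil) (.node [3,0,2,2,2,0,1,3,2,0,2,0] .nil .nil))) (.node [1,3,3,1,3,0,2,1,3,2,0] (.node [3,3,1,3,2,1,3,1,3,2,0] (.node [2,1,3,3,0,2,2,0,1,0] .nil .nil) (.node [1,3,0,1,3,3,0,2,0,2,0] .nil .nil)) (.node [1,3,1,0,2,1] (.node [2,3,1,3,0,2,1,3,3] .nil .nil) .nil))) (.node [1,3,1,0,2,0,2,3,3,0] (.node [2,3,1,3,2,0,2,3,3] (.node [2,3,2,0,2,0,2,2,0,1,0]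 (.node [2,2,0,2,1,3,0,2,0] .nil .nil) (.node [3,3,1,3,0,2,2,1,0] .nil .nil)) (.node [2,3,3,2,2,0,1,0] (.node [2,0,2,2,1,0,2,3,1,0] .nil .nil) .nil)) (.node [1,3,1,3,2,1,3,3,2,2,0] (.node [2,0,2,0,2,0,1,3,2,1,3] (.node [2,0,2,1,3,1,3,0,1,3,0,1] .nil .nil) (.node [3,3,1,3,2,2,0,2,0] .nil .nil)) (.node [1,3,3,2,2,0,2,0,1,0] (.node [2,3,0,1,3,2,1,3,1,3] .nil .nil) .nil)))) (.node [3,3,1,3,3,1,3,2,0,1] (.node [3,3,0,1,3,3,1,3] (.node [2,0,1,0] (.node [2,3,3,2,0,1,3] (.node [1,3,2,0,2,2,2,0,1,0] .nil .nil) (.node [3,2,1,0,2,3,1,3,0] .nil .nil)) (.node [3,1,3,2,0,1,3,3,2,2,1] (.node [2,2,0,2,3,3,0,1,0] .nil .nil) (.node [3,2,2,2,1,0,2,1,3] .nil .nil))) (.node [2,3,2,2,0,1,3,2,0] (.node [2,3,1,3,0,2,0,1,3,3] (.node [1,3,2,2,0,2,0,2,3,1] .nil .nil) (.node [1,3,1,0,2,1,3] .nil .nil)) (.node [3,2,1,3,0,2,0,2,2] (.node [3,0,1,3,0,2,2,0,2,0] .nil .nil) .nil))) (.node [2,1,3,1,3,0,1,3,1,0,2] (.node [2,3,2,2,2,0,1,0]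 (.node [0,1,3,3,0,2,0,1,3,2,0] (.node [3,1,3,1,3,3,1,3] .nil .nil) (.node [3,3,2,0,2,0,1,3,3,0,2] .nil .nil)) (.node [2,1,0,2,0,2,0,2,0,2] (.node [2,3,3,2,0,2,0,1] .nil .nil) .nil)) (.node [1,0,2,3,0,2,1,3,1,0] (.node [1,3,3,0,1,3,3,0] (.node [1,3,2,2,1,0,2,3,0,1,0] .nil .nil) (.node [3,2,1,3,2,2,1,0,2,3,1] .nil .nil)) (.node [3,2,0,2,2,0,2,0,2,3] (.node [2,1,3,1,3,2,1,0] .nil .nil) .nil)))))) (.node [2,3,1,3,0,2,2,2,1,0] (.node [1,3,1,3,3,0,2,2,2,0,1,0] (.node [1,3,0,2,2,1,0,2,3,3] (.node [0,1,3,2,2,2,0,2,2,1] (.node [3,3,1,3,1,3,3,1,0] (.node [2,3,1,3,2,2,0,1,3,0] (.node [3,2,1,0,2,1,0,2,1,3] .nil .nil) (.node [1,3,1,3,1,3,2,0,2,2] .nil .nil)) (.node [2,3,1,3,3,2,2,0,1,3,3] (.node [2,2,0,2,3,1,3] .nil .nil) (.node [2,3,1,3,0,2,2,0,1,3,2] .nil .nil))) (.node [2,3,0,1,3,3,1,3,0,1,0] (.node [3,3,0,1,3,2,0,2,0,1] (.node [2,3,2,0,1,3,1,3,3,0] .nil .nil) (.node [1,0,2,1,3,1,0,2,3,1,0] .nil .nil)) (.node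 [2,3,0,1,3,0,2,2,0] (.node [2,3,3,2,1,3,1,3,1,0] .nil .nil) .nil))) (.node [1,3,1,3,3,0,1,3,3,0] (.node [2,3,3,1,3,3,0,2,1] (.node [2,2,0,1,3,2,2,0] (.node [2,1,3,3,1,0,2,1,3,1,0] .nil .nil) (.node [2,3,2,0,2,0,1,3,2,0] .nil .nil)) (.node [2,1,0,2,2,1,0,2,1] (.node [3,0,2,1,0,2,2,0,2,1] .nil .nil) (.node [0,2,0,2,2,0,2,3,0,1,3] .nil .nil))) (.node [1,3,3,2,0,1,3,3,1] (.node [1,0,2,2,0,1] (.node [2,1,3,3,0,1,3,2,2,0] .nil .nil) (.node [2,3,0,1,3,0,2,2,1,0,2,1] .nil .nil)) (.node [2,1,0,2,3,0,1,3,2,1] (.node [3,1,3,0,1,3,3,0,2,1] .nil .nil) .nil)))) (.node [3,3,1,3,0,1,3,1,3,3] (.node [2,1,3,2,0] (.node [3,3,1,3,2,1,3,3,1] (.node [3,2,1,0,2,1,3,3,1,0] (.node [2,0,1,3,0,1,3,3,2,1,0] .nil .nil) (.node [1,3,1,3,2,0,1,3,1,3,3,0] .nil .nil)) (.node [2,3,2,1,3,1,3,1,3] (.node [2,3,1,3,2,2,0,2,2,1,0] .nil .nil) (.node [1,3,2,1,0,2,3,1] .nil .nil))) (.node [1,3,1,3,1,3,1,3,2,2] (.node [3,0,2,1,3,3,1,3,2,2,0]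 (.node [3,1,3,3,2,2,0,2,2,1,0] .nil .nil) (.node [2,3,2,1,0,2,3,1] .nil .nil)) (.node [0,2,0,2,0,2,1,3] (.node [1,3,3,1,3,0,2,2,2] .nil .nil) .nil))) (.node [2,3,0,1,3,3] (.node [3,3,0,1,3,2,1,0,2] (.node [2,2,0,1,3,1,3,3,1,3,1,0] (.node [0,2,2,0,1,3,3,2,0] .nil .nil) (.node [2,3,2] .nil .nil)) (.node [3,2,1,3,1,3,2,0,1] (.node [2,1,3,3,0,2,2,1] .nil .nil) .nil)) (.node [3,3,2,2,0,1,3,1,0] (.node [2,3,2,2,0,2,2,0,1,0] (.node [2,0,2,3,3,2,0,1,3] .nil .nil) (.node [3,0,2,1,3,1,0,2,1,3] .nil .nil)) (.node [2,1,0,2,3,0,2,2,0,2,2] (.node [0,2,3,3,0,1,3,0,2,0] .nil .nil) .nil))))) (.node [2,0,1,3,2,1,0,2,1,0] (.node [0,1,3,1,3,2,0,2,1,0] (.node [2,2,0,2,2,0,2,2,0,2,1] (.node [3,3,1,3,1,3,0,2,2,1,0] (.node [2,3,3,0,2,1,3,3,0,2] (.node [0,2,1,3,2,1,3,2,0,1,0] .nil .nil) (.node [3,3,2,2,0,1,3,1,3,3] .nil .nil)) (.node [3,3,0,2,1,0,2,2] (.node [3,2,2,0,1,3,3,1,3,3,0,1] .nil .nil) (.node [0,2,1,3,3,2,0,2,0,1]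 .nil .nil))) (.node [2,3,3,2,1,3,1,0,2,1] (.node [3,3,1,3,1,3,3,0,1,0] (.node [3,2,0,2,1,3,1,3,2,0,2,0] .nil .nil) (.node [0,2,0,2,2,1,0,2,2,0,1] .nil .nil)) (.node [3,3,2,1,3,0,2,1,0,2,3] (.node [3,2,2,0,2,0,2,3,0,2,0] .nil .nil) .nil))) (.node [3,1,0,2,3,0,2,1] (.node [2,1,0,2] (.node [3,2,1,3,3,2,2,0,1,3,3] (.node [3,0,1,3,2,0,2,2] .nil .nil) (.node [0,1,3,0,1,3,0,1] .nil .nil)) (.node [0,2,0,2,2,2,1,0] (.node [3,3,1,3,2,1,0,2,3,3,0] .nil .nil) .nil)) (.node [2,0,1,3,0,2,1,3,1,3] (.node [0,1,3,3,0,2,1,3,3,1] (.node [0,2,0,1,3,2,1,3,2] .nil .nil) (.node [1,3,1,3,2,1,3,0,2,0] .nil .nil)) (.node [3,1,3,2,1,3,2,2,1] (.node [2,3,0,2,0,2,1,3,2] .nil .nil) .nil)))) (.node [3,1,0,2,3,3,0,1,3,0] (.node [3,3,1,3,3,2,2,0,1,3] (.node [0,1,3,2,2,0,2,2,1,0] (.node [0,1,3,0,2,0,2,3,0,2] (.node [3,2,0,2,3,0,1,3,2] .nil .nil) (.node [2,3,0,2,1,3,1,3,3,2] .nil .nil)) (.node [1,3,2,2,0,2,2,2,0,1] (.node [3,3,2,0,2,1,3,1]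 .nil .nil) (.node [1,3,2,1,0,2,0] .nil .nil))) (.node [3,1,3,1,3,2,2,2] (.node [1,3,1,3,3,2,1] (.node [3,1,3,0,2,1,3,2,2,1] .nil .nil) (.node [2,3,2,1,0,2,0] .nil .nil)) (.node [2,3,3,2,2,0] (.node [3,0,2,2,1,0,2,0] .nil .nil) .nil))) (.node [3,2,1,0,2,0,2,3,0,1,0] (.node [2,3,2,2,2,0,1,3,2,1] (.node [3,0,2,0,2,1,3,1] (.node [1,3,1,0,2,3,0,1,0] .nil .nil) (.node [2,1,3,1,3,2,0,2,1,0,2] .nil .nil)) (.node [1,3,0,2,0,1] (.node [2,1,0,2,0,2,3,3,1,3,0] .nil .nil) .nil)) (.node [2,3,1,3,3,0,2,2,1] (.node [3,3,1,3,0,2,1,3,2,2,1] (.node [1,3,3,1,3,2,1,3,1] .nil .nil) (.node [3,3,1,3,2,0,2,2,2,1] .nil .nil)) (.node [1,3,3,0,1,3,1,3,3,0,1,0] (.node [1,3,1,3,2,0,1,3,1,0] .nil .nil) .nil))))))) (.node [2,3,3,2,2,2,1] (.node [2,0,1,3,3,1,3,2,1,0] (.node [0,1,3,0,1,3,1,3,2] (.node [2,1,3,3,2,1,3,1,3] (.node [0,2,1,3,3,1,3,2,1,3] (.node [1,0,2,0,2,0,2,2,2,1,0] (.node [1,0,2,1,3,1,3,0] (.node [1,3,2,2,0,2,2,0,2,0,1,0]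 .nil .nil) (.node [1,3,3,0,2,2,0,1,3] .nil .nil)) (.node [1,3,3,0,2,1,0,2,2,2] (.node [3,3,0,2,2,0,2,0] .nil .nil) (.node [3,2,1,0,2,3,3,0,2,2,1] .nil .nil))) (.node [2,1,0,2,0,2,2,1,0,2,1,0] (.node [2,1,3,2,1,3,2,0,2,1] (.node [1,3,3,0,2,1,3,2,1] .nil .nil) (.node [0,2,3,3,0,1,3,0,2,0,1] .nil .nil)) (.node [1,3,3,1,3,2,1,0,2,2,1] (.node [1,3,2,2,0,2,0,2,3] .nil .nil) .nil))) (.node [3,3,2,0,1,3,3,2,1,0,2,0] (.node [3,2,0,2,3,3,1,3,2] (.node [0,2,1,0,2,2,0,2,3,0,1,0] (.node [3,2,0,1,3,0,2,1,3] .nil .nil) (.node [0,1,3,3,1,3,2,2,0] .nil .nil)) (.node [3,0,2,0,2,2,1,0,2,1] (.node [2,3,3,1,0,2,1,3,3] .nil .nil) (.node [1,3,2,2,0,2,1,0,2,0] .nil .nil))) (.node [3,0,1,3,3,1,3,3,2] (.node [3,1,3,2,1,0,2,1,0,2] (.node [0,2,3,3,0,1,3,1,3,0] .nil .nil) (.node [2,3,3,1,3,0,1,3,3,2,1,0] .nil .nil)) (.node [3,3,2,2,0,2,1,0,2,2,2] (.node [3,2,1,3,0,2,1,3,1,0] .nil .nil) .nil)))) (.node [2,1,3,1,0,2,2,2] (.node [3,2,1,0,2,2,0,2,0,2,0]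 (.node [0,1,3,2,0,1,3,2,0] (.node [3,0,2,2,2,1,0] (.node [2,1,0,2,1,3,3,1,3,0] .nil .nil) (.node [2,0,1,3,1,3,3,2,2,0] .nil .nil)) (.node [1,0,2,1,0,2,3,1,0] (.node [3,1,3,0,2,1,3,1,3,2,0] .nil .nil) (.node [3,0,2,2,1,0,2] .nil .nil))) (.node [2,2,2,0,2,1,0,2,1,3] (.node [3,2,1,3,3,0,2,1,0] (.node [1,3,2,1,0,2,3,3,0] .nil .nil) (.node [3,0,2,1,0,2,3,1,3,2] .nil .nil)) (.node [2,2,0,2,0,2,0,2,2] (.node [0,2,3,0,2,0,1,0] .nil .nil) .nil))) (.node [1,3,3,0,2,0,2,0,1,0] (.node [2,0,1,3,3,0,2,0,1,0] (.node [3,1,3,3,0,2,1,0,2,3] (.node [0,1,3,2,0,1,3,3,0] .nil .nil) (.node [2,3,3,0,1,3,1,0,2,3] .nil .nil)) (.node [2,2,0,2,2,0,2,1,3,3,1] (.node [2,3,3,0,2,0,2,0,2,3,1] .nil .nil) .nil)) (.node [1,3,2,0,2,0,2,0,2,0,1,3] (.node [0,1,3,2,2,2,0,2,1,0] (.node [3,0,1,3,0,2,0] .nil .nil) (.node [2,3,1,3,0,1,3,2,0,2,0] .nil .nil)) (.node [1,3,0,2,2,0,2,1,3,0] (.node [1,3,2,1,3,3,1,3,2,2] .nil .nil) .nil))))) (.node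 [2,0,1,3,3,2,1,3,2,0] (.node [0,2,0,1,3,3,2,0,1] (.node [3,1,3,2,0,2,3,1,3,0,2] (.node [1,3,0,2,0,1,3,2] (.node [3,3,2,1,3,1,3,1,3] (.node [3,3,1,3,2,2,0,2,2,1,0] .nil .nil) (.node [3,0,1,3,1,3,3,2,2,2,0] .nil .nil)) (.node [3,1,3,2,0,2,3,3] (.node [3,1,3,1,3,2,0] .nil .nil) (.node [2,0,2,1,0,2,3,0,2,2,0] .nil .nil))) (.node [3,2,1,3,2,2,1,0] (.node [3,2,0,2,0,2,1,0,2,1,0] (.node [3,2,0,2,2,1,0,2,1] .nil .nil) (.node [0,2,0,2,2,1,0,2,1,3,3] .nil .nil)) (.node [3,3,2,1,0,2,2,0,2,3,1] (.node [3,3,0,2,0,1,3,0,2,0,1] .nil .nil) .nil))) (.node [3,3,0,2,1,3,2,2,2,0] (.node [1,3,3,2,0,2,0,1,3] (.node [0,2,0,2,0,1,3,2,2,0,1,0] (.node [1,3,1,3,1,0,2,0,2,0,2,0] .nil .nil) (.node [2,3,0,1,3,1,3,0,1,3,0] .nil .nil)) (.node [2,0,2,1,0,2,1,0,2] (.node [2,0,2,1,0,2,2] .nil .nil) .nil)) (.node [3,3,0,2,0,2,2,0,1,3] (.node [3,0,2,0,1,3,3,2,0] (.node [3,2,0,1,3,3,1] .nil .nil) (.node [3,2,2,2,1,0,2,0] .nil .nil)) (.node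 [0,2,1,3,0,1,3,0,1] (.node [2,2,2,0,2,2,0,2,0,1,0] .nil .nil) .nil)))) (.node [3,2,1,3,0,1,3,1] (.node [3,0,2,0,2,0,2,3,3,1,0] (.node [2,3,2,0,1,3,1] (.node [1,3,0,1,3,2,1,3,3,0] (.node [3,1,3,0,2,1,3,3,0,1,0] .nil .nil) (.node [3,3,0,1,3,0,2] .nil .nil)) (.node [3,1,0,2,3,1,3,2,2] (.node [3,2,0,2,1,0,2,2,1] .nil .nil) (.node [3,3,2,1,3,2,2,1,0,2,0] .nil .nil))) (.node [3,3,1,0,2,2,2] (.node [2,3,1,0,2,3,0,1,3,0] (.node [1,3,1,3,0,2,1,0,2] .nil .nil) (.node [2,1,3,1,3,0,2,0] .nil .nil)) (.node [2,3,3,2,2,1,0] (.node [3,2,2,0,2,0,2,3,3] .nil .nil) .nil))) (.node [2,3,2,0,1,3,0,2,2,1] (.node [3,0,2,0,2,3,0,1,3,2,0,1] (.node [3,0,2,1,3,2,2,2,0,2,1,0] (.node [3,3,2,2,0,2,0,2,1,3,2] .nil .nil) (.node [2,0,2,1,0,2,3,0,2,2] .nil .nil)) (.node [2,3,2,1,3,1,3,2,0,1,0] (.node [0,2,2,2,0,2,2,1,0,2] .nil .nil) .nil)) (.node [0,2,3,1,3,2,1,3,3] (.node [3,3,1,3,0,2,1,0,2] (.node [1,3,3,1,3,2,0,2,1] .nil .nil) (.node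 [3,0,2,2,1,0,2,3,1,0,2,1] .nil .nil)) (.node [3,2,0,1,3,3,0,2,2,1] (.node [0,2,0,2,3,1,0,2,3,1] .nil .nil) .nil)))))) (.node [1,3,1,3,1,3,3,0,1,3] (.node [3,1,3,0,1,3,1,3,3,1] (.node [2,3,0,2,1,0,2,2,1,0] (.node [2,3,2,1,3,1,3,3,1,3,0] (.node [2,0,2,3,3,1,0,2,0,2,0] (.node [2,1,0,2,1,0,2,3] (.node [2,2,0,1,3,2,1,0,2,0] .nil .nil) (.node [2,0,1,3,1,3,3,2,2,2,0] .nil .nil)) (.node [3,1,0,2,3,1,3,3,1,0] (.node [3,0,2,2,1,0,2,3,3,0] .nil .nil) (.node [1,3,0,1,3,2,2,1,0,2,1] .nil .nil))) (.node [0,2,1,3,2,1,3,2,0,2,0] (.node [3,1,3,2,1,3,1,3,2,0,1] (.node [3,3,1,0,2,0,2,1,0] .nil .nil) (.node [2,0,2,2,0,2,3,3,1,3,2] .nil .nil)) (.node [0,2,0,2,0,2,0,2,2,0,2] (.node [3,0,2,2,1,0,2,2,2,1] .nil .nil) .nil))) (.node [2,3,1,3,3,0,2,2,0] (.node [3,2,1,0,2,1,3,0,1,3,0] (.node [0,2,3,3,0,2,2,0] (.node [0,2,3,3,0,2,0,1,3,3,2] .nil .nil) (.node [1,3,2,1,0,2,1,3,3,0,2,0] .nil .nil)) (.node [2,3,1,3,1,3,2,0] (.node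 [1,0,2,2,0,2,2,0,1,0] .nil .nil) (.node [3,3,2,0,1,3,2,0,2,0] .nil .nil))) (.node [2,2,1,0,2,1,3,0,1,0] (.node [3,2,2,0,1,3,2,2,2,0] (.node [1,0,2,2,0,2,1,3] .nil .nil) (.node [2,3,3,1,3,0,2,2,2,1] .nil .nil)) (.node [2,3,0,2,1,0] (.node [3,1,3,1,3,1,3,2,2,2] .nil .nil) .nil)))) (.node [3,3,1,3,1,3,1,3,3] (.node [2,0,2,1,0,2,1,0,2,1] (.node [2,1,3,0,2,0,1,3,2,0,2,0] (.node [3,2,1,0,2,2,2,0,2,2] (.node [3,3,2,1,3,3,2,0,2,2] .nil .nil) (.node [2,1,3,2,0,2,0,2,2,2,1,0] .nil .nil)) (.node [1,3,2,1,0,2,1,3,0,1,0] (.node [3,3,2,1,3,0,2,2] .nil .nil) (.node [3,2,1,3,0,1,3,2,1,0] .nil .nil))) (.node [2,3,3,1,3,0,1,3,0] (.node [1,0,2,3,1,3,3,1,3,1] (.node [3,0,2,1,0,2,3,0,2,2] .nil .nil) (.node [3,0,2,2,2,1] .nil .nil)) (.node [3,2,2,1,0] (.node [3,2,0,1,3,1,3,0,1] .nil .nil) .nil))) (.node [3,1,0,2,0,2,0,2,2] (.node [2,2,2,0,2,2,2,0,1,0] (.node [3,0,2,1,3,1,3,3,1,3,0] (.node [3,3,2,1,3,0,1,3,3,0,1] .nil .nil)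 (.node [2,2,0,2,0,2,3,0,1,3,0] .nil .nil)) (.node [3,2,1,3,1,3,3,2,2,0] (.node [0,2,0,1,3,3,2,1,3,1,3] .nil .nil) .nil)) (.node [3,2,2,0,2,1,3,2,0] (.node [3,3,1,3,0,2,0,2,1] (.node [2,1,0,2,1,3,0,2,0,1] .nil .nil) (.node [0,2,2,0,2,0,2,3,3] .nil .nil)) (.node [1,3,3,0,1,3,3,1] (.node [2,2,0,2,1,3,3,0,1,3,0] .nil .nil) .nil))))) (.node [1,3,2,1,3,0,1] (.node [0,1,3,2,2,0,2,3,1,0] (.node [2,3,0,2,1,3,1] (.node [1,3,2,0,1,3,2,1,0,2,2] (.node [2,1,0,2,3,3,0,1,0] (.node [2,1,3,2] .nil .nil) (.node [3,3,2,1,3,1,0] .nil .nil)) (.node [3,0,2,2,0,2,3,1,3] (.node [0,1,3,0,2,0,2,1,0,2,0] .nil .nil) (.node [2,2,0,2,0,2,1,0,2,0] .nil .nil))) (.node [2,1,3,3,0,1,3,3] (.node [0,2,0,2,1,0,2,0,1,3] (.node [2,0,2,0,2,3,0,1,0] .nil .nil) (.node [0,2,3,3,0,2,0,2,1,3,2] .nil .nil)) (.node [3,1,0,2,2,0,2,3,0,2,1] (.node [2,3,0,1,3,2,2,1,0,2,0] .nil .nil) .nil))) (.node [0,1,3,2,1,0,2,2,1,0] (.node [0,2,3,1,3,1,3,3,0,2]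 (.node [3,1,3,1,3,0,2,1] (.node [2,0,2,1,0,2,3,0,2,2,1,0] .nil .nil) (.node [1,0,2,0,1,3,2] .nil .nil)) (.node [3,0,1,3,3,2,0,2,2,1,0] (.node [3,3,2,2,2,0,2,1,3,3] .nil .nil) .nil)) (.node [2,1,0,2,1,0,2,1,3,0,1] (.node [3,3,1,0,2,0,2,3,1,0] (.node [0,2,3,0,1,3,3,1,3] .nil .nil) (.node [1,0,2,2,2,1,0,2,2] .nil .nil)) (.node [3,2,1,0,2,2,0,1] (.node [0,2,1,3,2,2,2,0,2,2,1] .nil .nil) .nil)))) (.node [3,3,0,1,3,1,3,3,0,1] (.node [0,2,3,3,2,0,1,3,3] (.node [0,1,3,0,1,3,2] (.node [0,2,0,1,3,2,0,2,0] (.node [3,3,0,2,1,3,0,2,2,0] .nil .nil) (.node [2,3,0,2,0,1,3,2] .nil .nil)) (.node [2,1,0,2,3,1,3,2,2,1,0] (.node [0,1,3,0,2,2,0,2,3,1] .nil .nil) (.node [2,0,2,1,3,0,2,2] .nil .nil))) (.node [0,2,3,1,3,3,1,0,2,2] (.node [2,1,3,0,2,1,3,2,1,0] (.node [2,3,1,3,2,2] .nil .nil) (.node [3,1,3,0,1,3,2,1,0] .nil .nil)) (.node [2,2,1,0,2,2,2,0,1] (.node [1,3,0,2,0,2,2,0,1,3] .nil .nil) .nil))) (.node [2,0,2,2,0,2,3,1,0]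 (.node [1,3,2,0,2,2,2,0,1] (.node [1,3,0,2,2,1,0,2,2,1] (.node [0,2,0,2,0,2,2,1] .nil .nil) (.node [2,3,1,0,2,1,0,2] .nil .nil)) (.node [1,3,2,1,3,1,3,3,2,2,0] (.node [2,1,3,2,2,1,0,2,3,3,0] .nil .nil) .nil)) (.node [1,3,2,1,3,3,0,1,3] (.node [2,0,2,2,0,2,2,0,1,3] (.node [0,2,3,3,1,0,2,0] .nil .nil) (.node [2,0,2,3,0,2,0,1,3,0] .nil .nil)) (.node [2,2,0,1,3,1,3,1,3,2,2,0] (.node [3,2,1,0,2,0,2,1,0] .nil .nil) .nil))))))))

/-- Part of `setWord`. -/
noncomputable def setWord_l_l_r_l : Arr (List ℕ) :=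
  .node [3,0,1,3,1,3,3,2,1] setWord_l_l_r_l_l setWord_l_l_r_l_r

/-- Part of `setWord`. -/
noncomputable def setWord_l_l_r_r_l : Arr (List ℕ) :=
  (.node [2,2,0,2,3,3,1,3,0,1] (.node [1,0,2,3,3,2,2,2,0,1,0] (.node [2,2,0,2,3,0,1] (.node [3,3,1,3,3,0,1,3,0] (.node [2,2,0,2,2,0,1,3,3,2,2,1] (.node [2,1,3,0,2,0,2,1,3,3,0] (.node [2,0,2,1,0,2,1,3,1,3] (.node [2,0,1,3,2,1,0,2,2,0,1] (.node [0,1,3,1,3,2,0,2,2,1,0] .nil .nil) (.node [3,0,1,3,1,3,0,2,2,1,0] .nil .nil)) (.node [3,1,3,0,1] (.node [2,3,0,2,0,1] .nil .nil) (.node [1,0,2,2,1,0,2,3,3,1,0] .nil .nil))) (.node [2,0,2,1,0,2,0,2,0] (.node [1,3,1,0,2,3,1,3,3] (.node [2,0,2,0,1,3,3,0,2] .nil .nil) (.node [3,2,2,1,0,2,2,2,0,2,0] .nil .nil)) (.node [3,1,3,3,2,1,3,1,0] (.node [0,1,3,3,1,3,1,0,2,2] .nil .nil) .nil))) (.node [3,2,2,0,1,3,2,2,1] (.node [3,3,1,0,2,3,1,0,2,0] (.node [1,0,2,1,3,3,2,2,2,1,0] (.node [1,3,1,3,3,2,2,2,0,2,1] .nil .nil) (.node [3,2,0,2,0,2,0,2,1,3,1]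 .nil .nil)) (.node [1,3,0,2,1,3,3,0,1,0] (.node [2,1,0,2,1,3,0,1,3,0] .nil .nil) (.node [3,1,3,2,1,0,2,0] .nil .nil))) (.node [2,0,2,1,3,0,1,3,3] (.node [3,2,1,3,3,2,1,3,3,0] (.node [2,3,1,3,0,1,3,3,0,2,2] .nil .nil) (.node [3,3,1,3,3,0,2,1,3] .nil .nil)) (.node [1,3,3,0,1,3,3] (.node [1,3,2,1,0,2,1,3,0,2,2,0] .nil .nil) .nil)))) (.node [2,0,1,3,1,3,0,2,1,0] (.node [2,3,0,2,2,1,0,2,2,2,1] (.node [2,2,0,2,3,0,1,3,3,0] (.node [3,1,0,2,3,1,3,1,3,0] (.node [0,2,1,3,0,2,1,3,1,0] .nil .nil) (.node [0,1,3,3,1,3,1,3,3,0,1,0] .nil .nil)) (.node [3,2,0,1,3,3,1,0] (.node [2,3,3,1,0,2,2,2] .nil .nil) (.node [0,1,3,2,2,2] .nil .nil))) (.node [2,3,3,1,0,2,0,2,0,2,0] (.node [0,2,0,2,1,0,2,3,3,0,2] (.node [1,3,2,2,0,1,3,2,0,2,1] .nil .nil) (.node [2,0,2,0,2,1,3,2,2,1,0] .nil .nil)) (.node [3,1,3,3,2,0,1,3,1,0] (.node [0,2,0,2,1,0] .nil .nil) .nil))) (.node [1,3,3,2,1,0,2,3,3,2,1] (.node [3,0,1,3,3,0,1,3,3,2] (.node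 [2,2,1,0,2,0,2,0,2,3,1] (.node [2,1,0,2,1,0,2,0,1] .nil .nil) (.node [2,2,0,2,2,2,0,2] .nil .nil)) (.node [0,2,2,0,2,2,2,0,2,2] (.node [2,1,3,1,0,2,3] .nil .nil) .nil)) (.node [3,0,1,3,0,1,3,3,1] (.node [3,2,1,3,0,1,3,3,2] (.node [0,2,2,0,2,2,1,0] .nil .nil) (.node [1,0,2,1,0,2,1,3,3,1,0] .nil .nil)) (.node [2,3,1,0,2,1,3,1,3,0] (.node [2,0,2,3,3,2,0,2,1,0] .nil .nil) .nil))))) (.node [2,2,0,2,3,1,0] (.node [0,1,3,1,3,2,2,2,0,1,0] (.node [3,0,2,0,2,3,0,2,0,1,3] (.node [2,0,1,3,3,1,3,1] (.node [0,2,3,1,3,3,2,2] (.node [3,1,3,2,1,0,2,1,0] .nil .nil) (.node [0,2,3,1,0,2,0,2,2] .nil .nil)) (.node [3,1,3,3,1,3,3,0,2] (.node [3,1,0,2,3,0,1,3,0,1,0] .nil .nil) (.node [3,3,1,3,1,3,2,0,2,3,1] .nil .nil))) (.node [3,2,0,2,2,2,0,2,0,1,0] (.node [3,2,2,0,2,3,3,1] (.node [2,1,3,3,1,3,1,3,3,0] .nil .nil) (.node [0,2,2,2,1,0,2,2] .nil .nil)) (.node [2,0,2,3,1,3,1,3,2,0,1,0] (.node [3,2,0,2,3,1,3,2] .nil .nil) .nil)))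 (.node [2,2,0,1,3,3,0,2,1,0,2] (.node [0,2,2,0,1,3,0,2,2] (.node [1,3,3,0,1,3,0] (.node [3,3,0,2,1,0,2,3,1,3,0] .nil .nil) (.node [0,2,2,0,2,1,0,2,2,2] .nil .nil)) (.node [1,3,1,3,2,0,2,2] (.node [0,2,2,1,0,2,0,2,1] .nil .nil) .nil)) (.node [2,1,3,1,0,2,3,0,2,1] (.node [0,2,1,3,2,2,2,1,0,2,2] (.node [3,1,3,1,3,3,0,2,1,0,2] .nil .nil) (.node [2,2,0,1,3,2,1,3,1] .nil .nil)) (.node [2,0,1,3,2,0,2,3,3,0,2] (.node [3,2,1,3,2,2,0,2,0,1,0] .nil .nil) .nil)))) (.node [0,2,2,0,2,1,3,3,0,2] (.node [2,3,3,0,2,0,1,3,2] (.node [1,3,3,1,3,3,1] (.node [3,2,1,3,1,3,3,0,2] (.node [1,0,2,0,2,3,3,1,0] .nil .nil) (.node [2,3,1,3,2,1,3,2,2,1] .nil .nil)) (.node [0,2,1,3,2,1,3,1,0] (.node [2,3,3,0,1,3,1,3,0,2] .nil .nil) (.node [2,2,0,2,3,1,3,3,1,3,0] .nil .nil))) (.node [2,2,2,0,2,0,2,0,2,2] (.node [3,0,1,3,2,2,2,0,2,0] (.node [1,3,0,1,3,2,2,0] .nil .nil) (.node [0,2,3,3,0,2,2,1] .nil .nil)) (.node [3,3,2,2,2,0,2,0,1] (.node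 [1,3,3,0,1,3,3,0,2,2,1] .nil .nil) .nil))) (.node [3,3,2,0,2,1,3,0,2] (.node [2,3,1,3,0,2,0,2,0,2,0,1] (.node [2,3,0,1,3,2,0,1] (.node [0,2,2,0,2,1,3,0,2,1,3] .nil .nil) (.node [2,0,2,1,3,2,0,1,3,2,1] .nil .nil)) (.node [3,1,3,1,3,0,1,3,3,1] (.node [3,3,1,3,0,1,3,2,0] .nil .nil) .nil)) (.node [2,1,0,2,3,1,3,0,2] (.node [0,2,1,3,3,2,1,3,1,0] (.node [3,3,1,3,0,1,3,0,2,0] .nil .nil) (.node [0,1,3,3,1,3,2,1,0,2,0] .nil .nil)) (.node [0,2,3,0,2,0,2,1] (.node [2,1,3,3,0,1,3,2,0] .nil .nil) .nil)))))) (.node [1,3,3,0,1,3,2,2,0] (.node [2,3,0,1,3,3,1,3,3,0] (.node [1,3,0,2,0,1,3,3,2,0] (.node [3,1,3,2,1,3,3,0,1,0] (.node [3,3,1,0,2,1,3,0,2,0,1] (.node [0,1,3,1,3,2,2,0,2] (.node [1,3,0,2,0,2,3,3,2,0] .nil .nil) (.node [2,2,0,2,1,0,2,2,2,0,2,0] .nil .nil)) (.node [3,0,1,3,2,1,3,3,2,2,0] (.node [0,2,0,1,3,2,2,0,2] .nil .nil) (.node [0,2,1,3] .nil .nil))) (.node [2,2,0,2,3,1,3,3,1,3,1] (.node [1,3,2,2,0,2,3,1,3]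 (.node [0,1,3,0,2,2,2,0,2,1] .nil .nil) (.node [2,3,1,0,2,3,3,0,1,0] .nil .nil)) (.node [1,3,0,1,3,3,2,0,2,1,0] (.node [1,3,1,3,3,1,3,1,0,2,3] .nil .nil) .nil))) (.node [3,2,2,1,0,2,0,1] (.node [3,0,2,2,0,2,0] (.node [0,1,3,2,2,0,2,2,1,0,2] (.node [3,0,2,0,2,0,2,0,1,3] .nil .nil) (.node [2,1,3,1,3,1,3,3] .nil .nil)) (.node [0,2,1,3,2,2,1,0,2,2] (.node [2,3,3,2,0,1,3,3,1,3,0] .nil .nil) (.node [3,3,2,1,3,0,2,1,3] .nil .nil))) (.node [3,2,1,0,2,1,0] (.node [2,0,2,2,0,2,2,0,2,2,1] (.node [3,3,0,2,2,2,1,0,2,0] .nil .nil) (.node [0,2,3,1,0,2,0,2,2,1,0] .nil .nil)) (.node [2,1,0,2,1,0,2] (.node [2,0,2,0,2,0,2,1,3] .nil .nil) .nil)))) (.node [1,3,1,3,2,0,2,3,3,0,2,0] (.node [2,0,1,3,0,2,0,2,3] (.node [2,3,1,3,3,1,0,2,1,0] (.node [1,0,2,2,0,2,0,2,0,2] (.node [2,2,0,2,2,1,0,2,2,2,0,1,0] .nil .nil) (.node [3,0,1,3,2,0,2,2,2,1,0] .nil .nil)) (.node [0,2,2,2,0,2,1,3,1] (.node [2,0,2,3,0,2] .nil .nil) (.node [1,3,2,2,1,0,2,2,2,1]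 .nil .nil))) (.node [0,2,2,1,0,2,2,2,1] (.node [0,2,1,3,1,0,2,0,2] (.node [2,0,2,1,3,3,0,2,0,2,1] .nil .nil) (.node [2,0,2,1,0,2,3,1,3,2] .nil .nil)) (.node [3,1,3,3,1,3,3,2,2,0,1,0] (.node [1,3,2,0,2,3,1,3,2,2] .nil .nil) .nil))) (.node [2,1,3,0,2,0,2,3,1] (.node [1,3,2,1,3,1,3,3,2] (.node [3,2,1,0,2,3,0,1,3,3] (.node [1,3,0,2,1,0,2,2,0,2,0] .nil .nil) (.node [3,2,1,3,3,2,0,2,1,3,3] .nil .nil)) (.node [2,2,0,2,2,2,0,2,2] (.node [3,2,0,2,2,2,0,2,2,1,0] .nil .nil) .nil)) (.node [0,2,1,3,2,0,1,3,2,1] (.node [0,2,0,2,1,0,2,2,1,0,2,2] (.node [0,2,0,2,0,2,0,2,1,3,1] .nil .nil) (.node [0,2,2,1,0,2,3,3,0,2,1,0] .nil .nil)) (.node [0,2,2,0,2,3,1,0,2,1,0] (.node [2,1,0,2,2,2,0,2,0] .nil .nil) .nil))))) (.node [1,3,0,1,3,3,2] (.node [1,3,2,1,0,2,2,1] (.node [2,1,3,1,3,0,2,1,3,2,0] (.node [3,2,2,2,0,1,3,2,0] (.node [1,0,2,0,2,0,2,3,1] (.node [0,2,3,0,1,3,3,2,0] .nil .nil) (.node [0,2,3,3,0,1,0] .nil .nil)) (.node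 [3,3,2,0,1,3,2,2,2,0,2] (.node [2,2,0,2,2,0,2,3,3,1,0] .nil .nil) (.node [1,3,3,2,2,0,2,0] .nil .nil))) (.node [1,3,0,2,1,0,2] (.node [3,3,2,0,2,0,1,3,2,0,1] (.node [2,0,2,0,1,3,2,1,3,3] .nil .nil) (.node [0,1,3,0,2,2,2] .nil .nil)) (.node [0,2,1,3,3,0,1,3,3,1,0] (.node [3,2,1,3,3,0,2,2] .nil .nil) .nil))) (.node [1,3,1,0,2,2] (.node [1,3,1,3,0,2,2,1,0,2,0] (.node [2,1,3,0,1,3,1,0] (.node [3,2,1,3,3,0,1,3,2,1] .nil .nil) (.node [3,2,1,0,2,2,0,2] .nil .nil)) (.node [1,0,2,0,1,3,2,2,0,2,1,0] (.node [2,0,2,1,0] .nil .nil) .nil)) (.node [3,2,2,2,0,1,3,1,0] (.node [1,0,2,3,3,2,1,0] (.node [0,1,3,2,0,2,1,3] .nil .nil) (.node [2,3,1,3,1,0,2,2,2,1] .nil .nil)) (.node [0,2,3,3,1] (.node [2,3,3,1,0,2,1,0,2,2] .nil .nil) .nil)))) (.node [1,0,2,3,3,0,2,0,2,1] (.node [0,2,0,2,2,2,0,2,1,3,2] (.node [3,2,2,2,1] (.node [3,0,2,1,0,2,1,0,2,1,0] (.node [0,2,1,3,0,2,2,0,2,3,1,0] .nil .nil) (.node [3,0,1,3,1,3,1,0,2,1]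 .nil .nil)) (.node [1,3,3] (.node [2,2,1,0,2] .nil .nil) (.node [3,3,1,0,2,0,2,1,0,2,0] .nil .nil))) (.node [2,1,3,2,2,2,1,0] (.node [2,0,2,3,1,0,2,2,0,2,2] (.node [0,2,0,2,2,0,2,3,3,0,2] .nil .nil) (.node [2,1,0,2,2,0,2,1] .nil .nil)) (.node [2,3,2,0,2,0,2,1] (.node [3,2,2,0,1,3,3,2,2] .nil .nil) .nil))) (.node [3,1,0,2,1] (.node [2,1,3,3,1,3,3,1,0] (.node [2,0,1,3,0,1,3,3,1,3] (.node [0,2,1,3,3,0,2,1,3,3] .nil .nil) (.node [0,2,1,0,2,3,3,1] .nil .nil)) (.node [3,3,1,3,0,1,3,3,0] (.node [1,0,2,1,3,1,3,2,1,3] .nil .nil) .nil)) (.node [1,3,3,2,2,0,2,2,1,0] (.node [0,2,2,2,1,0,2,0,1] (.node [3,0,2,2,0,2,2,1,0,2] .nil .nil) (.node [3,2,1,3,2,0,1,3,2,2,2] .nil .nil)) (.node [0,2,0,1] (.node [2,0,2,1,3,1,0,2,2] .nil .nil) .nil))))))) (.node [0,2,2,1,0,2,0,2,0] (.node [3,0,2,0,1,3,3,2] (.node [2,0,2,1,0,2,0,2,2,1,0] (.node [3,0,2,1,3,0,2,2,1,0] (.node [1,3,2,1,0,2,3,0,1,0] (.node [1,0,2,2,0,2,2,2,1,0] (.node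 [2,3,3,2,2,1,0,2,2] (.node [3,3,1,3,2,1,0,2,0,2,0] .nil .nil) (.node [0,1,3,3,1,3,0,2,2,1] .nil .nil)) (.node [2,3,1,3,1,0,2,3] (.node [2,2,2,0,2,0,2,2,1,0] .nil .nil) (.node [2,1,3,3,0,2,0] .nil .nil))) (.node [1,3,2,1,3,3,0,1,3,0] (.node [0,1,3,2,1,3,3,1] (.node [2,0,2,1,0,2,2,1,0,2] .nil .nil) (.node [2,2,1,0,2,3,3,2,2,0] .nil .nil)) (.node [3,1,0,2,1,3,0,2,1,0] (.node [2,3,2,1,3,2,2,1,0,2] .nil .nil) .nil))) (.node [0,2,3,0,2,2,1,0,2,0,1,0] (.node [2,0,2,0,2,0,2,2] (.node [1,0,2,1,0,2,3] (.node [3,2,2,2,0,2,1,0,2] .nil .nil) (.node [0,2,3,1,3,2,1] .nil .nil)) (.node [0,2,3,3,1,3,3,0,1,3,0] (.node [3,2,2,0,1,3,0,2,0,1] .nil .nil) (.node [3,1,0,2,0,2,1,0,2,0] .nil .nil))) (.node [3,2,0,1,3,0] (.node [3,3,1,3,1,3,2,0,1,3] (.node [2,1,0,2,3,1,3,0,2,0] .nil .nil) (.node [2,3,3,1,3,2,2,0,2,0] .nil .nil)) (.node [3,2,0,2,2,0,2,0,1,3,3,0] (.node [1,3,1,3,0,2,1] .nil .nil) .nil)))) (.node [0,2,3,3,1,3,3,1,3,0,1,0]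 (.node [2,2,0,2,0,2,1,0,2,0,2] (.node [2,1,3,2,2,0,2,2,2,1,0] (.node [1,3,2,2,0,1,3,2] (.node [3,3,1,3,3,1,0,2,2] .nil .nil) (.node [2,0,2,0,1,3,3,0] .nil .nil)) (.node [2,3,1,0,2,0,2,3,3,2] (.node [2,1,3,1,3,2,2,2,1,0] .nil .nil) (.node [3,1,3,1,3,2,0,2,3,1] .nil .nil))) (.node [1,3,3,1,3,2,2,0,1,0] (.node [3,1,0,2,2,0,2] (.node [0,2,0,2,0,2,3,1,3,1,3,0] .nil .nil) (.node [2,0,2,2,2,0,1,3,2,2,2] .nil .nil)) (.node [2,2,2,0,2,2,1,0,2,1] (.node [3,1,3,2,2,1,0,2,1] .nil .nil) .nil))) (.node [3,2,0,2,2,0,1,3,0,2] (.node [3,3,0,1,3,0,2,2,2,0,2] (.node [2,0,2,1,3,2,1] (.node [3,0,2,1,3,3,1] .nil .nil) (.node [0,2,1,3,1,3,2,0,2,1,0] .nil .nil)) (.node [3,3,0,2,2,0,1,3,2,0] (.node [0,2,2,0,2,0] .nil .nil) .nil)) (.node [3,1,0,2,0,2,3,1,3] (.node [1,3,1,3,2,2,0,2,1,0] (.node [3,3,2,1,0,2,1,3,0,1,3,0] .nil .nil) (.node [3,1,0,2,2,0,2,1] .nil .nil)) (.node [3,3,1,3,1,3,0,1,3,0] (.node [2,3,2,2,2,0,1,3,1,0] .nil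 .nil) .nil))))) (.node [0,2,1,0,2,3,1,0] (.node [3,2,0,2,2,2,0,2,1] (.node [2,3,0,1,3,3,2,2] (.node [3,3,2,2,1,0,2,3,1,0] (.node [3,1,3,2,0,2,3,1,3,2] (.node [3,2,0,2,1,0,2,0,2,0,2] .nil .nil) (.node [2,3,2,2,2,1,0,2,1,0] .nil .nil)) (.node [3,1,0,2,3,3,0,2,1,0] (.node [0,1,3,3,2,1,0,2,0] .nil .nil) (.node [0,2,2,1,0,2,3,1,0,2,1] .nil .nil))) (.node [3,2,2,2,0,2,2,2,1,0] (.node [3,0,2,1,3,0,2,2,0] (.node [1,3,3,0,2,2,2,0,1,0] .nil .nil) (.node [3,1,3,1,3,0,2,1,3] .nil .nil)) (.node [1,3,0,2,2,0,2,3] (.node [3,1,3,2,2,1,0] .nil .nil) .nil))) (.node [0,2,2,0,2,2,2,0,1] (.node [2,0,2,1,3,3,0,1,3,2,1] (.node [0,1,3,0,2,0] (.node [0,2,0,2,1,3,0,1,3,1,0] .nil .nil) (.node [2,3,1,3,2,2,1,0,2,1,0] .nil .nil)) (.node [1,3,0,2,2,2,0,2,1] (.node [0,1,3,2,2,2,0,2,0] .nil .nil) .nil)) (.node [3,3,0,2,2,2,1,0] (.node [0,2,0,2,0,1,3,2] (.node [2,3,3,1,3,1,0,2,3,3,0] .nil .nil) (.node [2,2,0,2,1,3,3,1,3,2] .nil .nil))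 (.node [3,3,0,2,2,0] (.node [2,3,2,1,3,0,1,3,3,0,1] .nil .nil) .nil)))) (.node [0,2,1,3,2,1,3,1] (.node [0,2,2,0,1,3,3,0,2,0,1,0] (.node [2,0,2,0,2,2,0,1] (.node [3,3,2,1,3,2,2,2,0,1,3] (.node [2,1,3,3,0,1,3,1,0,2,3] .nil .nil) (.node [1,3,3,1,3,3,1,0,2,2] .nil .nil)) (.node [0,2,3,0,1,3,3,0,2] (.node [1,0,2,2,1,0,2,1,3] .nil .nil) (.node [2,3,1,0,2,1,3] .nil .nil))) (.node [3,3,1,3,3,2,2,0,1,3,3] (.node [3,3,1,3,3,1,0,2,1,0] (.node [1,0,2,0,2,0,2,2,1] .nil .nil) (.node [1,3,1,3,1,3,0,2,0] .nil .nil)) (.node [2,3,3,0,2,2,2,0,2,1] (.node [2,2,0,2,0,2,3,3,0,2,2,0] .nil .nil) .nil))) (.node [3,3,1,3,3,2,0,2,2] (.node [2,2,0,2,0,1,3,3,2,2] (.node [3,3,2,1,3,1,3,3] (.node [3,2,2,2,1,0,2,1] .nil .nil) (.node [2,1,3,0,1,3,2,2,0,1,3] .nil .nil)) (.node [2,2,0,2,3,1,3,0,2,0] (.node [3,1,3,3,1,3,2,0,2,1,0] .nil .nil) .nil)) (.node [0,1,3,1,3,0,2,0,1,0] (.node [3,3,2,2,1,0,2,3,0,2,1] (.node [3,3,1,0,2] .nil .nil)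 (.node [1,3,1,3,2,2,0,2,1,0,2,0] .nil .nil)) (.node [0,2,1,0,2,0,2,1,3,0,1] (.node [1,3,1,3,1,3,3,2,2,0] .nil .nil) .nil)))))) (.node [3,1,0,2,3,0,2,1,3,2] (.node [2,0,2,0,2,3,3,0] (.node [2,3,1,3,0,2,0,1,3] (.node [3,2,0,1,3,0,2,2,0] (.node [0,2,0,1,3,2,2,0,1,3,0] (.node [2,3,3,1,3,1,0,2,3,0,1,0] (.node [2,3,2,1,3,2,1] .nil .nil) (.node [1,3,1,3,1,3,1,0,2,2,1] .nil .nil)) (.node [0,1,3,3,1,3,3,1,3,3] (.node [2,3,2,2,0,2,0,1] .nil .nil) (.node [2,0,2,3,3,0,1,3,3,2,2] .nil .nil))) (.node [1,0,2,0,2,1,0,2,1,0] (.node [3,3,1,0,2,2,1] (.node [2,3,0,2,1,3,2,0,2,0,1,0] .nil .nil) (.node [2,3,0,2,0,2,0,1,3,0] .nil .nil)) (.node [3,1,3,3,0,2,0,1] (.node [1,3,3,1,3,3,1,3,2,0] .nil .nil) .nil))) (.node [1,0,2,0,2,2,1] (.node [1,3,2,0,1,3,3,2,0,2,1] (.node [0,2,1,0,2,0,1] (.node [3,1,0,2,3,0,1,3,3,0] .nil .nil) (.node [0,2,0,2,3,0,1,3,2] .nil .nil)) (.node [1,0,2,2,0,2,3,3,2] (.node [3,1,3,0,2,2,1,0,2,1,3] .nil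 .nil) (.node [2,3,3,2,0,2,2,0,2,1] .nil .nil))) (.node [1,0,2,2,0,2,2,2,1] (.node [2,0,2,1,3,3,2,0,2,1,0] (.node [2,3,1,3,1,3,0,2] .nil .nil) (.node [2,3,0,2,1,3,1,3,1,3,3,0] .nil .nil)) (.node [3,2,2,1,0,2,2,0,2,2] (.node [2,3,1,3,1,3,1,0,2] .nil .nil) .nil)))) (.node [3,3,1,3,1,0] (.node [2,3,3,0,2,0,2,2] (.node [3,2,2,0,2,3,1,3,2,1] (.node [2,2,2,0,1,3,3,0,2,2,1] (.node [0,2,2,0,2,1,3,1] .nil .nil) (.node [2,0,2,0,2,3] .nil .nil)) (.node [2,0,2,1,3,2,0,2,2,1] (.node [2,3,2,0,2,0,1,3,0,2] .nil .nil) (.node [3,2,1,0,2,0] .nil .nil))) (.node [3,2,0,2,0,2,0,2,1,3] (.node [2,0,2,2,2,0,2,1] (.node [0,2,3,3,0,2,1,0] .nil .nil) (.node [2,0,2,3,0,1,3,2,0,1] .nil .nil)) (.node [1,0,2,0,2,1,0,2] (.node [2,0,2,3,0,1,3,0,1,0] .nil .nil) .nil))) (.node [3,0,2,2,2,0,1,3,3,0] (.node [2,3,3,1,3,3,0,2,0,1] (.node [2,2,2,0,2,0,1,3,3,2] (.node [3,1,3,0] .nil .nil) (.node [2,2,1,0,2,2,0,2,1,0] .nil .nil)) (.node [3,0,1,3,3,0,1,3,3,1]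 (.node [2,3,2,1,0,2,1,3,1,3,0] .nil .nil) .nil)) (.node [0,1,3,3,1,3,0,2,2,0,2] (.node [0,2,3,0,2,1,3,3] (.node [0,2,2,0,2,0,2,3] .nil .nil) (.node [3,1,3,2,0,1,3,2,0,2,0] .nil .nil)) (.node [0,2,1,3,1,3,3,2,2,0] (.node [1,0,2,3,1,0,2,2,0,2] .nil .nil) .nil))))) (.node [3,3,1,3,1,3,1,3,1,0] (.node [2,0,2,3,1,0,2,0,2] (.node [3,3,1,0,2,3,1,0,2,1] (.node [2,3,2,1,3,3,0,1,3,3,2] (.node [3,2,2,0,1,3,3,0,1,3,1] (.node [3,0,1,3,0,1,3,0,2,2,0] .nil .nil) (.node [0,2,1,3,3,0,1,0] .nil .nil)) (.node [0,1,3,3,1,3,0,2,1] (.node [2,3,0,2,2] .nil .nil) (.node [3,0,2,1,0,2,3,0,2,2,0] .nil .nil))) (.node [2,1,3,3,2,0,2,1,3,3] (.node [0,1,3,2,2,2,0,2,2,1,0] (.node [3,2,0,2,2,2,0,2,2,0,2,1] .nil .nil) (.node [1,0,2,2,1,0,2,3,0,1,0] .nil .nil)) (.node [3,3,2,0,2,1,3,2] (.node [2,0,2,3,0,1,3,1,3,3,0,1,0] .nil .nil) .nil))) (.node [3,2,2,0,2,3,3,2,2] (.node [2,2,1,0,2,2,1,0,2,0,1] (.node [1,3,2,2,0,2,0,2,2,1] (.node [1,0,2,3,3,0,1,3,2,0,1]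 .nil .nil) (.node [3,1,0,2,3,3,1,3,3,0,2] .nil .nil)) (.node [1,3,3,2,2,2,0] (.node [0,1,3,0,2,1,3,3,1,0] .nil .nil) .nil)) (.node [3,1,0,2,3,3,0,2,2] (.node [3,1,3,1,3,3,0,1,3] (.node [2,1,3,2,2,2,1] .nil .nil) (.node [2,3,0,1,3,2,2,2] .nil .nil)) (.node [2,3,2,2,1,0,2,2,2] (.node [1,3,0,2,2,0,2,0,1,0] .nil .nil) .nil)))) (.node [2,0,2,3,1,3,3,1,3,1,0] (.node [3,0,1,3,0] (.node [3,0,2,0,2,0,1,3,2,0,2,1] (.node [3,1,0,2,3,1,3,2,2,0] (.node [0,2,3,3,0,2,1,0,2] .nil .nil) (.node [2,1,3,0,2,1,3,0,1,3,1,0] .nil .nil)) (.node [0,1,3,0,2,2,1,0,2,0,2] (.node [1,3,2,1,3,2,1,3,2,1,0] .nil .nil) (.node [1,3,3,1,3,3,2,0,2,0] .nil .nil))) (.node [1,0,2,0,2,1,3] (.node [1,3,3,1,0,2,3,3,2,1,0] (.node [3,2,1,3,3,2,1,3,1,0] .nil .nil) (.node [2,0,2,0,2,3,0,2,1,3] .nil .nil)) (.node [3,2,1,0,2,0,2,0,1,3] (.node [1,0,2,2,1,0,2,2,0,2,0] .nil .nil) .nil))) (.node [2,3,2,1,3,0,1,3,1,3,3,0] (.node [3,0,1,3,0,2,1,3,1,3,2,0]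 (.node [2,3,3,1,3,1,3,3,1,3,0] (.node [3,0,1,3,0,1,3,3,1,3,1,0] .nil .nil) (.node [3,0,2,0,2,3,0,1,3,1] .nil .nil)) (.node [1,3,1,3,2,2,2,0,2] (.node [3,1,3,3,0,1,3,1,3,2] .nil .nil) .nil)) (.node [2,2,0,2,2,0,2,3,1,3,0] (.node [1,3,0,1,3,3,0,2,2,1] (.node [2,0,2,2,2,0,2,1,0] .nil .nil) (.node [2,3,2,1,0,2,3,1,0,2,2] .nil .nil)) (.node [3,2,0,2,1,3,0,2,0] (.node [0,2,0,1,3,2,0,2,0,1] .nil .nil) .nil))))))))

/-- Part of `setWord`. -/
noncomputable def setWord_l_l_r_r_r : Arr (List ℕ) :=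
  (.node [2,3,3,2,1,3,1,3,2,0,1,0] (.node [3,3,1,3,0,1,3,1] (.node [1,3,2,0,1,3,3,1,3,2,1] (.node [3,0,2,0,2,0,2,0,1] (.node [0,2,0,2,1,3,2,0,2,0] (.node [1,3,1,0,2,3,3,0,2] (.node [1,3,1,3,3,1,3,0,2,2,1,0] (.node [1,3,1,3,2,0,2,0,2,1] (.node [1,0,2,1,3,3,0,1,3,3] .nil .nil) (.node [1,0,2,2,1,0,2,3] .nil .nil)) (.node [2,0,1,3,2,0,2,1,0] (.node [0,2,3,0,2,0,2,3,3] .nil .nil) (.node [3,2,0,2,3,0,2,1,3] .nil .nil))) (.node [0,2,2,0,1,3,0,2,0,1] (.node [0,2,3,3,2,0,2,1,3] (.node [3,1,3,1,3,3,0,2,2,2,0,1,0] .nil .nil) (.node [2,3,0,1,3,2,1] .nil .nil)) (.node [2,2,2,0,1,3,2] (.node [2,3,3,2,2,2,1,0] .nil .nil) .nil))) (.node [2,3,3,2,1,3,3,0,1,0] (.node [2,3,3,1,3,2,2,2,0] (.node [0,2,0,2,2,0,2,1,0,2,0] (.node [1,0,2,3,3,0] .nil .nil) (.node [0,1,3,1,3,2,0,2,1,0,2] .nil .nil)) (.node [2,3,1,3,1,3,0,1] (.node [2,3,2,0,1,3,2,2,0] .nil .nil) (.node [1,3,3,2,2,0,2,1,0,2,0] .nil .nil))) (.node [2,2,0,2,0,2,3,3,2,0]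 (.node [3,2,0,2,0,2,1,3,0,2] (.node [2,2,1,0,2,1,0,2,1,0] .nil .nil) (.node [1,3,0,1,3,3,1,3,2,0] .nil .nil)) (.node [0,2,2,0,2,1,0,2,2,0,2] (.node [3,3,1,0,2,0,2,3,3,0] .nil .nil) .nil)))) (.node [2,3,2,0,1,3,0,2,1] (.node [2,3,3,0,2,1,3,2] (.node [0,2,2,2,1,0,2,2,0,2] (.node [3,1,0,2,3,0,1,3,1] (.node [1,3,3,0,1,3,0,2] .nil .nil) (.node [3,3,2,0,2,2,1] .nil .nil)) (.node [2,3,0,2,1,3,2,1,3,0,2] (.node [0,2,1,3,1,3,2,1,3] .nil .nil) (.node [3,0,1,3,2,1,3,2,2,0] .nil .nil))) (.node [3,1,3,0,2,2,0,2,2,0,1] (.node [2,3,1,0,2,2,0] (.node [3,3,0,1,3,2,1,3,2,0] .nil .nil) (.node [3,2,2,0,2,0] .nil .nil)) (.node [2,3,2,1,3,2,0,1] (.node [3,2,1,0,2,1,3,0,2,2,0] .nil .nil) .nil))) (.node [1,3,2,2,1,0] (.node [0,2,3,0,2,2,0,2,1] (.node [2,3,2,1,3,2,0,1,3] (.node [2,3,3,0,2,1,3,3,0] .nil .nil) (.node [2,3,1,3,0,2,1,3,1] .nil .nil)) (.node [2,2,0,2,0,2,1,3] (.node [2,0,2,1,3,1,3,2,2,1,0] .nil .nil) .nil)) (.node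 [2,1,3,0,2,2,0,1,0] (.node [2,2,0,2,1,0,2,1,3,0,1] (.node [2,3,2,2,0] .nil .nil) (.node [1,0,2,1,0,2,0,2] .nil .nil)) (.node [2,2,1,0,2,2,1,0,2,0] (.node [3,2,1,3,0,2,2,1] .nil .nil) .nil))))) (.node [0,1,3,3,0,1,3,0,2,1] (.node [3,1,3,3,0,2,1,0,2] (.node [1,3,1,3,2,0,2,1,3,0] (.node [0,2,3,1,0,2,1,3,1,0] (.node [2,1,3,1,0,2,0,2] (.node [3,3,1,3,0,2,1,3,3,1] .nil .nil) (.node [2,0,2,0,2,3,0,1] .nil .nil)) (.node [2,0,2,0,2,3,0,2,2,1] (.node [1,0,2,1,3,0,1,3,1,0] .nil .nil) (.node [3,0,2,2,0,2,0,2,1] .nil .nil))) (.node [3,1,3,2,1,3,1,3,3] (.node [3,3,1,3,2,2,1,0,2] (.node [2,3,2,2,1,0,2,2] .nil .nil) (.node [2,2,2,0,1,3,2,2,0,2] .nil .nil)) (.node [2,3,2,1,0,2,3,1,3,0] (.node [2,3,1,3,2,2,1,0,2,2,1] .nil .nil) .nil))) (.node [3,3,0,2,2,2,0,2,1,3,2] (.node [3,3,2,0,1,3,1,0,2,3,1,0] (.node [2,1,3,3,2,0,1,3,3,2,2] (.node [0,1,3,0,2,0,2,0,2,3] .nil .nil) (.node [1,3,3,0,2,0,2,0,1] .nil .nil)) (.node [0,1,3,2,0,2,2,0,2,0]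 (.node [1,0,2,3,3,2,1,3,1,3,0] .nil .nil) .nil)) (.node [1,3,2,2,1,0,2] (.node [0,1,3,3,1,3,1,0,2] (.node [2,0,1,3,2,2,0,2,2] .nil .nil) (.node [2,3,0,1,3,2,2,0,2] .nil .nil)) (.node [2,0,1,3,0,2,0,2,3,3,2,1] (.node [1,0,2,0,2,0,2,1,3,3] .nil .nil) .nil)))) (.node [3,1,3,1,3,0] (.node [3,2,2,0,2,2,2,0,1] (.node [1,3,1,3,2,0,2,0,1] (.node [2,0,2,2,2,0,2,2,1,0] (.node [2,3,3,2,0,1,3,3,0,1] .nil .nil) (.node [2,3,2,0,1,3,3,0,2,0,1] .nil .nil)) (.node [3,3,2,2,0,2,2,1,0,2,0] (.node [1,3,2,1,0,2,3,1,3,2] .nil .nil) (.node [3,3,2,1,3,1,0,2,2,2,1] .nil .nil))) (.node [2,3,3,2,1,3,1,0,2,3,3,0] (.node [0,2,3,0,2,0,2,3,3,1,3,2] (.node [3,3,2,1,3,1,3,1,3,0] .nil .nil) (.node [0,2,3,1,3,2,0,2,3,1] .nil .nil)) (.node [2,0,1,3,1,0,2] (.node [0,1,3,3,2,1,3,1,3,0] .nil .nil) .nil))) (.node [0,1,3,3,0,2,2,0] (.node [2,0,2,2,2,0,2] (.node [2,3,3,1,0,2,3,3,2,1] (.node [0,1,3,2,0,1,3,2,2,0] .nil .nil) (.node [2,3,2,1,3,1,3,1,3,0]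 .nil .nil)) (.node [2,2,0,1,3,2,0,2,1,3,3] (.node [2,0,2,3,0,2,2,2,1] .nil .nil) .nil)) (.node [3,3,0,2,0,2,1,3,3,1,0] (.node [0,2,1,3,3,1,0] (.node [2,0,2,0,2,1,0,2] .nil .nil) (.node [2,3,3,2,1,0,2,1,3] .nil .nil)) (.node [1,3,2,1,0,2,0,2,0] (.node [0,2,0,2,2,0,1,3,2,1] .nil .nil) .nil)))))) (.node [2,3,2,1,3,0,1,3,3,1,3] (.node [2,2,0,2,1,3,2,0,1,3,1] (.node [3,2,1,0,2,3,0,2,1] (.node [3,1,3,0,2,1,3,3,1] (.node [3,3,1,3,3,0,2,1,3,0,2] (.node [2,0,2,0,1,3,3] (.node [1,3,2,0,1,3,2,1,0,2,1,0] .nil .nil) (.node [2,3,0,1,3,1,0,2,3,3,1] .nil .nil)) (.node [3,0,1,3,1,3,2,2,1,0] (.node [3,2,1,3,3,2,2,1,0] .nil .nil) (.node [0,2,1,3,0,1,3,0,2,2,2] .nil .nil))) (.node [0,2,1,3,1,3,3,0,2,2] (.node [1,3,0,2,0,2,3,3,2,1,0] (.node [3,1,0,2,0,2,2,1,0] .nil .nil) (.node [3,2,1,3,2,1,3,1] .nil .nil)) (.node [3,1,3,1,3,2,2,0,1,3] (.node [1,3,2,1,3,3,1,3,1,3,0] .nil .nil) .nil))) (.node [1,3,1,3,3,2,1,3,0,2] (.node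 [1,0,2,3,3,1,3,2,1,0] (.node [3,1,3,2,1,3,2,0,1] (.node [3,2,0,2,2,2,0,2,0,1] .nil .nil) (.node [2,2,0,2,3,0,2,2] .nil .nil)) (.node [1,3,2,1,3,1,3,0,2,0,1,0] (.node [1,3,1,3,3,2,1,0] .nil .nil) (.node [2,2,2,0,2,1,3,0,2,2,2,1] .nil .nil))) (.node [3,0,1,3,2,1,0,2,2] (.node [3,1,0,2,3,1,3,3,2,2,0] (.node [2,3,2,0,2,1,0,2,3,1] .nil .nil) (.node [2,1,3,0,2,2,2,1] .nil .nil)) (.node [2,0,2,3,3,0,1,3,1,3,2] (.node [2,0,1,3,2,0,2,1] .nil .nil) .nil)))) (.node [3,3,2,0,1,3,0,2,1,0,2,0] (.node [1,3,2,0,1,3,1,3,2] (.node [2,3,2,2,0,1,3,1,3,1,0] (.node [3,3,1,3,3,2,2,1] (.node [2,0,2,3,3,2,0] .nil .nil) (.node [2,3,1,3,0,1,3,2,0,1,3] .nil .nil)) (.node [2,3,1,3,3,0,1] (.node [0,2,3,3,1,0,2,2,0,2,1] .nil .nil) (.node [1,0,2,3,3,1,0,2,2,1,0] .nil .nil))) (.node [1,0,2,0,2,2,0,1] (.node [2,3,0,2,1,3,3] (.node [1,3,2,2,1] .nil .nil) (.node [2,3,1,3,0,2,0] .nil .nil)) (.node [0,2,3,3,2,0,1,3,2] (.node [2,0,2,3,3,1,3,1,3,0]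 .nil .nil) .nil))) (.node [3,1,3,3,1,3,1,3,1,0] (.node [2,1,3,1,0,2,0,2,2] (.node [3,0,2,0,2,3,1,0,2,3,1,0] (.node [1,3,0,2,1,3,1,3,0,2] .nil .nil) (.node [0,1,3,1,3,3,2,1] .nil .nil)) (.node [0,2,2,1,0,2,0,2,1,3] (.node [2,1,3,0,2,0,2,1,0] .nil .nil) .nil)) (.node [3,2,1,0,2,3,3,2,2] (.node [2,2,2,0,2,1,3,3,0,2,0] (.node [2,0,2,0,2,1,0,2,1,0] .nil .nil) (.node [2,3,1,3,2,1,3,0,2,0] .nil .nil)) (.node [3,0,1,3,0,1,3,3,0,1] (.node [2,1,3,3,0,1,3,0,2,0] .nil .nil) .nil))))) (.node [0,2,3,3,1,3,2,1,0,2,1,0] (.node [1,3,3,1,3,2,2,2,0,1,3] (.node [3,3,2,2,2,1,0] (.node [2,2,1,0,2,3,1,0,2,1,0] (.node [1,3,2,2,1,0,2,3,3,0] (.node [3,3,0,1,3,3,0,2,0,1,0] .nil .nil) (.node [3,0,2,1,0,2,3,0,1,3,3] .nil .nil)) (.node [2,1,3,1,3,0,2,1,0,2] (.node [2,1,0,2,3,3,2,2,2,0] .nil .nil) (.node [0,2,0,1,3,3,2,0,2,0] .nil .nil))) (.node [1,3,0,1,3,2,1,0,2,2] (.node [2,0,1,3,1,3,3,1,3,1] (.node [1,3,2,0,2,0,1,3,2] .nil .nil)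 (.node [3,0,2,0,2,1,0,2,2,1] .nil .nil)) (.node [0,1,3,2,1,0,2,3] (.node [2,0,2,1,3,3,2,0,1,3,1] .nil .nil) .nil))) (.node [2,2,2,0,2,0,2,0,2,1,3,1] (.node [2,3,0,2,0,2,3,0,2,1] (.node [1,3,3,0,2,2,1] (.node [0,1,3,3,2,1,3,3,0,1,0] .nil .nil) (.node [1,3,2,2,2,0,2,1,0,2] .nil .nil)) (.node [1,3,2,0,2,1,0,2,1,3,3] (.node [1,3,1,3,1,3,0,2,2,0] .nil .nil) .nil)) (.node [3,1,3,2,0,1,0] (.node [2,3,0,2,2,0,1,3,0,2,2] (.node [1,3,2,1,3,3,0,2,0,1,3] .nil .nil) (.node [2,3,2,1,3,2,2,1,0,2,3,1] .nil .nil)) (.node [3,3,1,3,3,0,2,2,1] (.node [2,3,1,3,0,2,0,2,2,1,0] .nil .nil) .nil)))) (.node [3,2,2,0,2,0,2,0,1] (.node [2,3,2,1,3,0,1,3,1,0] (.node [2,0,2,2,1,0,2,2,2,0,1,0] (.node [3,2,0,2,1,3,2] (.node [1,3,1,3,2,2,0,2,0,2,0] .nil .nil) (.node [3,3,2,1,3,3,1,3,0] .nil .nil)) (.node [2,1,3,3,1,0,2,3,3,1,0] (.node [2,1,3,3,0,2,1,0] .nil .nil) (.node [1,3,2,0,1,3,3,0,2,1,0] .nil .nil))) (.node [0,1,3,1,3,0,2,2,0,1,0]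 (.node [3,1,3,2,0,2,0,1,3,3] (.node [2,0,1,3,3,1,3,2,1] .nil .nil) (.node [0,2,3,0,1,3,2,2,2] .nil .nil)) (.node [3,2,0,2,3,0,2,2,2] (.node [1,3,3,0,2] .nil .nil) .nil))) (.node [2,2,0,2,2,2,0,2,1] (.node [1,3,0,1,3,2,1,3,1,0] (.node [2,3,3,2,2,2,0,1,3,0,2,0] (.node [3,2,2,0,2,0,2,0,1,0] .nil .nil) (.node [1,3,3,2,2,2,1,0,2,2,1] .nil .nil)) (.node [1,3,1,3,0,2,0,2,3,3] (.node [0,2,3,0,2,2,0,2,0] .nil .nil) .nil)) (.node [2,3,2,1,0,2,3,0,2,1] (.node [2,1,3,2,1,3,2,0,1,3,3] (.node [3,1,3,0,1,3,0,2,1,0,2,0] .nil .nil) (.node [3,2,2,2,1,0,2,2,0,2,1] .nil .nil)) (.node [0,1,3,2,2,0,2,1,3,0] (.node [2,3,3,0,1,3,2,0] .nil .nil) .nil))))))) (.node [0,2,1,3,2,0,2,2,1,0] (.node [2,0,1,3,3,1,3,1,3,0] (.node [3,3,1,0,2,3,0,1,3,3] (.node [0,2,1,3,2,2,1,0,2,3] (.node [2,0,2,3,0,2,1,3,0,2,0] (.node [3,2,0,2,0,2,3,0,1,0] (.node [3,1,3,2,1,3,2,0,1,0] (.node [2,0,2,2,0,2,0,1,3,3,2,2] .nil .nil) (.node [2,3,2,2,2,0,2,2,1]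 .nil .nil)) (.node [3,3,0,1] (.node [2,0,2,0,2,1,0,2,2,0,1,0] .nil .nil) (.node [1,3,1,0,2,3,0,2,1,3] .nil .nil))) (.node [0,1,3,1,3,3,1,3,2,0] (.node [3,1,0,2,2,0,2,3,1] (.node [0,2,3,3,0,1,3,1,3,3,0] .nil .nil) (.node [2,1,3,3,1,3,2,1,3,2] .nil .nil)) (.node [1,0,2,0,2,3,3,0,2,2] (.node [2,1,3,3,1,0,2,2,1,0] .nil .nil) .nil))) (.node [2,1,3,1,3,3,0,1] (.node [2,3,0,2,0,2,1,3,0,2] (.node [2,1,3,3,0,1,3,2,2,1] (.node [1,3,1,3,3,1,3,0] .nil .nil) (.node [2,2,2,0,2,1,3,1] .nil .nil)) (.node [2,0,2,3,3,0,2,2,2,1] (.node [2,1,3,3,2,0,2,2] .nil .nil) (.node [1,0,2,2,2,0,2,1,3] .nil .nil))) (.node [0,1,3,3,2,1,3,3,1,3,1] (.node [2,0,1,3,3,2,1,3,1,3] (.node [2,3,3,2,0,1,3,1] .nil .nil) (.node [0,1,3,2,0,2,3,3,1,3,1] .nil .nil)) (.node [1,3,3,0,2,1,3,3,0,2] (.node [3,0,2,2,0,1,3,2,1] .nil .nil) .nil)))) (.node [3,2,2,0,1,3,1,3,0,1] (.node [0,2,0,1,3,3,0] (.node [0,2,0,2,1,3,2,2,1] (.node [2,0,1,3,2,1,3,1,3]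 (.node [3,2,1,3,2,2,1,0,2,2,1] .nil .nil) (.node [3,3,0,1,3,1,3,3,0,1,0] .nil .nil)) (.node [2,0,1,3,3,0,2,1,3,2,0] (.node [0,1,3,0,2,2,1,0,2] .nil .nil) (.node [0,1,3,2,1,3,3,0,2,2,1,0] .nil .nil))) (.node [0,2,3,0,2,0,2,1,3,3] (.node [3,2,1,3,3,2,0,1,3,0] (.node [1,3,3,0,2,1,3,0,1] .nil .nil) (.node [2,0,2,3,0,2,0,1,3,3,2] .nil .nil)) (.node [3,1,3,3,0,2,1,3,1,3,3,1] (.node [1,0,2,3] .nil .nil) .nil))) (.node [1,3,2,2,0,1,3,3,0] (.node [2,0,2,3,3,1,0,2,0,2,2] (.node [1,3,3,1,3,1,3,0,2,2,2] (.node [0,2,1,0,2,3,1,3,0] .nil .nil) (.node [3,0,1,3,1,3,2,1] .nil .nil)) (.node [2,3,0,1,3,2,1,0,2,2] (.node [1,0,2,3,1,3,3,1,3,1,0] .nil .nil) .nil)) (.node [0,1,3,2,0,2,1,3,2,2,1,0] (.node [2,0,2,2,0,2,2,1,0] (.node [1,0,2,0,2,1,0] .nil .nil) (.node [1,3,1,3,0,2,0] .nil .nil)) (.node [3,3,2,2] (.node [0,2,1,3,1,3,2,1,0] .nil .nil) .nil))))) (.node [0,2,0,2,1,3,2,1,3,1] (.node [0,2,0,2,1,3,3,2,2,1] (.node [2,0,2,1,3,3,0,2,0]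 (.node [1,0,2,3,0,1,3,0,1] (.node [3,3,1,3,3,2,2,0,1,0] (.node [0,2,0,2,3,1,0,2,1,0] .nil .nil) (.node [3,3,0,2,1,3,2,0,1,3,3] .nil .nil)) (.node [3,0,2,0,1,3,0,2,2,0] (.node [3,2,1,3,3,0,1,3,1] .nil .nil) (.node [1,3,1,3,3,1,0,2,3,1] .nil .nil))) (.node [2,0,2,0,2,3,0,1,3,3] (.node [2,0,2,0,1,3,2,1,3] (.node [3,3,0,1,3,2,2,1] .nil .nil) (.node [3,2,2,0,2,2,0,2,1] .nil .nil)) (.node [2,2,0,2,3,1,0,2,1,0] (.node [2,3,3,2,2,0,1,3,0,2,0] .nil .nil) .nil))) (.node [3,3,0,1,3,2,1,3,3,1] (.node [0,1,3,1,3,2,1] (.node [3,2,1,3,2,0,1] (.node [0,2,3,3,0,1,3] .nil .nil) (.node [1,3,1,3,3,1,0,2,2,1,0] .nil .nil)) (.node [2,0,1,3,1,3,1,3,2,2] (.node [3,1,0,2,1,3,3,1,3,2,1] .nil .nil) .nil)) (.node [3,2,0,1,3,2,0,1] (.node [3,1,3,0,1,3,2,1,3,1,0] (.node [3,3,0,1,3,2,1,3] .nil .nil) (.node [3,0,1,3,1,3,3,2,1,3] .nil .nil)) (.node [3,2,2,0,2,1,0,2,2,2,1] (.node [2,2,0,2,3,0,2,0,2,3,0,1] .nil .nil) .nil)))) (.node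 [2,3,1,3,0,1,3,3,2,1] (.node [3,0,1,3,2,0,2,3,3] (.node [0,2,1,3,2,0,2,0,2,1] (.node [2,2,0,2,2,1,0,2,0,2] (.node [3,2,2,2,0,2,0,1] .nil .nil) (.node [3,3,2,1,3,2,2,0,2,0,1] .nil .nil)) (.node [2,2,0,2,1,3,2] (.node [3,1,3,1,0,2,0,2,3,1,3] .nil .nil) (.node [1,3,3,2,1,0,2,0] .nil .nil))) (.node [1,3,2,1,0,2,3,0,2] (.node [1,0,2,2,0] (.node [3,2,1,3,1,3,1,0,2] .nil .nil) (.node [0,1,3,1,3,1,3,3,2,0,2,0] .nil .nil)) (.node [2,1,0,2,1,3,1,3,3,1] (.node [3,3,2,1,0,2,2,0,2,2,2] .nil .nil) .nil))) (.node [3,3,0,2,0,2,0,2,2] (.node [0,2,2,0,2,1,0,2] (.node [1,3,2,1,3,2,2,0] (.node [3,0,2,0,2,0,1,3,0,2] .nil .nil) (.node [0,2,0,2,3,0,2,0,1,3] .nil .nil)) (.node [1,0,2,0,2,0,2,2,0,2] (.node [1,3,1,3,3,2,2] .nil .nil) .nil)) (.node [1,0,2,3,3,1,3,1,0] (.node [1,3,3,0,1,3,1,3,2] (.node [0,2,3,3,1,0,2,2] .nil .nil) (.node [1,3,2,2,0,2,2,2,1] .nil .nil)) (.node [0,2,2,1,0,2,2,2,0,1] (.node [2,1,3,3,0,2,1,3,2,2,0]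 .nil .nil) .nil)))))) (.node [2,3,3,0,2,1,3,3,0,1,0] (.node [2,3,3,0,2,0,1,3] (.node [2,2,0,2,0,2] (.node [3,3,2,2,0,1,3,3] (.node [0,2,3,0,1,3,2,2] (.node [3,1,3,0,2,1,3,1] (.node [2,3,1,3,1,3,3] .nil .nil) (.node [0,2] .nil .nil)) (.node [3,0,1,3,0,2,0,1,0] (.node [3,1,0,2,1,3,3,0] .nil .nil) (.node [2,3,2,0,2,2,0,2,1] .nil .nil))) (.node [3,0,2,1,3,2,1,3,3,1] (.node [3,3,2,2,0,2,2,1,0] (.node [1,3,1,3,3,1,3,0,2,1] .nil .nil) (.node [1,3,2,0,2,3,1,0,2,0,1] .nil .nil)) (.node [1,3,2,1,3,3,1,3,3] (.node [3,3,2,2,0,1,3,0,2] .nil .nil) .nil))) (.node [1,3,2,0,1,3,2,2,0] (.node [2,2,0,1,3,3] (.node [0,1,3,2,1,3,3,2,0] (.node [3,1,3,2,1,3,0,1,3,2] .nil .nil) (.node [2,0,2,3,0,1,3,1,3,3,1] .nil .nil)) (.node [1,3,0,2,1,3,3,0,1,3,2,1] (.node [1,3,0,2,2,1,0,2,0] .nil .nil) (.node [2,3,2,2,1,0,2,1,0,2,0] .nil .nil))) (.node [1,0,2,3,3,1,3,3,1,0] (.node [1,3,1,3,2,2] (.node [0,1,3,3,1,3,3,2,0,2,0] .nil .nil)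 (.node [0,2,0,2,3,0,2,0,1] .nil .nil)) (.node [3,3,0,2,1,3,1,0] (.node [2,0,2,1,3,0,2,0,1] .nil .nil) .nil)))) (.node [1,0,2,1,3,3,1,3,2,1,3] (.node [3,2,2,0,2,0,2,1,0] (.node [1,0,2,2,0,2,3,1,0] (.node [2,2,0,2,2,0,2,0,2,0] (.node [2,0,2,3,0,2,2,0,2] .nil .nil) (.node [0,2,0,2,2,1,0,2,1,0] .nil .nil)) (.node [2,3,2,2,0,2,1,3,3] (.node [2,0,2,3,3,1,3,2] .nil .nil) (.node [1,0,2,1,0,2,1,3,3,0] .nil .nil))) (.node [1,3,1,3,0,1,3,3,2,2] (.node [2,1,3,2,2,2,0] (.node [1,3,0,2,0,1,3,0,2] .nil .nil) (.node [1,3,0,2,1,3,0,2,2] .nil .nil)) (.node [0,1,3,3,0,1,3,3,1] (.node [2,3,1,3,3,0,2] .nil .nil) .nil))) (.node [3,2,1,3,2,1,3,3,0,2,2,0] (.node [3,3,1,3,1,3,3,0,1] (.node [0,1,3,0,1,3,2,0,2,0] (.node [1,3,1,3,1,0] .nil .nil) (.node [3,2,1,3,0,2,1,3,3,2,2] .nil .nil)) (.node [3,0,2,1,0,2,0,2,2,0,1] (.node [2,3,3,0,1,3,3,2,2] .nil .nil) .nil)) (.node [3,1,3,1,0,2,3,3,2,0,2,0] (.node [3,2,1,3,3,0,1,0] (.node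 [0,2,3,3,2,1,0,2,0,1] .nil .nil) (.node [3,3,2,1,3,3,1,0,2,0] .nil .nil)) (.node [1,3,3,0,1,3,0,1,3,0] (.node [0,2,3,3,0,1,3,2,0] .nil .nil) .nil))))) (.node [0,2,2,0,1] (.node [1,0,2,2,1,0,2,1,0] (.node [0,2,0,2,3,1,0,2,3,3] (.node [3,3,2,1,3,0,2,2,1] (.node [2,1,3,0,2,0,2,3,3] (.node [0,2,2,0,1,3,3,2,2,0] .nil .nil) (.node [3,0,2,1,3,1,0,2,3,0,1] .nil .nil)) (.node [1,3,1,3,0,1,3,1,3,3,1] (.node [1,3,2,2,0,2,2,0,1] .nil .nil) (.node [3,0,1,3,3,0,1,3,2,0] .nil .nil))) (.node [3,2,1,3,3,2,2,2,1,0] (.node [1,0,2,2,0,2,0,1,0] (.node [2,3,3,2,2,1,0,2,1,0] .nil .nil) (.node [2,0,1,3,0,2,2,2] .nil .nil)) (.node [2,3,3,1,0,2,1,0,2,0,2,3] (.node [3,2,1,3,1,3,3] .nil .nil) .nil))) (.node [3,0,1,3,2,0,2,3,0,1] (.node [0,2,1,3,0] (.node [2,2,0,2,3,0,1,3,2,2] (.node [3,1,3,2,0,2,3,0,1,0] .nil .nil) (.node [3,0,2,0,2,2,2,0,1,3,2] .nil .nil)) (.node [0,1,3,0,2,0,1] (.node [3,0,2,1,3,1,3,2,2,0] .nil .nil) .nil))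 (.node [3,3,1,3,0,2] (.node [3,2,0,1,3,2,1,3,2] (.node [2,2,1,0,2,2,1,0,2,1,3] .nil .nil) (.node [3,2,1,3,0,2,2,0,2,1] .nil .nil)) (.node [2,1,0,2,0,2,1,3,0,1] (.node [2,3,1,3,1,3,2,1,3,3] .nil .nil) .nil)))) (.node [0,2,0,2,1,0,2,1,3] (.node [3,0,1,3,3,1,3,3] (.node [0,2,0,2,1,0,2,0,1] (.node [3,1,3,2,2,0,2,1,3,2,0] (.node [0,1,3,0,1,3,0,1,3,0] .nil .nil) (.node [1,3,3,0,2,1,0,2] .nil .nil)) (.node [1,0,2,2,0,2,3,3,2,2,0] (.node [1,3,1,0,2,1,3,3,1,0] .nil .nil) (.node [0,2,3,1,0,2,1,3,0,1] .nil .nil))) (.node [2,1,0,2,1,3,3,1,3,3,1] (.node [0,1,3,2,0,2,2,1,0] (.node [3,1,3,2,1,3,3,2,0,2,2] .nil .nil) (.node [3,3,2,1,0,2,2,0,2,1] .nil .nil)) (.node [3,2,1,3,3,2,2] (.node [2,3,0,2,2,0,1,3] .nil .nil) .nil))) (.node [0,2,0,2,2,0,2,3,1,0] (.node [3,1,3,3,1,3,3,0,1,3,2,1] (.node [1,3,3,1,3,3,1,3,0,1] (.node [2,2,2,0,2,2,1,0] .nil .nil) (.node [2,1,3,3,1,3,2,2,0] .nil .nil)) (.node [1,3,3,2,2,0,1,3,3,0]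 (.node [2,1,0,2,3,3,2,0,2,0] .nil .nil) .nil)) (.node [2,1,0,2,3,1,3,2,2,1] (.node [0,2,3,0,2,2,0,2,3,1,3,0] (.node [3,2,0,2,2,0,2,2,1,0] .nil .nil) (.node [1,0,2,2,0,2,1] .nil .nil)) (.node [1,0,2,0,2,2,1,0,2,1,0] (.node [0,1,3,2,1,3,3,0,2] .nil .nil) .nil))))))))

/-- Part of `setWord`. -/
noncomputable def setWord_l_l_r_r : Arr (List ℕ) :=
  .node [1,0,2,2,2,0,1,3] setWord_l_l_r_r_l setWord_l_l_r_r_r

/-- Part of `setWord`. -/
noncomputable def setWord_l_l_r : Arr (List ℕ) :=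
  .node [1,3,0,2,1,3,0,1,3,1] setWord_l_l_r_l setWord_l_l_r_r

/-- Part of `setWord`. -/
noncomputable def setWord_l_l : Arr (List ℕ) :=
  .node [2,3,2,1,0,2,1,3,0,1,0] setWord_l_l_l setWord_l_l_r

/-- Part of `setWord`. -/
noncomputable def setWord_l_r_l_l_l : Arr (List ℕ) :=
  (.node [2,1,3,3,2,0,1,3,3,0] (.node [3,1,0,2,3,3,0,2,1,0,2] (.node [2,3,0,2,1,0,2,2,0,2,1,0] (.node [3,3,1,3,3,1,3,0] (.node [2,1,3,0,2,1,3,2,0,1,3] (.node [0,2,3,1,3,1,0,2,3] (.node [2,3,1,3,2,1,3,1,3] (.node [2,3,3,2,1,3,3,2,2] (.node [3,1,3,3,0,1,3,1,0] .nil .nil) (.node [2,2,2,0,1,3,0,2,0] .nil .nil)) (.node [2,1,3,0,1,3,2,2,1,0] (.node [3,0,1,3,3,1,3,0,2,2,1,0] .nil .nil) (.node [0,2,3,1,3,2,2,0,2,0,1] .nil .nil))) (.node [3,3,1,3,2,2,2] (.node [2,3,2,0,1,3,1,3,2,2,1,0] (.node [1,3,0,1,3,0,2,2] .nil .nil) (.node [2,3,2,0,1,3,1,0] .nil .nil)) (.node [0,2,1,3,1,3,1,0,2,1] (.node [1,3,3,2,2,0,1,3,2,1] .nil .nil) .nil))) (.node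 [2,3,1,3,2,0,2,3,1,0] (.node [1,0,2,3,0,2,0,2,1,3,3] (.node [2,1,3,2,0,2,0,1,3,2] (.node [0,1,3,2,0,2,1,3,0] .nil .nil) (.node [0,2,3,1,0,2,2,1] .nil .nil)) (.node [3,3,0,1,3,2,2,2,0] (.node [3,3,1,3,2,1,3,1] .nil .nil) (.node [2,1,0,2,1,3,3,0,2,0,1] .nil .nil))) (.node [1,0,2,0,1,3,2,0,2,1] (.node [1,0,2,0,2,1,3,0,1,3,1] (.node [3,0,2,1,3,0,2,1,3] .nil .nil) (.node [1,3,2,1,3,3,0,2,1,3] .nil .nil)) (.node [3,1,3,3,1,3,3,2,2,0] (.node [3,1,3,2,1,3,3,1,3,2,1] .nil .nil) .nil)))) (.node [2,2,0,1,3,3,2,1,3,2] (.node [2,3,3,0,2,0,1,3,3,2,2] (.node [2,1,3,3,0,2,2] (.node [3,2,1,3,3,1,0,2,3,3,1] (.node [1,3,0,2,0,2,0,2,2,0,2] .nil .nil) (.node [3,0,2,0,2,1,3,3] .nil .nil)) (.node [0,2,1,3,3,1,3,2,1,0] (.node [3,2,0,1,3,1,3,3] .nil .nil) (.node [2,2,1,0,2,1,3] .nil .nil))) (.node [2,3,0,2,0,2,1,0,2,3] (.node [2,0,2] (.node [2,2,0,2,0,2,1,3,2,1] .nil .nil) (.node [1,0,2,3,1,3,3,1,3,3,1] .nil .nil)) (.node [0,2,0,2,0,2,3,3,0,2]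 (.node [1,3,2,1,3,1,3,3,1] .nil .nil) .nil))) (.node [1,3,3,2,2,2,0,2,0,1] (.node [2,3,0,2,0,1,3,0] (.node [1,3,1,3,2,1,3,2,0,1,0] (.node [2,0,1,3,1,3,2] .nil .nil) (.node [3,0,1,3,1,3,0,2] .nil .nil)) (.node [3,3,2,0,1,3,1,3,3,2] (.node [0,1,3,2,2,0,2,1] .nil .nil) .nil)) (.node [0,2,3,0,2,0,1] (.node [3,3,1,0,2,2,0,2,3,1,0] (.node [3,2,2,0,2,0,2,3] .nil .nil) (.node [2,3,1,3,0,2,1,0,2,0] .nil .nil)) (.node [2,3,3,0,1,3,0,2,1] (.node [2,0,2,2,0,1,3,0,2] .nil .nil) .nil))))) (.node [1,3,2,1,0,2,2,1,0,2,0,1] (.node [3,3,1,3,3,1,3,2,2,1,0] (.node [0,2,3,1,0,2,0,2,3,1] (.node [2,3,2,0,2,0,2,1,0] (.node [2,3,3,2,0,2,0,1,3,0,2] (.node [2,0,1,3,3,0,1,3,0,1,0] .nil .nil) (.node [1,3,0,1,3,2,0,1,3] .nil .nil)) (.node [3,3,0,2,0,2,2,2,0,1,0] (.node [2,3,3,2,1,3,1,3,3,1] .nil .nil) (.node [0,2,1,3,1,0,2,3,3,2,2,0] .nil .nil))) (.node [2,2,0,2,1,0,2,2,0,2,0] (.node [2,3,2,2,2,0,1,3,0,2] (.node [1,3,1,3,1,3,0,2,1,3,3,1]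 .nil .nil) (.node [0,1,3,1,3,2,1,0,2,0] .nil .nil)) (.node [2,3,3,0,1,3,2,0,2,1,0] (.node [2,1,0,2,1,3,0,2,1,3] .nil .nil) .nil))) (.node [1,3,3,2,0,2,2,2,0,1,0] (.node [1,3,0,2,2,0,2,0,2,3] (.node [0,1,3,0,2,2,0,2,0] (.node [1,3,3,1,0,2,3,3,0,2,2] .nil .nil) (.node [2,3,2,1,0,2,0,2,3,3] .nil .nil)) (.node [2,0,1,3,2,1,3,1,3,2,0] (.node [1,0,2,2,1,0,2,3,1,3] .nil .nil) .nil)) (.node [1,0,2,3,3,2,1,0,2,0] (.node [2,0,1,3,0,1,3,3,2] (.node [1,3,1,3,2,2,2,1] .nil .nil) (.node [0,2,2,0,2,2,2,0,2,0,1] .nil .nil)) (.node [1,3,3,2,0,2,1,3,0,2] (.node [2,3,2,2,2,0,1,3,2,0] .nil .nil) .nil)))) (.node [2,0,2,1,3,2,1,3,2,2,2] (.node [0,1,3,2,2,1,0,2,0,2] (.node [3,3,2,1,3,2,0,2,2] (.node [2,3,3,1,0] (.node [0,2,1,3,0,1] .nil .nil) (.node [2,3,3,2,1,3,3,0,2,0,1] .nil .nil)) (.node [3,0,2,2,0,1,3] (.node [2,0,1,3,3,0,2,2,2,1] .nil .nil) (.node [1,3,2,1,3,3,0,2,2,0,2,1] .nil .nil))) (.node [1,3,2,1,3,3,2,1,3,3,0]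 (.node [1,0,2,3,1,3,1,3,2,0] (.node [0,2,3,3,2,2,0,1,3,3] .nil .nil) (.node [0,2,3,3,1,3,3,0] .nil .nil)) (.node [0,2,1,3,3,1,3,2,2,1,0] (.node [1,0,2,2,2,1,0,2,2,0,2,1] .nil .nil) .nil))) (.node [1,3,1,3,2,1,0,2] (.node [1,0,2,3,3,1,3,3,2,2] (.node [3,0,1,3,0,2,1,3,2,1,3] (.node [2,1,0,2,0,2,1,3,3,1] .nil .nil) (.node [3,0,1,3,1,3,3,0] .nil .nil)) (.node [3,0,1,3] (.node [3,0,2,1,3,3,1,0,2,2] .nil .nil) .nil)) (.node [2,3,0,1,3,3,1,3] (.node [2,2,1,0,2,0,2] (.node [3,3,2,0,2,0,1,3,2,0,2,1] .nil .nil) (.node [1,0,2,1,0,2,3,0,2,2,0] .nil .nil)) (.node [2,3,1,3,0,2,0,1,0] (.node [2,3,1,0,2,2,0,2,3,1] .nil .nil) .nil)))))) (.node [2,0,2,2,0,2,0,2,3] (.node [0,2,1,0,2,2,1,0] (.node [2,3,2,1,3,2,2,2,0,1,0] (.node [3,2,2,2,0,1,3,2,2,0] (.node [3,2,2,0,2,3,1,3,3,2,2] (.node [2,2,0,2,3,0,1,3,2,1] (.node [3,3,2,1,3,1,0,2,3,3,0] .nil .nil) (.node [1,3,1,0,2,3,3,2,2,2,0] .nil .nil)) (.node [1,0,2,3,0,1,3,1,3,3,1]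 (.node [0,2,0,2,2,1,0,2,2] .nil .nil) (.node [1,0,2,3,0,1,3,2,1,0,2,0] .nil .nil))) (.node [3,2,1,3,2,0,2,0,2,2] (.node [3,2,0,2,3,3] (.node [1,3,2,1,3,1,0,2,2,1] .nil .nil) (.node [1,3,1,3,3,1,3,3,1] .nil .nil)) (.node [3,1,0,2,3,0,1,3,3,2,2] (.node [2,3,3,0,1,3,3,1,3] .nil .nil) .nil))) (.node [2,2,0,2,3,0,2,0,2,1,0] (.node [2,0,2,0,1,3,1,3,1,3,0] (.node [2,3,3,1,3,3,0,1,3] (.node [3,0,2,0,2,2,1,0,2,0] .nil .nil) (.node [2,0,2,0,2,1,3,3,0,2,0] .nil .nil)) (.node [0,1,3,2,2,2,0,2,2,2,1,0] (.node [2,2,0,1,3,2,2,0,1,3] .nil .nil) (.node [2,3,2,2,0,2,0] .nil .nil))) (.node [2,3,2,2,0,2,2,0,2,0,1] (.node [3,2,1,3,0,1] (.node [3,3,1,3,3,2,2,0,2,0,2,1] .nil .nil) (.node [2,2,1,0,2,0,2,1,0,2,1] .nil .nil)) (.node [3,3,0,2,1,3,2,1,3,2] (.node [2,3,3,0,2,1,3,1,3,0] .nil .nil) .nil)))) (.node [3,1,0,2,0,2,0,2,0] (.node [2,1,0,2,0,2,3,1,3,3] (.node [0,2,1,3,1,3,3,2,0,1,3,0] (.node [1,3,0,2,1,3,3,0,2,0] (.node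 [2,3,2,2,2,0,2,2,0,1,0] .nil .nil) (.node [2,1,3,1,3,0,2,0,1,0] .nil .nil)) (.node [2,1,0,2,3,0,1,3,2,0] (.node [3,0,2,1,0,2,2,0,2,1,0] .nil .nil) (.node [3,2,2,2,1,0,2,2,1,0,2] .nil .nil))) (.node [0,2,0,2,0,2,0,2,3,1] (.node [3,0,2,1,0,2,2,0,2,2,2] (.node [1,3,1,3,3,1,3,2] .nil .nil) (.node [0,2,0,2,2,0,1,3,0] .nil .nil)) (.node [3,1,3,0,2,2,0,2,0,1,3] (.node [2,1,3,1,3,1,3,2] .nil .nil) .nil))) (.node [1,3,2,1,3,0,2] (.node [2,1,0,2,2,0,2,0,1] (.node [0,2,3,1,3,3,1,3,2,1,3] (.node [2,2,0,1,3,3,0,2,0,1,0] .nil .nil) (.node [3,0,2,0,1,3,2,2] .nil .nil)) (.node [2,3,1,0,2,0,2,0,1,3] (.node [2,3,3,2,1,3,1,3,0] .nil .nil) .nil)) (.node [0,1,3,1,3,3,1,3,3] (.node [1,3,0,1,3,1,3,3,2] (.node [2,3,3,0,1,3,3,0,1,3] .nil .nil) (.node [1,0,2,2,0,2,0,2,1] .nil .nil)) (.node [1,0,2,1,0,2,0,2,0] (.node [2,0,1,3,2,1,0,2,0,2,1] .nil .nil) .nil))))) (.node [3,0,1,3,1,3,0,2,0,1,0] (.node [2,0,2,0,2,3,0,2,0,1,0] (.node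 [3,1,3,0,2,1,3,3] (.node [1,3,0,2,1,0,2,3] (.node [1,3,3,1,3,3,2,1,3,1,3,0] (.node [0,2,1,0,2,2,0,2,2] .nil .nil) (.node [0,1,3,1,3,3,0,1,3,1] .nil .nil)) (.node [3,1,0,2,2,1,0,2,3,3] (.node [3,2,1,3,1,3,3,1,3,3] .nil .nil) (.node [3,1,3,0,1,3,0,2,2,0,2] .nil .nil))) (.node [0,2,3,1,3,3,0,1,3,2,0] (.node [3,2,0,2,3,3,2,2,2,0] (.node [2,3,1,3,3,0,2,0,1] .nil .nil) (.node [3,2,0,2,3,1] .nil .nil)) (.node [2,0,2,3,1,0,2,3,1,0] (.node [0,2,2,1,0,2,0,1,0] .nil .nil) .nil))) (.node [0,2,3,3,1,3,2,1,3,1] (.node [3,2,0,2,3,3,1,0,2,3,1] (.node [2,1,3,3,1,3,1,3,0] (.node [0,2,0,2,1,3,2,2,2,1] .nil .nil) (.node [0,2,3,3,0] .nil .nil)) (.node [2,3,2,1,3,1,3,0,1,3,0] (.node [3,0,2,1,3,2,2,0,2,1] .nil .nil) .nil)) (.node [2,2,0,1,3,3,1,3,1,0] (.node [3,2,0,1,3,0,2,1,3,2] (.node [2,3,2,2,0,1,3,3,0,2] .nil .nil) (.node [2,3,2,2,1,0,2,2,2,1] .nil .nil)) (.node [3,1,0,2,3,3,2,2,0,2,2] (.node [3,2,2,0,1,3,2,1,3,2] .nil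 .nil) .nil)))) (.node [0,2,0,2,3,3,2,2,2,1] (.node [1,3,2,0,1,3,2,2] (.node [3,3,0,1,3,1,3,2,0,2,0] (.node [1,3,2,0,2,2,2,0,1,3] (.node [2,0,2,2,0,2,3,0,1,3,1,0] .nil .nil) (.node [2,3,1,3,3,0,1,3,2,2,1] .nil .nil)) (.node [0,1,3,1,3,3,2,1,0,2,2] (.node [3,3,2,1,0,2,1,3,1] .nil .nil) (.node [3,2,2,2,0,1,3,0,2,2,2] .nil .nil))) (.node [1,0,2,0,2,2,0,2,2,1] (.node [0,2,1,0,2,2,2,0,1,3,2] (.node [2,3,2,2,0,1,3,2,1] .nil .nil) (.node [0,1,3,2,0,2,0] .nil .nil)) (.node [1,0,2,2,2,0,2,1] (.node [1,3,3,0,2,1,0,2,1,0] .nil .nil) .nil))) (.node [0,2,1,0,2,1,3,0,1] (.node [3,3,1,0,2,0,2,0,2,1,0] (.node [0,2,3,0,1,3,2,1,3,2] (.node [3,0,2,2,2,0,2,1,3,2] .nil .nil) (.node [3,3,2,1,3,2,1] .nil .nil)) (.node [3,2,0,2,2,0,2,0,1,3] (.node [2,3,3,0,2,0,2,2,2,1] .nil .nil) .nil)) (.node [1,3,1,3,2,1,3,1,3,2,0,1] (.node [2,2,0,2,3,3,2,2,1] (.node [1,3,3,1,3,1,3,3,2,0] .nil .nil) (.node [3,1,0,2,3,1,3,1,3,2] .nil .nil))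 (.node [3,1,3,2,1,3,2] (.node [2,3,2,0,1,3,2,1,3,2] .nil .nil) .nil))))))) (.node [2,1,0,2,2,0,2,2,1,0] (.node [3,1,3,0,2,2,0,2,0,2,0] (.node [3,3,2,1,0,2,0,2,2] (.node [3,2,0,2,1,3,3,1] (.node [0,1,3,3,1,3,0,1,3,1] (.node [3,3,2,0,2,0,1,3,3,2,1,0] (.node [2,1,3,2,2,0,1,3,3] (.node [0,1,3,2,2,2,0,1,3,3,2] .nil .nil) (.node [2,0,2,3,1,3,3,2,2,1] .nil .nil)) (.node [2,3,3,0,2,1,0,2,3] (.node [0,2,2,2,1,0,2,0] .nil .nil) (.node [3,2,0,2,2,2,1] .nil .nil))) (.node [0,2,3,1,0,2,0,2,3,1,0] (.node [2,3,2,0,2,0,2,1,3,2,1] (.node [3,2,0,1,3,0,2,2,1] .nil .nil) (.node [3,2,2,1,0,2,0,2] .nil .nil)) (.node [2,1,3,2,0,1,3,1,3,3] (.node [3,3,0,1,3,3,0,2,2,1] .nil .nil) .nil))) (.node [1,3,0,2,1,3,3,0,2,1] (.node [2,1,3,3,1,3,3,0,2] (.node [2,1,3,0,2,2,2,0,1,3,2] (.node [0,2,0,2,2,0,2,1,3] .nil .nil) (.node [1,3,3,1,3,1,3,2] .nil .nil)) (.node [3,2,1,3,2,0,2,2,0,1,0] (.node [3,1,3,3,2,0,1,3,1] .nil .nil) (.node [2,3,0,2,1,3,3,1,3,2]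 .nil .nil))) (.node [3,2,2,0,1,3,2,2,0,2,3] (.node [3,2,0,2,0,2,3,0,2,0] (.node [3,1,3,3,2,1,3,1,3,1,0] .nil .nil) (.node [0,2,1,3,3,1,3,2] .nil .nil)) (.node [3,0,1,3,3,1,3,1,3,3,0] (.node [1,0,2,3,1,3,1,3,3,0] .nil .nil) .nil)))) (.node [2,3,0,2,1,3,3,0] (.node [3,1,0,2,1,0,2,0,2,3] (.node [2,0,2,1,0,2,2,0,1,0] (.node [2,2,0,2,3,0,2,2,1,0] (.node [3,3,1,3,1,3,3,1,3,3] .nil .nil) (.node [1,0,2,0,2,0,2,3,3,2] .nil .nil)) (.node [2,2,0,1,3,1,3,1,3,2] (.node [3,0,2,2,0,2,1,3,2,2,1] .nil .nil) (.node [0,2,1,3,2,1,3,2,0] .nil .nil))) (.node [0,2,0,2,3,1,3,2] (.node [2,1,3,3,2,2,2,0,1,0] (.node [1,3,2,1,0,2,2,0,2,0] .nil .nil) (.node [0,2,0,2,3,3,1,3,1,0,2] .nil .nil)) (.node [0,1,3,2,1,3,3,1,3,1] (.node [3,1,3,2,1,3,2,0,2,1,0] .nil .nil) .nil))) (.node [3,3,0,1,3,3] (.node [0,1,3,2,1,0,2,1,0,2] (.node [3,3,1,3,3,1,3,1,0,2,3] (.node [2,3,2,0,2,0,1,3,0] .nil .nil) (.node [1,3,3,2,1,3,0,2,0,1] .nil .nil))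 (.node [1,3,3,2,1,0,2,3,1,0] (.node [3,1,0,2,1,0,2,3,1] .nil .nil) .nil)) (.node [1,0,2,3,0,2,0,1] (.node [3,2,2,0,1,3,2,0,2,2,0,2] (.node [2,2,0,2,0,2,1] .nil .nil) (.node [2,1,0,2,3,1,0,2,2] .nil .nil)) (.node [0,1,3,2,1,0,2,0,2,1] (.node [2,1,0,2,3,1,3,3,1] .nil .nil) .nil))))) (.node [2,0,2,1,3,3,2,1,3,2,0,1] (.node [2,0,2,3,3,0,1,3,3,2,1,0] (.node [1,0,2,2,0,1,0] (.node [3,0,1,3,3,2,2,0,1,3] (.node [2,0,1,3,2,2,0,2,0,2,0] (.node [2,3,3,2,0,2,0,2,1,0] .nil .nil) (.node [3,3,0,1,3,0,1,3,0,1] .nil .nil)) (.node [0,1,3,1,3,1,3,2] (.node [3,2,1,3,1,3,1,3] .nil .nil) (.node [2,0,1,3,2,2,1,0,2,1] .nil .nil))) (.node [2,2,2,0,2,1,3,3,1,3,1] (.node [0,2,0,2,0,2,3] (.node [2,1,3,2,2,1,0,2,2] .nil .nil) (.node [1,0,2,1,3,3,0,2,0,1] .nil .nil)) (.node [3,0,1,3,2,1,0,2,2,1] (.node [3,0,2,1,3,3,1,0] .nil .nil) .nil))) (.node [3,0,2,0,1,3,3,2,2] (.node [1,3,2,0,1,3,2,0,1] (.node [3,2,1,3,3,1,3,0,1] (.node [3,0,2,2,1,0,2,3,0,1,3]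 .nil .nil) (.node [0,1,3,3,1,3,0,2,2] .nil .nil)) (.node [2,0,2,2,2,1,0,2,0] (.node [1,3,2,1,0,2,1,0,2] .nil .nil) .nil)) (.node [0,1,3,0,1,3,2,1] (.node [3,2,2,2,0,2,2,0,2,2] (.node [3,3,1,0,2,3] .nil .nil) (.node [2,1,0,2,3,3,1,3,2,1] .nil .nil)) (.node [0,2,1,3,3] (.node [2,3,3,1,3,3,1] .nil .nil) .nil)))) (.node [3,2,1,3,2,1,3,3,1] (.node [3,3,1,3,2,1,3,1,0] (.node [3,2,0,2,3,1,0,2,0] (.node [3,3,1,0,2,1,3,3,0] (.node [1,3,3,2,1,3,0,1,3,0,1] .nil .nil) (.node [3,2,0,1,3,3,1,3,3] .nil .nil)) (.node [2,0,2,0,2,2,1] (.node [3,3,2,0,2,2,2,0,1,3] .nil .nil) (.node [3,2,1,3,2,1,3,2,0,2,0] .nil .nil))) (.node [2,1,3,0,1,3,3,1,3] (.node [3,1,3,3,1,0,2,2] (.node [2,1,3,2,2,0,1,3,0,2] .nil .nil) (.node [3,2,1,0,2,3,1] .nil .nil)) (.node [0,1,3,0,2,1,0,2,3,1,0] (.node [3,3,2,1,3,3,1,3,3] .nil .nil) .nil))) (.node [3,0,2,0,2,0,2,2] (.node [3,1,3,3,0,2,2,0,2,0] (.node [2,0,2,1,0,2,0,2,1] (.node [2,3,2,0,1,3,3,1,3,3,0,1]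 .nil .nil) (.node [3,2,0,1,3,2,2,1,0,2] .nil .nil)) (.node [0,2,3,3,1,3,3,1,3,2,1,0] (.node [1,3,3,2,1,3,2,0,2,2,1] .nil .nil) .nil)) (.node [0,2,3,3,1,3,3,0,2] (.node [1,3,0,2,0,2,1,3,2] (.node [2,3,0,2,0,2,2,0,1,3,2] .nil .nil) (.node [1,0,2,0,2,2,1,0,2,1,0,2,0] .nil .nil)) (.node [3,3,1,3,1,3,3] (.node [2,1,3,1,0,2,3,3,0] .nil .nil) .nil)))))) (.node [3,3,1,3,2,0,2,1,0] (.node [0,2,3,0,2,2,0,2] (.node [2,1,3,3,2,0,2,2,0,1,0] (.node [0,2,3,3,0,2,0,2,1] (.node [0,1,3,0,1,3,3,0,1] (.node [3,1,3,2,2,0,2,1,3,3] (.node [3,0,2,2,2,0,1,3] .nil .nil) (.node [2,3,2,2,0,2,0,1,3,3,2] .nil .nil)) (.node [3,3,2,0,2,2,0,1,3] (.node [1,0,2,1,3,3,2,0,2,0] .nil .nil) (.node [2,0,2,0,1,3,1,3,2,2] .nil .nil))) (.node [3,0,1,3,1,3,3,1,3,3] (.node [0,2,0,2,3,1,3,3,1,3,0] (.node [1,3,3,1,3,3,2,1] .nil .nil) (.node [2,3,1,3,2,0,2,0,2,1] .nil .nil)) (.node [0,2,2,0,2,0,2,1,0] (.node [0,1,3,2,1,3,1,3,2,0] .nil .nil) .nil)))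 (.node [1,3,0,2,2,0,1,3] (.node [2,3,2,2,0,2,0,2,2,0,1] (.node [1,3,0,2,2,1,0,2,0,1,0] (.node [3,3,2,1,0,2,2,2] .nil .nil) (.node [0,1,3,2,1,3,1,3,1,3,0] .nil .nil)) (.node [0,2,3,0,2,1,3,3,1,3,3] (.node [0,1,3,3,1,3,0,2,0] .nil .nil) (.node [3,3,1,3,1,3,2,0,2,0] .nil .nil))) (.node [1,3,3,0,2,1,3,3,1,0] (.node [3,0,1,3,3,0,2,1] (.node [3,3,1,3,2,1,0] .nil .nil) (.node [0,2,0,1,3,1,3,2,2] .nil .nil)) (.node [1,0,2,1,3,1,3,2,2,1,0] (.node [0,1,3,2,1] .nil .nil) .nil)))) (.node [2,0,2,1,3,2,2,2,0,2,1,0] (.node [0,2,1,0,2,1,0,2,0,1] (.node [3,3,1,0,2,1,3,0,1,0] (.node [2,0,2,3,1,3,3,2,2] (.node [0,2,3,3,0,2,1,3,2,1] .nil .nil) (.node [2,3,0,2,1,0,2,2,1] .nil .nil)) (.node [0,2,0,2,3,3,1,3,0] (.node [2,3,1,3,0,1,3,3,1,3] .nil .nil) (.node [3,1,3,3,2,0,2,0] .nil .nil))) (.node [2,3,2,1,3,1,0,2,0,2] (.node [2,1,0,2,1,0,2,2,1] (.node [3,1,3,1,3,0,2,1,3,3,1] .nil .nil) (.node [1,3,0,2,2,2,1] .nil .nil)) (.node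 [0,2,3,0,1,3,0,2] (.node [3,2,1,0,2,3,3,0,2,1] .nil .nil) .nil))) (.node [2,3,0,1,3,3,1,3,3,0,1] (.node [0,1,3,1,3,1,3,0] (.node [3,3,1,3,2,2,1,0] (.node [2,0,2,1,3,1,3,1,3,3] .nil .nil) (.node [3,3,1,3,2,1,0,2,0,2,1] .nil .nil)) (.node [2,3,1,3,0,1,3,3,2] (.node [3,2,1,3,1,3,2,1,3,2] .nil .nil) .nil)) (.node [2,1,0,2,1,3,0,1,3,3,2] (.node [3,2,2,0,2,0,2,2,0,2] (.node [2,3,3,2,0,2,0,2,1,3,2] .nil .nil) (.node [3,0,1,3,1,3,2,0] .nil .nil)) (.node [0,2,3,1,3,1,3,3,0,1] (.node [3,3,1,3,2,0,1,3,0,2] .nil .nil) .nil))))) (.node [2,1,0,2,1,3,3,2,0,2,1,0] (.node [2,3,2,1,3,1,3,3,0,1] (.node [2,0,2,0,2,0,2,2,0,2,1,0] (.node [0,1,3,3,1,3,3,1,3,1,0] (.node [3,2,2,0,2] (.node [3,2,0,2,3,3,1,0] .nil .nil) (.node [2,3,2,2,1,0,2,2,0,2] .nil .nil)) (.node [1,0,2,3,0,1,3,0] (.node [1,3,2,1,0,2,1,0,2,0,2,0] .nil .nil) (.node [1,3,2,2,0,2,1,3,2,2,1,0] .nil .nil))) (.node [0,2,2,0,2,2,2,1] (.node [3,1,3,3,2,1,3,1,3,2,0]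 (.node [0,2,3,0,2,1,3,3,0,2] .nil .nil) (.node [0,2,1,0,2,0,2] .nil .nil)) (.node [2,0,1,3,1,3,3] (.node [0,1,3,3,2,2,0,1,3,1,0] .nil .nil) .nil))) (.node [2,0,2,1,3,2,2,1] (.node [2,0,2,3,3,1,3,2,0,1] (.node [2,0,2,2,0,2,1,0,2,3] (.node [3,1,3,3,0,2,0,1,3,0] .nil .nil) (.node [0,2,0,2,1,0,2,1,0,2] .nil .nil)) (.node [0,2,3,0,2,2,0,2,2,1] (.node [1,3,3,1,0,2,3,3,1,0] .nil .nil) .nil)) (.node [3,3,2,0,1,3,1,3,3] (.node [1,3,2,1,0,2,1,3,3] (.node [2,3,1,3,0,2,1,0] .nil .nil) (.node [3,2,0,2,2,2,1,0,2,2] .nil .nil)) (.node [3,3,0,2,0,2,2,0,2,2,1] (.node [2,2,1,0,2,2,1,0,2,3,1] .nil .nil) .nil)))) (.node [3,2,1,3,0,2,2,0,2,3,1,0] (.node [0,1,3,3,2,1,3,2] (.node [2,0,2,1,3,2] (.node [3,0,2,1,3,0,2,1,3,1] (.node [3,2,2,0,2,1,0,2,2,2] .nil .nil) (.node [2,1,3,1,0,2,3,0,2,0] .nil .nil)) (.node [2,2,0,1,3,2,0,2,3,1] (.node [2,3,2,0,2,2,0,1,3,2,1] .nil .nil) (.node [2,1,3,3,2,1,3,3,1,0,2,0] .nil .nil))) (.node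 [3,1,0,2,1,3,0,2,2,0] (.node [2,2,2,0,2,1,0,2,3] (.node [2,1,3,2,1] .nil .nil) (.node [2,1,3,1,3,2,1,0,2,0] .nil .nil)) (.node [0,2,1,0,2,0,2,1,3] (.node [1,3,2,0,1,3,2,1] .nil .nil) .nil))) (.node [1,3,0] (.node [2,3,2,0,2,1,0,2,2,1,0] (.node [2,3,1,3,2,0,2,1,3,2] (.node [1,3,0,2,1,3,2,1,3] .nil .nil) (.node [3,1,3,1,0,2,2,2,0,2] .nil .nil)) (.node [3,2,1,3,2,2,2,0,1,3] (.node [3,2,1,3,3,2,2,0] .nil .nil) .nil)) (.node [0,1,3,0,2,2,2,1] (.node [3,2,0,2,2,1,0,2,2,2,1] (.node [3,3,1,3,3,2,1,3,1,3,3,2] .nil .nil) (.node [3,1,3,2,0,2,2,2,1] .nil .nil)) (.node [2,3,2,2,0,2,0,2,1,0] (.node [2,0,2,3,1,0,2,3,1] .nil .nil) .nil))))))))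

/-- Part of `setWord`. -/
noncomputable def setWord_l_r_l_l_r : Arr (List ℕ) :=
  (.node [3,2,0,2,3,1,0,2,3,0,2,0] (.node [3,1,3,0,2,2,0,2,3,1,0] (.node [3,1,0,2,1,3,3,1,3,1] (.node [2,0,2,3,3,0,1,3,2,0] (.node [2,2,0,1,3,1,3,1,0] (.node [1,3,2,2,0,2,1,3,0,1] (.node [0,1,3,3,0,2,2,0,1,0] (.node [0,1,3,0,2,1,3,3,2,0] (.node [0,2,0,2,2,0,2,0,2,0] .nil .nil) (.node [0,1,3,3,1,3,1,3,1,0] .nil .nil)) (.node [3,0,1,3,2,2,2,0,2,1] (.node [2,3,3,2,0,2,2,0,1,3] .nil .nil) (.node [1,0,2,0,2,1,0,2,1] .nil .nil))) (.node [3,2,1,3,3,0,2,1,3,0,2] (.node [2,3,0,1,3,0,2,1,3,2,1,0] (.node [1,3,3,0,2,1,0,2,2,1] .nil .nil) (.node [0,2,3,1,3,3,0,2,0,1] .nil .nil)) (.node [3,3,1,3,2,0,1,3] (.node [0,1,3,2,2,0,2,1,3] .nil .nil) .nil))) (.node [3,2,1,3,3,1,3,0,2,2] (.node [0,2,0,1,3,2,1,3,3,2,0] (.node [1,3,2,1,3,3,2,2,0,1,0] (.node [0,2,1,0,2,0,2,0,2,1,0] .nil .nil) (.node [3,1,0,2,0,2,3,3,1] .nil .nil)) (.node [3,3,2,1,3,0,2,1,0]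 (.node [2,1,0,2,2,2,0,2,1,0] .nil .nil) (.node [2,0,2,3,1,0,2,2,2,1] .nil .nil))) (.node [3,2,0,2,1,3,1,3,2,2] (.node [0,2,0,2,0,2,3,0,1] (.node [3,1,3,2,0,2,2,1,0,2,0] .nil .nil) (.node [2,2,0,2,2,0,2,1] .nil .nil)) (.node [3,2,2,2,1,0,2,2,1] (.node [1,3,1,3,1,3,0,2,1,0] .nil .nil) .nil)))) (.node [3,1,0,2,0,2,1,3,0,1] (.node [3,2,2,0,2,3,1,3,2,2,0] (.node [0,2,2,2,0,2,1] (.node [1,3,2,1,3,2,0,2,1,0] (.node [3,1,3,2,1,3,1,3] .nil .nil) (.node [1,3,3,0,2,0,2,1,3,2] .nil .nil)) (.node [1,3,2,2,0,2,3,1,0] (.node [3,1,3,0,2] .nil .nil) (.node [2,3,2,2,0,2,2,2,1] .nil .nil))) (.node [3,3,1,0,2,3,3,1] (.node [1,0,2,1,3,3,2,0] (.node [2,1,0,2,2,1,0,2,0,1] .nil .nil) (.node [3,3,0,2,2,2,0,2,1,3] .nil .nil)) (.node [2,2,0,2,0,1,3,0] (.node [2,3,3,1,3,0,2,1,0,2] .nil .nil) .nil))) (.node [2,1,3,1,3,2,2,0] (.node [3,1,3,1,3,2,0,2,3,1,0] (.node [1,3,2,2,1,0,2,2,0,2,0] (.node [2,3,1,3,2,0,2,1,0,2] .nil .nil) (.node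 [3,3,1,3,3,2,2,0] .nil .nil)) (.node [2,3,1,0,2,3,1,0,2,0] (.node [2,3,1,3,3,0,2,0,2,1] .nil .nil) .nil)) (.node [2,3,1,3,0,2,0,1,3,2,2,0] (.node [3,0,2,1,3,1,3,1,3,0] (.node [0,1,3,1,3,1,3,2,0] .nil .nil) (.node [3,3,1,3,2,2,0,2,2,2,1] .nil .nil)) (.node [2,3,2,1,0,2,3,3,2,1] (.node [0,2,1,0,2,2,2,0,2,0] .nil .nil) .nil))))) (.node [2,0,2,2] (.node [1,0,2,1,3,1,3,2] (.node [3,2,1,3,2,2,2,0,2,1,0] (.node [3,2,1,0,2,0,2,2] (.node [3,2,1,0,2,3,3,2,0,2,0] (.node [3,3,2,0,2,0,2,2,2,1] .nil .nil) (.node [2,3,1,0,2,3,1,3,2,2] .nil .nil)) (.node [2,3,1,3,2,1,3,3] (.node [2,1,3,0,2,2,0,1,3] .nil .nil) (.node [0,1,3,2,1,3,2,2,0] .nil .nil))) (.node [1,3,2,2,2,0,2,2,2,1,0] (.node [1,3,3,1,3,3,1,0,2,1,0] (.node [0,1,3,1,0,2,3,3] .nil .nil) (.node [3,1,0,2,1,0,2,3,1,3] .nil .nil)) (.node [2,3,3,2,2,0,2,0,2,1,0] (.node [2,3,0,2,2,0,2,1,3] .nil .nil) .nil))) (.node [1,3,3,2,0,1,3,2,2,1] (.node [3,1,3,0,1,3,0] (.node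 [2,3,2,0,1,3,0,1,3,3,2] (.node [3,2,2] .nil .nil) (.node [3,1,3,1,3,1,3,1,0] .nil .nil)) (.node [2,2,0,1,3,0,2,2,2,0,2] (.node [2,3,1,3,2,2,2,0] .nil .nil) .nil)) (.node [3,2,0,2,2,2,0,1,3,0] (.node [0,1,3,3,1,3,2,1] (.node [3,2,2,0,1,3,2,0,1] .nil .nil) (.node [3,0,2,1,3,3,0,2,0,1] .nil .nil)) (.node [0,2,1,0,2,3,0,2] (.node [1,0,2,1,3,3,2,2,0,1,3] .nil .nil) .nil)))) (.node [0,2,2,0,2,0,1,3,0,2,0] (.node [2,2,0,1,3,3,2,0] (.node [0,1,3,3,1,3,0,1,3,0,1] (.node [0,1,3,0,1,3,2,1,3,2] (.node [3,3,0,1,3,3,1,3,0] .nil .nil) (.node [2,0,2,0,2,3,3,1,3,2,1] .nil .nil)) (.node [2,2,0,2,2,0,2,2,2,1] (.node [3,1,0,2,1,3,1] .nil .nil) (.node [2,3,3,0,2,2,0,2,1] .nil .nil))) (.node [3,0,1,3,2,1,3,3] (.node [3,1,3,2,1,3] (.node [3,0,2,1,3,2,0,1,3,2] .nil .nil) (.node [3,3,0,2,2,2,1] .nil .nil)) (.node [1,0,2,1,3,0,2,1,0] (.node [1,3,1,3,0,2,2] .nil .nil) .nil))) (.node [2,3,0,1,3,0,1,3,2,1] (.node [0,2,3,0,1,3,3,0,2,2,0]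 (.node [1,3,3,1,3,0,2,2,0,2] (.node [3,1,3,2,0,2,3,3,2,0] .nil .nil) (.node [2,1,3,2,2,0,2,2,0,2] .nil .nil)) (.node [3,1,3,3,0,1,3,3,1] (.node [2,0,2,2,1,0,2,3,3,0] .nil .nil) .nil)) (.node [1,0,2,0,2,2,1,0,2,3,1] (.node [3,2,0,2,3,1,0,2,1,0] (.node [3,0,1,3,3,1,3,0,2] .nil .nil) (.node [3,3,0,2,1,0,2,0] .nil .nil)) (.node [2,3,0,2,1,3,2,0,2,1] (.node [2,2,2,0,2,1,3,3,1] .nil .nil) .nil)))))) (.node [1,3,1,3,3,0,2,1,3,0,1] (.node [2,3,3,0,2,1,0,2] (.node [0,2,3,1,0,2,3,0,2,0] (.node [2,3,1,3,0,1,3,2,1,3] (.node [1,3,3,1,3,1,3,3,2] (.node [3,2,2,1,0,2,2,0,2,0] (.node [1,3,0,1,3,3,0,1,3] .nil .nil) (.node [1,0,2,3,3,1,3,3,1] .nil .nil)) (.node [1,0,2,1,3,0,2,2,0,2,2] (.node [2,1,0,2,1,3,1,0,2,0] .nil .nil) (.node [2,3,0,2,2,2,0,2,1,3] .nil .nil))) (.node [1,3,1,3,1,3,2,2,2,1] (.node [1,3,0,2,0,1,3,2,2,0,2] (.node [3,1,0,2,2,2,0,1,3] .nil .nil) (.node [3,3,2,0,2,0,2,0,1,3,2] .nil .nil)) (.node [3,2,2,1,0,2,3,0,2,2]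 (.node [2,3,1,3,0,2,2,2] .nil .nil) .nil))) (.node [0,1,3,3,2,1,0,2,2,1] (.node [2,3,3,2,1,0,2,1,0] (.node [2,1,3,3,2,1,3,2,1] (.node [1,3,2,1,0,2] .nil .nil) (.node [2,2,0,1,3,3,0,2,2,1] .nil .nil)) (.node [1,3,2,2,0,1,3,2,2,1] (.node [0,2,3,0,2,1,3,3,1,0] .nil .nil) (.node [2,3,2,1,3,0,2,1,0,2,0] .nil .nil))) (.node [3,2,1,3,2,1,3,2,0,2,1,0] (.node [0,1,3,2,1,0,2,2,2] (.node [0,2,1,3,2,1,3,2,2,2] .nil .nil) (.node [1,0,2,2,0,2,3,0,1,0] .nil .nil)) (.node [1,3,1,0,2,3,0,2,1] (.node [2,3,3,0,1,3,2,2,0] .nil .nil) .nil)))) (.node [2,2,1,0,2,1,3,3,0] (.node [2,3,2,0,1,3,3] (.node [2,1,3,2,0,1,3,3,1,3,0] (.node [3,2,1,0,2,0,2,3,1] (.node [3,3,0,2,1,3,2,2,1] .nil .nil) (.node [3,0,2,1,0,2,2,0,1] .nil .nil)) (.node [2,1,0,2,1,3,0,1,3,1,0] (.node [2,3,3,1,0,2,2,0,2,2,1] .nil .nil) (.node [0,1,3,0,2,1,0] .nil .nil))) (.node [1,3,3,0,1,3,3,2,2] (.node [3,3,0,2,1,3,0,2] (.node [2,0,1,3,1,3,3,0] .nil .nil) (.node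 [2,1,3,1,3,1,0,2,1,3] .nil .nil)) (.node [0,1,3,0,1,3,0,1,3,3,0] (.node [0,2,3,1,3,2,1,3,3,0] .nil .nil) .nil))) (.node [3,3,1,0,2,1,3,0,1,3,0] (.node [1,3,3,2,0,2,1,3,2,2,1] (.node [2,0,2,3,1,0] (.node [1,3,0,2,0,2,3,3,2,2] .nil .nil) (.node [2,2,2,0,1,3,3,0,2,2] .nil .nil)) (.node [1,3,3,0,2,0,2,2] (.node [3,1,0,2,0,2,2,0,2,1] .nil .nil) .nil)) (.node [0,2,3,3,0,2,0,1] (.node [0,2,1,3,1,3,3,2,2] (.node [0,2,1,0,2,1,0,2,0,2] .nil .nil) (.node [0,1,3,2,2,1,0,2,3,3,0] .nil .nil)) (.node [2,3,2,1,3,0,1,3,1] (.node [0,1,3,1,3,3] .nil .nil) .nil))))) (.node [0,2,3,0,1,3,3,2,1] (.node [0,1,3,2,1,3,2,0,2,1] (.node [2,0,2,1,3,1,3,2,0,2,0] (.node [1,3,1,0,2,3,3,0] (.node [3,3,0,2,1,3,2,0] (.node [2,1,3,1,3,1,3,1,3] .nil .nil) (.node [1,3,1,3,0,1,3,1,3,0] .nil .nil)) (.node [3,2,1,0,2,2,0,2,2,2] (.node [3,2,0,2,3,1,0,2,0,2] .nil .nil) (.node [1,3,3,2,2,2,0,2,2,2,1] .nil .nil))) (.node [2,3,1,3,0,1,3,3,0,1] (.node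 [2,2,0,2,2,0,2,3,3,2,2,1] (.node [1,0,2,0,2,3,3,2,2,1] .nil .nil) (.node [2,1,0,2,3,1,3,3,1,3,0] .nil .nil)) (.node [1,3,0,2,2,2,0,1,3,2,0] (.node [2,0,1,3,3,2,1,3,2] .nil .nil) .nil))) (.node [2,1,3,1,3,2,0,2,1,3,0] (.node [2,2,1] (.node [2,0,1,3,0,2,1,3,2,1,0] (.node [3,2,0,2,3,3,0,2,1,3] .nil .nil) (.node [2,0,1,3,3,0,2,0,1] .nil .nil)) (.node [1,0,2,0,2,3,0,2,0] (.node [0,2,0,2,0,1] .nil .nil) .nil)) (.node [3,1,3,0,2,2,1,0] (.node [3,2,0,2,3,0,2,0,1,3,2,1] (.node [1,0,2,3,1,3,0] .nil .nil) (.node [3,2,2,0,2,2,2,1] .nil .nil)) (.node [2,3,0,2,2,2,1,0,2,0,2,2] (.node [3,1,3,3,0,2,0,1,3,2,0] .nil .nil) .nil)))) (.node [2,2,0,2,2,0,2,3,3,0,2,0] (.node [1,3,2,0,2,2,0,2,2] (.node [1,0,2,3,0,1,3,1,3,3] (.node [3,0,2,0,2,3,1,3,3,2] (.node [2,3,0,2,2,0,2] .nil .nil) (.node [1,3,2,2,1,0,2,0,2,3,1] .nil .nil)) (.node [1,0,2,0,1,3,2,2,0] (.node [1,3,2,2,1,0,2,3,0,2] .nil .nil) (.node [1,0,2,1,3,0,2,1,0,2,0]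 .nil .nil))) (.node [2,3,3,1,3,1,3,1,3] (.node [2,3,1,3,3,1,3,2,1] (.node [2,0,2,3,0,2,2,0,2,1] .nil .nil) (.node [3,3,2,2,0,2,1,0,2,0] .nil .nil)) (.node [1,0,2,0,2,0,2,2,0,1] (.node [0,2,3,3,0,2,0,2,2,2,1] .nil .nil) .nil))) (.node [3,3,2,0,2,2,0,2] (.node [1,3,3,2,1,3,1,3,1,3] (.node [3,3,2,2,2,1,0,2,0,2,1,0] (.node [1,0,2,1,3,1,3,1,3,0] .nil .nil) (.node [1,0,2,1,3,1,3,1,3,0,1] .nil .nil)) (.node [2,3,1,3,2,2,1,0,2,3] (.node [0,2,1,3,1,3,1,3,1,0] .nil .nil) .nil)) (.node [0,1,3,0,2,1,0,2,2,2,1] (.node [1,0,2,3,1,3,3,0,1,3] (.node [2,0,2,0,2,2,1,0] .nil .nil) (.node [3,3,1,0,2,3,1,0,2,2] .nil .nil)) (.node [3,1,3,0,2,1,0,2,3,0,1,0] (.node [2,3,0,2,2,0,2,3] .nil .nil) .nil))))))) (.node [2,2,2,0,2,0,2,2] (.node [3,3,0,1,3,1,3,0,2] (.node [3,3,2,1,3,2,2,1] (.node [1,0,2,3,3,2,0,2,1,0] (.node [3,0,2,1,0,2,2,1,0] (.node [0,1,3,3,2,2] (.node [2,3,1,3,2,2,1,0,2,2] (.node [2,3,3,2,1,3,3,2,2,0] .nil .nil)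 (.node [3,3,0,1,3,0,2,2,1] .nil .nil)) (.node [3,3,0,1,3,3,2,0,2,0,1] (.node [2,1,0,2,2,1,0,2,1,0,2,0] .nil .nil) (.node [2,3,1,0,2,1,3,0,2,2] .nil .nil))) (.node [2,3,3,2,2,0,2,2] (.node [2,1,3,1,3,2,0,2,1,0] (.node [3,0,1,3,1,3,1,3,3,1] .nil .nil) (.node [0,1,3,3,2,0,2,0,2,3] .nil .nil)) (.node [3,3,2,2,2,0] (.node [3,2,0,1,3,0,2,1] .nil .nil) .nil))) (.node [3,3,0,2,1,3,3,2,2] (.node [3,2,0,2,0,2,2,2,1] (.node [0,2,3,3,1,3,1] (.node [1,0,2,0,2,3,0,1,3,0] .nil .nil) (.node [1,3,0,2,0,2,0,2,0,1,3] .nil .nil)) (.node [3,1,3,2,2,0,1,3,3] (.node [2,3,3,2,2,0,2,2,1] .nil .nil) (.node [2,2,0,2,3,0,2,1,3] .nil .nil))) (.node [2,0,2,2,0,2,1,3,0] (.node [3,1,3,3,2,2,1,0] (.node [0,2,3,0,2,0,2,2,1,0] .nil .nil) (.node [2,3,0,2,2,2,1,0,2,2] .nil .nil)) (.node [2,1,3,2,1,3,1,3,2,2,0] (.node [0,1,3,2,1,3,3,0,2,0] .nil .nil) .nil)))) (.node [2,0,2,3,3,1,0,2,1,3] (.node [3,3,0,2,2,0,2,0,2,1,3,2] (.node [3,3,1,3,3,2,1,0,2,3]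 (.node [1,3,3,1,3,0,1,3,0] (.node [3,0,2,1,3,2,1,3,2] .nil .nil) (.node [2,2,0,2,3,1,3,0] .nil .nil)) (.node [3,1,3,2,0,2,0,1,3,2] (.node [3,1,3,2,0,2,1,3,3,2,0] .nil .nil) (.node [2,1,3,2,2,0,2,2,2,1] .nil .nil))) (.node [2,0,1,3,3,2,2,0,1,3] (.node [0,2,0,2,0,1,3] (.node [3,1,3,3,1,3,2] .nil .nil) (.node [0,2,2,0,2,3,3,0,2,2,1,0] .nil .nil)) (.node [3,0,2,0,1,3,1,3,3,2] (.node [1,0,2,0,2,3,1,3,3,2] .nil .nil) .nil))) (.node [2,2,0,2,3,1,0,2,2,0] (.node [1,3,3,2,0,1,3,2,1] (.node [3,1,3,3,2,0,1,3,3,0] (.node [2,2,1,0,2,3,0,1,3] .nil .nil) (.node [3,0,2,0,2,0,2,3,1] .nil .nil)) (.node [0,1,3,3,2,0,2,1,0,2,3] (.node [0,2,3,3,1,3,0,2] .nil .nil) .nil)) (.node [1,0,2,0,2,0,1,0] (.node [2,0,2,1,3,2,1,3,1] (.node [2,3,0,2,1,3,0,2,0] .nil .nil) (.node [2,1,0,2,0,2,1,0,2,0] .nil .nil)) (.node [0,2,1,0,2,0,2,2,2,1,0] (.node [1,3,3,2,0,2,1,3,1,0] .nil .nil) .nil))))) (.node [2,1,3,1,3,3,0,2,0,1,0] (.node [0,1,3,2,0,1,3]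 (.node [2,1,3,2,2,0,1,3] (.node [3,1,3,1,3,0,2,0,1] (.node [2,3,3,1,3,3,1,0] (.node [0,1,3,2,1,3,3,0,1,0] .nil .nil) (.node [1,0,2,1,0,2,0,2,2,0,1] .nil .nil)) (.node [2,0,2,3,0,2,1] (.node [1,3,3,1,3,2,2,1] .nil .nil) (.node [1,3,1,3,3,1,3,2,2,0,2,0] .nil .nil))) (.node [2,0,1,3,3,1] (.node [2,1,0,2,0,2,1,3,0,1,0] (.node [0,1,3,1,3,3,2,2] .nil .nil) (.node [1,3,3,2,1,0,2,3,1] .nil .nil)) (.node [1,3,2,2,2,0,1,3,2,0] (.node [3,2,1,0,2,1,0,2] .nil .nil) .nil))) (.node [3,3,2,1,0,2,0,1] (.node [3,2,1,0,2,0,2] (.node [2,0,2,2,1,0,2,3] (.node [3,3,2,1,3,3,2,2] .nil .nil) (.node [1,3,1,3,1,3,3,0,2,1] .nil .nil)) (.node [2,1,0,2,2,0,2,3,1] (.node [1,0,2,3,1,0,2,0,2] .nil .nil) .nil)) (.node [0,2,3,3,2,1,0,2,1,3] (.node [2,2,1,0,2,1,0,2,3,3,1,0] (.node [0,2,3,3,1,3,2,0,2,2,2,1] .nil .nil) (.node [1,3,3,0,1,3,2,2,2] .nil .nil)) (.node [3,1,3,2,0,1,3] (.node [3,1,0,2,1,3,3,2,2,2,0] .nil .nil) .nil)))) (.node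 [0,2,1,3,3,1,3,3,2,2,0] (.node [2,0,2,1,0,2,1,0,2,0] (.node [3,2,1,3,1,0,2,3,3,0] (.node [2,3,3,2,1,3,3,2,2,1] (.node [1,3,1,3,3,0,2,0,1,0] .nil .nil) (.node [3,0,2,1,0,2,2,2] .nil .nil)) (.node [3,3,0,2,0,2,0,2,2,0,1] (.node [2,3,1,3,2,1,3] .nil .nil) (.node [2,2,2,0,2,2,2,1] .nil .nil))) (.node [2,2,2,0,2,2,0,1,3] (.node [0,2,0,2,0,2,0,2,1] (.node [1,3,2,1,3,3,1,0] .nil .nil) (.node [3,3,1,3,1,3,1,3,0,2,0] .nil .nil)) (.node [0,2,3,3,2,0,2,1,3,2,1] (.node [1,3,3,0,1,3,3,0,2] .nil .nil) .nil))) (.node [2,1,3,2,1,3,1,3,2] (.node [0,2,2,0,2,2,2,0,2] (.node [3,2,0,1,3,2,0,2,3] (.node [3,1,3,1,3,3,0,2,0,1] .nil .nil) (.node [3,0,2,1,3,1,3,0,2] .nil .nil)) (.node [1,3,3,0,2,1,0,2,3] (.node [2,3,1,0,2,3,0,2,2] .nil .nil) .nil)) (.node [2,0,2,3,1,0,2,2,1] (.node [1,3,2,0,2,2,1,0,2,0] (.node [3,2,1,3,0,2,2,0,1,0] .nil .nil) (.node [3,0,2,1,0,2,0,2,2,0,2,1,0] .nil .nil)) (.node [0,1,3,1,3,2,1,3,1,0] (.node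 [2,0,2,1,0,2,3,3,1,0] .nil .nil) .nil)))))) (.node [3,3,2,1,0,2,3,3,1] (.node [2,0,1,3,3,0,1,3,1,0] (.node [2,3,2,0,1,3,2,0,2,0,2,2] (.node [0,2,1,3,2,0,1,3] (.node [3,3,2,0,2,0,2,2] (.node [2,2,2,0,2,2,0,2,0,1] (.node [2,2,1,0,2,2] .nil .nil) (.node [0,2,1,3,3,1,3,3,1,3,0] .nil .nil)) (.node [2,2,0,1,3,2,0,2,2,0,1] (.node [2,3,1,3,0,2,2,1,0] .nil .nil) (.node [2,3,1,0,2,3,1,3,3,1,3,0] .nil .nil))) (.node [3,0,2,0,2,1,0] (.node [0,2,3,3,0,1,3,2,2,1,0] (.node [0,2,1,0,2,3,0,1,3,2,0] .nil .nil) (.node [2,3,2,1,0,2,0,2,3,1,0] .nil .nil)) (.node [1,0,2,1,3,3,0,1,3,2,1] (.node [1,3,3,2,1,3,2,1,3,2] .nil .nil) .nil))) (.node [3,0,2,0,2,3,1,3,0,2] (.node [3,1,3,2,0,1,3,0,2] (.node [1,3,2,0,2,0,2,2,0,2] (.node [3,1,3,2,2,0,1,3,1] .nil .nil) (.node [0,1,3,2,0,2,0,2,3,1,0] .nil .nil)) (.node [1,3,0,1,3,1,3,3,1,3,1] (.node [2,2,0,1,3,2,0,2,0,2,2] .nil .nil) (.node [0,2,3,1,3,2,0,2,3,0,1,0] .nil .nil))) (.node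 [0,2,1,3,3,0,2,0,1,0] (.node [2,1,3,3,0,2,2,2,1,0] (.node [2,3,3,0,2,1,3,3] .nil .nil) (.node [0,2,1,0,2,1,3,3,0] .nil .nil)) (.node [3,0,1,3,0,1,3,0,1,3,0] (.node [3,0,2,0,2,3,0,2,2,1,0] .nil .nil) .nil)))) (.node [0,1,3,0,2,2,0,2,2] (.node [1,3,3,1,3,3,1,3,3] (.node [3,3,1,3,2,2,0,2,0,2,1,0] (.node [3,0,2,1,3,0,2,0,1,3,0] (.node [3,3,0,2,0,1,3] .nil .nil) (.node [1,3,3,1,3,2,2,0,2,1,0] .nil .nil)) (.node [3,0,2,1,3,1,3,2] (.node [3,2,2,1,0,2,1,3,3] .nil .nil) (.node [3,1,3,2,2,1,0,2,2,2,1] .nil .nil))) (.node [3,1,0,2,3,0,2,1,0,2,0] (.node [3,2,0,2,0,2,0,2,0,1,3] (.node [1,3,3,2,2,1,0,2,0,2,0] .nil .nil) (.node [3,2,2,1,0,2,2,2,1] .nil .nil)) (.node [0,2,2,0,2,3,3,0,1,0] (.node [3,2,0,1,3,3,0,1] .nil .nil) .nil))) (.node [2,0,2,0,2,0,2,0,2,1,0] (.node [2,0,2,2,0,2,3,3] (.node [2,3,0,2,0,2,3,1,0] (.node [2,3,2,1,3,3,1] .nil .nil) (.node [3,3,1,3,3,0,2,2] .nil .nil)) (.node [3,0,1,3,2,2,2,0,1,3,3,2]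 (.node [3,0,2,1,0] .nil .nil) .nil)) (.node [3,1,0,2,2,0,2,2] (.node [2,3,3,2,1,0,2,1,3,1] (.node [2,3,1,0,2,1,3,0,1] .nil .nil) (.node [3,0,2,2,2,1,0,2,0,2,1,0] .nil .nil)) (.node [1,3,2,0,2,3,1,3,3,1,0] (.node [3,0,2,1,3,3,0,1,3,1,3,0] .nil .nil) .nil))))) (.node [2,2,2,0,1,0] (.node [2,3,2,2,2,0,2,0,2,1,0] (.node [2,3,3,1,3,3,1,3,2,0] (.node [3,2,2,1,0,2,0,2,0,2,0] (.node [3,3,1,3,3,2,0,2,0,1] (.node [2,3,0,2,0,1,3,3,2,1,0] .nil .nil) (.node [1,0,2,3,3,1,3,3,0,1] .nil .nil)) (.node [3,1,3,2,0,2,2,0,2,3,1] (.node [0,2,0,2,2,0,2,2,2] .nil .nil) (.node [3,1,3,2,0,1,3,1,3,2,0] .nil .nil))) (.node [2,0,2,2,0,2,1,3,0,1] (.node [1,0,2,3,3,1,0,2,3,0,2] (.node [2,1,0,2,2,0,2,0,2,1,0] .nil .nil) (.node [2,2,1,0,2,0,2,1,0,2,0] .nil .nil)) (.node [3,1,0,2,3,3,1,0] (.node [3,1,3,0,2,2,0,2,3] .nil .nil) .nil))) (.node [3,1,0,2,0,2,3,3,2] (.node [3,0,1,3,3,2,2,0,2,1] (.node [0,2,2,1,0,2,2,1,0,2] (.node [1,0,2,1,3,0,1,3,3,2]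 .nil .nil) (.node [1,3,2,0,2,2,0,2,0] .nil .nil)) (.node [2,1,0,2,1,3,1,3,2,2] (.node [3,0,2,1,3,2,2,1,0,2] .nil .nil) .nil)) (.node [2,2,0,2,3,0,1,3,3,2,2] (.node [0,2,1,0,2,2,0,2,0] (.node [3,2,1,3,2,1,3,2,1,0] .nil .nil) (.node [1,3,2,2,0,2,3,1] .nil .nil)) (.node [0,2,1,3,2,2,0,2,0,1] (.node [3,1,3,2,0,2,0,2,1,3] .nil .nil) .nil)))) (.node [2,0,2,2,0,2,0] (.node [2,1,0,2,0,2,0,1] (.node [3,0,2,2,1,0,2,0,2,1] (.node [1,3,2,1,3,2,2,1,0,2] (.node [2,2,0,2,2,0,2,1,0,2,3] .nil .nil) (.node [2,2,0,2,3,3,0,2,1] .nil .nil)) (.node [2,0,1,3,0,2,1,3] (.node [2,0,1,3,1,3,3,2,2,1] .nil .nil) (.node [1,0,2,0,2,1,0,2,0] .nil .nil))) (.node [2,3,3,0,2,2,2,0,1,0] (.node [0,2,2,0,1,3,2,0,2,1,0] (.node [3,3,0,2,1,3,2,1] .nil .nil) (.node [3,1,0,2,0] .nil .nil)) (.node [2,1,3,1,3,2,0,1,0] (.node [2,2,0,2,2,2,1,0,2,0] .nil .nil) .nil))) (.node [3,3,2,0,1,3,0] (.node [0,2,1,0,2,1] (.node [3,1,3,3,1,3,2,1,3,1] (.node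 [1,0,2,2,2,1,0,2,2,2] .nil .nil) (.node [3,2,0,2,0,1,3,0,2,0,1] .nil .nil)) (.node [3,3,1,0,2,2,0,2,2,2] (.node [0,2,2,0,2,3,1] .nil .nil) .nil)) (.node [0,1,3,0,2,0,2,0,2,0,1] (.node [0,2,1,3,1,0,2,3,0,1,0] (.node [0,2,0,2,0,1,3,0] .nil .nil) (.node [3,2,1,3,3,1,3,0,2,0] .nil .nil)) (.node [3,0,2,1,3,0,2,0,2,2] (.node [1,0,2,3,1,3,2,1,0] .nil .nil) .nil))))))))

/-- Part of `setWord`. -/
noncomputable def setWord_l_r_l_l : Arr (List ℕ) :=
  .node [2,2,0,2,0,2,3,1,0] setWord_l_r_l_l_l setWord_l_r_l_l_r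

/-- Part of `setWord`. -/
noncomputable def setWord_l_r_l_r_l : Arr (List ℕ) :=
  (.node [3,3,2,0,2,0,1] (.node [1,3,2,1,0,2,1,3,1] (.node [0,1,3,3,1,3,3,1,0] (.node [3,2,0,2,0,1,3,3,2,2] (.node [3,2,2,1,0,2,0,2,0] (.node [3,1,3,0,2,2,1,0,2,0,1] (.node [2,2,2,0,1,3,3] (.node [3,3,2,1,3,2,0,1,3,3] (.node [2,0,1,3,2,2,1,0,2,2,1] .nil .nil) (.node [1,3,1,3,1,3,0,2,2,1,0] .nil .nil)) (.node [2,3,1,0,2,3,3] (.node [3,3,2,1,3,3,0,2,2,1,0] .nil .nil) (.node [0,2,1,0,2,0,2,2,0,2,1,0] .nil .nil))) (.node [2,0,2,3,3,0,2] (.node [0,2,1,3,3,1,3,1,3,1,0] (.node [0,2,0,2,3,1,3,1,0,2,1] .nil .nil) (.node [0,1,3,0,2,0,1,3,2,2,0] .nil .nil)) (.node [3,3,2,1,0,2,3] (.node [3,0,2,0,2,1,3,3,1,0] .nil .nil) .nil))) (.node [0,1,3,2,1,3,2,0,1,3] (.node [3,2,0,2,0,2,1,3] (.node [1,3,3,1,3,3,2,1,0] (.node [3,1,3,3,1,3,0,2,2] .nil .nil) (.node [2,3,1,3,3,0,1,3,1] .nil .nil)) (.node [0,1,3,2,2,1,0,2,2,2] (.node [2,1,0,2,0,2,2,1,0]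 .nil .nil) (.node [2,0,2,0,2,2,1,0,2,3,3] .nil .nil))) (.node [0,2,3,1,0,2,3,0,2,2,0] (.node [0,1,3,1,3,0,2,2,0,2] (.node [2,3,2,1,3,2,2,2] .nil .nil) (.node [2,2,2,0,2,1,3] .nil .nil)) (.node [3,3,1,3,3,2,0,1,3,3,0] (.node [0,2,1,0,2] .nil .nil) .nil)))) (.node [1,3,2,0,2,2,1] (.node [2,3,3,1,3,2,1,0,2] (.node [2,1,3,1,3,0,2,2] (.node [2,3,2,2,1,0,2,0,2] (.node [3,3,1,3,3,2,0,1,3,2,0] .nil .nil) (.node [3,3,1,3,0,1,3,1,0] .nil .nil)) (.node [1,0,2,1,3,1,3,0,1] (.node [3,2,1,3,2,1,3,2,0] .nil .nil) (.node [2,2,0,1,3,0,2,2,2] .nil .nil))) (.node [1,0,2,2,2,0,2,0,2,3] (.node [3,2,1,0,2,1,3,1,3,2,2] (.node [1,3,1,3,3,0,2,1,3,3] .nil .nil) (.node [2,0,1,3,2,0,1,3,3,1,3,0] .nil .nil)) (.node [3,2,2,0,1,3,2,1,3,1,3] (.node [0,1,3,3,1,3,0,1,3,0,2] .nil .nil) .nil))) (.node [1,3,3,1,3,1,3,2,0,1,0] (.node [3,0,2,0,2,3,3,1,3,1,0] (.node [2,3,3,0,2,0,2,1,3,2] (.node [3,1,3,2,0,2,3,1,3,3,1] .nil .nil) (.node [3,1,3,0,1,3,3,1,3,0,1]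 .nil .nil)) (.node [3,3,0,2,0,2,2] (.node [1,0,2,3,0,2,1,3,3,2,2,0] .nil .nil) .nil)) (.node [0,2,2,2,1,0,2,1,3] (.node [3,0,2,2,0,2,2,0,2,0] (.node [3,1,3,3,1,3,1,0,2,3] .nil .nil) (.node [3,2,1,0,2,3,1,0,2,2] .nil .nil)) (.node [3,0,2,2,0,1,3,2,0,1] (.node [3,3,2,1,0,2,0,2,3,1,0] .nil .nil) .nil))))) (.node [2,1,3,1,3,3,1,0,2,3,1,0] (.node [3,1,3,2,2,1,0,2,2,2] (.node [3,0,2,1,3,1,0,2] (.node [3,3,0,2,2,1,0,2,3,1,0] (.node [2,2,0,2,3,0,2,1] (.node [2,0,2,0,1,3,3,2,2,2,0] .nil .nil) (.node [3,0,2,0,2,1,3,2,0] .nil .nil)) (.node [2,2,0,1,3,3,2,2] (.node [3,3,0,1,3,2,1,0,2,0] .nil .nil) (.node [2,1,0,2,0] .nil .nil))) (.node [3,3,2,1,0,2,2,0,2,1,0] (.node [2,0,2,2,1,0,2,1,0] (.node [3,1,0,2,0,2,3,1,0] .nil .nil) (.node [1,3,2,0,1,3,0,2,1,3,1] .nil .nil)) (.node [1,3,2,0,1,3,2,2,2,0] (.node [3,3,0,1,3,2,0,2,1,3] .nil .nil) .nil))) (.node [2,1,3,3,0,1,3,2,2,2,0] (.node [0,2,1,3,0,2,2,2,0,1,3,2] (.node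 [0,1,3,2,0,2,0,2,0,1] (.node [2,0,2,2,1,0,2,1,3,3,0] .nil .nil) (.node [0,1,3,3,1] .nil .nil)) (.node [3,3,1,0,2,1,3,3] (.node [1,3,0,2,1,3,3,1,0] .nil .nil) .nil)) (.node [2,2,1,0,2,3,1,0,2,3,3] (.node [3,1,0,2,2,2,0,1] (.node [0,1,3,2,0,2,1,0] .nil .nil) (.node [0,2,3,3,1,0,2,2,1] .nil .nil)) (.node [0,2,2,0,2,3,1,3,2,2,0] (.node [1,0,2,2,0,2,1,3,0] .nil .nil) .nil)))) (.node [0,2,3,3,2,1,3,2,1,3,0,1] (.node [3,0,2,0,2,2,0,2,0,1] (.node [2,3,3,1,3,1,3,2,2,2] (.node [0,1,3,1,3,0,2,1] (.node [2,1,3,2,2,0,1,3,2] .nil .nil) (.node [2,3,2,0,2,2,1,0,2,2] .nil .nil)) (.node [2,3,1,3,3,0,1,3,3,0] (.node [0,1,3,1,3,2,2,2] .nil .nil) (.node [2,0,2,0,2,2,0,2,1,0] .nil .nil))) (.node [2,2,0,1,3,2,1,3,2] (.node [3,2,0,2,1,0,2,2] (.node [2,1,3,2,2,0,1,3,2,1] .nil .nil) (.node [2,2,1,0,2,3,0,2,1,3] .nil .nil)) (.node [0,2,3,1,3,1,3,2,2,0,2] (.node [2,0,2,1,3,3,0,2,2,2,1,0] .nil .nil) .nil))) (.node [1,0,2,3,3] (.node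 [0,2,1,3,3,1,3,3,0] (.node [0,1,3,3,2,1,0,2] (.node [0,1,3,0,2,2,0,1,3] .nil .nil) (.node [3,3,0,2,1,0,2,2,0,2,2] .nil .nil)) (.node [3,2,0,1,3,2,2,0,1,0] (.node [2,0,2,3,3,2,0,1,3,0] .nil .nil) .nil)) (.node [0,2,1,3,0,2,1,3] (.node [3,3,0,1,3,2,1,3,3,2,0] (.node [1,3,3,1,0,2,3,3,0,2,1,0] .nil .nil) (.node [3,2,2,2,0,2,2,0,2,1] .nil .nil)) (.node [3,3,0,2,1,0,2,3,0,1,0] (.node [0,2,1,0,2,3,1,3,3,1] .nil .nil) .nil)))))) (.node [2,1,0,2,2,1,0,2,2,1] (.node [0,1,3,3,0,1,3,2,1] (.node [1,3,3,0,1,3,1,0] (.node [0,1,3,2,1,3,3,0,2,2,0] (.node [2,2,0,2,2,1,0,2,0] (.node [1,3,2,2,2,0,2,0,1,0] (.node [1,3,3,2,1,3,1,0] .nil .nil) (.node [3,0,2,2,2,0,1,3,2] .nil .nil)) (.node [2,0,2,3,1,3,3,0] (.node [1,3,0,2,0,2,0,1,3,2] .nil .nil) (.node [3,1,3,1,3,3,1,0,2,0] .nil .nil))) (.node [3,1,3,0,2,2,2] (.node [3,3,2,1,3,3,1,3,1,3,0] (.node [0,1,3,2,1,3,3,2,2,0] .nil .nil) (.node [2,1,3,0,2,2,1,0,2,2,1] .nil .nil))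 (.node [3,2,2,1,0,2,2] (.node [0,2,3,0,2,2] .nil .nil) .nil))) (.node [2,3,1,0,2,0,1,3,2,0] (.node [3,2,1,0,2,3,3,1] (.node [0,2,0,2,0,2,1] (.node [0,1,3,3,0,1,3,2,2,0] .nil .nil) (.node [3,0,2,2,2,0,2,1,0] .nil .nil)) (.node [3,3,1,3,0,1] (.node [2,3,2,0,2,2,0,1,3,0,2] .nil .nil) (.node [1,3,2,1,3,2,2,0,2,0] .nil .nil))) (.node [3,3,2,0,1,3,3,1] (.node [0,2,1,0,2,2,2,0,2,0,1] (.node [3,3,1,3,1,3,1,3,3,2] .nil .nil) (.node [2,2,0,2,1,3,3,0,2,0,1] .nil .nil)) (.node [2,3,2,1,3,3,1,0,2,2] (.node [1,3,3,1,3,2,1,0] .nil .nil) .nil)))) (.node [2,1,0,2,3,0,1,3,1] (.node [3,2,0,2,3,0,1,0] (.node [1,3,2,1,3,3,2,1,0,2] (.node [2,1,0,2,3,1,3,3,2,2] (.node [2,0,1,3,2,0,1,3,0,2,1] .nil .nil) (.node [3,1,3,0,2,2,0,2,1,0] .nil .nil)) (.node [3,1,0,2,0,2,2,2,0,1,3,0] (.node [3,3,0,2,0,2,0] .nil .nil) (.node [0,2,1,3,2,0,2,1,0] .nil .nil))) (.node [3,3,1,3,0,2,1] (.node [3,0,2,1,3,1,3,3,2] (.node [3,2,1,0,2,3,3,0]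 .nil .nil) (.node [3,2,2,0,2,1,3,3,1,3,2] .nil .nil)) (.node [3,2,1,3,1,3,0,1,3,3,0] (.node [1,3,2,0,2,0,2,1,3,1] .nil .nil) .nil))) (.node [0,1,3,0,2,0,2,2] (.node [1,0,2,2,0,2,2,0,1] (.node [1,3,3,0,2,1,3,0,2,1,3] (.node [1,3,3,0,1,3,1,3,0] .nil .nil) (.node [3,1,3,3,2,1,3,0,2,1,0] .nil .nil)) (.node [0,2,3,3,0,2,1,3,0,2] (.node [2,3,3,0,1,3,2,0,1,3,3] .nil .nil) .nil)) (.node [0,2,0,2,2,2,1] (.node [2,2,0,1,3,0,2,2,0,2,1,0] (.node [2,1,3,3,2,0,1,3,1,3,3] .nil .nil) (.node [0,2,3,1,0,2,2,2,1] .nil .nil)) (.node [3,1,3,3,0,2,2,0,1,0] (.node [1,0,2,0,2,1,0,2,3,1] .nil .nil) .nil))))) (.node [2,2,0,1,3,0,1,3,1,3,2] (.node [1,3,2,0,2,0,2,0,1,3,2] (.node [2,0,2,3,0,1,3,3,2] (.node [2,1,3,0,2,1,3,1,3,0] (.node [3,2,2,1,0,2,1] (.node [2,0,2,1,3,2,2,1,0,2,3] .nil .nil) (.node [3,0,2,0,2,3,3] .nil .nil)) (.node [3,3,0,2,1,0,2,1,3,0,1] (.node [0,2,3,0,1,3,3,1,0] .nil .nil) (.node [3,3,1,3,1,3,0,2,0] .nil .nil)))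 (.node [3,1,3,1,3,3,2,1,3] (.node [3,3,1,3,2,0,2,1,3,1] (.node [3,2,0,1,3,3,0,2] .nil .nil) (.node [3,0,2,1,3,0,2,2,2,1] .nil .nil)) (.node [3,0,1,3,2,0,2,3,3,2,1,0] (.node [1,0,2,1,0,2,0,2,1,0,2] .nil .nil) .nil))) (.node [3,3,0,2,1,3,1,3,0] (.node [0,2,2,0,2,2,0,2,2,0,1] (.node [2,3,2,1,3,2,0] (.node [0,2,3,1,3,3,0,1,0] .nil .nil) (.node [3,2,0,2,1] .nil .nil)) (.node [2,0,2,3,0,2,0] (.node [3,3,1,3,2,2,0,2,1,3,3] .nil .nil) .nil)) (.node [1,3,1,0,2,3,0,2,0] (.node [2,1,3,3,0,2,1,3,2,1] (.node [0,1,3,2,1,3,3,0,1,3,1] .nil .nil) (.node [3,3,0,1,3,0,2,2,2] .nil .nil)) (.node [2,0,2,3,1,0,2,3,3,1] (.node [1,3,1,3,3,0,2,0,1,3,2,0] .nil .nil) .nil)))) (.node [2,1,3,3,1,0,2,3,3] (.node [2,1,0,2,2,0,2] (.node [0,1,3,3,2,1,0,2,2] (.node [3,0,2,0,2,1,0,2,0,1] (.node [2,3,3,0,2,0,1,3,2,0,2,0] .nil .nil) (.node [0,2,0,2,3,1,3,1,0,2,2,1] .nil .nil)) (.node [0,2,3,1,3,2,0,2,0,2,2] (.node [0,2,3,3,1,0,2,1,3,3]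 .nil .nil) (.node [3,3,2,0,2,1,3,0,2,2] .nil .nil))) (.node [3,2,0,2,3,0,2,0,1] (.node [0,2,2,2,0,1,3,0,2,2] (.node [2,3,0,2,1,3,3,1,3,3] .nil .nil) (.node [2,0,2,0,2,1,0,2,0] .nil .nil)) (.node [2,3,0,2,1,3,3,2,2,0] (.node [0,2,1,0,2,0,2,1,3,0] .nil .nil) .nil))) (.node [3,0,2,1] (.node [3,2,0,2,2,0,2,2,2,1] (.node [0,1,3,2,2,1,0,2,0,1] (.node [2,1,3,2,1,3,0,2,2] .nil .nil) (.node [2,3,0,1,3,3,1,3,0] .nil .nil)) (.node [1,3,2,2,0,2,3,1,0,2,1,0] (.node [2,0,2,2,0,2,2,0,1] .nil .nil) .nil)) (.node [3,0,2,2,2,0,2,2,0,2,1] (.node [2,2,2,0,2,2,0,2,0] (.node [2,0,2,2,2,0,1,3] .nil .nil) (.node [3,1,3,1,3,2,2,2,1,0,2,0] .nil .nil)) (.node [1,3,3,2,0,2,2,1,0] (.node [2,3,3,0,2,1,0,2,3,1] .nil .nil) .nil))))))) (.node [3,1,0,2,1,3,0,1] (.node [2,3,1,3,2,2,0,2] (.node [0,1,3,2,1,0,2,3,0,1] (.node [0,2,1,3,0,1,3,3,0,2] (.node [2,3,1,3,1,0,2] (.node [2,3,0,2,2,0,2,2] (.node [2,0,1,3,3,1,3,0,1] (.node [1,3,2,2,2,0,2]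 .nil .nil) (.node [2,0,2,1,3,1,3,3,2,2] .nil .nil)) (.node [1,3,2,0,1,3,3,0,1,3,2] (.node [2,0,1,3,0,2,1,0,2] .nil .nil) (.node [3,2,1,3,3,1,0,2,0] .nil .nil))) (.node [0,1,3,1,3,1,3,3,1,3,1] (.node [3,0,2,2,0,1,3,0,2,0] (.node [2,0,2,0,1,3,2,0,2,1] .nil .nil) (.node [3,0,2,2,0,2,3,3,1] .nil .nil)) (.node [0,2,1,3,2,1,3,1,3,3] (.node [1,0,2,1,3,0,2,0] .nil .nil) .nil))) (.node [1,3,1,3,2,2,2,1,0] (.node [1,3,3,1,3,0,2,1,3,2] (.node [1,3,2,1,3,1,3,3,0,1] (.node [0,1,3,1,3,0,1] .nil .nil) (.node [3,2,0,2,2,1,0,2,3] .nil .nil)) (.node [3,0,1,3,1,0,2,3,1,0] (.node [1,0,2,2,1,0,2,0,1,0] .nil .nil) (.node [3,2,0,2,1,3,0,2,2] .nil .nil))) (.node [1,3,3,1,3,1,3,0,1] (.node [2,3,1,0,2,0,2,2] (.node [0,2,3,1,3,0,2,2] .nil .nil) (.node [2,0,2,2,0,1,3,0,2,1] .nil .nil)) (.node [2,2,0,2,0,2,3,3,1] (.node [0,1,3,3,0,2,2,1,0,2,0] .nil .nil) .nil)))) (.node [3,1,3,2,2,2,0,1,3,0] (.node [3,0,2,2,2,1,0,2,1] (.node [3,0,1,3,3,1,3,1]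 (.node [1,3,1,3,2,2,0,2,2,0,1] (.node [3,0,2,0,2,3,3,2,2,2,1] .nil .nil) (.node [2,0,2,0,1,3,2,0,2,1,0] .nil .nil)) (.node [2,0,2,2,2,0,1,3,2,1] (.node [2,3,3,0,2,2,1] .nil .nil) (.node [0,2,1,3,2,1,3,1,0,2,3] .nil .nil))) (.node [2,2,1,0,2,0,2,2] (.node [2,1,0,2,1,3,3,1,3,3] (.node [1,0,2,2,2,0,2,0,2,2,0,1] .nil .nil) (.node [2,2,0,2,3,1,0,2,2] .nil .nil)) (.node [3,3,1,3,3,1,3,0,2,2] (.node [2,3,2,0,2,1,0,2,2,2] .nil .nil) .nil))) (.node [3,1,3,1,3,3] (.node [3,2,0,2,3,3,2,2] (.node [3,0,1,3,2,2,1,0,2,3] (.node [2,3,3,1,3,2,1,3,2] .nil .nil) (.node [1,3,2,2,2,0,2,0,1] .nil .nil)) (.node [3,3,2,0,2,1,3,0,2,0] (.node [3,1,3,1,3,2,2,1] .nil .nil) .nil)) (.node [1,3,0,1,3,2,1,3,3,1] (.node [2,2,0,2,1,0,2,2] (.node [3,3,1,3,3,1,3,3,2,1] .nil .nil) (.node [1,3,0,1,3,1,3,2,0] .nil .nil)) (.node [3,2,0,2,1,0,2,3] (.node [3,2,1,3,1,3,0] .nil .nil) .nil))))) (.node [3,1,0,2,0,2,3,0,2,2] (.node [2,2,0,1,3,1,3,2,0,2,2]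 (.node [1,3,3,0,1,3,1,3,3,0] (.node [3,2,2,1,0,2,1,0,2,3] (.node [1,3,2,0,2,2,0,2,2,2,1] (.node [2,2,0,2,0,2,0] .nil .nil) (.node [2,3,1,3,3,1,0,2,2] .nil .nil)) (.node [2,3,2,1,3,3,0,2,1] (.node [3,0,2,1,0,2,3,3,0] .nil .nil) (.node [2,0,1,3,0,2,2,1,0,2,1] .nil .nil))) (.node [2,0,2,3,0,1,3,0] (.node [1,3,1,0,2,3,3,1,0,2,0] (.node [2,0,2,3,1,3,2,0,1] .nil .nil) (.node [2,2,0,2,2,2,1,0,2,2] .nil .nil)) (.node [3,2,2,0,2,3,3,0,2,0] (.node [0,1,3,1,3,0,2,0] .nil .nil) .nil))) (.node [0,2,3,1,3,2,0,1,0] (.node [2,3,1,0,2,3,0,2,1] (.node [3,3,2,1,3,3,2,1,3,3] (.node [1,3,2,0,2,0,2,2,0,1,0] .nil .nil) (.node [2,1,3,2,1,3,1,0,2,1] .nil .nil)) (.node [2,3,2,1,0,2,3,3,2,2] (.node [3,2,1,3,1,3,2,2,1,0] .nil .nil) .nil)) (.node [3,0,1,3,2,1,3,3,0,2,2,0] (.node [3,1,3,3,1,3,3,2,1] (.node [2,0,2,3,0,2,2,0] .nil .nil) (.node [3,0,1,3,3,2,1,0] .nil .nil)) (.node [2,2,0,2,0,2,0,1,3,2] (.node [2,1,3,3,1,3,3] .nil .nil)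 .nil)))) (.node [2,3,2,2,1,0,2,3,0,1,0] (.node [0,2,3,3,0,2,1,3,3,1,0] (.node [0,2,0,1,3,1,3,1,0] (.node [2,3,0,2,1,3,1,3] (.node [2,3,1,3,0,1,3,0,2,0] .nil .nil) (.node [2,2,0,1,3,1,3,0,1] .nil .nil)) (.node [1,3,0,1,3,0,1] (.node [1,3,1,3,1,3,2,2] .nil .nil) (.node [2,3,3,2,2,0,2,2,0,2,1] .nil .nil))) (.node [0,2,0,2,2,2,1,0,2,0] (.node [2,0,2,3,1,3,2,2] (.node [0,2,2,2,1,0,2,2,2] .nil .nil) (.node [1,0,2,0,2,2,0,1,3,0] .nil .nil)) (.node [3,0,2,1,0,2,0,2,2,0,1,0] (.node [3,3,0,1,3,3,2,1] .nil .nil) .nil))) (.node [2,0,2,1,3,1,3,1,3,0] (.node [2,0,2,3,1,3,0,2] (.node [3,2,2,1,0,2,0,2,1] (.node [2,0,2,1,0,2,1,0,2,3] .nil .nil) (.node [0,2,3,3,1,3,2,1,3,0,1] .nil .nil)) (.node [0,2,2,0,2,3,0,1,3,3,2] (.node [3,2,1,3,2,2,0,2,1,0] .nil .nil) .nil)) (.node [2,1,3,2,2,2,0,1,0] (.node [3,1,3,1,3,2,2,2,0,1,3] (.node [0,1,3,0,2,1,3,1,3,2,0] .nil .nil) (.node [2,1,3,3,1,3,3,2,0,2,0] .nil .nil)) (.node [2,3,1,0,2,0,2,1]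 (.node [3,2,0,2,1,3,1,3,2,0,1] .nil .nil) .nil)))))) (.node [3,3,2,1,0,2,2,0,2] (.node [3,0,2,2,0,2,1,0] (.node [2,0,2,1,3,1,3,3,0,1,0] (.node [1,3,1,3,3,2,0,2,1,3,3] (.node [3,1,0,2,3,3,1,3,3,1] (.node [1,0,2,3,3,2,1,0,2,2] (.node [2,2,1,0,2,3,0,2,2] .nil .nil) (.node [3,1,0,2,1,3,0,2,0,1] .nil .nil)) (.node [1,0,2,3,1,3,1,3,2,0,1,0] (.node [3,1,3,1,3,1,0,2,2,2] .nil .nil) (.node [0,2,0,2,1,3,3,0,1,3,0] .nil .nil))) (.node [3,1,3,3,2] (.node [2,3,2,2,0,2,1,3,3,0] (.node [0,1,3,2,1,3,1,3,3] .nil .nil) (.node [1,3,3,1,3,3,0,2,0,1] .nil .nil)) (.node [0,1,3,2,0,2,0,2,1,3,1] (.node [0,1,3,3,1,3,2,1,3,1] .nil .nil) .nil))) (.node [2,1,3,2,1,3,3,0,1,3] (.node [3,0,2,1,3,0,1,3,2,1,0] (.node [2,0,2,1,0,2,2,0,2,0,1] (.node [3,1,3,1,3,2,2,2,0] .nil .nil) (.node [2,0,2,2,0,2,3,3,1] .nil .nil)) (.node [3,0,2,1,0,2,2,0,2] (.node [0,2,3,1,3,0,2,2,1,0] .nil .nil) (.node [3,3,2,2,2,1,0,2,1,3] .nil .nil))) (.node [1,3,3,1,3,1,0,2,2]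 (.node [1,3,2,1,3,2,1,3,2] (.node [2,3,0,2,1,0,2,1,3] .nil .nil) (.node [2,2,0,2,2,0,2,3,0,1,0] .nil .nil)) (.node [3,0,2,0,2,1,3,3,1,3,1] (.node [2,0,2,0,2,1,3,2,2,0] .nil .nil) .nil)))) (.node [2,3,3,1,3,0,2,2,0] (.node [3,0,1,3,2,1,0,2,2,0,1] (.node [3,2,2,0,2,2,1,0,2,3,3] (.node [3,2,2,0,2,0,1,3] (.node [1,0,2,1,0,2,2,1,0,2,1] .nil .nil) (.node [2,1,3,0,2,0,2,1] .nil .nil)) (.node [0,2,0,2,1,3,0,1,3,0,1] (.node [2,2,1,0,2,2,0,2] .nil .nil) (.node [2,0,2,3,0,1,3,1,0] .nil .nil))) (.node [2,1,3,1,3,0,2,0,1] (.node [1,0,2,0,2,2,0,2] (.node [1,3,3,1,3,3,0,2,1] .nil .nil) (.node [0,2,3,0,2,2,0,2,3,3,0] .nil .nil)) (.node [1,3,3,2,1,3,3,0,2] (.node [3,1,3,0,1,3,2,1,3] .nil .nil) .nil))) (.node [2,2,0,2,2,0,1,3,0,2] (.node [3,0,2,1,3,0,2,2,0,2,0] (.node [2,2,0,2,1,0,2,3] (.node [3,0,2,0,2,0,2,2,0,1] .nil .nil) (.node [3,2,0,2,2,2,1,0,2,1] .nil .nil)) (.node [1,3,1,0,2,3,0,2,2,2] (.node [1,3,3,2,2,1,0,2,3,3,0]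 .nil .nil) .nil)) (.node [3,2,1,0,2,3,0,2] (.node [2,0,2,0,2,2,0,1,3,2] (.node [2,2,1,0,2,1,3,3,1,3,3] .nil .nil) (.node [2,2,1,0,2,0] .nil .nil)) (.node [3,0,2,1,3,2,1,3,3,0] (.node [2,3,3,2,2,0,2,0,1,0] .nil .nil) .nil))))) (.node [1,3,3,2,0,1,3,3,0,2] (.node [2,0,2,0,2,0,1,3,0] (.node [0,2,0,2,0,1,3,2,1] (.node [0,1,3,1,3,1,0,2,0,2] (.node [3,3,2,2,1,0,2,3,3,2,1] (.node [1,3,2,1,3,2,2,1] .nil .nil) (.node [2,1,3,2,0,1,3,0,2,0,1] .nil .nil)) (.node [2,1,0,2,2] (.node [2,1,3,0,2,2] .nil .nil) (.node [0,2,1,3,0,2,2] .nil .nil))) (.node [2,2,2,0,2,0,2,0,1] (.node [2,0,2,0,1,3,2,1,3,2,1,0] (.node [1,3,1,3,3,0,1,3,3,2,2,0] .nil .nil) (.node [3,1,3,2,1,3,0,2,0] .nil .nil)) (.node [2,3,0,2,0,2,0,2,0,2,1,0] (.node [0,1,3,1,3,1,3,2,2] .nil .nil) .nil))) (.node [1,0,2,2,1,0,2,3,1,0] (.node [1,3,1,3,1,3,3,2,1,0] (.node [1,3,1,0,2,3,3,2,2] (.node [0,1,3,2,2,0,2,2,2,0,1,0] .nil .nil) (.node [2,2,0,2,3,3,0,2,1,3]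 .nil .nil)) (.node [0,2,1,3,2,0,1,0] (.node [3,3,0,1,3,2,2,1,0,2,0] .nil .nil) .nil)) (.node [3,0,1,3,1,3,2,1,0] (.node [2,3,2,1,0,2,3,0,1,3,3] (.node [3,2,2,0,2,3,1,3,3,1] .nil .nil) (.node [2,0,1,3,1,3,2,0] .nil .nil)) (.node [0,2,2,0,2,3,3,0,2,2] (.node [2,1,3,2,1,0,2,1,3,3] .nil .nil) .nil)))) (.node [3,1,3,2,2,2,0,2,1] (.node [3,0,1,3,0,2,2,2,0,2] (.node [3,2,1,3,3,1,3,0,2] (.node [3,1,3,3,0,2] (.node [3,1,3,3,1] .nil .nil) (.node [2,0,2,0,2,0,1,3] .nil .nil)) (.node [0,1,3,3,1,3,1,3,0] (.node [2,3,2,2,1,0,2] .nil .nil) (.node [2,1,3,1,3,1,0,2,3,1] .nil .nil))) (.node [3,0,2,2,2,0,2,0,2,1,0] (.node [2,3,3,1,3,3,0,1,3,3,2] (.node [0,2,3,1,3,2,0,2,2] .nil .nil) (.node [2,0,2,3,3,0,2,2,1,0] .nil .nil)) (.node [3,3,1,3,0,1,3,0,1] (.node [3,3,0,1,3,0,1,3,3,2] .nil .nil) .nil))) (.node [2,3,3,2,1,3,3,1] (.node [3,0,1,3,3,1,3,3,2,1] (.node [2,3,3,2,1,3,1,0,2] (.node [2,2,0,2,2,0,2,1,3,1] .nil .nil) (.node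 [0,1,3,2,2,0,1,3] .nil .nil)) (.node [1,3,2,2,0,2,0,2,1,3,0] (.node [1,0,2,1,3,3,1,3,3,0,2] .nil .nil) .nil)) (.node [2,3,3,1,0,2,3,0,2,1,0] (.node [3,1,3,2,2,1,0,2,1,0] (.node [2,0,1,3,0,2,2,0,2,0,1] .nil .nil) (.node [0,1,3,3,2,0,1,3,3,2,1,0] .nil .nil)) (.node [3,0,2,2,0,1,3,2,0] (.node [3,2,1,3,2,2,2,0] .nil .nil) .nil))))))))

/-- Part of `setWord`. -/
noncomputable def setWord_l_r_l_r_r : Arr (List ℕ) :=
  (.node [2,2,0,1,3,2,2,0,2,1,0] (.node [2,0,2,3,0,2,2] (.node [0,1,3,1,3,3,2,2,2,0] (.node [2,2,0,1,3,3,0,2,2] (.node [2,1,3,2,2,2,0,1,3,1] (.node [1,3,0,2,1,3,2] (.node [2,1,3,2,0,2,0,2,0,1] (.node [3,0,1,3,2] (.node [0,2,2,0,2,1,3,0,1] .nil .nil) (.node [0,2,2,0,2,3] .nil .nil)) (.node [0,1,3,2,1,3,3,2,0,2,2] (.node [3,1,3,2,1,3,0,2,2] .nil .nil) (.node [0,1,3,1,3,1,3,3,2,1,0] .nil .nil))) (.node [2,0,2,1,3,3,0,1,0] (.node [0,2,1,3,2,1,3,2] (.node [3,2,0,2,2,0,1,3] .nil .nil) (.node [1,3,1,3,1,3,3,1,3,1]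 .nil .nil)) (.node [2,3,0,2,2,0,2,2,1] (.node [2,1,3,1,3,3,0,2] .nil .nil) .nil))) (.node [3,2,2,1,0,2,3,0,1,3] (.node [3,3,2,1,0,2,3,1,3,2] (.node [2,3,3,2,0,2,1,0] (.node [1,3,2,1,0,2,2,0,2] .nil .nil) (.node [3,2,1,0,2,3,1,0,2,3] .nil .nil)) (.node [2,2,0,1,3,0] (.node [2,0,1,3,2,2,0,2,0,1] .nil .nil) (.node [1,3,3,0,1,3,2,0,2,0] .nil .nil))) (.node [1,3,1,0,2,3,1,3,0] (.node [3,2,1,3,3,2,0,2,2] (.node [3,2,1,0,2,3,1,3,2,2] .nil .nil) (.node [2,0,2,2,0,2,3,0,1,0] .nil .nil)) (.node [2,0,1,3,2,1,3,3,0] (.node [1,3,1,3,2,2,1,0,2,1] .nil .nil) .nil)))) (.node [3,2,1,3,0,2,1,0,2,1,0] (.node [2,0,1,3,2,1,3,1,0] (.node [2,1,3,2,0,2,0,2,1] (.node [2,2,0,2,2,2,0,1,3,2,1] (.node [2,3,3,0,2,2,0,1,3,0,2] .nil .nil) (.node [2,3,1,3,1,0,2,1,3,3,1,0] .nil .nil)) (.node [1,0,2,2,0,2,2,0,2,1,0] (.node [2,1,0,2,1,3,3,0] .nil .nil) (.node [3,3,2,1,3,1,0,2,1,3] .nil .nil))) (.node [3,3,2,2,2,0,2,2,0,2,0] (.node [0,2,3,3,0,1,3,2,0,1,0]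 (.node [3,1,3,1,3,3,0] .nil .nil) (.node [1,3,2,2,1,0,2,3,1] .nil .nil)) (.node [2,0,2,1,0,2,1,3,3] (.node [3,1,0,2,1,0] .nil .nil) .nil))) (.node [3,3,0,2,2,0,1,3,0,2,2] (.node [2,1,3,1,0,2,3,0,2] (.node [3,1,3,2,0,2,2,2,1,0] (.node [3,3,2,0,2,1,3,3] .nil .nil) (.node [2,3,0,2] .nil .nil)) (.node [2,3,0,2,2,2,0,2,0] (.node [3,3,2,0,2,0,1,0] .nil .nil) .nil)) (.node [1,3,3,1,3,0,2] (.node [1,0,2,1,3,0,1,0] (.node [3,2,0,2,1,0,2,3,0,1,0] .nil .nil) (.node [0,2,2,2,0,2,2,0,1,0] .nil .nil)) (.node [3,3,1,3,1,3,3,0,2] (.node [2,1,0,2,3,1,0,2,0] .nil .nil) .nil))))) (.node [3,1,3,1,3,1,3,3,0,2,1] (.node [3,2,2,0,2,3,3,0,2,1] (.node [2,3,1,3,2,1,3,3,0,1,0] (.node [0,2,3,0,2,1,0,2,3,0,2,2] (.node [2,1,3,2,1,3,3,1,3,2,0] (.node [2,0,1,3,0,2,0,1,3,3] .nil .nil) (.node [2,1,3,0,1,3,2] .nil .nil)) (.node [0,2,0,1,3,1,3,3,2,0,2,0] (.node [3,0,2,0,2,2,0,1,3] .nil .nil) (.node [2,0,1,3,0,2,1,3,1] .nil .nil))) (.node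 [3,2,2,0,2,0,2,1] (.node [2,1,3,2,1,3,2,1,3,1] (.node [0,1,3,2,0,2,0,2,2] .nil .nil) (.node [3,1,3,3,1,0,2,0] .nil .nil)) (.node [0,2,1,3,0,2,0,1,3] (.node [1,3,3,1,3,2,1,3] .nil .nil) .nil))) (.node [1,3,0,1,3,0,1,3,3,2] (.node [2,0,2,1,0,2,2,0,2] (.node [2,0,2,3,1,3,2,2,1] (.node [1,0,2,3,3,0,2,1] .nil .nil) (.node [2,0,1,3,3,0,2,2,0,1,0] .nil .nil)) (.node [3,0,1,3,3,0,2,0,1,0] (.node [3,2,1,3,2,0,2,0,2,1] .nil .nil) .nil)) (.node [3,3,1,3,0,2,2] (.node [3,3,1,3,1,3,3,0] (.node [0,2,3,0,2,2,1,0,2,2] .nil .nil) (.node [2,3,0,2,1,3] .nil .nil)) (.node [0,1,3,2,2,2,0,2] (.node [1,3,0,2,0,1,3,0] .nil .nil) .nil)))) (.node [2,1,3,2,2,1,0,2,2,1,0] (.node [3,0,2,2,0,2,2,1,0,2,0] (.node [3,2,1,3,2,0,2,0,1,0] (.node [2,0,1,3,3,2,0,1,0] (.node [3,3,0,1,3,2,0,2,1,0] .nil .nil) (.node [3,3,2,2,0,2,0,2,1,0] .nil .nil)) (.node [3,2,0,1,3,2,2,0] (.node [2,3,0,2,0,2,2,0,1,0] .nil .nil) (.node [2,0,2,0,1,3,1,3,2,0,1,0]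 .nil .nil))) (.node [1,3,3,0,1,3,0,2,2,1,0] (.node [3,2,2,0,2,3,3] (.node [1,0,2,0,1,3,2,0,2,3] .nil .nil) (.node [2,0,1,3,3,2,0,1,3,1] .nil .nil)) (.node [0,2,0,2,1,3,3,0,2,2,1] (.node [2,2,1,0,2,1,3,0,1,3,1,0] .nil .nil) .nil))) (.node [1,0,2,1,0,2,3,0,2] (.node [3,0,2,2,2,1,0,2,0] (.node [1,3,0,1,3,3,2,2,2,0] (.node [2,3,0,2,2,1,0,2,2,0,2,0] .nil .nil) (.node [2,3,2,2,0,2,2,0,2,0] .nil .nil)) (.node [2,0,1,3,1,3,3,1,0] (.node [3,3,2,0,1,3,3,1,0] .nil .nil) .nil)) (.node [2,3,2,0,1,3,3,0,2,1] (.node [3,1,3,0,1,3,3,2,0,2,0,1] (.node [1,0,2,0,2,0,2,1,0,2,3] .nil .nil) (.node [0,2,3,1,0,2,0,2,3,3,0] .nil .nil)) (.node [3,3,1,3,1,3,3,1] (.node [0,1,3,3,2,0,2,1,3,1,0] .nil .nil) .nil)))))) (.node [2,2,0,2,0,2,1,3,1,3,0] (.node [3,2,1,0,2,1,0,2,3] (.node [1,0,2,3,3,1,3,2,0,1] (.node [3,3,0,1,3,2,0,1,3,3] (.node [1,3,0,2,0,2,3,3,1,0,2,0] (.node [2,0,1,3,2,1,3,2,1] (.node [3,1,3,1,3,3,2,1,3,1,3] .nil .nil)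 (.node [3,3,2,0,2,1,0,2,2,2] .nil .nil)) (.node [1,3,2,2,0,1,3,3,0,1] (.node [2,0,2,3,1,3,0,1] .nil .nil) (.node [3,1,0,2,0,2,1,0,2,1] .nil .nil))) (.node [0,1,3,1,3,2,0,2,0] (.node [1,3,1,3,3,0,1,3] (.node [0,1,3,0,2,1,3,1,3,3] .nil .nil) (.node [2,3,3,2,2,0,1,3,1,0] .nil .nil)) (.node [0,1,3] (.node [0,2,3,1,3,1,3,3,2,2,1] .nil .nil) .nil))) (.node [3,2,1,3,1,3] (.node [2,0,2,3,1,0,2,3] (.node [2,2,0,2,0,1,3,1,3,1,0] (.node [2,3,0,2,2,0,2,1,3,0,1] .nil .nil) (.node [3,2,0,2,1,3,0,1,3,1,0] .nil .nil)) (.node [3,1,0,2,1,3,0,1,3,3,2] (.node [3,1,3,1,3,0,1,3,2,0] .nil .nil) (.node [3,2,0,2,1,3,0,2,2,2,1] .nil .nil))) (.node [0,1,3,0,1,3,3,1,0] (.node [1,3,2,1,3,0,1,3,3,0] (.node [0,2,3,1,0,2,3,1,0,2,2] .nil .nil) (.node [2,3,0,2,1,3,0,2,2] .nil .nil)) (.node [1,0,2,3,1,3,2,0,1,3,3] (.node [2,2,2,1,0,2,0,2,3,1,0] .nil .nil) .nil)))) (.node [3,0,2,0,1,3] (.node [1,0,2,3,0,2] (.node [2,0,1,3,3,1,3,3,2,0,2,0]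 (.node [2,3,0,2,0,2,2,1,0] (.node [3,0,1,3,2,0,2,2,0,2,0] .nil .nil) (.node [0,2,3,0,2,1,3,1,0,2,1] .nil .nil)) (.node [2,2,1,0,2,3,3] (.node [3,0,1,3,0,2,1,0,2] .nil .nil) (.node [0,2,2,2,0,2,0,2,3,1,0] .nil .nil))) (.node [1,3,1,0,2,0,2,2,0,2] (.node [3,1,3,0,2,1,0] (.node [2,1,3,3,1,3,0,1,3,1] .nil .nil) (.node [1,0,2,1,3,1,3,3,1,3,1,0] .nil .nil)) (.node [3,1,3,3,0,1,3,0,2] (.node [2,2,1,0,2,1,0,2] .nil .nil) .nil))) (.node [3,3,1,3,1,3,2,1,3,0,1] (.node [3,0,1,3,1,3,3,2,0,2,0] (.node [1,3,2,1,3,3,2,2,2,0] (.node [3,1,3,2,2,1,0,2,2] .nil .nil) (.node [0,2,3,1,3,2,1,3,2,2,1,0] .nil .nil)) (.node [2,3,0,2,0,1,3,2,0,2,1] (.node [0,1,3,0,2] .nil .nil) .nil)) (.node [3,3,1,3,2,0,2,1,0,2,3] (.node [3,0,2,0,2,2,0,1,0] (.node [2,0,2,3,3,1,3,1,3,2] .nil .nil) (.node [0,2,1,3,1,0,2,1,3] .nil .nil)) (.node [2,2,0,2,3,3,2,2,0,2,1,0] (.node [3,0,2,2,0,1,3,2,2,0] .nil .nil) .nil))))) (.node [3,2,1,3,0,1,3,3,0]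 (.node [2,2,0,2,1,3,0,1,3,0] (.node [3,1,0,2,3,0,2,1,3,1] (.node [2,3,1,0,2,0,2,2,0,1] (.node [1,3,2,1,3,3,2,2,2,1,0] (.node [3,2,0,2,1,3,3,1,3,3] .nil .nil) (.node [1,3,3,2,2,2,0,1,3,0,2,0] .nil .nil)) (.node [3,2,1,3,0,2,0,1,3,3] (.node [2,3,2,0,2,1,0] .nil .nil) (.node [0,2,3,1,3,3,1,3,0] .nil .nil))) (.node [2,3,3,0,1,3,3,0] (.node [0,1,3,3,1,3,1,0] (.node [3,0,1,3,1,3,0,2,2,0] .nil .nil) (.node [1,0,2,0,2,3,0,2,1,3,2] .nil .nil)) (.node [2,3,1,3,3] (.node [1,3,3,0,1,3,3,0,2,1] .nil .nil) .nil))) (.node [1,3,2,1,3,2] (.node [1,0,2,1,3,3,2,2,2,0] (.node [2,3,3,0,2,2,0,1,3] (.node [0,2,3,3,1,0,2,0,2,2] .nil .nil) (.node [2,3,1,3,1,0,2,0,2,3] .nil .nil)) (.node [3,2,2,1,0,2,3,3,2,1] (.node [2,0,2,2,2,1,0,2,0,1] .nil .nil) .nil)) (.node [2,1,3,0,2,1,3,1,0,2,1] (.node [2,0,2,1,3,1,3,2,1,0] (.node [1,0,2,2,0,2,3,3,1,0] .nil .nil) (.node [1,3,3,1,3,0,2,0] .nil .nil)) (.node [3,2,1,3,2,0,2,2,1,0] (.node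 [3,2,2,2,0,2,1,3,0,2,0] .nil .nil) .nil)))) (.node [2,2,0,2,1,3,3,1,0] (.node [2,1,3,1,3,2] (.node [3,2,1,0,2,0,2,3,1,0] (.node [2,0,2,0,2,1,3,0] (.node [0,2,0,2,0,2,3,3,0] .nil .nil) (.node [2,3,3,2,1,0,2] .nil .nil)) (.node [1,3,3,1,3,2,1,3,1,0] (.node [2,3,3,0,2,1,0,2,2,2] .nil .nil) (.node [3,1,3,3,1,3,2,0,2,0] .nil .nil))) (.node [2,1,3,3,0,1,0] (.node [0,2,1,3,2,2,0] (.node [2,3,0,2,2,0,2,0] .nil .nil) (.node [3,2,2,0,2,2,2,1,0,2,2] .nil .nil)) (.node [3,1,3,0,1,3,3,0] (.node [2,1,3,2,2,2] .nil .nil) .nil))) (.node [1,0,2,2,1,0,2,0,2,1,0] (.node [3,0,2,0,2,0,2,2,0,2,1,0] (.node [0,2,0,2,3,1,3,2,2,2,1] (.node [2,2,0,1,3,2,0,1,0] .nil .nil) (.node [3,3,2,1,3,2] .nil .nil)) (.node [2,1,3,3,1,3,0,1,3,2,0] (.node [2,3,3,1,3,1,0] .nil .nil) .nil)) (.node [3,3,1,3,3,0,1] (.node [3,0,2,2,1,0,2,0,2,0] (.node [2,3,1,0,2,0,2,2,2,0,1] .nil .nil) (.node [1,0,2,3,1,3,3,2] .nil .nil)) (.node [2,3,1,3] (.node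 [3,2,1,3,3,0,1,3,1,3,0] .nil .nil) .nil))))))) (.node [2,0,2,3,0,2,2,2,1,0,2,0] (.node [1,3,1,3,2,2,2,0,1,3] (.node [1,0,2,3,0,2,2,0,2,2] (.node [2,3,2,1,3,3,1,0] (.node [2,2,0,2,1,3,3,0,2,2,1] (.node [1,3,0,1,3,2,0,2,2,1] (.node [2,3,2,0,2,1,0,2,1,0,2,0] (.node [2,1,3,3,2,0,1,3,2] .nil .nil) (.node [3,3,1,3,1,3,1,3,2,2] .nil .nil)) (.node [3,3,2,1,3,0,1,3,0] (.node [0,2,2,2,0,2,2,0,2,1] .nil .nil) (.node [0,2,1,3,1,3,1,3,3,0] .nil .nil))) (.node [2,1,3,0,2,1,3,3,2,2] (.node [2,1,3,2,0,2,1] (.node [0,2,3,3,2,2,0,1,0] .nil .nil) (.node [2,0,2,3,3,0,2,1,3,3,0] .nil .nil)) (.node [2,3,2,1,3,1,3,3,1] (.node [3,0,2,2,0,2,2,0,1] .nil .nil) .nil))) (.node [2,1,3,3,1,0,2,3,3,1] (.node [0,1,3,1,3,3,2,1,0] (.node [3,3,0,1,3,1,0,2,3] (.node [3,3,1,3,1,3,2] .nil .nil) (.node [2,3,3,1,0,2,1,3,1,0] .nil .nil)) (.node [2,0,2,0,2,0,1] (.node [0,2,3,3,2,1,3,2] .nil .nil) (.node [3,1,0,2,1,3,1,0,2,1,3] .nil .nil))) (.node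 [3,1,3,2,0,2,3,1,0,2,2,1] (.node [3,0,2,1,3,1,3,3,1] (.node [2,3,3,1,3,0,1,3,2] .nil .nil) (.node [1,3,2,1,3,3,0,2,0] .nil .nil)) (.node [0,2,2,0,2,0,1] (.node [2,3,1,3,2,1,3,3,0] .nil .nil) .nil)))) (.node [3,0,1,3,2,1,0,2,1,0] (.node [1,0,2,0,2,2,1,0] (.node [0,2,3,3,1,3,3,0,1,0] (.node [3,3,2,1,3,2,2,0,2,1,0] (.node [2,2,0,2,2,0,2,1,3,0,1] .nil .nil) (.node [2,2,2,0,1,3,0,2,2] .nil .nil)) (.node [0,2,2,1] (.node [0,1,3,2] .nil .nil) (.node [0,2,0,1,3,2,1,0,2] .nil .nil))) (.node [1,3,1,3,0,2,2,1] (.node [1,3,3,1,0,2,3,1,0] (.node [1,3,1,3,3,2,2,2,1,0] .nil .nil) (.node [3,1,0,2,3,1] .nil .nil)) (.node [3,1,3,3,1,3] (.node [2,2,2,1,0,2,1,3,3,0] .nil .nil) .nil))) (.node [0,2,0,2,3,3,2] (.node [0,2,1,3,3,1,3,2,1] (.node [2,2,2,0,2,0,1] (.node [3,2,0,2,3,1,3,0,1,3,1] .nil .nil) (.node [2,0,2,1,3,1,3,0,2,0] .nil .nil)) (.node [2,0,2,2,2,0,2,2,2] (.node [0,2,2,0,2,0,2,2,1,0] .nil .nil) .nil)) (.node [3,3,0,2,1,3,3,2,2,0]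 (.node [2,0,1,3,1,3,1,3,2,0] (.node [1,3,1,3,1,0,2,1] .nil .nil) (.node [2,3,0,1,3,2,0,2,0] .nil .nil)) (.node [0,1,3,3,0,2,2] (.node [3,0,2,2,0,1,3,0,2,2] .nil .nil) .nil))))) (.node [3,2,1,3,1,0] (.node [0,2,3,0,1,3,1,3,3,0,1,0] (.node [1,3,0,2,0,1,3] (.node [2,3,0,2,1,0,2,3,0,2,2] (.node [2,3,0,1,3,2,2,2,0] (.node [1,0,2,3,1,0,2,3,0,1] .nil .nil) (.node [2,3,1,3,3,2,2,0] .nil .nil)) (.node [0,2,1,0,2,1,3,3,1,3,3] (.node [1,3,2,2,0,2,2,1,0] .nil .nil) (.node [0,2,1,3,2,2,1,0] .nil .nil))) (.node [1,3,1,3,2,1,0] (.node [3,0,2,0,2,2,0,1] (.node [1,3,2,0,1,3,3,2,1] .nil .nil) (.node [0,2,1,3,3,1,0,2,3,1] .nil .nil)) (.node [3,3,0,2,2,2,0,2,2,1] (.node [3,3,0,2,1,3,0,2,0] .nil .nil) .nil))) (.node [1,3,2,1,0,2,3,1,0] (.node [3,2,0,2,0,2,2,2,1,0] (.node [3,3,0,1,3,0,1,3,1,0] (.node [3,0,1,3,3,0,1,0] .nil .nil) (.node [0,1,3,0,1,3,2,1,3,3,0] .nil .nil)) (.node [1,0,2,2,2,0,2,1,0] (.node [0,1,3,1,3,2,2,0]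 .nil .nil) .nil)) (.node [2,3,1,3,2,1,3,0,2,1] (.node [1,3,2,1,0,2,3,0,2,1] (.node [1,0,2,1,3,1,3,3,2] .nil .nil) (.node [2,3,2,2,1,0,2,2,0,2,1] .nil .nil)) (.node [0,1,3,2,0,1,3,2] (.node [0,1,3,3,2,0,2,1,0] .nil .nil) .nil)))) (.node [0,2,2,0,2,1,3,2,2,0] (.node [2,2,0,2,3,1,3,0,2,0,1,0] (.node [0,2,1,3,3,2,2,0] (.node [0,2,1,3,3,0,2,2,1] (.node [2,3,3,1,3,3,1,3,0,2] .nil .nil) (.node [2,0,2,2,0,2,1,0,2] .nil .nil)) (.node [2,0,1,3,2,0,2,3] (.node [1,0,2,3,0,2,2,0,2,0] .nil .nil) (.node [2,3,3,0,1,3,2,2,0,2] .nil .nil))) (.node [2,0,2,1,3,0,1,3,3,2] (.node [2,3,3,1,3,3,0,1,3,1,3,0] (.node [0,2,2,1,0,2,3,0,1,3,2,0] .nil .nil) (.node [3,0,2,2,0,2,3,3,0] .nil .nil)) (.node [1,3,1,3,1,3,1,3] (.node [3,3,0,2,0,1,3,2] .nil .nil) .nil))) (.node [3,1,0,2,1,3,0,1,3,3] (.node [1,0,2,3,3,1,3,3,0,2] (.node [3,3,0,1,3,3,1,3,0,2] (.node [1,3,2,2,0,1,3,0,2,0] .nil .nil) (.node [2,0,1,3,0,1,3,1,3,3,2] .nil .nil))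 (.node [2,2,2,0,2,2,0,2,2,1,0] (.node [2,1,0,2,0,2,3,1] .nil .nil) .nil)) (.node [1,3,0,2,2,2,1,0,2,0] (.node [3,1,3,3,2,1,3,1,3] (.node [2,2,0,2,3,1,3,3,0] .nil .nil) (.node [3,0,1,3,3,1,3,1,3,2,1,0] .nil .nil)) (.node [1,3,2,2,0,2,1,3,1] (.node [3,0,2,1,3,2,2,2,0] .nil .nil) .nil)))))) (.node [3,1,3,3,1,3,1,3,2] (.node [3,2,2,0,2,2] (.node [0,2,1,0,2,1,3,3,1] (.node [2,0,1,3,2,1,0,2,0] (.node [3,1,3,2,1,3,0,2,1,3,1] (.node [3,2,2,0,1,3,1] (.node [0,2,3,0,2,0,2,1,0,2] .nil .nil) (.node [1,3,1,3,3,0,2,2,1,0] .nil .nil)) (.node [3,3,0,1,3,0,2,2] (.node [2,3,3,2,2,0,2,2,1,0] .nil .nil) (.node [0,2,0,2,0,2,1,0,2] .nil .nil))) (.node [3,2,2,0,2,2,2,1,0] (.node [2,0,1,3,1,3,2,0,1,0] (.node [2,0,1,3,1,3,3,0,1] .nil .nil) (.node [2,2,2,0,1,3,2,2,0] .nil .nil)) (.node [1,0,2,2,1,0,2,2,1,0] (.node [2,3,3,2,1,0,2,0,1] .nil .nil) .nil))) (.node [3,1,3,1,3,0,1,3,1,3,0] (.node [0,2,1,3,1,3,0,2,2,0] (.node [1,3,2,1,3,3,0,2,2,1,0]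 (.node [2,2,0,2,3,1,3,2,0] .nil .nil) (.node [2,1,0,2,3,0,2,2,1,0] .nil .nil)) (.node [1,3,3,1,0,2,3,0,2,1] (.node [3,3,0,2] .nil .nil) (.node [0,2,0,1,3,2,0,2,3,0,1,0] .nil .nil))) (.node [0,1,3,1,3,1,3,3,2] (.node [2,3,2,0,1,3,2,2,1] (.node [0,1,3,1,3,0,2,1,0,2] .nil .nil) (.node [3,1,3,0,2,2,0,2,1] .nil .nil)) (.node [1,3,3,0,2,1,3,1,3,0] (.node [1,3,1,3,2,2,2] .nil .nil) .nil)))) (.node [2,2,0,2,3,0,1,3,1] (.node [2,3,3,2,2,0,1,3,2] (.node [3,1,3,2,0,2,3,0,1] (.node [2,0,2,2,0,2,0,1] (.node [2,1,0,2,0,2,0,1,3] .nil .nil) (.node [3,2,1,0,2,0,2,3,3,0] .nil .nil)) (.node [2,3,1,0,2,2,1] (.node [3,2,1,0,2,2,0,2,1,3,0] .nil .nil) (.node [0,1,3,1,3,2,2,2,1] .nil .nil))) (.node [2,1,3,1,3,3,0,1,3] (.node [1,3,1,0,2,0,2,3,1,3] (.node [3,0,2,0,2,2,0,2,2,1,0] .nil .nil) (.node [2,2,0,1,3,3,2,0,2,0] .nil .nil)) (.node [2,2,0,2,3,0,1,3,0] (.node [1,3,2,1,0,2,0,2,1] .nil .nil) .nil))) (.node [3,3,2,0,2,2,2,1,0,2,0]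 (.node [0,1,3,0,2,1,3,1,0] (.node [0,2,0,2] (.node [2,3,1,0,2,3,0,2,1,3,2] .nil .nil) (.node [2,1,3,0,2,2,0,2,3,1] .nil .nil)) (.node [3,3,0,2,0,2,1,0,2,3] (.node [1,3,0,1,3,3,1,3,2,0,2,0] .nil .nil) .nil)) (.node [2,3,3,2,1,3,1,0] (.node [3,1,0,2,1,3,0,2,1,3,2] (.node [2,1,3,1,3,3,1,0] .nil .nil) (.node [3,2,1,3,3,0,2,1,3] .nil .nil)) (.node [3,3,2,1,3,3,0,2,2,0] (.node [2,3,1,0,2,3,1,0,2,3] .nil .nil) .nil))))) (.node [0,2,1,3,1,3,0,1,3,3,0] (.node [1,0,2,1,3,3,0,2,1] (.node [2,3,3,1,3,2,2] (.node [0,2,3,3,0,2,0,2,0] (.node [0,2,3,0,1,3,0,1,0] (.node [3,1,3,2,0,2,2,0,1,0] .nil .nil) (.node [3,3,2,1,3,0,1,3,3,1] .nil .nil)) (.node [2,3,0,1,3,3,0] (.node [0,2,3,1,3,2,0,1,3,1] .nil .nil) (.node [2,2,0,2,2,0,2,0,1,3,2] .nil .nil))) (.node [1,0,2,0,2,3,1,3,2,1,0] (.node [2,3,2,1,3,0,2,1,3,1] (.node [2,2,0,2,3,1,3,3,1,0] .nil .nil) (.node [2,3,1,3,2,2,1,0,2,0] .nil .nil)) (.node [2,3,3,0,2,1,0,2,2,1] (.node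 [3,0,1,3,0,1,3,3,2,1,0] .nil .nil) .nil))) (.node [3,0,2,2,0,2,3,1,3,2] (.node [3,0,1,3,2,2,0,2,2,2] (.node [2,0,1,3,1,0,2,3,3,1] (.node [3,0,2,2,0,2,0,2,1,0] .nil .nil) (.node [2,3,3,1,3,3,0,2,0,1,0] .nil .nil)) (.node [2,0,2,3,1,3,0,2,2] (.node [2,1,3,3,1,3,3,2,2] .nil .nil) .nil)) (.node [0,2,1,0,2,2,0,2,1] (.node [2,3,3,2,0,1,3,0,2,0,1] (.node [1,3,2,0,1,3,0,2,1] .nil .nil) (.node [1,0,2,1,3,0,1,3,3,1,0] .nil .nil)) (.node [0,2,3,1,3,0,2,0,1,0] (.node [2,0,2,1,3,2,1,3,3,0] .nil .nil) .nil)))) (.node [1,3,3,2,1,3,2,0,1,3] (.node [1,3,0,1,3,3,1,3,0,1] (.node [1,3,2,1,3,2,0,1,3,3] (.node [2,0,2,2,2,0,1] (.node [0,2,0,2,1,0,2,3,0,2,1] .nil .nil) (.node [0,2,0,1,3,3,0,2,1] .nil .nil)) (.node [3,0,2,1,3,1,3,3,0,1] (.node [0,2,3,3,1,0,2,2,1,0,2] .nil .nil) (.node [2,0,1,3,1,3,2,1,3] .nil .nil))) (.node [1,3,2,0,2,1,3,2] (.node [2,1,3,3,1,3,0,1,3,0] (.node [2,0,2,1,3,1] .nil .nil) (.node [2,1,0,2,1,0,2,0,2]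 .nil .nil)) (.node [2,3,0,2,0,2,3,1] (.node [2,1,3,0,1,3,3,1,3,3] .nil .nil) .nil))) (.node [1,3,0,1,3,0,2,1,3,1,3] (.node [1,3,0,2,1,3,3,0,2] (.node [3,0,1,3,3,1,3,1,3,0] (.node [2,3,1,3,2,2,1] .nil .nil) (.node [2,0,1,3,3,1,3,3,0] .nil .nil)) (.node [0,2,3,3,2] (.node [0,2,1,0,2,2,0,2,3,3] .nil .nil) .nil)) (.node [2,3,3,2,0,1,3,3,2,2] (.node [2,0,2,3] (.node [0,2,3,1,0,2,0,2] .nil .nil) (.node [2,0,2,1,0,2,0] .nil .nil)) (.node [2,0,2,3,0,2,0,2,1,3,1] (.node [2,2,0,2,2,0,2,3,0,2,1] .nil .nil) .nil))))))))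

/-- Part of `setWord`. -/
noncomputable def setWord_l_r_l_r : Arr (List ℕ) :=
  .node [3,3,1,0,2,2,0,2,0,2,2] setWord_l_r_l_r_l setWord_l_r_l_r_r

/-- Part of `setWord`. -/
noncomputable def setWord_l_r_l : Arr (List ℕ) :=
  .node [0,2,3,3,2,1,3,2,1,0] setWord_l_r_l_l setWord_l_r_l_r

/-- Part of `setWord`. -/
noncomputable def setWord_l_r_r_l_l : Arr (List ℕ) :=
  (.node [0,2,1,0,2,3,3,2,2,2,1] (.node [0,2,3,3,2,1,3,1,3,0,2] (.node [3,3,1,0,2,0,2,3,3,2] (.node [3,1,3,1,3,0,2,2,2,0,1,0] (.node [2,2,0,2,2,0,2,1,0,2] (.node [2,3,0,2,1,3,1,0,2,2] (.node [0,2,0,2,0,2,1,3,0,1] (.node [1,3,0,2,0,1,3,1,3,3] (.node [3,3,1,3,2,2,0,2,1,0] .nil .nil) (.node [0,2,2,1,0,2,3] .nil .nil)) (.node [2,1,0,2,2,0,2,1,3] (.node [2,1,3,2,0,2,0,1,3,2,1] .nil .nil) (.node [3,1,3,1,3,3,1,0,2,3,1] .nil .nil))) (.node [1,0,2,3,1,0,2,2,0,2,1] (.node [3,1,0,2,2,1,0,2,2,1] (.node [0,2,0,1,3,2,0,2,3] .nil .nil) (.node [2,3,0,2,0,2,1,3,0,1,0]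 .nil .nil)) (.node [2,0,1,3,1,3,2,2,2] (.node [3,3,1,0,2,2,1,0,2,1] .nil .nil) .nil))) (.node [3,3,2,0,1,3,2,2,2,0] (.node [3,3,2,0,2,0,2,1,3,2] (.node [0,2,0,2,0,2,0,2,1,3] (.node [2,3,0,2,2,1,0,2,1] .nil .nil) (.node [3,1,3,3,1,3,3,2,2] .nil .nil)) (.node [3,3,1,0,2,0,2,0,2,3] (.node [2,1,3,3,1,3,2,1] .nil .nil) (.node [1,3,3,1,3,2,0,2,0] .nil .nil))) (.node [3,2,1,3,2,2,1,0,2] (.node [3,1,3,0,1,3,3,2,2] (.node [2,0,2,3,0,2,0,1,3,2] .nil .nil) (.node [1,3,3,0,2,1,3] .nil .nil)) (.node [3,2,1,3,0,2] (.node [2,0,1,3,3,0,2,0,2,1] .nil .nil) .nil)))) (.node [3,3,1,3,1,3,1,3,2,2,0] (.node [0,2,2,0,2,3,3,2] (.node [3,2,2,0,2,0,2,1,3,2] (.node [1,3,0,2,0,2,2,0,1] (.node [1,0,2,0,1,3,2,2,0,2,3,1] .nil .nil) (.node [2,3,1,3,3,2,0,1,3,2,0] .nil .nil)) (.node [1,0,2,0,1,3,2,0] (.node [3,3,0,2,2,2,0,2,0,1] .nil .nil) (.node [3,1,3,3,2,2,2,1,0,2,0] .nil .nil))) (.node [0,2,0,2,1,3,0,2,0,1] (.node [0,2,1,3,0,1,3,2]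 (.node [3,0,2,0,2,3,0,2,1] .nil .nil) (.node [0,2,0,2,1,3,2,2,1,0] .nil .nil)) (.node [3,0,2,2,0,2,3,1,0] (.node [0,2,1,3,2,2,0,2,1,0,2,0] .nil .nil) .nil))) (.node [2,0,2,0,2,1,3,1,3,0] (.node [0,1,3,2,2,2,1,0,2,2] (.node [2,0,2,3,0,2,0,1,3] (.node [2,3,0,2,2,1,0,2,2,1] .nil .nil) (.node [0,2,0,1,3,3,2] .nil .nil)) (.node [2,1,3,3,1,3,2,0] (.node [3,2,1,3,2,0,1,3,0,2] .nil .nil) .nil)) (.node [2,2,0,1,3,3,2,2,0,1,0] (.node [3,0,2,0,2,0,2,3] (.node [3,2,2,2,0,2,2,0,2,0] .nil .nil) (.node [3,3,2,1,3,2,0,2,0] .nil .nil)) (.node [2,3,0,2,0,1,3,2,2] (.node [0,1,3,2,2,0,1,3,2,2,0] .nil .nil) .nil))))) (.node [3,1,3,1,3,1,3,1,3,0] (.node [1,3,2,0,2,1,3,1] (.node [2,3,3,1,3,1,0,2,0,2] (.node [3,3,1,3,3,0,2,2,1,0] (.node [3,0,1,3,2,1,3,1,0] (.node [3,2,2,0,2,2,1,0,2,3,1,0] .nil .nil) (.node [3,1,0,2,0,2,3,3] .nil .nil)) (.node [3,2,2,0,2,1,3,0,2,2,1,0] (.node [1,3,3,0,1,3,0,1,3,3,2] .nil .nil) (.node [1,3,3,0,2,2,0,2,1]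 .nil .nil))) (.node [1,0,2,0,2] (.node [3,1,3,1,3,1,3,2,0] (.node [1,0,2,3,3,0,2,1,0] .nil .nil) (.node [2,3,1,3,0,2,2,2,1] .nil .nil)) (.node [2,1,3,0,1,3,1,3,0,2,1] (.node [2,3,1,0,2,3,3,2,1,3,2] .nil .nil) .nil))) (.node [2,1,3,1,3,1,3,3,0,1] (.node [3,1,0,2,3,1,3,3] (.node [1,3,0,2,0,1,3,3,2,1,0] (.node [0,2,0,2,0,2,0,1,3,0] .nil .nil) (.node [1,3,1,3,2,2,0,1,3,1] .nil .nil)) (.node [2,3,1,3,2,1,3,2,2,1,0] (.node [3,2,0,2,1,3,1,3,1,3,1,0] .nil .nil) .nil)) (.node [1,3,1,3,1,3,3,2,1,3] (.node [1,3,0,2,2,0,2,1,0] (.node [2,3,1,3,1,0,2,2,1] .nil .nil) (.node [0,2,3,3,1,3,2,1] .nil .nil)) (.node [2,0,2,2,0,2,0,2,1,3,2] (.node [3,1,0,2,3,3,1,3,1,0] .nil .nil) .nil)))) (.node [0,2,1,0,2,3,1,3,2,1,0] (.node [0,1,3,3,0,1,3,1,3,0] (.node [3,2,2,0,2,3,1,3,2] (.node [3,3,1,3,2,2,0] (.node [2,3,2,1,3,3,2,1,3,1,3,0] .nil .nil) (.node [2,3,1,0,2,1,3,3,0,2,0] .nil .nil)) (.node [0,2,2,0,2,0,2,2] (.node [3,3,1,3,2,2,0,2,2,0,1]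 .nil .nil) (.node [2,0,2,1,3,0,2,2,2,1] .nil .nil))) (.node [3,2,1,3,3,2,0,1,3,1] (.node [2,3,1,0,2,2,0,2,2,2] (.node [1,3,2,1,3,1,3,2,1] .nil .nil) (.node [1,3,0,2,1,3,2,0,2,1,0] .nil .nil)) (.node [3,2,1,3,2,2,1,0,2,3] (.node [2,1,3,3,2,2,2,1,0] .nil .nil) .nil))) (.node [1,3,2,2,0,2,0,2,0] (.node [2,3,3,0,2,2,0,2,1,0] (.node [1,3,1,3,3,2] (.node [1,3,0,1,3,3,1,3,0,1,0] .nil .nil) (.node [3,2,0,1,3,0,1,3,3,2] .nil .nil)) (.node [2,3,0,2,2,0,2,0,1] (.node [3,2,2,0,1,3,3,1,3,3,0] .nil .nil) .nil)) (.node [0,2,1,0,2,2,0,2,1,0] (.node [3,2,0,2,1,3,1] (.node [1,0,2,0,2,2,0,2,3,0,1] .nil .nil) (.node [3,2,2,0,2,2,2,0,2,1,3] .nil .nil)) (.node [0,2,1,3,1,3,2,0,1] (.node [2,3,3,2,1,0,2,3,3,0] .nil .nil) .nil)))))) (.node [1,0,2,1,3,3,1,0] (.node [1,3,3,1,3,1,3,3,0] (.node [0,2,1,0,2,3,3,1,3,0] (.node [1,3,1,3,2,1,0,2,0,2,0] (.node [2,2,0,1,3,1,3,3,2,1,0] (.node [2,3,0,1,3,3,0,1,3] (.node [2,2,2,0,1,3,1,3,0,2]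 .nil .nil) (.node [1,3,3,2,0,2,1,0] .nil .nil)) (.node [2,1,0,2,0,1,3,2,0,1] (.node [1,3,1,3,2,1,3,0,2,2] .nil .nil) (.node [1,3,1,3,3,0,1,3,3,2,1,0] .nil .nil))) (.node [1,0,2,1,3,3,0,2,1,0,2] (.node [3,1,3,3,1,0,2,3,0,2,1] (.node [1,3,0,2,2,1,0,2,0,2] .nil .nil) (.node [0,2,3,3,0,2,2,0,1,0] .nil .nil)) (.node [1,3,2,1,3,0,1,3,3] (.node [0,1,3,0,1,3,1,3,2,0] .nil .nil) .nil))) (.node [3,3,0,1,3,3,0,2,0,1] (.node [3,1,0,2,1,0,2,3,0,2,0] (.node [0,2,2,0,2,2,0,2,1,3] (.node [2,3,0,2,2,0,2,1,3,0] .nil .nil) (.node [2,0,2,1,3,2,2,0,1,3] .nil .nil)) (.node [2,2,2,0,2,1,3,0,2,2,0] (.node [1,0,2,2,1,0,2,1] .nil .nil) (.node [2,1,3,1,3,2,0,2,3,1] .nil .nil))) (.node [2,2,0,1,3,0,2,1,3,2,1,0] (.node [3,0,1,3,2,2,2,0] (.node [3,1,3,3,2,2,0,2,0,1,0] .nil .nil) (.node [1,3,0,2,2,0,2,1] .nil .nil)) (.node [0,2,0,2,3,0,1,3,0,1,0] (.node [2,3,3,1,3,3,0,2,1,0] .nil .nil) .nil)))) (.node [2,3,2,2,0,1,3] (.node [3,1,3,0,1,3,2,0,1,3]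 (.node [0,2,1,3,0,2,1,0] (.node [0,2,1,3,1,3,2,1,3,2] (.node [2,1,3,0,2] .nil .nil) (.node [0,2,3,1,3,0,2,0,2,1] .nil .nil)) (.node [0,2,0,2,3,3,2,1,0] (.node [3,0,1,3,1,3,3,2,2,1] .nil .nil) (.node [2,3,0,2,2,0,2,1,0,2,0] .nil .nil))) (.node [0,2,2,0,2,0,1,3,0,2,0,1] (.node [0,2,1,3,1,0,2,2] (.node [0,2,3,3,1,0,2,1,0] .nil .nil) (.node [3,1,3,3,0,1,3,3,2,1,0] .nil .nil)) (.node [1,3,2,1,3,1,0,2,3,3,0] (.node [0,1,3,0,1,3,0,2,2,1] .nil .nil) .nil))) (.node [3,3,0,1,3,0,1,3,0,2] (.node [0,2,1,0,2,3,3,2,0] (.node [0,2,2,0,2,1,3,3,1] (.node [2,3,0,1,3,1] .nil .nil) (.node [3,0,2,1,3,0,2,1,0,2] .nil .nil)) (.node [0,2,1,3,0,2,2,1] (.node [2,3,1,3,2,1,3,1] .nil .nil) .nil)) (.node [0,2,1,3,1,3,1,3,3] (.node [2,1,3,3,2,1,0,2,0,2] (.node [0,2,0,2,3,3,1,3,0,1] .nil .nil) (.node [1,3,2,1,3,2,0,2,0] .nil .nil)) (.node [1,0,2,1,3,3,0,1,0] (.node [3,0,2,1,3,0,2,2,1] .nil .nil) .nil))))) (.node [2,3,1,3,2,0,2,0,1,3,0]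 (.node [3,2,0,2,1,3,3,0,2,1] (.node [2,0,1,3,1,3,3,1,3,2] (.node [3,1,3,3,2,0,2,0,2,2] (.node [3,0,2,0,2,3,1,3,2,2] (.node [1,3,1,3,2,1,3,2,2,2,1] .nil .nil) (.node [2,3,3,2,0,1,3,0,2] .nil .nil)) (.node [3,1,3,0,1,3,1,0] (.node [0,1,3,1,3,1,0,2,3,1] .nil .nil) (.node [3,1,0,2,2,2,1] .nil .nil))) (.node [3,3,2,1,3,1,3,3,0,1] (.node [2,3,1,0,2,1,3,3] (.node [1,3,3,2,0,1,3,0,2,2,0] .nil .nil) (.node [2,3,3,0,1,3,1,3,2,0] .nil .nil)) (.node [0,2,1,0,2,0,2,3,3,1] (.node [3,0,2,1,3,1,3,3,1,3,1] .nil .nil) .nil))) (.node [2,0,1,3,0,2,2,1,0,2,0] (.node [3,1,0,2,0,2,2,1] (.node [3,1,3,3,2,1] (.node [3,0,2,0,2,3,1,0,2,3,3] .nil .nil) (.node [3,3,2,1,0,2,2,2,0,2,2] .nil .nil)) (.node [2,0,2,2,2,1,0] (.node [1,3,2,0,2,0,2,0,2,2,1] .nil .nil) .nil)) (.node [3,1,3,2,2,0,1,3] (.node [3,3,0,1,3,1,3,2,2] (.node [3,0,2,1,3,1,3,0,2,0] .nil .nil) (.node [3,3,0,1,3,3,2,1,0] .nil .nil)) (.node [0,2,2,0,2,0,2,2,1] (.node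 [1,3,3,1,3,0,2,2,1] .nil .nil) .nil)))) (.node [2,3,0,2,0,1,3,2,2,0] (.node [3,2,1,3,3,1] (.node [2,1,3,3,2,0,1,3,0] (.node [0,1,3,0,1,3,1,3,3,1,3,1] (.node [2,3,2,0,1,3,3,1,0] .nil .nil) (.node [1,3,3,0,2,0,2,1] .nil .nil)) (.node [2,3,2,0] (.node [1,0,2,3,0,2,0,2,3] .nil .nil) (.node [3,1,0,2,0,2,0,2,0,1,3,3] .nil .nil))) (.node [2,0,2,1,3,3,0,2,1] (.node [2,1,0,2,2,1,0,2,3] (.node [2,3,3,0,2,2,1,0,2,0] .nil .nil) (.node [2,3,3,1,3,1,0,2,2,2,1] .nil .nil)) (.node [0,2,0,2,0,1,3,3,2,2] (.node [1,3,2,0,2,3,1,0,2,2,1] .nil .nil) .nil))) (.node [0,1,3,3,0,1,3,0,1,0] (.node [0,1,3,2,0,1,3,0,2,1,3] (.node [0,2,1,3,1,3] (.node [2,1,0,2,2,1] .nil .nil) (.node [3,2,1,0,2,3,0,2,2] .nil .nil)) (.node [3,0,1,3,2,2,0,2,1,3,0] (.node [3,2,0,1,3,0,2,1,3,1,3] .nil .nil) .nil)) (.node [2,3,2,0,2,2,0,2,0] (.node [2,3,2,1,3,2,0,1,0] (.node [1,3,0,1,3,2,0,1,3,2] .nil .nil) (.node [1,3,0,2,1,3,1,3,1,3,3,0] .nil .nil))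 (.node [1,3,2,1,3,2,1,3,3,1,0] (.node [2,2,1,0,2,3,1,3,2,1] .nil .nil) .nil))))))) (.node [1,3,3,1,0,2,1,3,1,0] (.node [1,0,2,1,3,1,3,2,1] (.node [3,3,1,0,2,0,2,2,0,2] (.node [2,0,2,0,2,0,2,3,0,1] (.node [2,0,2,2,1,0,2,1,3] (.node [0,1,3,0,1,3,2,0,2,2,1] (.node [1,3,0,2,1,3,2,1,3,1] (.node [2,3,3,1,3,2,2,1,0] .nil .nil) (.node [3,0,2,1,3,2,1,0] .nil .nil)) (.node [2,3,3,2,0,1,3,3,0] (.node [1,0,2,0,2,2,1,0,2,2] .nil .nil) (.node [0,2,2,2,1,0,2,2,2,1] .nil .nil))) (.node [3,2,0,2,2,2,0,1,3] (.node [2,3,3,0,1,3,0,1,3,0,1] (.node [0,2,2,0,2,2,0,2,0] .nil .nil) (.node [0,1,3,2,1,3,1,3,2,1] .nil .nil)) (.node [2,2,2,0,1,3,0,2] (.node [2,1,3,1,3,0,2,2,1] .nil .nil) .nil))) (.node [1,0,2,2,2,0,2,1,3,1] (.node [1,0,2,2,1,0,2,2,2,1] (.node [2,2,2,0,1,3,2,2,2,0] (.node [3,0,1,3,3,0,2,0,2,1] .nil .nil) (.node [2,0,2,2,0,2,3,1,3,0] .nil .nil)) (.node [2,0,1,3,3,1,3,3,2] (.node [2,2,0,2,0,1,3,3,2,0] .nil .nil) (.node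 [1,3,0,2,2,0,2,1,0,2,0] .nil .nil))) (.node [1,3,1,3,3,0,1,3,0] (.node [2,3,3,0,2,1,3,3,0,2,2,0] (.node [1,0,2,3,0,2,1,0,2,0] .nil .nil) (.node [3,3,2,1,0,2,1,3] .nil .nil)) (.node [3,2,2,2,0,1,3,0] (.node [3,2,2,0,2,3,3,2,0,2,1,0] .nil .nil) .nil)))) (.node [2,0,2,0,2,1,3,2,1] (.node [2,0,2,2,0,2,3,1] (.node [0,2,1,3,0,1,3,0] (.node [0,2,3,1,0,2,3,1] (.node [3,2,0,1,3,3,1,3,3,2] .nil .nil) (.node [1,3,2,0,2,3,0,2,2] .nil .nil)) (.node [1,3,0,2,0,1,3,2,2,1] (.node [3,3,2,0,2,2,1,0,2,2] .nil .nil) (.node [3,1,3,0,1,3,2,2,1,0,2,1] .nil .nil))) (.node [2,3,0,2,2,1,0,2,3,1,0] (.node [1,3,3,1,0,2,2,1,0] (.node [2,1,3,2,0,2,2,1] .nil .nil) (.node [1,0,2,3,1] .nil .nil)) (.node [3,2,2,0,2,2,0,2,1,0] (.node [3,3,1,0,2,3,1,3,3,1,0] .nil .nil) .nil))) (.node [3,3,2,1,3,0,2,1,3,2,0] (.node [3,1,3,0,2,0,1,3,3,2,1] (.node [3,1,3,0,2,0,2,1,0,2] (.node [3,3,1,3,3,1,3,1] .nil .nil) (.node [1,3,2,1,3,0,2,2,1,0] .nil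 .nil)) (.node [3,0,1,3,0,1,3,3,1,3] (.node [2,1,0,2,3,3,1,3,2] .nil .nil) .nil)) (.node [3,0,1,3,0,1,3,1,0] (.node [2,3,2,1,3,1,3,2,2,1,0] (.node [2,0,2,1,3,3,2,2,0] .nil .nil) (.node [3,0,1,3,2,1,0] .nil .nil)) (.node [2,3,3,1,0,2,0,2,1] (.node [0,2,0,1,3,2,2,2,1] .nil .nil) .nil))))) (.node [2,3,2,1,3,2,1,3,0,1] (.node [2,3,1,0,2,3,3,1,0,2,3,1] (.node [1,0,2,1,3,3,2,2,2,1] (.node [2,1,3,3,1,3,2,0,1,0] (.node [3,1,3,0,1,3,3,0,2,2] (.node [3,3,2,0,1,3,2,2] .nil .nil) (.node [3,3,0,1,3,3,1] .nil .nil)) (.node [0,2,2,1,0,2,1,3,3,0] (.node [2,0,2,0,2,3,0,2,2,1,0] .nil .nil) (.node [3,3,2,1,3,3,0,2,1,3] .nil .nil))) (.node [1,0,2,2,0,2,3,0,2,1,3] (.node [0,2,3,1,3,1,3,2,0] (.node [2,3,3,2,2,0,2,1,0] .nil .nil) (.node [0,2,2,1,0,2,2,0,1] .nil .nil)) (.node [2,3,0,1,3,2,1,3,3,1] (.node [0,2,0,2,3,1,0,2,3,1,0] .nil .nil) .nil))) (.node [0,2,3,3,1,3,2,1,3] (.node [2,3,0,2,1,3,3,1] (.node [1,3,0,2,0,2,2,0,2]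 (.node [3,2,0,2,2,0,2,2,0,2,0] .nil .nil) (.node [0,2,0,1,3,2,2,1] .nil .nil)) (.node [1,3,2,0,2,0,1,3,0,2] (.node [3,1,3,1,3,2,1,3,3,0] .nil .nil) .nil)) (.node [3,1,3,1,3,3,0,2,0,2,2] (.node [3,3,0,1,3,0,1,3,3,1] (.node [0,2,3,3,2,2,1,0,2,0] .nil .nil) (.node [3,3,2,1,3,1,3,2,0,2,0] .nil .nil)) (.node [2,2,1,0,2,2,1] (.node [1,0,2,1,3,3,1,3,3,1] .nil .nil) .nil)))) (.node [3,3,0,2,2,0,2,0,2,2,1] (.node [1,3,3,0,1,3,3,1,0] (.node [1,0,2,3,3,2,0,1,3,2] (.node [1,3,3,0,2,0,2,2,0,2,1] (.node [0,2,1,3,3,2,1,3,2,0,1] .nil .nil) (.node [2,2,0,1,3,3,0,1] .nil .nil)) (.node [0,2,1,3,3,0,1,3,2,0,1] (.node [2,3,3,2,1,3,3,0] .nil .nil) (.node [1,3,2,0,2,3,0,2,1,3] .nil .nil))) (.node [1,3,0,1] (.node [3,2,1,0,2,0,2,2,1,0] (.node [3,2,2,1,0,2,1,0] .nil .nil) (.node [0,1,3,2,2,2,0,2,2,2,1] .nil .nil)) (.node [3,2,1,3,3,2,1,0,2] (.node [0,2,0,1,3,2,0,2,2,1] .nil .nil) .nil))) (.node [2,2,2,0,2,2,2,0,2,2,1] (.node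 [1,3,3,2,1,3,3,1,3,1] (.node [3,2,1,3,2,2,0] (.node [3,2,2,2,0,2,1] .nil .nil) (.node [2,3,0,1,3,2,1,3,3,1,0] .nil .nil)) (.node [3,1,3,1] (.node [2,0,2,2,0,2,1,3,0,2,0] .nil .nil) .nil)) (.node [2,0,2,1,3,1,3,3,2,2,1] (.node [0,2,2,1,0,2,3,0,2,1] (.node [0,2,0,2,0,2,2,0,2,1,0] .nil .nil) (.node [3,3,2,0,1,3,2,2,2] .nil .nil)) (.node [3,0,1,3,2,0,1,3] (.node [1,3,2,0,2,0,2,1,3,0] .nil .nil) .nil)))))) (.node [0,2,3,3,2,0] (.node [3,2,0,2,2,0,2,3,3,1] (.node [0,2,3,3,2,1,0] (.node [2,1,3,2,0,1,3,3,0] (.node [3,0,2,1,3,3,1,3,3] (.node [3,3,1,3,1,3,2,1,0] (.node [2,2,0,1,3,3,2,2,1] .nil .nil) (.node [2,1,3,3,1,3,3,1] .nil .nil)) (.node [2,0,1,3,2,1,3,0,2,0] (.node [3,2,0,2,0,2,1] .nil .nil) (.node [1,3,1,3,3,1,3,2,0,2,0] .nil .nil))) (.node [1,3,3,2,0,1,3,3,0,1] (.node [1,3,3,1,3,2,1] (.node [1,0,2,2,1,0,2,3,3] .nil .nil) (.node [0,2,1,3,0,2,0,1,3,3] .nil .nil)) (.node [1,3,0,2,1,3,3,1,3,3] (.node [3,1,3,1,0,2,3,3,0]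 .nil .nil) .nil))) (.node [1,0,2,2,0,2,0,2,2] (.node [3,2,1,3,0,2,0,1] (.node [2,0,2,0,2,3,3,0,2,0] (.node [3,0,2,2,0,1,0] .nil .nil) (.node [0,1,3,2,0,2,0,2,3] .nil .nil)) (.node [1,3,1,0,2,3,3,1] (.node [2,0,2,1,3,3,2,2,0,2,2] .nil .nil) (.node [3,1,3,1,3,3,2,0,2,0] .nil .nil))) (.node [2,0,2,2,0,1,3] (.node [1,3,2,0,2,2,0,1] (.node [3,1,3,0,1,3,0,2,1,3] .nil .nil) (.node [1,3,2,1,3,0,2,0] .nil .nil)) (.node [3,2,1,3,2] (.node [0,1,3,1,3,0,2,2] .nil .nil) .nil)))) (.node [0,2,3,0,2,0,2,2,2,1] (.node [2,1,0,2,0,2,2,1] (.node [2,0,2,3,1,3,2,0,2,2,1] (.node [3,0,2,1,3,3,1,3,2,0] (.node [2,2,1,0,2,3,3,0,2,1] .nil .nil) (.node [1,3,2,2,2,0,1,3,3,0,1] .nil .nil)) (.node [2,2,2,0,2,1,3,3,0,1,0] (.node [1,3,3,2,2,0,2,1] .nil .nil) (.node [1,3,3,1,3,3,1,3,0,2,0] .nil .nil))) (.node [3,1,0,2,2,0,2,1,0,2,1,0] (.node [1,3,1,3,1,3,2,0,1] (.node [2,3,3,1,3,1,3] .nil .nil) (.node [3,1,3,3,1,0,2,3,1] .nil .nil))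 (.node [3,3,2,1,0,2,3,3,2,1] (.node [0,2,1,0,2,3,3,0,2] .nil .nil) .nil))) (.node [2,1,3,1,3,3] (.node [1,3,1,3,2,0,2,1,0,2] (.node [0,2,3,3,2,0,2,0,2,1] (.node [2,3,2,2,0,2,0,2,0,1] .nil .nil) (.node [0,1,3,1,3,3,2] .nil .nil)) (.node [2,3,0,2,2,1] (.node [3,0,2,1,0,2,0,2,1,3] .nil .nil) .nil)) (.node [0,2,0,2,3,1,3,1,3,0] (.node [2,0,1,3,2,1,3,3,1] (.node [3,3,0,2,1,3,1,3,2,0] .nil .nil) (.node [0,2,0,1,3,3,0,2,1,0] .nil .nil)) (.node [0,2,1,0,2,3,0,1,0] (.node [0,1,3,2,2,0,1,3,0,2,2] .nil .nil) .nil))))) (.node [3,2,1,3,2,1,3,0,2] (.node [2,3,2,1,3] (.node [1,3,2,1,3,0,2,2,2,1,0] (.node [0,2,0,2,0,2,0,2,0,2,1,0] (.node [0,1,3,3,0,1,3,1,0] (.node [3,2,0,2,2,0,2,0] .nil .nil) (.node [2,1,3,2,1,3,0,1,3,1] .nil .nil)) (.node [0,1,3,2,0,1,3,2,2] (.node [3,1,0,2,0,2,0,1,3] .nil .nil) (.node [3,3,0,1,3,2,1,3,1] .nil .nil))) (.node [1,0,2,2,2] (.node [3,0,1,3,2,2,1,0,2] (.node [3,2,2,0,2,0,2,0,2,1,3] .nil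 .nil) (.node [2,0,2,1,0,2,0,2,0,2,0] .nil .nil)) (.node [3,2,2,0,2,0,2,3,3,0] (.node [2,1,3,3,0,2,0,2,0,1,0] .nil .nil) .nil))) (.node [0,2,1,3,3,2,2,1,0] (.node [3,1,3,0,2,1,3,2,2,0] (.node [2,3,0,1,3,0,2,0,1] (.node [0,2,1,3,1,3,1,3,2,0] .nil .nil) (.node [3,3,1,3,3,1,0] .nil .nil)) (.node [1,3,1,0,2,3,0,2,1,0] (.node [1,3,2,2,2,0,2,0,2,0,1] .nil .nil) .nil)) (.node [3,1,3,2,2,0,2,2,0,1] (.node [3,2,0,2,2,0,2,0,2,2,0,1] (.node [3,2,2,0,2,3,0,1,0] .nil .nil) (.node [2,1,3,1,3,0,1,3,2,2,2] .nil .nil)) (.node [1,0,2,0,2,2,2,0,1,0] (.node [3,0,1,3,0,2,0,1] .nil .nil) .nil)))) (.node [0,2,2,0,1,3,0,2,0] (.node [0,2,2,0,2,2,2,0,1,0] (.node [3,2,1,3,3,1,3,2] (.node [3,2,1,3,2,2,2] (.node [1,3,3,0,1,3,1,0,2] .nil .nil) (.node [3,2,1,0,2,2,0,2,3,3] .nil .nil)) (.node [2,3,0,1,3,3,0,2,2,0] (.node [3,2,1,3,3,0,2,0,1,3] .nil .nil) (.node [1,3,3,2,1,3,0,2,1,0,2,0] .nil .nil))) (.node [2,2,2,1,0,2,0,1] (.node [1,0,2,3,0,1,3,2,1]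 (.node [3,1,0,2,0,2,0,1,0] .nil .nil) (.node [2,3,1,0,2,3,0,1,3,1,0] .nil .nil)) (.node [1,0,2,0,1,0] (.node [3,2,0,2,1,3,1,0,2] .nil .nil) .nil))) (.node [3,2,1,3,3,1,3,3] (.node [2,0,2,2,0,2,3,0,2,1] (.node [2,3,3,2,1,3,2,1] (.node [0,2,1,0,2,0,2,1,3,1,3,0] .nil .nil) (.node [0,1,3,2,1,3,1,3,2] .nil .nil)) (.node [3,1,3,2,2,0,2,1,3,0] (.node [2,2,0,2] .nil .nil) .nil)) (.node [3,0,1,3,2,2,1] (.node [0,1,3,0,2,1,3,2,2,1] (.node [2,3,1,3,1,3,3,2,2,1] .nil .nil) (.node [2,2,2,1,0,2,2,1,0,2] .nil .nil)) (.node [3,3,2,0,1,3,3,0,2,2] (.node [3,0,2,1,0,2,0,1] .nil .nil) .nil))))))))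

/-- Part of `setWord`. -/
noncomputable def setWord_l_r_r_l_r : Arr (List ℕ) :=
  (.node [0,2,2,2,0,1,3,2,1,3,3] (.node [0,2,3,1,0] (.node [1,0,2,2,2,1,0,2,0,1] (.node [1,3,3,1,3,3,1,3,0,2] (.node [3,0,1,3,3,2,0,1,3,3,0] (.node [1,3,2,2,0,2,3,0,1] (.node [1,3,2,1,0,2,2,0,1] (.node [2,0,1,3,0,1] (.node [3,0,2,1,3,1,3,0,1,3,3,0] .nil .nil) (.node [2,3,2,1,3,1,0,2,3,3,0] .nil .nil)) (.node [3,3,0,2,2,1,0,2,0,2] (.node [2,0,2,0,2,0,2] .nil .nil) (.node [2,2,2,0,1,3,2,0,2,0] .nil .nil))) (.node [2,3,0,1,3,1,3,2,0,1] (.node [0,2,3,3,1,3,2,1,0] (.node [1,3,0,2,0,2,3] .nil .nil) (.node [1,3,3,2,0,2,1,0,2,3,0,2] .nil .nil)) (.node [2,1,3,2,0,1,0] (.node [1,3,3,1,3,2,1,3,3,0] .nil .nil) .nil))) (.node [3,3,1,3,0,1,3,0,1,3,0] (.node [2,3,0,2,0,2,2,2,0,1,0] (.node [1,3,0,2,2,0,2] (.node [2,0,2,1,3,3,1,3,3,0,1] .nil .nil) (.node [2,0,2,0,2,2,0,1,3,2,0] .nil .nil)) (.node [1,3,2,1,3,3,1] (.node [2,2,0,2,3,3,0,2,1,0]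 .nil .nil) (.node [3,2,1,3,2,0,2,1,0,2,0] .nil .nil))) (.node [2,3,2,0,2,0,1,3,2] (.node [0,1,3,2,1,3,1,0] (.node [3,3,1,3,1,3,3,2,1,3] .nil .nil) (.node [3,2,2,1,0,2,2,1,0,2] .nil .nil)) (.node [1,3,3,2,2,0,1,3,2,2,0] (.node [3,2,1,3,1,3,2,2,0] .nil .nil) .nil)))) (.node [3,1,0,2,0,2,2] (.node [0,2,3,0,2,1,3,0,1,3,3] (.node [0,2,1,0,2,0,2,3,1,3,2,2] (.node [3,2,1,3,1,3,2,1,0,2,2] (.node [0,2,2,2,0,1,0] .nil .nil) (.node [1,0,2,2,0,2,3,0,1,3,0] .nil .nil)) (.node [3,2,0,1,3,0,2,1,3,2,1,0] (.node [0,2,3,1,0,2,1,3] .nil .nil) (.node [2,0,1,3,2,2,0,2] .nil .nil))) (.node [3,3,1,3,3,2,1,3,1,3,0] (.node [0,2,0,2,1,3,3,0] (.node [0,2,3,0,1,3,1,3,1,0] .nil .nil) (.node [1,3,1,3,0,2,2,0,2,1] .nil .nil)) (.node [0,1,3,0,2,1,3,0,2] (.node [2,1,3,0,2,1,3,0,2,0] .nil .nil) .nil))) (.node [3,1,3,3,0,1,3,1] (.node [0,1,3,0,2,1,0,2,2,1] (.node [3,3,0,1,3,0,2,2,0,2,0] (.node [3,1,3,2,1,3,3,2,2,1] .nil .nil) (.node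 [3,2,1,0,2,0,2,1,3,0] .nil .nil)) (.node [2,2,0,1,3,0,2,2,0,2,0] (.node [2,3,3,1,3,3,1,0,2,1,0] .nil .nil) .nil)) (.node [2,3,2,1,3,0,1,3,2,0] (.node [2,3,1,0,2,0,2,1,3] (.node [0,2,0,2,1] .nil .nil) (.node [1,3,3,0,1,3,2,1,3,1] .nil .nil)) (.node [2,3,1,3,1,3,2,0,1,0] (.node [2,1,0,2,1,0,2,3,1] .nil .nil) .nil))))) (.node [2,0,1,3,1,3,0,1,3,0] (.node [3,1,3,0,1,3,3,1,3,3,0] (.node [3,2,2,0,2,3,0,1] (.node [1,0,2,2,0,2,0,2,2,1] (.node [1,3,2,2,0,2,1,3,2,1] (.node [1,3,1,0,2,0,2,3,0,2,0] .nil .nil) (.node [2,1,3,0,1,3,0,2] .nil .nil)) (.node [2,3,0,1,3,0,1,3,0,2] (.node [0,1,3,0,2,1,3,0,2,0] .nil .nil) (.node [2,2,0,1,3,2,2,0,2] .nil .nil))) (.node [2,0] (.node [1,3,2,1,3,3,1,3,2,1] (.node [2,2,1,0,2,0,2,2,0,1,0] .nil .nil) (.node [0,2,2,1,0,2,1,0,2] .nil .nil)) (.node [3,1,3,0,1,3,2,0,1] (.node [3,0,2,0,2,3,1] .nil .nil) .nil))) (.node [0,2,1,0,2,3,1,3,3] (.node [0,2,2,2,0,1,3,2,1] (.node [2,1,3,3,2,1,3,3,2,2]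 (.node [3,1,3,3,1,3,1,3,0,2,2,0] .nil .nil) (.node [3,2,2,0,1,3,3,1,0] .nil .nil)) (.node [2,3,0,2,1,3,1,3,2] (.node [0,2,1,3,1,3,3,1] .nil .nil) .nil)) (.node [3,3,2,1,0,2,0,1,3] (.node [2,0,2,1,0,2,2,1,0,2,1] (.node [2,3,1,0,2,0,2,1,0] .nil .nil) (.node [3,3,2,0,1,3,0,2,2,2] .nil .nil)) (.node [2,2,0,2,3,1,0,2,0] (.node [3,2,1,3,3,1,3,1,3,2,1] .nil .nil) .nil)))) (.node [2,2,0,2,3,3,1] (.node [0,2,2,0,2,3,3,2,2,0] (.node [3,2,1,3,0,2,1,3,0,2] (.node [3,2,0,2,1,3,1,0,2,1] (.node [3,1,0,2,0,2,3] .nil .nil) (.node [1,3,0,1,3,2,2] .nil .nil)) (.node [3,0,2,1,0,2,3,1,3,0] (.node [0,2,2,1,0,2,1,3] .nil .nil) (.node [3,1,3,2,2,0,2,1,0,2,0] .nil .nil))) (.node [0,1,3,3,0,2,0] (.node [3,2,1,0,2,2,2,0,1,3] (.node [3,1,3,0,2,1,3,0,1,3,3] .nil .nil) (.node [2,2,2,0,1,3,3,0,2,0,2,0] .nil .nil)) (.node [3,1,0,2,3,3,1,0,2,0,2,0] (.node [2,2,2,0,2,0,1,0] .nil .nil) .nil))) (.node [3,3,2,2,0,2,0,1,0] (.node [3,3,1,3,0,2,1,3,0,2]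 (.node [3,1,3,1,0,2,3,3,2,1] (.node [3,2,1,0,2,0,2,3,1,3] .nil .nil) (.node [3,1,0,2,1,0,2,3,1,0] .nil .nil)) (.node [2,0,1,3,0,1,3,2,2,2] (.node [0,2,0,2,3,3,1,0,2,1] .nil .nil) .nil)) (.node [2,0,2,1,0,2,2,0,2,2] (.node [1,3,0,1,3,3,1,3,1,0] (.node [3,1,3,0,2,2,1,0,2,1] .nil .nil) (.node [3,1,3,3,2,1,3,3,1,0,2,0] .nil .nil)) (.node [3,2,0,2,3,1,3,2,0] (.node [0,1,3,2,1,3,3,1,3,2,2] .nil .nil) .nil)))))) (.node [1,3,1,0,2,3,0,1] (.node [2,2,1,0,2,0,2,3,1,0,2,1] (.node [2,3,2,1,0,2,0,1] (.node [3,3,1,3,2,1,3,1,0,2,1] (.node [0,2,2,0,2,2,2,0,2,1] (.node [1,3,1,3,1,3,3,0,1] (.node [1,3,3,2,0,2,2,1] .nil .nil) (.node [0,2,1,3,3,1,3,3] .nil .nil)) (.node [3,0,2,1,3,1,3] (.node [2,3,3,1,0,2,3,0,1,0] .nil .nil) (.node [2,0,2,1,0,2,0,2] .nil .nil))) (.node [2,3,1,3,1,3,1,3,3] (.node [2,3,3,1,0,2,0,1] (.node [3,0,1,3,1,0] .nil .nil) (.node [3,2,2,0,2,1,3,2,2,0] .nil .nil)) (.node [3,3,0,1,3,0,1,0] (.node [0,2,0,1,3,3,0,2,0]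 .nil .nil) .nil))) (.node [2,2,0,2,1,3,0,1,3,0,1] (.node [2,1,0,2,3,3,0,2,1,0] (.node [1,0,2,1,3,1,3] (.node [1,3,0,2,0,2,2,2,1,0] .nil .nil) (.node [3,0,2,0,2,0,2,1,3,0,2] .nil .nil)) (.node [3,3,0,2,2,0,2,0,2,1,0] (.node [2,0,1,3,3,0,2,0] .nil .nil) (.node [3,3,2,2,1,0,2,1,0,2,0] .nil .nil))) (.node [3,3,1,0,2,1,3,3,1,3,0] (.node [3,3,1,0,2,3,0,2] (.node [2,1,0,2,2,2] .nil .nil) (.node [3,2,0,2,0,2,3,0,2,1,3] .nil .nil)) (.node [3,0,2,1,3,0,1,3,3,0] (.node [1,3,0,2,0,1,3,3,0,2] .nil .nil) .nil)))) (.node [1,3,2,1,0,2,1,3,1,3,0] (.node [2,0,2,3,1,3,2,2,0] (.node [1,3,3,0,1,3,0,2,2,0] (.node [1,3,3,0,1,3,3,2,2,0] (.node [2,1,0,2,2,1,0,2,0] .nil .nil) (.node [2,2,0,2,0,2,3,3,2,0,2,0] .nil .nil)) (.node [3,1,0,2,3,0,1,3,3,1] (.node [2,2,0,2,1,0,2,0,2,0,2] .nil .nil) (.node [3,3,0,1,3,2,1,0] .nil .nil))) (.node [0,2,3,1,3,3,1,3,3] (.node [1,3,3,0,2,1,3,3,0] (.node [0,1,3,2,2,0,2,2,1] .nil .nil) (.node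 [1,0,2,0] .nil .nil)) (.node [3,2,1,0,2,2,0,2,2,1] (.node [3,1,3,2,1,3,1,3,2,0] .nil .nil) .nil))) (.node [2,2,2,0,2,2,2,1,0,2,1,0] (.node [1,0,2,0,2,2,0,2,1] (.node [3,3,2,1,0,2,1,0,2] (.node [3,0,2,2,0,2,2,2,0,1,0] .nil .nil) (.node [3,1,0,2,2,0,2,0,2,2] .nil .nil)) (.node [0,2,2,0,1,3,2,2,0,2,0] (.node [0,2,3,3,1,3,3,0,2,1] .nil .nil) .nil)) (.node [2,2,0,2,3,0,1,0] (.node [2,0,2,3,3,0,2,1,3,3] (.node [3,2,1,3,3,2,1,3,2] .nil .nil) (.node [3,3,1,0,2,2,1,0,2] .nil .nil)) (.node [3,1,3,3,2,0,2,2,0,2,0] (.node [0,2,0,2,3,3,2,0,2,1,0] .nil .nil) .nil))))) (.node [0,2,3,1,3,1,3,2,0,2,3,3] (.node [3,0,2,1,0,2,2,0,2,3,1] (.node [0,2,1,0,2,1,3,3,1,3,1] (.node [2,3,2,1,3,3,0,1,3,1,3,0] (.node [3,3,1,0,2,3,3,1,0,2,0,1] (.node [1,3,3,1,3,3,1,0] .nil .nil) (.node [0,2,0,2,3,3,0,2,0] .nil .nil)) (.node [1,3,1,3,3,1,3,1,3,2,1] (.node [0,2,3,3,0,2,0] .nil .nil) (.node [2,3,1,3,3,1,0,2,0] .nil .nil))) (.node [3,0,2,0,2,0,1,3,0]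 (.node [0,2,1,3,2,0,2,2,0,2,1,0] (.node [2,3,3,2,1,0,2,3,1,3,0] .nil .nil) (.node [3,3,1,3,3,1,3,0,2,0] .nil .nil)) (.node [2,3,1,3,3,1,3,3,0,1] (.node [2,1,3,0,2,0,2,3,3,0] .nil .nil) .nil))) (.node [2,3,3,1,3,3,0,1,0] (.node [2,3,1,3,3,0,2,2,1,0] (.node [3,3,0,2,2,1,0,2,1,0] (.node [1,0,2,0,2,2,2,0,1,3,0] .nil .nil) (.node [0,2,3,3,2,2,0,2,2] .nil .nil)) (.node [0,2,0,1,3,0,2,2,0,2,1,0] (.node [2,3,1,3,3,1,0,2,3] .nil .nil) .nil)) (.node [0,2,1,0,2,2,1,0,2,3] (.node [3,2,1,0,2,3,1,3,3,2,2] (.node [3,3,1,3,2,0,2,3,3,0] .nil .nil) (.node [1,0,2,3,0,1,3,2,0,1] .nil .nil)) (.node [2,2,0,2,3,0,2,2,0,2,1] (.node [2,3,2,0,2,2,0,2,2,1] .nil .nil) .nil)))) (.node [2,1,3,1,3,3,2,2,1] (.node [2,0,2,0,2,3,3,1,3,1,0] (.node [0,1,3,3,2,1,0,2,0,2] (.node [1,0,2,0,2,3,3,0,2] (.node [1,3,2,1,0,2,3,1,3,0] .nil .nil) (.node [3,2,0,2,2,2,0,1,3,2,2] .nil .nil)) (.node [3,2,2,2,1,0,2,0,2,2] (.node [3,2,0,2,1,0,2,0,2,0]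 .nil .nil) (.node [3,0,2,0,2,2,0,2,3,0,1,3] .nil .nil))) (.node [1,0,2,3,1,3,2,1,3,1] (.node [2,0,2,0,1,3,3,2,0] (.node [3,0,2,0,1,3,0,2] .nil .nil) (.node [1,3,0,2,2,0,2,3,3,0] .nil .nil)) (.node [2,2,0,2,0,1,3,0,2,0] (.node [2,3,3,0,1,3,1,3,2] .nil .nil) .nil))) (.node [3,3,2,2,2,0,1,3,3] (.node [3,0,2,2,0,1,3,3,0,2] (.node [1,0,2,1,0,2,0,1] (.node [3,0,2,0,2,3] .nil .nil) (.node [1,3,1,3,2,1,3,3,2,2,1] .nil .nil)) (.node [2,3,3,1,3,0,1,3,2,0] (.node [3,0,1,3,3,2,0] .nil .nil) .nil)) (.node [2,1,0,2,3,0,2,1,3,2] (.node [3,2,0,2,3,3,2,1,0] (.node [1,3,3,1,3,2,0,1,3,1] .nil .nil) (.node [3,0,2,2,0,1,3,3,2] .nil .nil)) (.node [2,3,0,2,2,0,2,2,1,0] (.node [3,2,1,3,1,3,1,0] .nil .nil) .nil))))))) (.node [3,3,2,0,2,0,2,1,0] (.node [2,0,2,3,3,2,1,0,2,0,1] (.node [2,0,2,3,1,3,3,1,0] (.node [2,0,2,0,2,0,2,2,1] (.node [1,0,2,0,2,3,1,0] (.node [2,3,1,0,2,3,3,2,0,1,0] (.node [1,3,3,1,3,3,1,3,1,0,2,3] (.node [2,0,2,0,2,3,3,2,2,0]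 .nil .nil) (.node [3,0,2,0,2,3,0,2,0] .nil .nil)) (.node [1,0,2,1,0,2,2,0,1] (.node [0,2,3,3,2,2,1,0] .nil .nil) (.node [3,2,2,0,1,3,2,0,2,0] .nil .nil))) (.node [2,0,2,3,1,3,3,0,2,2] (.node [2,0,2,2,2,0,1,3,3,0,2] (.node [1,3,1,3,0,2,0,1,3] .nil .nil) (.node [3,1,3,2,1,3,1,0,2,1] .nil .nil)) (.node [3,0,2,1,0,2,0,2,3] (.node [1,3,0,2,0,2,3,1,3,2] .nil .nil) .nil))) (.node [3,1,3,3,0,1,0] (.node [2,3,1,3,3,2,0,2,2] (.node [2,1,0,2,1,3,3,0,1,3,0] (.node [0,2,3,0,2,1,3,2] .nil .nil) (.node [1,3,3,1,3,3,0] .nil .nil)) (.node [3,1,3,2,1,3,2,0,1,3] (.node [3,2,1,3,0,2,0,1,0] .nil .nil) (.node [0,2,0,2,0,2,3,3,0,2,2,0] .nil .nil))) (.node [0,2,0,1,3,2,2,0,2,2] (.node [0,2,0,2,3,0,1,3,1,0] (.node [3,1,3,3,2,1,3,0,2,2,0] .nil .nil) (.node [0,2,3,3,2,0,1,3,3,2,2] .nil .nil)) (.node [2,0,2,3,0,2,0,1,0] (.node [2,3,3,1,3,2,2,0,2] .nil .nil) .nil)))) (.node [3,3,2,0,1,3,3,1,3,3] (.node [3,2,0,2,3,3,0,2,0,2,0] (.node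 [3,0,2,1,3,1,3,2,0] (.node [2,2,0,1,3,3,0,1,3,1,0] (.node [2,3,3,2,0,1,3,3,2] .nil .nil) (.node [3,2,0,2,1,0,2,2,2,1] .nil .nil)) (.node [2,3,1,3,3,0,2,0,1,0] (.node [3,0,2,1,3,3,2,1,3,1,0] .nil .nil) (.node [0,2,2,2,0,1,3,2,0,1] .nil .nil))) (.node [3,1,3,1,3,0,2,2,0,2,0] (.node [0,1,3,2,2,2,0] (.node [1,3,3,1,3,3,2] .nil .nil) (.node [3,2,1,3,3,2,0,2,0] .nil .nil)) (.node [3,3,0,1,3,2,1,3,0,1] (.node [0,2,0,1,3,3,2,1,3,3,0] .nil .nil) .nil))) (.node [2,1,0,2,3,1,3,3] (.node [1,0,2,3,0,2,0,2,0,1] (.node [1,3,2,2,0,1,3] (.node [1,3,3,2,1,3,2,1] .nil .nil) (.node [2,3,1,3,2,0,2,0,1,3,2] .nil .nil)) (.node [3,3,1,3,0,1,3,1,3,0] (.node [2,3,1,3,3,1,3,2,1,3] .nil .nil) .nil)) (.node [2,3,2,2,2,0] (.node [2,1,3,0,2,0,2,2,1] (.node [2,2,1,0,2,2,0,2,2,1,0] .nil .nil) (.node [0,1,3,2,1,3,3,1,3,3,0] .nil .nil)) (.node [3,2,1,0,2,2,0,2,3,3,1] (.node [0,2,2,0,2,3,1,3,2,1] .nil .nil) .nil))))) (.node [3,2,1,3,1,3,1,3,3]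 (.node [3,3,0,1,3,1,3,1,0,2,1] (.node [1,3,3,1,3,0,1,0] (.node [2,2,1,0,2,3,3,2,1,0] (.node [3,1,0,2,0,2,2,0,1] (.node [1,3,1,3,3,1,3,3,2,2] .nil .nil) (.node [1,3,0,2,2,0,2,0,2,2,0,1] .nil .nil)) (.node [2,2,0,1,3,0,1,3,1,0] (.node [3,0,2,1,3,3,2,1,3,2,1] .nil .nil) (.node [2,3,1,3,3,2,0,2,0] .nil .nil))) (.node [1,3,3,2,1,3,1,3,3,1] (.node [2,3,0,2,0,2,1,3,3] (.node [3,2,0,1,3,3,2,1] .nil .nil) (.node [1,3,0,2,1,3,2,2,1,0] .nil .nil)) (.node [3,3,1,3,3,2,1,0,2,2] (.node [3,3,0,2,0,1,3,3,2] .nil .nil) .nil))) (.node [0,2,0,2,3,3,2,1] (.node [3,2,2,1,0,2] (.node [0,2,2,2,0,2,1,3,0,2,0] (.node [3,0,2,0,1,3,2,1,3,3] .nil .nil) (.node [3,1,3,3,1,0,2,1,3,3] .nil .nil)) (.node [3,0,1,3,2,0,1,3,2,2,0] (.node [3,2,0,1,3,0,1,3,2,2,0] .nil .nil) .nil)) (.node [3,0,2,0,2,3,1,3,2,2,1] (.node [3,0,2,2,1,0,2,3,3] (.node [3,2,0,2,0,2,0,2,2,1] .nil .nil) (.node [3,2,0,1,3,1,3,2,0] .nil .nil)) (.node [1,3,2,1,0,2,0,2,2]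 (.node [3,3,1,3,1,3,2,0,2,0,1,0] .nil .nil) .nil)))) (.node [3,3,2,2,1,0,2,0,2] (.node [3,3,0,1,3,3,1,3,1] (.node [1,3,3,0,1,3,2,2] (.node [3,1,3,1,3,2,2,2,1] (.node [0,1,3,3,2,1,3,2,0] .nil .nil) (.node [3,2,0,2,0,1] .nil .nil)) (.node [3,3,1,3,0] (.node [1,3,3,2,2,0,1,3,1,3,0] .nil .nil) (.node [3,3,1,3,0,2,1,0,2,0] .nil .nil))) (.node [1,0,2,0,2,2,0,2,3,3] (.node [3,0,2,0,2,2,0,2] (.node [3,3,1,3,1,3,2,2,1,0] .nil .nil) (.node [0,2,2,2,0,1,3,2,2,2] .nil .nil)) (.node [2,3,2,0,2,1,0,2] (.node [2,2,0,1,3,2,2,0,2,3] .nil .nil) .nil))) (.node [3,3,0,2,2,0,2,0,1,0] (.node [2,3,1,0,2,0,2,3,3,1] (.node [3,1,3,2,2,1,0,2,2,1] (.node [3,2,0,1,3,1,3,2,2,1,0] .nil .nil) (.node [0,2,3,3,1,3,1,3,1,3,0] .nil .nil)) (.node [3,1,3,2,0,1,3,2,1,3,2,1] (.node [2,3,0,1,3,3,2,2,1] .nil .nil) .nil)) (.node [2,1,0,2,2,2,0,2] (.node [3,2,2,0,2,2,0,2,1,3,1] (.node [1,3,3,0,2,1] .nil .nil) (.node [3,0,2,2,0,1,3,3,0,2,1] .nil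 .nil)) (.node [3,3,2,0,2,0,1,3,2,0] (.node [2,3,0,2,0,2,3,0,2,2,0] .nil .nil) .nil)))))) (.node [3,1,0,2,3,1,3,2,2,2] (.node [3,1,3,2,1,0,2,3,3] (.node [2,3,0,2,1,3,2,0] (.node [2,3,1,3,2,2,0,1,3,2] (.node [3,3,0,2,0,2,2,0,2] (.node [2,3,2,1,3,2,0,2,1] (.node [1,3,0,2,2,2,0,2,1,0] .nil .nil) (.node [3,1,0,2,3,3,2,2,2,1,0] .nil .nil)) (.node [2,3,2,2,2,0,2,2,0,2,0] (.node [2,1,3,1,3,0,2,0,2,3,3] .nil .nil) (.node [1,3,3,2,1,3,0,2,0] .nil .nil))) (.node [1,0,2,1,3,0,2,0,2,1] (.node [2,1,3,1,0,2,3,0,1] (.node [0,2,0,1,3,1,3,1,3,0] .nil .nil) (.node [2,2,0,2,2,0,2,3,3] .nil .nil)) (.node [3,1,3,1,0,2,3,0,1,3,3] (.node [2,2,0,2,3,0,2,2,0,2,0] .nil .nil) .nil))) (.node [0,1,3,0,1,3,3,1,3,1,0] (.node [2,3,0,1,3,1,3,1,3,0] (.node [3,0,2,1,3,3,2,0,2,0] (.node [2,2,0,2,1,3,3,1,3,1] .nil .nil) (.node [2,0,1,3,2,1,0,2,3,0,1] .nil .nil)) (.node [2,3,2,1,3,3,1,3,1] (.node [1,3,0,1,3,1,3,3,2,1,0] .nil .nil) (.node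 [0,2,2,2,0,2,1,3,0,1] .nil .nil))) (.node [3,3,0,2,1,3,0,1,3,0,1] (.node [2,3,0,2,2,0,2,3,1,0] (.node [0,2,3] .nil .nil) (.node [2,3,0,2,2,0,1,3,2] .nil .nil)) (.node [2,0,1,3,2,2,1,0,2,0] (.node [3,1,3,1,0,2,0,2,3,3,0] .nil .nil) .nil)))) (.node [2,0,2,3,0,2,1,0,2,0] (.node [3,3,1,3,3,2,1,3,2,0] (.node [3,2,2,2,0,2,1,3,0,2] (.node [2,2,2,0,2,2] (.node [0,2,3,0,2,0,2,3,0,1] .nil .nil) (.node [3,0,2,1,3,3,2,2] .nil .nil)) (.node [0,1,3,2,0,2,1,3,3,0,2,0] (.node [1,3,2,0,2,0,2,1,3,2] .nil .nil) (.node [2,0,1,3,2,1,3,1] .nil .nil))) (.node [0,2,1,3,3,1,3,2,2,0] (.node [2,0,1,3,3,1,3,2,0,1,0] (.node [3,1,3,2,2,0,2,0,2,0,1] .nil .nil) (.node [3,3,2,2,2,1,0,2,0] .nil .nil)) (.node [3,1,3,3,2,1,3,3] (.node [2,3,2,1,3,1,3,3,2] .nil .nil) .nil))) (.node [3,3,0,1,3,0,2,0,1] (.node [0,1,3,3,1,3,1,3,3] (.node [3,3,2,2,0,1,3,3,0,2,2] (.node [2,0,1,3,1,3,1,0,2,1] .nil .nil) (.node [3,3,2,0,2,0,2,3,0,2,0] .nil .nil))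 (.node [1,3,3,0,2,1,0,2,3,1,0] (.node [3,2,0,2,1,3,0,2,2,0] .nil .nil) .nil)) (.node [0,2,2,2,1,0,2,1,0] (.node [2,1,3,0,1,3,3,2,0] (.node [2,3,2,0,1,3,1,3,2] .nil .nil) (.node [2,0,1,3,3,2,0,2,0] .nil .nil)) (.node [3,1,0,2,3,1,3,3,2,2,1] (.node [3,3,1,3,1,3,2,2,0] .nil .nil) .nil))))) (.node [3,2,1,3,2,0,1,3] (.node [3,3,2,1,3,0,2,1,3,0,2] (.node [2,3,2,1,3,0,2,2,0,1,0] (.node [3,2,1,3,2,2,0,1,0] (.node [2,0,2,0,1] (.node [0,2,3,3,0,2,0,1,3] .nil .nil) (.node [3,1,3,2,0,2,2,1] .nil .nil)) (.node [3,3,2,0,2,2,0,2,3,1] (.node [1,0,2,3,3,0,2,2] .nil .nil) (.node [0,2,0,2,3,0,2,1,3] .nil .nil))) (.node [1,0,2,1,3,0,1,3,3,2,1] (.node [0,2,2,0,2,3,0,1,3,1,0] (.node [2,2,1,0,2,3,1,3,3,1,0] .nil .nil) (.node [0,1,3,2,0,1,3,3,2,1,0] .nil .nil)) (.node [2,3,1,3,0,2,0,2,1] (.node [0,2,3,3,2,2,0] .nil .nil) .nil))) (.node [1,3,3,2,1,3,0,2,2,1,0] (.node [1,3,2,0,1,3] (.node [2,3,1,3,3,1,3,0,2,1] (.node [0,1,3,3,1,3,0]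 .nil .nil) (.node [3,3,2,2,1,0,2,0,1] .nil .nil)) (.node [3,1,3,0,1,3,3,1,3,1] (.node [3,3,1,0,2,0,2,0] .nil .nil) .nil)) (.node [2,1,3,2,0,1,3,3,0,1,3,1] (.node [3,3,2,2,1] (.node [3,3,1,3,3,0,1,3,2,2,1] .nil .nil) (.node [2,3,3,1,3,3,2,0,2,0] .nil .nil)) (.node [0,1,3,3,2,2,0,1,0] (.node [3,2,0,1,3,1,3,2,2,2] .nil .nil) .nil)))) (.node [2,3,2,2,1,0,2,2,1,0] (.node [3,3,1,3,0,1,3,3,1] (.node [1,3,0,1,3,0,2,1,0,2,0] (.node [1,0,2,3,1,3,3,2,2,0] (.node [1,3,3,1,3,3,0,2,2] .nil .nil) (.node [3,2,0,1,3,2,1,3,2,0] .nil .nil)) (.node [0,2,1,3,3,0,1,3,1,0] (.node [1,0,2,3,0,1,3,3,1,3] .nil .nil) (.node [1,3,3,2,0,2,1,0,2,0] .nil .nil))) (.node [3,0,2,0,2,2,1] (.node [0,2,3,1,3,1,3,1,3,3] (.node [0,2,3,1,3,1,3,1,0] .nil .nil) (.node [1,3,1,3,2,2,1,0,2,0] .nil .nil)) (.node [2,2,0,2,0,2,2,0,2,2,1] (.node [1,0,2,3,3,1,0,2,1,3] .nil .nil) .nil))) (.node [2,1,3,3,1,3,3,1,3,0,1,0] (.node [3,3,0,2,2,0,2,2,1,0,2,0]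 (.node [2,2,0,1,3,3,0] (.node [3,0,2,0,1,3,2,1] .nil .nil) (.node [1,3,3,1,3,1,3,1,3] .nil .nil)) (.node [0,1,3,3,0,2,1,0,2,3] (.node [0,2,3,1,3,1,3,2,1] .nil .nil) .nil)) (.node [2,1,3,2,2,0,1,0] (.node [3,1,0,2,0,2,0,2,3] (.node [2,3,3,1,3,1,0,2,1] .nil .nil) (.node [3,0,2,2,0,2,2,0,2,2,2,1,0] .nil .nil)) (.node [0,2,2,0,2,3,0,1,3] (.node [3,1,3,3,2,0,1,3,2] .nil .nil) .nil))))))))

/-- Part of `setWord`. -/
noncomputable def setWord_l_r_r_l : Arr (List ℕ) :=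
  .node [2,0,2,0,1,3,2,0,1] setWord_l_r_r_l_l setWord_l_r_r_l_r

/-- Part of `setWord`. -/
noncomputable def setWord_l_r_r_r_l : Arr (List ℕ) :=
  (.node [0,1,3,3,1,3,0,2,2,1,0] (.node [3,2,0,2,2,1,0] (.node [3,2,1,3,1,3,0,2,2,0] (.node [3,2,0,2,2,2,0,1,3,2,0] (.node [2,1,0,2,3,0,2,1] (.node [1,0,2,1,0,2,2] (.node [0,1,3,2,1,0,2,2,0,1] (.node [1,3,0,1,3,1,3,1,0] (.node [2,2,2,0,2,0,2,1,3] .nil .nil) (.node [3,1,0,2,2,2,0,2,1,0] .nil .nil)) (.node [2,0,1,3,3,0] (.node [3,2,0,1,3,0,2] .nil .nil) (.node [3,3,1,0,2,3,3,1,3,2,1] .nil .nil))) (.node [2,3,2,1,3,2,2,0,1,0] (.node [2,1,0,2,1,0,2,3,0,1,0] (.node [2,3,1,3,1,3,1,3,3,2] .nil .nil) (.node [3,2,0,2,3,3,2,0,2,0,1] .nil .nil)) (.node [3,1,3,1,3,2,0,2,2,1] (.node [3,3,0,1,3,3,0,2,1] .nil .nil) .nil))) (.node [2,3,0,2,0,1,3,3,2,1] (.node [1,0,2,1,3,0,2,0,1] (.node [2,2,0,1,3,2,2,2,0] (.node [2,3,2,1,3,3,1,3,3] .nil .nil) (.node [0,2,3,1,0,2,3,0,1] .nil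 .nil)) (.node [2,3,3,1,0,2,1] (.node [1,0,2,3,1,3,3] .nil .nil) (.node [3,1,3,3,2,1,0,2,0] .nil .nil))) (.node [0,2,3,1,3,3,2,2,0] (.node [1,3,1,3,3,1,3,2,0] (.node [0,2,3,3,2,1,3,3,2,2] .nil .nil) (.node [3,0,1,3,2,1,3,0,1,3,1,0] .nil .nil)) (.node [3,0,2,1,0,2,3,0,2,1] (.node [2,3,1,0,2,3,0,1,3] .nil .nil) .nil)))) (.node [0,1,3,1,3,2,1,3,0,1] (.node [3,1,0,2,0,1] (.node [3,2,1,3,1,3,3,2,0,1,3,0] (.node [3,0,1,3,0,1,3,1,3,2,0] (.node [2,2,0,1,3,2,1,3,1,3] .nil .nil) (.node [0,2,1,3,3,0,1,3,3,0] .nil .nil)) (.node [2,0,2,1,0,2,0,1,3,2] (.node [1,0,2,2,2,0,2,2,1,0,2] .nil .nil) (.node [1,0,2,2,2,0,1,3,2,0,1] .nil .nil))) (.node [3,3,2,0,2,0,2,2,1] (.node [2,2,0,2,2,1,0,2,0,1] (.node [1,3,1,3,1,3,1,3,0,2] .nil .nil) (.node [0,2,2,0,1,3,2] .nil .nil)) (.node [1,3,3,1,3,0,1,3,0,2] (.node [2,2,0,2,2,0,2,2,1,0] .nil .nil) .nil))) (.node [3,2,1,3,0,2,1] (.node [2,0,2,3,0,2,1,3,3,0,2] (.node [2,1,3,0,1,3,3,0,1,3]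 (.node [1,0,2,2,0,2,3,0,1,3] .nil .nil) (.node [2,1,0,2,3,3,2,0] .nil .nil)) (.node [3,2,2,1,0,2,2,2,0,1] (.node [3,1,3,2,0,2,1,3,3,1,0] .nil .nil) .nil)) (.node [2,0,2,1,0,2,1,3,0,1] (.node [2,1,3,2,1,3,3,0,2,2] (.node [1,0,2,3,0,2,2] .nil .nil) (.node [0,2,3,3,2,1,3,3,1,0,2,0] .nil .nil)) (.node [0,2,3,1,3,2,1,3,3,0,1,0] (.node [3,2,0,2,0,1,3,3,0,2,0] .nil .nil) .nil))))) (.node [1,3,2,2,2,0,1,3,2,2,2,0] (.node [2,1,0,2,3,0,2,2,1] (.node [0,2,0,2,1,3,3,0,2,1] (.node [2,0,2,0,1,3,1,3,1,0] (.node [1,3,0,1,3,3,1,3,3,2,1] (.node [0,1,3,1,3,2,1,3,3,0] .nil .nil) (.node [3,1,3,2,0,2,2,1,0] .nil .nil)) (.node [2,2,0,2,3,1,0,2,3,1] (.node [3,3,1,3,0,1,3,2,2] .nil .nil) (.node [1,3,0,2,1,0,2,0,1,3] .nil .nil))) (.node [3,3,1,0,2,3,3,2,1] (.node [0,1,3,1,3,2,0,2,2] (.node [0,2,1,3,0,2,1,3,0,2,0] .nil .nil) (.node [0,2,0,2,0,2,0,1,3,3] .nil .nil)) (.node [2,1,3,3,2,1,3,2,0,1,0] (.node [3,3,0,1,3,1,3,2,1,0] .nil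 .nil) .nil))) (.node [3,0,1,3,1,3,3] (.node [2,0,2,0,2,1,0,2,1,0,2,0] (.node [0,2,3,1,0,2,1,3,1] (.node [1,0,2,3,3,2,1,3,0,1] .nil .nil) (.node [1,0] .nil .nil)) (.node [2,3,3,1,3,2,0,2,1] (.node [1,3,0,2,0,2,3,1] .nil .nil) .nil)) (.node [3,0,2,1,0,2,3,3,2,2,0] (.node [1,0,2,1,0,2,2,1,0] (.node [2,0,2,3,0,1,3,3,0] .nil .nil) (.node [1,3,1,3,0,2,1,3] .nil .nil)) (.node [3,2,1,3,1,3,3,0,1,3,1] (.node [2,2,0,2,3,3,0,2,0,1,3] .nil .nil) .nil)))) (.node [2,2,1,0,2,2,2] (.node [3,2,2,0,1,3,2,1,3,2,0] (.node [2,3,3,0,2,0,2,0] (.node [0,2,2,0,2,2,0,1] (.node [2,1,3,3,2,1,0,2] .nil .nil) (.node [1,3,1,3,3,1] .nil .nil)) (.node [1,0,2,0,2,1,3,1,3,0] (.node [3,0,2,1,0,2,3,0,2] .nil .nil) (.node [1,3,2,1,3,0,2,1,0,2,0] .nil .nil))) (.node [1,3,2,2,0,2,1,3,2,0] (.node [2,0,2,3,1,3] (.node [2,2,0,2,3,1,0,2,3,0,1] .nil .nil) (.node [2,0,2,3,3,1,3,2,1] .nil .nil)) (.node [2,2,1,0,2,3,0,2,2,0] (.node [2,1,3,2,1,3,2,2,1,0,2]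 .nil .nil) .nil))) (.node [2,0,1,3,2,1,3,0,2,2,1] (.node [3,0,2,0,2,0] (.node [2,0,2,0,1,3,2,2,1] (.node [2,1,3,0,1,3,0,2,1] .nil .nil) (.node [3,0,1,3,0,2,1,3,2] .nil .nil)) (.node [1,3,1,3,3,2,1,3,1,0] (.node [3,1,3,0,1,3,3,0,2] .nil .nil) .nil)) (.node [2,3,2,1,3,3,1,3,2,0,1] (.node [0,2,1,3,1,0,2,3,0,1] (.node [0,2,0,2,2,0,2,3,0,1] .nil .nil) (.node [1,0,2,3,0,1,3,1,3,3,2] .nil .nil)) (.node [0,2,1,0,2,0,2,3] (.node [3,1,0,2,0,1,3,2,2] .nil .nil) .nil)))))) (.node [2,2,0,2,3,3,1,3,1] (.node [2,0,2,2,0,2,1,3,1] (.node [2,2,0,2,1,0,2,3,3,1,0] (.node [3,1,3,1,3,2,0,2,3,3] (.node [0,1,3,3,1,3,1,3,3,0,2] (.node [1,3,0,2,1,3,0,2,0] (.node [1,3,1,3,2,0,2,2,1] .nil .nil) (.node [0,1,3,0,2,1,3,0,2,1,3,1] .nil .nil)) (.node [1] (.node [3,2,0,2,3,1,3,2,1] .nil .nil) (.node [3,1,3,0,2,0] .nil .nil))) (.node [2,0,1,3,2,1,3,1,3,2] (.node [3,2,0,2,3,0,2,0,2,1,0] (.node [1,0,2,3,1,3,2,0,2,2] .nil .nil) (.node [2,0,2,1,0,2,0,1]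 .nil .nil)) (.node [1,3,1,0,2] (.node [0,2,3,1,3,1,3,3,2] .nil .nil) .nil))) (.node [1,3,2,0,2,2,2,0,2,1,3,2] (.node [3,3,2,0,2,0,1,3,3] (.node [3,0,1,3,2,1] (.node [2,0,2,3,1,0,2,1] .nil .nil) (.node [2,3,2,0,2,1,0,2,3,1,0] .nil .nil)) (.node [1,3,3,2,2,0,2,1,0,2,3] (.node [1,3,3,2,1,3,3,1,3,3] .nil .nil) (.node [0,2,3,3,2,1,0,2,3,0,1,0] .nil .nil))) (.node [3,3,0,1,3,1,0,2,3,1] (.node [0,1,3,1,3,0,2,1,3,3] (.node [3,2,1,3,0,2,2,2,0,2,1,0] .nil .nil) (.node [3,2,1,0,2,2,1,0,2] .nil .nil)) (.node [0,2,2,0,2,3,3,1] (.node [0,2,3,3,1,3,3,0,2,0,1] .nil .nil) .nil)))) (.node [0,1,3,2,0,2,2,0,1] (.node [1,3,0,2,1,3,2,0] (.node [3,1,3,2,1,0,2,0,1] (.node [1,0,2,1,3,1,3,2,2,2] (.node [0,2,0,2,2,1,0,2,0,2,0] .nil .nil) (.node [3,1,0,2,2,1,0,2,2] .nil .nil)) (.node [0,1,3,0,2,2,0,1,0] (.node [1,0,2,3,0,1,3,3,1,0] .nil .nil) (.node [2,3,1,3,1,3,0,2,2,0,2,1] .nil .nil))) (.node [1,3,1,3,1,3,1,0,2] (.node [2,2,0,1,3,2,1,3,3,1]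 (.node [3,0,1,3,1,3,2,1,3,0,1] .nil .nil) (.node [0,2,0,2,1,3,3,0,2,0,1] .nil .nil)) (.node [1,3,2,1,3,0,2,1,3,0,2] (.node [2,1,3,1,3,1,0,2,2,1] .nil .nil) .nil))) (.node [3,3,2,1,3,2,2,2,0] (.node [2,1,3,1,3,2,1,0,2,2,1] (.node [0,2,3,0,1,3,0,2,2] (.node [2,3,0,2,0,1,3,2,0,1] .nil .nil) (.node [0,2,2,0,2,1,3,0,1,0] .nil .nil)) (.node [0,2,3,1,3,2,2,0,1,0] (.node [3,0,2,0,2,1,0,2,2,0,1,0] .nil .nil) .nil)) (.node [3,0,2,0,2,1,3,2,1] (.node [1,3,0,1,3,1,3,1,3,0] (.node [2,0,2,0,2,0,2,2,0,1,0] .nil .nil) (.node [2,1,0,2,2,0,2,3,0,1,0] .nil .nil)) (.node [3,2,1,0,2,0,2,2,0,1,0] (.node [0,2,1,3,2,2,0,1,0] .nil .nil) .nil))))) (.node [2,0,2,3,3,2,0,2,1,3,3,0] (.node [1,0,2,1,3,3,0] (.node [2,3,1,3,0,2,1,3,2,0] (.node [2,2,0,2,1,0,2,3,0,2] (.node [2,3,3,0,1,3,3] (.node [1,3,0,2,0,2,3,3,2,1] .nil .nil) (.node [0,1,3,1,3,1,3,2,0,1] .nil .nil)) (.node [0,2,0,2,2,0,2,3,1] (.node [0,1,3,0,2,0,1,3,0,2] .nil .nil)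 (.node [3,0,2,0,2,2,2,0,2] .nil .nil))) (.node [3,3,2,1,3] (.node [3,1,0,2,3,3,0,2,0] (.node [0,1,3,3,0,2,1] .nil .nil) (.node [0,1,3,0,2,2,0,2] .nil .nil)) (.node [1,3,3,1,3,0,2,0,1] (.node [1,3,0,2,0,2,2,2,1] .nil .nil) .nil))) (.node [3,3,1,3,2,0,1,3,1,0] (.node [2,3,2,2,2,0,1,3,2] (.node [2,0,2,0,1,3,0,2,2,0] (.node [2,2,0,2,2,0,2,3,0,1,3,0] .nil .nil) (.node [2,3,0,1,3,2,0,2,2,1] .nil .nil)) (.node [2,1,3,3,2,1,3,2,0,2,2,1] (.node [2,2,0,2,1,3,0,2,2,0] .nil .nil) .nil)) (.node [3,1,0,2,1,3,1,3,2,1,3] (.node [1,3,1,3,3,1,3,3,0] (.node [2,3,2,0,1,3,1,0,2,3] .nil .nil) (.node [2,3,2,2,2,0,2,2,0,2,1] .nil .nil)) (.node [3,1,3,2,1,0,2,0,2,2] (.node [1,3,2,0,2,3,0,2,0] .nil .nil) .nil)))) (.node [1,0,2,1,0,2,1,0,2,3] (.node [2,0,2,2,1,0,2,1,3,1] (.node [2,0,2,2,0,2,3,1,0,2,1,0] (.node [3,1,3,1,3,1,3,0,2,1,0] (.node [0,2,3,1,3,0,1,3,1] .nil .nil) (.node [3,3,2,1,3,0,1,3,0,1] .nil .nil)) (.node [2,1,3,3,1,3,0,2,1,3,1]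 (.node [2,0,2,3,3,2,2,2,1,0] .nil .nil) (.node [2,0,2,3,1,3,2,1,0,2,3,1] .nil .nil))) (.node [2,2,0,1,3,3,0,1,3,3,0] (.node [1,0,2,3,0,2,1,0,2] (.node [0,1,3,3,1,3,3,1,3,1] .nil .nil) (.node [0,2,1,0,2,1,3,0,2,0,1] .nil .nil)) (.node [2,1,0,2,0,2,3,1,3] (.node [3,2,0] .nil .nil) .nil))) (.node [3,3,0,1,3,3,0,2,2,1,0] (.node [0,2,2,1,0,2,0] (.node [2,3,3,2,0,1,3,3,0,2,2] (.node [3,0,2,0,2,2,0,2,2] .nil .nil) (.node [3,2,0,1,3,3,2,2,1] .nil .nil)) (.node [3,2,2,0,2,3,1,0,2,1,0] (.node [2,3,1,0,2,0,2,0,2,0,2] .nil .nil) .nil)) (.node [0,2,3,3,2,2,2,1,0] (.node [2,3,3,1,3,2,1,0,2,0,1] (.node [0,1,3,1,0,2] .nil .nil) (.node [0,1,3,2,1,3,0,2,1,3] .nil .nil)) (.node [0,1,3,0,1,3,3,1,3,1] (.node [3,2,1,3,3,0,1,3,3,0,2,1] .nil .nil) .nil))))))) (.node [3,2,1,3,1,0,2,3,3] (.node [3,2,0,1,3,1,3,3,2,1,0] (.node [2,3,3,1,3,1,3,2,1,3,2] (.node [2,3,0,2,0,1,3,2,1] (.node [1,3,1,3,3,0,1] (.node [2,2,0,1,3,2,0] (.node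 [3,0,1,3,2,1,3,3,1,0] (.node [3,3,2,1,3,2,0,2,0,1,0] .nil .nil) (.node [1,3,1,3,0,2,0,1] .nil .nil)) (.node [2,1,3,2,0,1,3,0,2] (.node [2,0,2,0,2,2,0,2,1] .nil .nil) (.node [2,2,1,0,2,0,2,0,1,3,3] .nil .nil))) (.node [3,3,2,2,2,0,2,2,2,1,0] (.node [3,2,0,2,1,3,0,2] (.node [0,2,3,1,3,2,0,2,1,3,0] .nil .nil) (.node [2,3,3,2,1,0,2,0,2,1] .nil .nil)) (.node [1,3,0,2,2,0,2,0,1] (.node [3,3,1,3,3,0,1,3,1,0,2] .nil .nil) .nil))) (.node [2,0,2,1,3,0,1,3,1,0] (.node [2,1,3,3,2,1,3,0,1] (.node [1,3,0,2,2,1,0,2,1] (.node [2,0,1,3,3,2,0,1] .nil .nil) (.node [2,3,1,3,0,1,3,0,2,0,1] .nil .nil)) (.node [1,3,3,0,2,0,2,1,3,3] (.node [1,3,1,0,2,3,0,2,2,2,1] .nil .nil) (.node [2,2,2,1,0,2,1,3] .nil .nil))) (.node [3,3,1,3,2] (.node [3,0,2,1,3,0,1,3,3,1] (.node [2,3,0,1,3,1,3,3,2] .nil .nil) (.node [0,2,3,1,0,2,1,0,2,0] .nil .nil)) (.node [3,1,3,3,0,1,3,1,0,2] (.node [1,3,0,2,1,3,1,3,3] .nil .nil) .nil)))) (.node [1,3,0,2,1,3,1,3]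 (.node [1,3,2,1,3,2,0,1,3,1,0] (.node [1,3,0,1,3,2,2,2,0,1,0] (.node [1,0,2,3,3,2,0,2,2] (.node [2,0,1,3,3,2,2,0,2,0] .nil .nil) (.node [2,3,1,3,2,2,2,0,2,1] .nil .nil)) (.node [3,1,3,3,2,2,1,0,2,3,3] (.node [2,2,1,0,2,2,0,2,0] .nil .nil) (.node [2,1,3,3,0,2,2,2,1] .nil .nil))) (.node [0,1,3,0,2,1,3,2,1] (.node [0,2,2,0,1,3,2,1] (.node [3,1,0,2,2,0,1,0] .nil .nil) (.node [3,3,0,1,3,0,1,3,2,0] .nil .nil)) (.node [3,0,1,3,2,0,2,1,3,0] (.node [3,3,1,3,1,3,2,2,2,1] .nil .nil) .nil))) (.node [1,3,0,2,1,3,3,1,3,1] (.node [3,1,3,3,1,3,3,0,1] (.node [2,0,2,1,3,1,0,2] (.node [3,3,1,3,0,1,3,2,0,1] .nil .nil) (.node [3,2,2,0,2,3,1,3,0,2,0] .nil .nil)) (.node [0,2,0,1,3,1,3,2,2,2] (.node [3,2,2,1,0,2,2,1,0] .nil .nil) .nil)) (.node [0,2,3,1,3,3,1,3,1] (.node [0,2,1,3,3,2,1,3,0,1] (.node [2,1,0,2,1,3,3,2,2,1,0] .nil .nil) (.node [0,2,1,0,2,2,0,2,0,1,3,2] .nil .nil)) (.node [2,1,3,0,2,2,0,2,2] (.node [3,1,3,2,1,3,3,1]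 .nil .nil) .nil))))) (.node [2,2,0,2,1,3,2,0,2,0] (.node [2,0,1,3,3] (.node [1,3,1,0,2,0,2,0,2,0] (.node [3,3,0,2,1,3,2,1,0] (.node [3,3,2,0,2,2,0,2,1,3,1] (.node [2,1,3,1,3,3,1,3,1] .nil .nil) (.node [3,2,2,2,0,1,3,3,2] .nil .nil)) (.node [1,0,2,0,2,3,3,2,0] (.node [2,3,0,2,0,2,1,0,2,3,1] .nil .nil) (.node [0,2,2,2,0,1,3,2,0,2,0] .nil .nil))) (.node [1,3,3,1,0,2,3,3,2,1] (.node [2,1,0,2,3,1,3] (.node [2,3,0,2,2,0,2,1,0] .nil .nil) (.node [0,2,3,0,2,2,0,1,3,2] .nil .nil)) (.node [0,2,2,0,1,3,0,2,1,3] (.node [0,2,3,3,2,1,3,1,3,0] .nil .nil) .nil))) (.node [1,3,0,2,1,3,0,2,1,3,1,0] (.node [0,2,3,3,0,2,2,0,2,0,1,0] (.node [1,3,3,0,2,1,0,2,3,0,2] (.node [2,0,2,2,0,2,3,0,2,2] .nil .nil) (.node [2,3,0,1,3,3,0,1] .nil .nil)) (.node [3,2,0,1,3,2,1,3,3,1] (.node [1,3,2,1,3] .nil .nil) .nil)) (.node [0,1,3,3,2,1,0,2,2,2] (.node [1,0,2,3,1,0,2,3,0,2,0] (.node [2,3,1,3,0,2,0,2,3,3] .nil .nil) (.node [3,0,2,0,2,2,0,2,1,0]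 .nil .nil)) (.node [2,0,2,2,0,2,2,0,2,3,1] (.node [3,3,2,1,3,2,0,1,3,1,0] .nil .nil) .nil)))) (.node [2,2,1,0,2,0,2,2,1] (.node [1,3,3,2,0,2,1,3,1,3,2,0] (.node [0,2,0,2,0,2,3,1,3] (.node [0,2,1,3,3,0,2,1,0,2] (.node [1,3,0,2,0,2,0,2,3,1] .nil .nil) (.node [2,3,3,1,3,1,3,3,2] .nil .nil)) (.node [2,0,1,3,2,2,0,2,3,1] (.node [3,2,1,0,2,1,3,3,0,1,3,0] .nil .nil) (.node [1,0,2,1,3,1,0,2,1,3] .nil .nil))) (.node [3,1,3,0,1,3,3,1,3,2,2] (.node [2,3,0,2,2,0,2,0,2,2,1] (.node [2,1,3,2,1,3,2,2,0] .nil .nil) (.node [0,1,3,0,1,3,2,1,3] .nil .nil)) (.node [3,0,1,3,2,2,2,0,1,0] (.node [3,1,3,3,2,1,0] .nil .nil) .nil))) (.node [3,1,3,0,1,3,0,2,0,1] (.node [0,2,2,0,2,3,0,2,0,2,1] (.node [2,2,0,2,1,3,0,2,2,1,0] (.node [2,2,0,2,3,0,1,3,2] .nil .nil) (.node [3,2,2,0,2,3,1,0,2,0] .nil .nil)) (.node [0,1,3,2,0,1] (.node [2,1,0,2,1,3,3,1,0] .nil .nil) .nil)) (.node [3,1,3,3,1,3,2,1,0,2] (.node [1,3,3,2,1,0,2,3,0,1] (.node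 [3,2,1,3,1,3,1,3,3,0] .nil .nil) (.node [2,3,1,3,3,0,2,2,2,1] .nil .nil)) (.node [2,1,0,2,3,1,0,2,3,3] (.node [2,3,0,2,1] .nil .nil) .nil)))))) (.node [3,3,2,2,2,0,1,3,3,0] (.node [3,1,3,0,2,2,2,0,1,3] (.node [3,1,3,3,1,3,3,0] (.node [2,3,1,3,3,2,2,1] (.node [2,1,3,3,0,1,3,2,1] (.node [0,2,0,2,0,2,3,3,1,3,2] (.node [0,1,3,2,1,0,2,1,3,1] .nil .nil) (.node [3,3,2,0,1,3,1,3,2] .nil .nil)) (.node [0,2,3,1,3,3,0,2,2,0] (.node [1,3,3,1,3,0,1,3,2,2,0] .nil .nil) (.node [1,3,0,1,3,3,0,2,1,0] .nil .nil))) (.node [2,3,3,2,1,3,0,2,1,0,2] (.node [0,2,1,3,3,2,0,2,2,1] (.node [1,3,3,1,3,1,3,0] .nil .nil) (.node [0,2,1,3,1,3,2,0,1,3] .nil .nil)) (.node [3,3,2,1,0,2,1,3,3,0,2,0] (.node [3,2,2,0,2,3,3,2,0] .nil .nil) .nil))) (.node [3,2,1,3,3,1,3,3,0,1] (.node [0,1,3,2,2,1,0,2,2,1] (.node [3,3,1,3,2,0,1] (.node [0,2,0,2,0,2,1,3,1] .nil .nil) (.node [2,0,2,1,0,2,2,0,2,0] .nil .nil)) (.node [2,3,2,1,3,0,1,3,2,0,1] (.node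 [1,3,1,3,2] .nil .nil) (.node [3,2,0,1,3,3,2,1,0] .nil .nil))) (.node [1,0,2,3,1,3,0,2,1,0] (.node [0,2,3,3,1,0,2,3,3,2,2] (.node [2,2,2,0,2,1,3,3,0] .nil .nil) (.node [3,1,3,1,3,0,2,2,0,2,1] .nil .nil)) (.node [0,1,3,2,1,3,0,1] (.node [2,0,2,3,1,0,2,3,3,1,0] .nil .nil) .nil)))) (.node [3,0,1,3,2,2,0,1,3] (.node [2,0,1,3,0,2,2,0,2,3,1] (.node [3,0,2,0,2,2,0,1,3,2,1] (.node [1,3,1,3,1,3,0,2] (.node [0,2,0,2,3,1,3,1,3,1,0] .nil .nil) (.node [1,0,2,1,0,2,0,2,3] .nil .nil)) (.node [0,2,3,1,3,2,0,1,3] (.node [1,3,2,1,0,2,0,2,0,2,0] .nil .nil) (.node [3,2,2,2,0,2,0] .nil .nil))) (.node [3,1,3,3,1,3,2,1,0] (.node [0,2,0,2,0,1,0] (.node [1,0,2,3,1,0,2,3] .nil .nil) (.node [3,0,2,1,3,3,1,3,2] .nil .nil)) (.node [1,3,1,3,3,0,1,3,1] (.node [3,3,0,2,0,2,0,2,1,3,3] .nil .nil) .nil))) (.node [1,3,2,0,2,3,0,2,1] (.node [1,0,2,1,3,0,1,3,3,1,3] (.node [3,1,3,1,3,1,0,2,1] (.node [1,3,3,2,0,2,0,2,0,1,3,2] .nil .nil) (.node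 [3,1,3,0,1,3,1] .nil .nil)) (.node [3,3,1,0,2,3,1,3,0,2] (.node [0,1,3,2,2,1,0,2,0] .nil .nil) .nil)) (.node [0,2,0,2,2,0,2,3,3] (.node [2,1,0,2,3,0,2,2,0,2,0] (.node [3,2,2,0,2,0,2,3,3,1] .nil .nil) (.node [3,2,0,2,1,3,3,1,3,2] .nil .nil)) (.node [2,1,3,2,2,2,1,0,2,1,0] (.node [0,1,3,0,2,1,3,3,0,2] .nil .nil) .nil))))) (.node [3,3,2,1,3,0,1,3,2,0] (.node [0,2,0,2,3,0,2,2,1,0] (.node [1,0,2,1,3,1,0] (.node [3,3,1,3,1,0,2,3,3,0,2,2] (.node [1,3,2,1,0,2,1,0,2,1] (.node [3,3,1,3,2,2,2,1,0] .nil .nil) (.node [1,3,0,1,3,2,1,3,2] .nil .nil)) (.node [0,1,3,3,1,3,1,0,2,1] (.node [0,2,1,3,0,2,0,1,3,0] .nil .nil) (.node [0,1,3,2,2,0,2,2,0,1] .nil .nil))) (.node [1,3,2,0,2,0,2,2,1,0,2,0] (.node [3,3,2,0,1,3,3] (.node [2,3,0,1,3,0,1,3,3] .nil .nil) (.node [2,1,3,1,3,2,0,2,0] .nil .nil)) (.node [2,1,0,2,1,3,1,3] (.node [1,0,2,2,0,2,3,1] .nil .nil) .nil))) (.node [0,1,3,3,1,3,3,1] (.node [2,1,0,2,1,0,2,1,0] (.node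 [0,2,0,1,3,2,1,3,0,2,0] (.node [0,2,3,3,0,2,0,2,2] .nil .nil) (.node [2,0,2,1,3,0,2,0,1,3] .nil .nil)) (.node [3,3,0,1,3,2,0,1,3] (.node [0,1,3,0,2,2,1,0,2,0] .nil .nil) .nil)) (.node [0,2,1,0,2,1,0,2,2,1] (.node [2,3,2,1,3,0,1,3,0] (.node [2,3,3,1,3,2,0,1,3,1,0] .nil .nil) (.node [1,3,3,0,1,3,1,3,2,0] .nil .nil)) (.node [1,3,1,3,3,0,2,0,2,1,0] (.node [3,3,0,2,2,0,1,3] .nil .nil) .nil)))) (.node [2,0,2,3,3,1,3,0,2] (.node [1,3,2,1,3,3,1,0,2,3,1,0] (.node [2,0,1,3,2,1,3,2,0] (.node [3,0,2,1,3,0,1,3,2,0,1] (.node [3,3,0,1,3,2,0,2,0,2,2] .nil .nil) (.node [0,1,3,2,2,1,0,2,3,3] .nil .nil)) (.node [3,0,2,1,3,1,3,2,1] (.node [2,3,2,0,2,2,0,2,0,1,0] .nil .nil) (.node [0,2,0,2,0,2,3,3,2,1] .nil .nil))) (.node [3,3,1,3,1,3,0,2,2,2] (.node [0,2,1,0,2,2,0,2,1,3,1] (.node [3,3,0,2,1,3,3,0,1,0] .nil .nil) (.node [3,2,2,0,1,3,3,2,1,0] .nil .nil)) (.node [0,2,0,2,3,3,2,2] (.node [3,1,3,3,0,1,3,2,2,0] .nil .nil) .nil)))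 (.node [3,0,2,0,2,3,3,0,2,2,0] (.node [0,1,3,2,0,1,3,1,3,0] (.node [2,2,0,1,3,0,2,2,0] (.node [3,1,3,0,2,1,0,2] .nil .nil) (.node [1,3,3,2,1,3,3,2,2,1] .nil .nil)) (.node [3,3,1,3,2,1,0,2,2,1,0] (.node [3,2,0,1,3,2,0,1,0] .nil .nil) .nil)) (.node [3,2,2,0,2,1,3,3,0,1,0] (.node [2,3,2,1,3,1,3,2,1,3,2] (.node [1,3,1,3,3,2,1,3] .nil .nil) (.node [2,3,1,0,2,2,1,0,2] .nil .nil)) (.node [2,0,2,0,2,0,2,2,0,2] (.node [3,3,0,1,3,3,1,3,0,1] .nil .nil) .nil))))))))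

/-- Part of `setWord`. -/
noncomputable def setWord_l_r_r_r_r : Arr (List ℕ) :=
  (.node [3,0,1,3,1,3,1,3,0] (.node [2,1,0,2,0,2,1] (.node [3,3,2,1,0,2,1,3,0,1] (.node [3,3,1,0,2,0,2,3,3,1] (.node [3,3,1,3,3,1,3,3,2,2] (.node [0,2,0,2,0,2,2,0,1,0] (.node [3,2] (.node [0,1,3,3,1,3,3,2,1,0] (.node [3,2,1,3,2,1,3,3,0] .nil .nil) (.node [3,3,1,3,1,3,1,0] .nil .nil)) (.node [3,3,2,1,3,1,0,2,2,1] (.node [3,3,0,1,3,3,2] .nil .nil) (.node [3,1,3,2,2,0,2,2,1,0,2] .nil .nil))) (.node [0,2,1,0,2,2,2] (.node [1,3,2,1,3,0,2,0,1] (.node [2,2,0,2,1,3,3,0,2,2,0] .nil .nil) (.node [0,2,0,1,3] .nil .nil)) (.node [1,3,2,2,0,2,0,1] (.node [3,1,3,2,2,0,1,3,3,0,1] .nil .nil) .nil))) (.node [2,0,2,3,0,1,3,2,0] (.node [0,2,3,0,2,2,1,0,2] (.node [3,1,3,2,1,3,0,1,3,0,1,0] (.node [2,2,0,2,3,3,0,2,0] .nil .nil) (.node [2,3,0,2,2,0,1,3,0] .nil .nil)) (.node [3,2,0,2,2,0,2,2] (.node [2,3,3,1,3,1,3,0,2,2,0] .nil .nil) (.node [1,0,2,1,3,0,2,2,2,1]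 .nil .nil))) (.node [1,3,0,1,3,2,0,2,1,3] (.node [3,3,2,1,3,0,2,0,1,0] (.node [3,2,1,3,3,2,1,3,2,1] .nil .nil) (.node [3,2,2,1,0,2,2,0,2,1] .nil .nil)) (.node [0,1,3,1,3,2,0,2,1,3,0] (.node [0,1,3,2,2,0,2,0,2,0,1,0] .nil .nil) .nil)))) (.node [2,3,2,2,0,1,3,1,0] (.node [3,0,2,1,3,0,2,1,0] (.node [0,2,0,2,0,2,2,0,1] (.node [3,3,2,2,0,1,3] (.node [0,2,2,0,2,2,0,2,2,1] .nil .nil) (.node [2,1,3,3,0,2,0,1,0] .nil .nil)) (.node [3,0,1,3,3,2] (.node [3,3,0,1,3,2,0,2,2,2,1] .nil .nil) (.node [1,0,2,3,3,0,1,3,3,2,2] .nil .nil))) (.node [0,2,0,2,1,3,1,0,2,0] (.node [2,0,2,1,3,0] (.node [2,0,2,0,2,3,3,2,0] .nil .nil) (.node [1,0,2,1,0,2,3,3,0,1,0] .nil .nil)) (.node [2,3,3,0,1,3,2,2,2,0] (.node [0,2,3,3,0,2,1,3] .nil .nil) .nil))) (.node [1,0,2,1,3,3,0,2,2,2,1,0] (.node [3,1,3,3,2,1,3,3,1,3,3] (.node [3,0,2,1,3,2,1,3,1] (.node [1,3,3,2,1,3,2] .nil .nil) (.node [2,0,1,3,1,3,1,0,2,0,2] .nil .nil)) (.node [0,2,0,2,1,3,3,1,3,2,0]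 (.node [0,2,0,2,2,1,0,2,3,3,0] .nil .nil) .nil)) (.node [3,3,1,3,0,1,3,3,0,2] (.node [3,0,1,3,3,1,3,1,3,3] (.node [2,2,0,2,1,0,2,2,0,2] .nil .nil) (.node [3,3,2,1,3,0,2,1,0,2,0] .nil .nil)) (.node [2,2,0,2,3,3,2,0] (.node [0,2,0,2,1,3,1,3,2] .nil .nil) .nil))))) (.node [2,3,1,3,1,3,1,3,2,2,0] (.node [2,3,0,1,3,0,2,2,1,0] (.node [3,0,1,3,2,1,3,2,0] (.node [3,1,3,2,2,0,2,0,1,0] (.node [1,3,3,2,1,3,3,0,1,3] (.node [3,3,1,0,2,3,1,3,0] .nil .nil) (.node [2,2,0,2,3,1,3,0,2,2] .nil .nil)) (.node [0,1,3,3,0,2,1,3,3] (.node [3,2,0,2,2,0,2,1,3,1] .nil .nil) (.node [0,2,3,3,2,1,3,1,3,3] .nil .nil))) (.node [3,1,0,2,3,3,2,2,0] (.node [2,3,1,3,3,1,3,3] (.node [3,3,2,1,0,2,1,3,1,3,0] .nil .nil) (.node [0,2,3,1,0,2,3,0,1,3,1,0] .nil .nil)) (.node [0,1,3,3,1,3,0,1,0] (.node [2,3,0,2,0,2,0,1] .nil .nil) .nil))) (.node [2,1,3,3,2,1,3,2,0,1,3] (.node [3,3,2,1,3,2,0,1,3,0,2] (.node [3,1,3,2,0,1,3,2,1] (.node [0,1,3,2,0,2,2,1]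 .nil .nil) (.node [2,0,2,2,0,1] .nil .nil)) (.node [0,1,3,1,3,1,3,1,3,0] (.node [2,3,2,1,3,1,0,2,3] .nil .nil) .nil)) (.node [2,3,2,0,2,2] (.node [1,3,0,1,3,3,1] (.node [1,3,2,1,3,3,2,2,1,0] .nil .nil) (.node [0,2,3,3,2,0,1,3,2,2,0] .nil .nil)) (.node [0,1,3,0,2,2,0,2,0,2,0] (.node [0,2,3,3,2,2,0,1,3] .nil .nil) .nil)))) (.node [0,2,0,2,0,2,2,0,1,3,2] (.node [1,3,2,0,1,3,3,0] (.node [2,2,0,2,3,0,2] (.node [3,3,2,0,1,3,2,1] (.node [0,1,3,3,2,1,0,2,3,3,0] .nil .nil) (.node [1,3,2,2,0,2,1,0] .nil .nil)) (.node [0,2,0,2,3,0,1] (.node [3,1,3,1,0,2] .nil .nil) (.node [2,1,3,2,2,0,2,1,0,2,0] .nil .nil))) (.node [0,1,3,1,3,0,2] (.node [1,3,2,2,0,2,3,0,2,1] (.node [3,1,3,2,2,0,2,2,0,2] .nil .nil) (.node [2,3,2,2,1,0,2,3,1] .nil .nil)) (.node [3,1,3,3,2,1,3,3,1,3,0] (.node [3,1,3,2,2,1,0,2,0,2,1] .nil .nil) .nil))) (.node [1,3,0,2,2,2,0,2] (.node [1,3,1,3,2,2,0,2,2,1,0] (.node [3,2,0,2,3,3,0,2,0,1] (.node [3,2,0,2,1,0,2,1,0,2,0]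 .nil .nil) (.node [3,2,1,3,3,1,3,2,1,3] .nil .nil)) (.node [2,2,0,2,2,2,0,2,2,2] (.node [3,3,0,1,3,3,1,3,0,2,0] .nil .nil) .nil)) (.node [2,2,2,0,2,0,2,3,3,0] (.node [2,1,0,2,2,0,2,0,2,3] (.node [3,2,1,0,2,2,0,2,1,0] .nil .nil) (.node [1,3,1,3,2,0,2,3,1] .nil .nil)) (.node [3,1,3,3,1,3,3,1,3,1,0] (.node [2,3,1,3,2,0,1,3,3,2] .nil .nil) .nil)))))) (.node [3,2,1,0,2,1,3,3] (.node [3,0,1,3,0,2,0,2,2,1] (.node [1,0,2,0,2,2,1,0,2,1] (.node [2,2,0,2,3,0,1,3,0,1,0] (.node [3,2,0,1,3,3,0,1,3,1] (.node [2,3,3,1,3,1,3,1,0,2,1] (.node [2,0,2,0,2,3,3,0,2] .nil .nil) (.node [3,1,3,1,3,2,0,2,2] .nil .nil)) (.node [2,2,2,0,2,2,2,1,0,2,0] (.node [3,0,2,1,3,3,2,2,0] .nil .nil) (.node [0,2,2,1,0,2,3,3,1,0] .nil .nil))) (.node [3,3,2,1,3,1,3,2,0,1,0] (.node [0,2,1,3,0,1,3,3,2,0] (.node [2,1,3,3,0,1,3,2,0,1] .nil .nil) (.node [0,1,3,2,1,3,2,0,1] .nil .nil)) (.node [2,1,3,0,1,0] (.node [3,1,3,2,1] .nil .nil) .nil))) (.node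 [1,3,1,0,2,0,2,2,2,0,1] (.node [2,0,1,3,2,2,2,0,2] (.node [1,3,0,2,0,2,1,3,1] (.node [2,3,2,1,3,0,2] .nil .nil) (.node [1,3,0,2,0,2,2,1,0] .nil .nil)) (.node [3,3,1,3,2,1,0,2,2,0,1] (.node [0,2,3,1,3,0,1,3,3,1] .nil .nil) (.node [3,3,1,0,2,3,0,2,1,3] .nil .nil))) (.node [2,0,2,1,3,1,3,2] (.node [0,2,3,3,0,2,2,0,2,0] (.node [3,2,1,3,3,2,1,3,1,3] .nil .nil) (.node [0,2,3,3,1,0,2,2,1,0] .nil .nil)) (.node [1,3,1,3,3,1,3,1] (.node [3,2,1,3,3,2,1,3,3] .nil .nil) .nil)))) (.node [3,1,3,0,2,1,3,1,3] (.node [0,2,3,0,2,2,1,0,2,2,1] (.node [3,3,0,2,1,3,3,0,2] (.node [2,3,0,1,3,0,1,0] (.node [0,2,0,2,2,0,1,3,2,2,1] .nil .nil) (.node [3,1] .nil .nil)) (.node [1,3,1,3,3,0,1,0] (.node [3,1,3,2,0,2,1,3,1] .nil .nil) (.node [0,1,3,2,1,3,1] .nil .nil))) (.node [0,1,3,3] (.node [1,0,2,0,2,2,2,1] (.node [2,3,3,1,3,1,3,3,0] .nil .nil) (.node [0,2,0,2,2,2,1,0,2,2] .nil .nil)) (.node [0,2,1,0,2,3,3,2,2] (.node [2,0,2,1,3,1,3,3,0,2]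 .nil .nil) .nil))) (.node [3,2,2,2,0,1,3,0,2,0] (.node [3,0,1,3,0,2,1,0,2,2] (.node [3,1,3,3,0,2,1,0,2,1,3] (.node [3,3,1,3,2,0,2,3,0,2,0] .nil .nil) (.node [3,2,2,1,0,2,3,3,1,3,2] .nil .nil)) (.node [2,2,1,0,2,0,2,1,3] (.node [2,3,2,2,1,0,2,0,1] .nil .nil) .nil)) (.node [2,3,1,3,0,1] (.node [1,3,2,0,2,2,1,0] (.node [3,2,1,3,3,2,0,1,3,2,0] .nil .nil) (.node [0,2,3,3,2,1,3,1,0,2] .nil .nil)) (.node [0,1,3,2,0,1,3,2,1,3,2,1] (.node [3,0,2,2,0,2,0,2,2] .nil .nil) .nil))))) (.node [0,2,0,1,3,1,3,1,3,2] (.node [0,2,1,3,3,2,1,3,2,0,1,0] (.node [2,2,2,0,2,1,0,2] (.node [3,2,2,0,2,1,0,2,3] (.node [2,3] (.node [1,3,3,1,3,3,0,1,3,3,1] .nil .nil) (.node [2,0,2,2,0,2,0,2,2] .nil .nil)) (.node [3,0,1,3,1,0,2,3,3,1] (.node [2,2,0,2,2,0,2] .nil .nil) (.node [3,1,3,3,2,1,0,2,2,2,1] .nil .nil))) (.node [2,0,2,2,2,0,1,3,3,2,2] (.node [1,3,3,1,3,3,2,0,2,0,1] (.node [0,2,1,0,2,2,2,0,2,0,1,0] .nil .nil) (.node [2,3,1,0,2,0]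 .nil .nil)) (.node [3,3,2,1,0,2,2,1,0,2,1] (.node [0,2,3,1,3,0,1,3,3,2,2] .nil .nil) .nil))) (.node [3,1,3,2,1,0,2,0,2,1,0] (.node [1,0,2,1,3,0,1,3,2] (.node [1,3,2,0,2,0,2,2,2,1] (.node [0,2,1,3,0,1,3,1,3,1,0] .nil .nil) (.node [1,3,2,0,1,3,0,2,1,3] .nil .nil)) (.node [3,2,1,3,1,3,2,0,1,0] (.node [0,1,3,3,2,2,0,2,1] .nil .nil) .nil)) (.node [3,3,2,0,1,0] (.node [0,2,3,3,2,1,0,2,1,0] (.node [0,2,2,0,2] .nil .nil) (.node [2,2,0,2,0,2,0,1,3,3] .nil .nil)) (.node [3,2,0,2,0,2,1,3,2,0] (.node [1,3,2,1,3,2,1,0] .nil .nil) .nil)))) (.node [1,3,0,2,1,0,2,3,0,1,0] (.node [1,0,2,1,0,2,2,2,0,1] (.node [3,3,1,3,2,0,1,0] (.node [1,3,0,2,0,2,2,1] (.node [2,1,0,2,2,1,0] .nil .nil) (.node [3,2,0,2,0,2,1,0] .nil .nil)) (.node [2,1,3,2,2,0,2,2,1] (.node [3,3,1,3,2,0,2,3,1,3,2] .nil .nil) (.node [3,2,2,1,0,2,1,0,2,0] .nil .nil))) (.node [0,2,3,3,2,2] (.node [3,3,2,2,0,1,3,1,3,3,0] (.node [3,3,1,0,2,3,0,2,1,3,2] .nil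 .nil) (.node [3,1,3,3,1,3,2,2,0,2,0] .nil .nil)) (.node [0,1,3,2,2,2,0,1,0] (.node [0,2,0,1,3,1,3,3] .nil .nil) .nil))) (.node [1,3,0,1,3,3,0,1] (.node [3,3,1,3,3,0,1,0] (.node [0,2,3,1,3,2,2,2,0,2,1] (.node [1,3,2,0,2,2,0,1,3] .nil .nil) (.node [1,3,3,2,0,2,1,3,3] .nil .nil)) (.node [1,3,3,1,3,2,1,3,2] (.node [3,1,0,2,3,3,1,0,2,0,1] .nil .nil) .nil)) (.node [0,1,3,2,1,3,0,1,3,1] (.node [2,2,2,1,0,2,0,2,2] (.node [1,3,0,2,2,2] .nil .nil) (.node [3,0,2,2,2,1,0,2,2,2,1] .nil .nil)) (.node [1,3,0,2,1,3,3,2,2,1] (.node [0,1,3,2,0,2,3,0,1] .nil .nil) .nil))))))) (.node [0,1,3,2,1,3,2,2,1] (.node [3,3,0,1,3,3,0] (.node [2,3,3,2,0,2,2,2,1,0] (.node [0,2,2,2,0,2,1,3,2] (.node [3,2,0,1,3,3,1,3,3,0,1] (.node [2,2,2,1,0,2,0,2,2,0,1] (.node [1,3,2,2,0,2,1,3,0,2] (.node [2,1,3,0,2,1,3,0,1,3,3] .nil .nil) (.node [3,0,2,0,2,1,3,0,2] .nil .nil)) (.node [1,3,1,3,0,2,2,0,2,2] (.node [1,0,2,2,2,1,0,2,0] .nil .nil) (.node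 [0,2,1,0,2,3,3,2,2,2,1,0] .nil .nil))) (.node [0,1,3,2,0,2,3,0,2] (.node [1,3,1,3,3,1,3,2,2] (.node [2,2,0,2,1,0,2,2,0,2,2] .nil .nil) (.node [1,3,0,2,1,3,3,1] .nil .nil)) (.node [3,1,0,2,3,0,2,1,0] (.node [0,1,3,3,2,1,3,1,3,3] .nil .nil) .nil))) (.node [3,2,0,2,1,3,2,2,2,0] (.node [1,0,2,3,1,0,2,0] (.node [3,0,2,1,3,0,1,3,3,2,0] (.node [3,2,2,0,2,1,3,3,0] .nil .nil) (.node [0,2,2,0,2,3,0,2,1] .nil .nil)) (.node [2,3,2,2,2,1,0,2,2] (.node [0,1,3,3,2,0,2,2,0,1,0] .nil .nil) (.node [1,3,0,2,1,3,0,2,2,2,1] .nil .nil))) (.node [0,2,3,3,1,0,2,3,1] (.node [1,3,1,0,2,3] (.node [3,0,1,3,3,2,0,1,3,3,2] .nil .nil) (.node [3,1,0,2,3,3,2,1,3,2,1] .nil .nil)) (.node [3,3,0,2,1,3,0,1,3,3,0] (.node [3,1,3,0,2,1] .nil .nil) .nil)))) (.node [2,0,2,0,2,3,1,3,2,2,1] (.node [3,1,3,3,1,3,1,3,3] (.node [2,1,3,3,2,2,1,0] (.node [2,1,3,1,3,1,3,3,0,2,1] (.node [3,2,1,3,0,2,1,3,3] .nil .nil) (.node [2,1,3,1,3] .nil .nil)) (.node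 [3,3,1,3,1,3,2,2,2,1,0] (.node [3,1,3,2,1,3,1,3,3,0,2] .nil .nil) (.node [3,3,0,2,0,2,1,0,2,0] .nil .nil))) (.node [1,3,2,0,2,0,2,1,3] (.node [3,0,2,0,2,0,1] (.node [3,2,2,0,2,0,2,1,0,2] .nil .nil) (.node [1,3,1,3,0,2,1,0,2,0] .nil .nil)) (.node [2,0,2,3,3,0,2,0] (.node [3,3,2,2,0,1,3,3,0,2,1] .nil .nil) .nil))) (.node [2,0,2,1,3,3,0,2] (.node [2,3,1,0,2,1,3,3,1] (.node [3,0,1,3,0,1,3,2,2,0] (.node [3,2,1,3,3,1,3,1,3,2,2,2] .nil .nil) (.node [2,2,2,0,2,2,1] .nil .nil)) (.node [2,0,2,1,3,3,1,3,2,0] (.node [2,3,1,3,2,0,1,3,1] .nil .nil) .nil)) (.node [2,2,0,1,3,0,2,1,3,3,1] (.node [3,2,1,3,0,2,2,0,2,0] (.node [2,3,0,2,2,2,0,1,0] .nil .nil) (.node [0,1,3,2,0,2,1,3,3,1,0] .nil .nil)) (.node [3,1,0,2,2,0,2,1,0] (.node [0,2,1,3,0,1,3,3,1,3,1,0] .nil .nil) .nil))))) (.node [2,0,2,0,2,2,1,0,2,1,3] (.node [3,1,3,1,0,2,0,2,3] (.node [2,1,0,2,1,3,1,3,2,1,3] (.node [3,0,2,0,1,3,1,3,1,3,0] (.node [3,1,3,2,0,1,3,1]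 (.node [3,1,3,3,1,3,1,3,2,2] .nil .nil) (.node [3,3,1,3,0,2,1,3,2,1,3] .nil .nil)) (.node [2,0,1,3,2,1,3,3,0,2] (.node [2,3,3,2,0,2,2,2,0,1,0] .nil .nil) (.node [3,2,1,3,2,0,2,0] .nil .nil))) (.node [2,1,0,2,0,2,0,2,1,3,1] (.node [3,0,2,1,3,2,2,1,0,2,2] (.node [1,3,0,2,0,2,3,0,2,1] .nil .nil) (.node [0,2,0] .nil .nil)) (.node [1,3,2,2,2,0,1,3,3,0] (.node [1,3,1,3,3,2,0,1,3,1] .nil .nil) .nil))) (.node [1,0,2,1,3,0,1,3,3,0] (.node [2,2,0,2,0,1,3,3,0] (.node [1,0,2,2,0,2,2] (.node [2,3,3,0,2,0,2,1,3,3] .nil .nil) (.node [3,1,0,2,0,2,3,0,2,0] .nil .nil)) (.node [3,2,1,3,2,0,1,3,1,0] (.node [3,1,3,1,0,2,3] .nil .nil) .nil)) (.node [2,1,3,0,2,2,2,0,1,3] (.node [0,2,0,2,2,1,0,2,1] (.node [1,3,2,2,2,1,0,2,2] .nil .nil) (.node [2,0,2,1,3,2,2,1,0] .nil .nil)) (.node [0,2,3,3,1,3,3,1,3,3] (.node [2,3,3,1,3,3,1,3,0] .nil .nil) .nil)))) (.node [0,2,2,0,2,2,0,2,2] (.node [2,3,1,0,2,2,1,0] (.node [1,3,1,3,3,1,3]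 (.node [0,2,0,2,3,1,3,2,1] (.node [2,3,1,3,0,1,3,2,0] .nil .nil) (.node [2,0,1,3,3,0,1,3,2] .nil .nil)) (.node [3,0,2,1,3,2,0] (.node [3,1,0,2,3,3,2,0,2,0] .nil .nil) (.node [1,0,2,1,0,2,0] .nil .nil))) (.node [3,3,0,2,1,3,0,2,1,3] (.node [1,3,2,0,1,3,2,0,2,1] (.node [3,2,2,0,2,0,2,3,1] .nil .nil) (.node [1,0,2,3,0,1,3,1,0] .nil .nil)) (.node [0,1,3,0,2,1,3,2] (.node [2,2,0,2,2,1,0,2,0,1,0] .nil .nil) .nil))) (.node [0,2,0,2,0,2,3,3,1,0] (.node [2,3,3,1,3,2,0,2,2] (.node [2,3,0,2,2,2,0,2,1,0] (.node [3,3,1,0,2,1,0,2,3,3] .nil .nil) (.node [2,0,2,0,2,0,2,1] .nil .nil)) (.node [3,1,0,2,3,3,0,1,3,3,0] (.node [0,1,3,3,2,1,3,2,0,2,0] .nil .nil) .nil)) (.node [0,2,0,2,3,0,2,2] (.node [3,3,0,1,3,3,0,1,3,3,0] (.node [0,2,1,3,2,2,2,1] .nil .nil) (.node [3,3,0,1,3,3,2,0,2,0] .nil .nil)) (.node [2,1,3,0,1,3,0,1] (.node [2,1,0,2,0,1,3,2,0] .nil .nil) .nil)))))) (.node [1,0,2,1,0,2,3,3,1,0] (.node [2,2,1,0,2,3,3,1,3,0]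 (.node [1,3,1,0,2,3,3,2,2,0,1,0] (.node [3,3,2,1,3,2,0,1,3] (.node [2,0,2,0,2,3,3,1,0] (.node [3,0,1,3,2,1,3,1,3,2,0] (.node [3,2,0,2,3,3,0] .nil .nil) (.node [2,3,3,1,0,2,3,0,2] .nil .nil)) (.node [3,3,2,2,1,0,2,1,0] (.node [0,2,1,3,2,1,3,0,2,0] .nil .nil) (.node [3,3,2,1,3,3,0,2,2,2,1] .nil .nil))) (.node [1,0,2,2,0,2,0,1,3,2,0] (.node [2,3,2,1,3,2,2,1] (.node [0,2,0,2,3,1,3,0,2,0] .nil .nil) (.node [3,3,1,3,3,2,1,3,3] .nil .nil)) (.node [3,2,2,0,2,3,1,3,2,0] (.node [3,2,2,0,2,2,1,0] .nil .nil) .nil))) (.node [2,3,3,0,1,3,3,0,2,1] (.node [1,3,2,0,2,3,3,1,3,1] (.node [2,0,1,3,1] (.node [1,3,1,3,0,2,1,3,0,1] .nil .nil) (.node [0,2,3,3,2,1,3,0,1] .nil .nil)) (.node [0,2,3,3,1,3,1,3,3,0] (.node [0,1,3,3,1,3,1,3,2,0] .nil .nil) (.node [0,2,2,1,0,2,3,0,1,0] .nil .nil))) (.node [2,3,0,2,1,3,3,2,2,1] (.node [3,3,2,0,1,3,3,2,1] (.node [2,3,3,1,3,3,2,2,1] .nil .nil) (.node [2,0,2,1,3,3,2,1,3,1,3,0] .nil .nil))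 (.node [1,3,2,1,3,3,1,0,2,2,0] (.node [3,3,1,3,3,0,1,3,2,1] .nil .nil) .nil)))) (.node [1,3,2,0,1,3,3] (.node [1,0,2,0,2,2,2,0,2,1,3,2] (.node [1,3,2,1,0,2,2,1,0] (.node [1,0,2,1,0,2,3,3,2,0] (.node [2,0,1,3,3,2,2,0] .nil .nil) (.node [2,0,2,0,2,0,2,0,2,2] .nil .nil)) (.node [3,1,0,2,0,2,2,2,0,1] (.node [0,2,3,0,1,3,0,1,3,3] .nil .nil) (.node [0,2,2,0,1,3,3,2] .nil .nil))) (.node [2,0,1,3,1,0,2,3,3] (.node [3,1,3,3,1,0,2,3,1,0] (.node [2,3,2,2,0,2,0,2,1] .nil .nil) (.node [2,0,2,2,1,0,2] .nil .nil)) (.node [0,2,1,0,2,3,0,2,1] (.node [2,3,1,3,3,2] .nil .nil) .nil))) (.node [0,2,1,0,2,3,1,0,2,3,1,0] (.node [0,2,1,0,2,3,3,1,3,2,1] (.node [3,3,2,1,3,3,0,1,3,0] (.node [3,2,0,2,1,3,0,2,1,3,1,0] .nil .nil) (.node [3,3,1,3,1,3,2,0,2,2,1] .nil .nil)) (.node [0,2,1,0,2,0,2,2,0,2] (.node [1,0,2,2,0,2,3,3,2,1,0] .nil .nil) .nil)) (.node [3,2,2,0,2,0,1,3,2] (.node [0,2,1,3,1,0,2,2,1] (.node [1,3,1,3,1,3,1,3,2,2,2]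 .nil .nil) (.node [3,3,0,2,1,3] .nil .nil)) (.node [3,2,2,0,1,3,1,3,3,2,1,0] (.node [0,2,3,0,1,3,3,1,3,1] .nil .nil) .nil))))) (.node [0,1,3,2,0,2,0,1] (.node [3,0,1,3,1,3,0,1,3,0] (.node [2,1,3,0,1,3,1,3,1,0] (.node [3,0,2,1,3,2,0,2,0,1,0] (.node [0,2,2,0,1,3,3,0,2,0,2,0] (.node [2,2,2,0,1,3,3,2,2] .nil .nil) (.node [0,2,0,2,2,0,2,0,1] .nil .nil)) (.node [2,3,2,0,1,3,0,1,3,1,0] (.node [3,2,2,0,2,2,0,1] .nil .nil) (.node [2,2,0,2,3,3,1,3,1,0,2] .nil .nil))) (.node [0,1,3,2,1,3,1,3,2,0,2,0] (.node [0,2,1,3,3,2,2,2,0] (.node [2,3,0,1,3,0,1,3,0,1] .nil .nil) (.node [1,3,0,1,3,0,2,2,2] .nil .nil)) (.node [3,2,0,2,3,1,0,2,1] (.node [3,2,1,0] .nil .nil) .nil))) (.node [3,2,0,2,1,0,2,3,0,2] (.node [3,1,3,1,3,2] (.node [1,3,0,2,2,0,2,0] (.node [2,0,1,3,1,3,0,2] .nil .nil) (.node [2,3,1,3,1,3,1,3,1,3,0] .nil .nil)) (.node [0,2,3,3,1,3,0,1,3,2,0] (.node [2,2,0,2,1,3,3,1,3,2,2,2] .nil .nil) .nil)) (.node [3,3,2,1,3,2,1,3,2,0]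 (.node [0,1,3,0,2,0,2,0,2,1,0] (.node [1,3,0,2,1,3,3,0] .nil .nil) (.node [0,2,0,2,3,3,2,2,2,0] .nil .nil)) (.node [2,3,3,1,3,3,1,3,0,1,0] (.node [2,0,1,3,2,0,2,2,2,0,1] .nil .nil) .nil)))) (.node [1,3,3,2,2,0,1,3,3] (.node [3,3,2,0,2,0,2,1,3,2,1] (.node [0,2,3,1,3,0,2] (.node [0,1,3,1,3,2,1,3,0,2,0] (.node [2,3,1,3,2,1,3,2,0,2,1] .nil .nil) (.node [1,3,0,1,3,3,1,3,3,0] .nil .nil)) (.node [0,2,2,0,2,0,1,3,3,2,2] (.node [3,3,1,3,2,0,1,3,1] .nil .nil) (.node [1,3,3,0,1,3,3,2,0,2,0] .nil .nil))) (.node [0,2,0,2,3,3,1,3,2,1] (.node [0,2,1,3,3,1,3,2,2] (.node [3,0,1,3,2,1,3,3,2,0] .nil .nil) (.node [3,1,3,0,2,2,2,1] .nil .nil)) (.node [2,3,0,2,1,3,3,1,0] (.node [2,2,0,1,3,0,2,1,3] .nil .nil) .nil))) (.node [2,1,3,0,2,0,1,3,2,2] (.node [3,2,1,0,2,1,3,0,2,0,1] (.node [0,1,3,0,2,2,0] (.node [3,3,1,3,1,3,2,1,3,2] .nil .nil) (.node [1,0,2,3,0,2,1,3,1] .nil .nil)) (.node [2,0,2,0,2,2,0,2] (.node [3,2,2,0,2,3,1,0,2,3,3]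 .nil .nil) .nil)) (.node [1,3,3,2,2,0,2,2,0,1,0] (.node [3,2,0,2,0,2,0,1,3,2] (.node [2,1,3,0,2,1,3,0,1] .nil .nil) (.node [1,3,3,1,3,3,0,2,1,3] .nil .nil)) (.node [3,1,3,0,1,3,0,2,1,3,1,3] (.node [2,3,2,0,2,0,2,0,2,2,0,1] .nil .nil) .nil))))))))

/-- Part of `setWord`. -/
noncomputable def setWord_l_r_r_r : Arr (List ℕ) :=
  .node [3,0,1,3,0,2,1,3,0,1] setWord_l_r_r_r_l setWord_l_r_r_r_r

/-- Part of `setWord`. -/
noncomputable def setWord_l_r_r : Arr (List ℕ) :=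
  .node [0,2,3,0,1,3,1,3,3,1] setWord_l_r_r_l setWord_l_r_r_r

/-- Part of `setWord`. -/
noncomputable def setWord_l_r : Arr (List ℕ) :=
  .node [1,3,3,2,1,3,0,1,3,0] setWord_l_r_l setWord_l_r_r

/-- Part of `setWord`. -/
noncomputable def setWord_l : Arr (List ℕ) :=
  .node [0,2,1,3,3,0,2,2,2,1,0] setWord_l_l setWord_l_r

/-- Part of `setWord`. -/
noncomputable def setWord_r_l_l_l_l : Arr (List ℕ) :=
  (.node [3,2,2,0,1,0] (.node [3,1,3,1,3,3,1] (.node [2,2,0,2,1,0,2,1] (.node [0,2,1,3,3,2,2,1] (.node [0,2,1,0,2,2,0,2,1,0,2] (.node [2,0,1,3,2,0,2,0,1,3,2] (.node [3,2,0,2,0,2,1,3,3] (.node [1,3,1,3,2,0,1,3,2,1] (.node [1,3,0,2,1,3,3,2,2] .nil .nil) (.node [2,2,0,2,3] .nil .nil)) (.node [3,2,1,3,2,1,3,0,2,2] (.node [3,2,0,1,3,2] .nil .nil) (.node [2,0,2,0,2,2,0,1,3,0] .nil .nil))) (.node [2,3,1,3,3,1,3,3,1] (.node [2,3,1,3,1,3,3,0,2,0,1] (.node [0,2,3,1,3,3,1,0] .nil .nil) (.node [1,3,1,3,1,3,3,1,3]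 .nil .nil)) (.node [2,0,2,0,2,0,2,0,2] (.node [2,3,3,0,2,1,0,2,0,1] .nil .nil) .nil))) (.node [2,1,3,2,0,1] (.node [3,2,1,0,2,0,2,2,2,1] (.node [2,1,3,1,3,1,3,3,0] (.node [1,3,0,2,2,0,2,3,0,1,3,2] .nil .nil) (.node [0,2,3,3,2,1,3,1,0] .nil .nil)) (.node [3,0,1,3,3,0,2,1,3,3] (.node [2,3,1,3,1,3,0] .nil .nil) (.node [0,2,3,1,0,2,1,3,0,1,3,0] .nil .nil))) (.node [1,3,2,1,3,2,2,2] (.node [2,1,3,1,0,2,0,2,3,1,0] (.node [2,1,3,0,2,2,2,0,1,0] .nil .nil) (.node [1,3,3,2,2,2,0,2,0] .nil .nil)) (.node [3,3,2,1,3,0,2,1,3,3] (.node [2,3,1,3,1,3,1,0,2,1] .nil .nil) .nil)))) (.node [3,2,1,3,0,2,2,0,2,3,1] (.node [2,3,3,1,0,2,0,2,2] (.node [3,0,2,0,2,1,0,2,3,1] (.node [0,2,1,3,2,1,3,3,1] (.node [0,2,0,2,3,0,2,0,2,3,0,1] .nil .nil) (.node [2,2,0,2,2,1,0,2,3,1,3] .nil .nil)) (.node [3,0,1,3,3,2,1] (.node [1,3,2,0,1,3,1,3,3] .nil .nil) (.node [2,3,2,2,2,1,0,2,0] .nil .nil))) (.node [2,3,2,1,3,2,1,3,3,0] (.node [3,1,3,0,2,2,1,0,2,0]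 (.node [3,3,2,0,2,1,3,2,1,3,2] .nil .nil) (.node [1,3,2,2,0,2,1,3] .nil .nil)) (.node [2,1,3,2,1,3,3,1,3,0,1] (.node [2,2,0,2,1,3,2,2,1] .nil .nil) .nil))) (.node [3,3,2,1,3,3,0,1,3,1,3,0] (.node [3,1,3,0,1,3,2,0] (.node [2,2,1,0,2,3,0,1,3,2,1] (.node [2,2,0,2,3,3,0,2,1,3,2] .nil .nil) (.node [2,0,2,2,1,0,2,0] .nil .nil)) (.node [3,3,1,3,3,1,3,1,3,3,0] (.node [2,1,3,3,0,1,3,3,2,2] .nil .nil) .nil)) (.node [2,1,3,3,1,3,0,2,2,1,0] (.node [0,2,3,1,3,2,2,0,2,0,2,0] (.node [3,0,2,0,2,3,1,3,2] .nil .nil) (.node [3,2,0,2,2,0,1,3,3,2] .nil .nil)) (.node [3,3,1,3,2,1,0,2,1,0] (.node [1,3,1,3,3] .nil .nil) .nil))))) (.node [2,2,0,1,3,3,2,2,0] (.node [2,3,2,2,1,0,2,3,0,2] (.node [3,1,0,2,0,2,2,1,0,2,1] (.node [3,2,2,2,0,2,2,0,2,0,1,0] (.node [2,2,0,1,3,2,1,0,2,3] (.node [2,3,3,1,3,3,2,2,2,0] .nil .nil) (.node [1,3,1,3,2,1,0,2,2,1] .nil .nil)) (.node [0,2,1,3,3,0,2,0,2,0] (.node [0,2,2,1,0,2,2,0,2,0] .nil .nil)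 (.node [3,3,0,2,2,0,2,1] .nil .nil))) (.node [3,2,0,2,0,2,1,0,2] (.node [0,2,0,2,1,3,3,2,2,0] (.node [0,2,3,1,0,2,3] .nil .nil) (.node [1,3,1,3,2,1,0,2,0] .nil .nil)) (.node [1,3,1,0,2,1,3,3,1,3,3,1] (.node [0,2,3,3,1,3,0,1,3,1] .nil .nil) .nil))) (.node [2,3,0,2,1,3,0,2,1,3] (.node [0,1,3,2,2,0] (.node [0,2,0,2,1,3,0,2,2,0,2] (.node [2,0,2,3,0,2,2,1,0] .nil .nil) (.node [0,1,3,1,3,2,1,3,3,2,2,0] .nil .nil)) (.node [2,3,3,0,2,1] (.node [3,2,0,2,3,0,2,2,1,0,2,0] .nil .nil) .nil)) (.node [1,3,0,2,0,2,0,1,3,0] (.node [3,0,1,3,0,1,3,3,2,2] (.node [2,3,1,3,3,2,1,3,1,0] .nil .nil) (.node [1,3,0,1,3,2,1,3,1] .nil .nil)) (.node [1,3,2,0,1,3,2,1,3,2,1] (.node [0,2,0,1,3,3,2,2,0,2,2] .nil .nil) .nil)))) (.node [1,3,3,2,2,0,1,3,0,2,0] (.node [3,3,1,3,2,0,2,3,0,1] (.node [2,3,3,1,0,2,0,2,3,3,0] (.node [3,2,2,0,2,3,3,0] (.node [2,1,3,1,3,3,0,2,0,2,0] .nil .nil) (.node [3,3,0,1,3,1,0,2] .nil .nil)) (.node [2,2,0,2,0,2,0,2]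 (.node [2,0,2,1,3,2,0,2,0,2,1] .nil .nil) (.node [2,3,0,2,1,3,0,2,2,2,1] .nil .nil))) (.node [1,3,3,1,3,1,0,2] (.node [1,0,2,3,0,1,3,3,1,3,0] (.node [2,3,1,3,1,0,2,0,2] .nil .nil) (.node [0,1,3,2,0,1,3,3,1,3,0] .nil .nil)) (.node [2,1,3,3,2,0,1,3,2,0] (.node [3,2,0,1,3,0,2,1,3,3,0] .nil .nil) .nil))) (.node [2,1,3,0,2,0,2,3] (.node [1,3,2,1,3,3,2,0,2,2] (.node [3,2,0,2,2,2,1,0] (.node [1,3,3,2,1,0,2,2,1] .nil .nil) (.node [0,2,3,1,3,2,2,1] .nil .nil)) (.node [3,3,2,0,2,1,0,2,3] (.node [3,1,0,2,3,0,2,0,2,0,1] .nil .nil) .nil)) (.node [3,1,0,2,0,2,2,0,1,3,2] (.node [3,1,3,3,2,0,2,2,0,1,0] (.node [3,2,0,2,2,1,0,2,2,1] .nil .nil) (.node [2,1,3,3,0,1,3,0,2,2,2] .nil .nil)) (.node [2,1,3,3,1,3,3,1,3,3] (.node [0,2,3,3,0,2,1,3,2,2,0] .nil .nil) .nil)))))) (.node [3,0,2,0,2,1,3,2] (.node [3,0,1,3,2,1,3,0,1,3,1] (.node [2,0,2,0,1,3,3,2,2] (.node [3,2,0,2,2,0,2,1,0,2,0,1] (.node [0,2,2,0,2,2,1,0,2,0] (.node [3,2,0,2,3,0,1]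 (.node [3,2,2,0,2,3,0,2,2,0] .nil .nil) (.node [1,3,2,0,2,2,0,2] .nil .nil)) (.node [2,3,3,0,1,3,1,3,3,2] (.node [3,0,1,3,3,1,3,2,1] .nil .nil) (.node [3,0,2,0,2,1,0,2,0] .nil .nil))) (.node [1,3,0,1,3,3,0] (.node [2,3,2,0,1,3] (.node [3,3,2,1,3,0,1,3,1] .nil .nil) (.node [3,1,0,2,2,0,2,0,2,2,0,1] .nil .nil)) (.node [3,3,0,1,3,1,3,3,1] (.node [1,0,2,2,0,2,2,1,0] .nil .nil) .nil))) (.node [1,0,2,0,2,1,3,3,1] (.node [2,3,0,2,2,0,2,0,1,0] (.node [1,3,1,0,2,3,3,2,1] (.node [3,0,2,2,0] .nil .nil) (.node [2,3,2,1,0,2,2,1] .nil .nil)) (.node [1,3,0,1,3,3,1,3,3] (.node [2,0,2,3,1,0,2,2,1,0,2] .nil .nil) (.node [2,0,2,2,2,0,2,1,3] .nil .nil))) (.node [1,3,1,3,1,0,2,3,1,0] (.node [1,3,3,2,1,3,0,1,3,3,0] (.node [3,3,1,3,3,1,3,2,1,0] .nil .nil) (.node [2,1,3,1,0,2,3,1] .nil .nil)) (.node [3,2,1,3,3,1,3,1,3,3,2] (.node [2,3,3,2,0,2,1,3,2,1] .nil .nil) .nil)))) (.node [3,2,1,0,2,3,1,0,2,3,3] (.node [3,1,3,3,1,0]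 (.node [3,2,0,2,3,3,2] (.node [3,0,2,0,2,1,3,0,2,2,0] (.node [0,2,2,0,1,3,3,0,2,2] .nil .nil) (.node [3,0,2,2,1,0,2,2] .nil .nil)) (.node [0,1,3,1,3,1,3,3,0] (.node [3,0,1,3,3,1,3,3,2,1,0] .nil .nil) (.node [1,0,2,3,1,3,3,0,2] .nil .nil))) (.node [1,0,2,1,3,1,3,3,2,2,1] (.node [1,3,0,2,0,2,0,1] (.node [3,3,1,3,3,2] .nil .nil) (.node [3,3,2,1,0,2,3,1] .nil .nil)) (.node [2,2,2,0,2,2,0,2] (.node [2,2,0,1,3,3,0,2] .nil .nil) .nil))) (.node [2,0,2,2,1,0,2,0,2,1] (.node [3,3,2,1,3,2,0,1,0] (.node [3,3,2,0,1,3,0,2] (.node [2,2,2,0,2,0,2,3,1] .nil .nil) (.node [2,3,0,2,2,1,0,2,1,3] .nil .nil)) (.node [3,3,2,0,1,3,3,0,2,2,1] (.node [3,2,2,0,1,3,1,3,3,0] .nil .nil) .nil)) (.node [1,3,3,0,2,1,3,0,2] (.node [1,3,3,1,3,0,1,3,1] (.node [0,2,1,3,3,2,1,3,3] .nil .nil) (.node [2,1,3,0,2,1,3,2,2,1,0] .nil .nil)) (.node [2,3,3,0,2,1,3,0,1,3,0] (.node [0,1,3,2,0,2,3,3,0,2] .nil .nil) .nil))))) (.node [1,3,2,0,2,1,3,0]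 (.node [2,1,0,2,0,2,0,2,1,0] (.node [0,1,3,0,2,0,2,2,0,1] (.node [3,2,0,2,2,0,2,0,2] (.node [0,2,1,3,2,0,1,3,0,2] (.node [1,3,1,0,2,0,2,3,3,1] .nil .nil) (.node [1,0,2,0,1] .nil .nil)) (.node [1,3,2,0,2,0,1,0] (.node [3,1,3,2,0,2,3,3,1,3,1] .nil .nil) (.node [0,1,3,1,3,3,2,0] .nil .nil))) (.node [2,3,2,1,0,2,3,1,0] (.node [1,3,3,2,0,2,2,2,1,0] (.node [3,2,2,0,1,3,2,0,2,1] .nil .nil) (.node [1,3,0,2,0,2,1,3,3,2,0] .nil .nil)) (.node [0,1,3,1,3,3,0,1,3,2,2,0] (.node [0,2,0,2,2,0,1,3,2,0,1] .nil .nil) .nil))) (.node [2,1,0,2,1,0,2,1,3] (.node [2,0,2,3,3,1,3,2,0,1,0] (.node [3,1,0,2,3,0,2,0,2,2,1,0] (.node [0,2,0,2,0,2,3,0,2,2,0] .nil .nil) (.node [2,0,1,3,2,1,0,2,3] .nil .nil)) (.node [2,0,1,3,2,2,0,2,1,0] (.node [2,1,3,0,2,0,1] .nil .nil) .nil)) (.node [1,3,3,2,0,2,2,0,2,2] (.node [2,3,3,2,0,2,2,0,1,0] (.node [2,1,0,2,1,0] .nil .nil) (.node [2,0,2,0,2,0,2,1,0,2] .nil .nil)) (.node [1,0,2,3,1,0,2,1,3,1,0]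 (.node [1,3,2,2,0,2,0,1,0] .nil .nil) .nil)))) (.node [1,3,2,1,3,0,1,3,1] (.node [2,0,2,2,0,2,3,3,1,0] (.node [2,1,0,2,1,0,2,0,2,0] (.node [2,1,3,1,3,1,0] (.node [1,0,2,1,3,3,2,0,2,1,0] .nil .nil) (.node [3,1,3,3,2,2,0,1,3,1,0] .nil .nil)) (.node [2,0,2,2,1,0,2,3,1,3] (.node [1,3,0,1,3,0,2,2,1,0] .nil .nil) (.node [0,1,3,2,2,0,2,3,0,1,0] .nil .nil))) (.node [3,1,3,0,2,1,3,2] (.node [0,2,0,2,1,3,3,2,2,1,0] (.node [0,2,3,1,0,2,3,1,0] .nil .nil) (.node [0,2,2,0,2,1,0,2,0] .nil .nil)) (.node [2,1,3,1,3,2,0,1] (.node [1,0,2,3,1,3,0,2,2,1,0] .nil .nil) .nil))) (.node [2,3,3,2,1,3,2,0,1,0] (.node [0,1,3,3,1,3,2,0,2,0] (.node [3,1,3,0,2,1,3,2,0,2,0] (.node [3,1,3,1,3,3,0,2,1,3,0,1] .nil .nil) (.node [1,3,2,2,0,2,2,1,0,2,0] .nil .nil)) (.node [3,2,1,3,3,2,0,2,1,0,2] (.node [2,2,2,0,1,3,1,0] .nil .nil) .nil)) (.node [3,1,3,3,2,2,0,1,0] (.node [3,0,2,2,0,2,0,2,0] (.node [0,2,0,2,3,0,2,2,0] .nil .nil) (.node [2,3,2,1,0,2,2,0,2,1]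 .nil .nil)) (.node [1,0,2,3,3,0,1,0] (.node [2,3,1,3,2,1,0] .nil .nil) .nil))))))) (.node [3,0,1,3,1,3,3,2] (.node [0,2,1,0,2,1,3,1,3] (.node [2,1,3,1,3,2,1,3,2,0,1,0] (.node [1,3,3,2,1,3,2,0] (.node [2,1,3,0,1,3,3,2,2] (.node [0,2,3,0,2,2,0,2,2] (.node [2,0,1,3,2,0,2,3,0,1,0] (.node [2,0,1,3,1,3,1,3,3,0,1] .nil .nil) (.node [3,2,2,2,0,2,2,0,2,2,1,0] .nil .nil)) (.node [0,2,0,2,1,3,0,1] (.node [1,0,2,3,3,2,2,1,0] .nil .nil) (.node [2,2,1,0,2,1,3,0,2,2,2,1] .nil .nil))) (.node [1,3,2,2,2,1] (.node [2,0,1,3,3,1,3,3] (.node [1,3,2,1,3,1,3,0,2] .nil .nil) (.node [3,2,0,2,1,3,1,3,2,1,0] .nil .nil)) (.node [2,1,0,2,3,3,0,2,2] (.node [3,3,0,2,2] .nil .nil) .nil))) (.node [3,3,0,2,0,1,3,3,2,2] (.node [0,2,3,0,2,1,3,1,3,2,0] (.node [3,0,2,2,0,2] (.node [3,2,1,0,2,2,0,2,3,1] .nil .nil) (.node [1,3,2,2,0,2,1,3,3,0] .nil .nil)) (.node [2,2,2,0,2,2,1,0,2,0,1,0] (.node [2,2,2,1] .nil .nil) (.node [1,3,1,3,1,3,0,2,1,0,2,0]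 .nil .nil))) (.node [3,0,1,3,2,1,3] (.node [1,0,2,0,1,3,2,2,2] (.node [1,0,2,1,3,0,2,2,0] .nil .nil) (.node [2,1,0,2,1,3] .nil .nil)) (.node [2,3,3,1,3,2,2,0,1,0] (.node [1,3,0,2,2,0,1,3,2,1] .nil .nil) .nil)))) (.node [0,2,3,3,2,0,2,0,2,1,0] (.node [0,2,1,3,0,2,0,2,2,1] (.node [0,1,3,3,0,1,3,2,2] (.node [2,0,2,0,2,0,2,0,1,3,0] (.node [2,2,0,1,3,0,1,3,3] .nil .nil) (.node [2,3,0,1,3,0,1] .nil .nil)) (.node [1,3,3,0,1,3,2,0,1] (.node [2,2,0,1,3,2,1] .nil .nil) (.node [0,2,3,3,1,3,1,0,2] .nil .nil))) (.node [0,2,1,0,2,2,1,0,2,3,3] (.node [2,2,0,1,3,3,0,1,3,1] (.node [3,3,2,0,1,3,3,2,0] .nil .nil) (.node [0,2,3,3,1,3,3,0,1,3,3,1] .nil .nil)) (.node [3,0,2,0,1,3,2,1,0,2,1,0] (.node [3,3,0,1,3,3,1,3,2,1,0] .nil .nil) .nil))) (.node [2,3,1,3,3,1,3,0,1] (.node [0,2,2,0,1,3,0,2] (.node [1,3,3,0,2,1,0] (.node [3,2,0,2,0,2,3,3,1,0] .nil .nil) (.node [3,1,3,0,2,0,2,0,1,3,0] .nil .nil)) (.node [2,3,3,1,3,0,1] (.node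 [3,1,0,2,3,1,0,2,0] .nil .nil) .nil)) (.node [2,3,1,0,2,3,0,2,2,0] (.node [2,1,3,2,1,3] (.node [3,1,3,3,1,3,1,3,3,0,2] .nil .nil) (.node [3,0,2,0,1,3,3,2,0,2,1] .nil .nil)) (.node [3,3,1,3,1,3,3,2] (.node [2,3,3,0,2,1,3,2,2,0] .nil .nil) .nil))))) (.node [3,3,0,2,1,3,0,1,3,0] (.node [2,3,0,1,3,3,2,0] (.node [2,1,0,2,2,1,0,2,1,3] (.node [1,0,2,1,3,3,1] (.node [0,2,2,0,1,3,3,2,0,1,0] (.node [2,1,3,2,1,3,0,1,3,3,2] .nil .nil) (.node [3,2,0,2,3,1,3,3,1,0] .nil .nil)) (.node [0,2,0,1,3,3,0,2] (.node [1,0,2,0,2,3,1,3,2,0,1] .nil .nil) (.node [3,0,2,0,2,0,2,0,2,0,1] .nil .nil))) (.node [1,3,2,1,3,2,2,1,0] (.node [2,0,2,3,0,2,2,2] (.node [0,2,2,0,2,3,1,3] .nil .nil) (.node [2,0,2,2,0,2,1] .nil .nil)) (.node [3,0,2,1,0,2,3] (.node [3,3,1,3,2,0,2,0,1] .nil .nil) .nil))) (.node [2,3,2,1,3,3,1,3,0,1] (.node [2,3,3,1,3,3,0,1,3,1] (.node [3,3,2,0,2,2,2,1,0,2,1,0] (.node [2,3,0,2,0,2,3,3,0,2,2,0] .nil .nil) (.node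 [2,1,3,2,1,3,0,2,1] .nil .nil)) (.node [3,1,0,2,2,2,0,2,2,1,0] (.node [1,3,3,2,2,1,0] .nil .nil) .nil)) (.node [1,3,2,0,2,0,2,2,2,1,0] (.node [3,2,1,3,3,1,3,2,0,1] (.node [1,3,0,2,2,1,0,2,3,3,0] .nil .nil) (.node [2,1,3,1,3,2,2,2,1,0,2,0] .nil .nil)) (.node [3,2,1,3,3,2,0,1,3,2,2,1] (.node [1,3,1,3,1,3,3,1,0] .nil .nil) .nil)))) (.node [3,1,3,1,3,3,1,3,3] (.node [2,3,0,2,1,3,2,2,0] (.node [0,2,1,3,1,3,0,2,2] (.node [3,2,2,1,0,2,1,3,3,0,2,0] (.node [3,3,0,2,1,0,2,2,0,2] .nil .nil) (.node [3,0,2,0,2,0,2,2,2,1] .nil .nil)) (.node [3,0,2,2,1,0,2,1,0] (.node [1,3,0,1,3,3,2,2] .nil .nil) (.node [0,2,1,0,2,2,2,0,1,3] .nil .nil))) (.node [2,3,1,3,1,3,3,2,1,3,3] (.node [1,3,3,1,3,2,2,2,1] (.node [3,2,2,0,2,0,2,0,2,3,1] .nil .nil) (.node [2,3,0,1,3,3,0,2,0,2,0] .nil .nil)) (.node [1,3,3,2,1,3,1,3,0] (.node [1,3,0,1,3,3,1,3,2] .nil .nil) .nil))) (.node [3,1,3,3,2,1,3,0,1] (.node [1,3,3,1,3,1,3,2,0] (.node [1,3,1,3,2,2,1,0,2,2,1]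 (.node [2,3,2,1,3,2,1,3,3,1] .nil .nil) (.node [1,0,2,1,0,2,3,3,2,2,1] .nil .nil)) (.node [2,3,3,1,3,3,1,3,2,1,0] (.node [0,2,3,0,2,0] .nil .nil) .nil)) (.node [3,3,1,3,3,0,2,2,0] (.node [2,0,2,2,1,0,2,2,1] (.node [3,1,3,2,1,3,3,1,3,3] .nil .nil) (.node [3,2,0,2,3,1,3,3,2] .nil .nil)) (.node [1,0,2,3,1,0,2,0,2,2] (.node [0,2,3,1,3,2,0] .nil .nil) .nil)))))) (.node [3,3,2,0,2,1] (.node [3,0,2,0,2,3,0,1,3,2] (.node [1,3,2,0,1,3,1,3,3,0] (.node [3,2,1,3,2,0,2,0,2,2,1] (.node [3,1,3,0,2,0,2,3,3,1] (.node [3,2,2,0,2,3,1,3] (.node [2,2,0,2,3,0,2,1,0,2,0] .nil .nil) (.node [0,2,3,3,1,3,3] .nil .nil)) (.node [2,3,1,0,2,2,2] (.node [3,1,0,2,3,1,0,2,2,0,2,1] .nil .nil) (.node [3,2,0,1,3,3,0,2,1,0] .nil .nil))) (.node [0,1,3,2,1,3,2,1,0] (.node [2,1,0,2,3,1,3,2,1] (.node [3,3,0,2,1,3,2,0,2,2,1] .nil .nil) (.node [0,1,3,3,2,1,3,1,3] .nil .nil)) (.node [3,3,0,1,3,0,1,3,2,2] (.node [1,3,3,1,3,2,2] .nil .nil) .nil)))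 (.node [3,2,2,0,2,3,1,3,0] (.node [2,3,2,0,2,1,0,2,3] (.node [3,2,2,0,1,3,3,0,2,1] (.node [2,3,2,1,3,2] .nil .nil) (.node [1,3,2,2] .nil .nil)) (.node [2,0,2,0,1,3,3,2,2,1] (.node [1,3,3,0,2,0,1,3,3,2,1,0] .nil .nil) (.node [2,3,3,0,1,3,2,0,2,0] .nil .nil))) (.node [1,3,2,0,2,2,0,1,0] (.node [3,3,1,3,1,3,1,3,0,2] (.node [0,1,3,3,1,3,2,2,1] .nil .nil) (.node [3,3,1,3,2,1,3,0,2,0] .nil .nil)) (.node [3,2,0,1,3,2,0] (.node [0,2,2,1,0,2,2,1] .nil .nil) .nil)))) (.node [2,0,2,0,2,2,0,2,2,1] (.node [2,3,3,1,3,0,2,1,3,1] (.node [2,3,3,1,3,3,2,2,0,1,3] (.node [2,0,2,3,0,1,3,3,2,2] (.node [0,1,3,1,3,2,2,1] .nil .nil) (.node [3,1,3,3,1,0,2,1,3,1,0] .nil .nil)) (.node [1,3,2,1,3,0,1,3,2] (.node [2,1,3,2,0,2,1,0] .nil .nil) (.node [0,2,3,0,2,0,2,3,1,0] .nil .nil))) (.node [3,3,2,2,1,0,2,3,3,1] (.node [2,3,1,3,1,3,3,1,3] (.node [2,0,2,1,0,2,3,1,0] .nil .nil) (.node [1,3,3,1,3,2,2,0,2,0] .nil .nil)) (.node [3,2,2,0,2,0,2,2,0,1]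 (.node [2,3,2,2,1,0] .nil .nil) .nil))) (.node [3,1,0,2,2,0,2,3] (.node [0,2,0,2,3,1,3,3,1] (.node [3,3,2,0,2,1,0,2] (.node [2,1,0,2,3,3,2,0,1,3,3] .nil .nil) (.node [3,0,2,2,0,2,3,0,1,3,2] .nil .nil)) (.node [2,2,0,2,0,2,2,2,1] (.node [2,1,0,2,1,0,2,1] .nil .nil) .nil)) (.node [2,0,2,1,0,2,0,2,2,1] (.node [2,2,2,0,2,1,3,2] (.node [2,0,2,0,2,3,0,2,1] .nil .nil) (.node [2,3,2,1,3,0,2,0] .nil .nil)) (.node [3,3,0,1,3,1,3,2,0,1,0] (.node [2,1,3,1,3,2,0] .nil .nil) .nil))))) (.node [2,3,3,2,1,3,0,2,0,1] (.node [3,1,3,3,2,1,3,2,0,1,0] (.node [3,2,0,2,3,1,0,2,3,3] (.node [3,3,1,3,0,2,0,1] (.node [2,3,0,1,3,1,3,3,2,2,2,0] (.node [0,2,0,1,3,2] .nil .nil) (.node [1,3,1,3,3,1,3,1,3,3,0] .nil .nil)) (.node [2,2,1,0,2,3,1,0] (.node [3,2,1,0,2,1,0,2,0,2,0] .nil .nil) (.node [3,1,3,3,0,1,3,0,2,2,2] .nil .nil))) (.node [2,3,1,0,2,2,0,1] (.node [3,2,0,2,1,3,3,2,2,2,0] (.node [0,2,3,3,1,3,2,0,1,0] .nil .nil) (.node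 [3,1,3,0,2,2,0,1,3,2] .nil .nil)) (.node [2,0,2,3,3,0,1,3,0,2,0] (.node [2,0,2,2,0,2,2,2,1] .nil .nil) .nil))) (.node [3,2,1,3,1,3,2,0] (.node [2,3,3,2,2,2,0,1,3,3,0] (.node [2,3,2,1,3,1,3,1,3,3,2] (.node [3,1,3,1,3,3,1,3,1] .nil .nil) (.node [2,3,0,2,2,0,2,1,3,1] .nil .nil)) (.node [2,0,2,3,3,2,2,0] (.node [0,2,3,1,3,0] .nil .nil) .nil)) (.node [3,0,1,3,0,1,3,2,1,0] (.node [2,1,3,3,0,1,3,1] (.node [2,1,3,3,0,2,1,0,2,2,2] .nil .nil) (.node [0,2,1,3,3,0,2,0,1] .nil .nil)) (.node [2,1,0,2,3,3,0,2,0,2,0] (.node [2,1,3,2,1,3,3,0,2,2,0] .nil .nil) .nil)))) (.node [2,1,0,2,3,3,2,2] (.node [2,1,3,2,2,0,1,3,3,2,2] (.node [2,0,2,1,3,0,2] (.node [3,1,3,2,0,1,3,3] (.node [1,3,2,1,0,2,3,3,0,2] .nil .nil) (.node [0,2,1,0,2,0,1,3,2] .nil .nil)) (.node [3,3,2,0,1,3,1,3,2,2,1,0] (.node [0,2,1,3,0,2,1,3,2,1,0] .nil .nil) (.node [3,3,2,0,2,1,3,0,2,2,2,1] .nil .nil))) (.node [3,2,0,2,3,3,2,0,2,2] (.node [3,3,0,2,0,2,0,2,1,0]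 (.node [0,1,3,2,2,2,0,2,1] .nil .nil) (.node [2,1,3,3,2,0,2,2,0,2,1] .nil .nil)) (.node [2,3,3,0,2,2] (.node [2,3,1,3,1,3,3,2,2] .nil .nil) .nil))) (.node [1,3,2,2,0,2,3,1,3,2,0] (.node [1,3,0,2,0,2,2,2,1,0,2,0] (.node [2,0,2,0,2,1,3,1,3,1,3] (.node [0,1,3,2,0,2,1,0,2] .nil .nil) (.node [2,0,2,0,2,1,3,3,1] .nil .nil)) (.node [0,2,0,2,0,2,1,0] (.node [2,1,0,2,3,3,2,2,2,1,0] .nil .nil) .nil)) (.node [0,1,3,3,0,2,0,2,1] (.node [1,3,1,3,0,1,3,0,2,2,0] (.node [0,2,1,3,1,3,2,0,2,2] .nil .nil) (.node [0,2,0,2,2,2,0,2] .nil .nil)) (.node [3,3,2,1,3,1,0,2,1] (.node [0,1,3,1,3,2,1,3,3,1] .nil .nil) .nil))))))))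

/-- Part of `setWord`. -/
noncomputable def setWord_r_l_l_l_r : Arr (List ℕ) :=
  (.node [0,2,1,0,2,2,0,1] (.node [1,0,2,3,1,0,2,3,3,1] (.node [3,3,0,1,3,1,3,2,1] (.node [0,2,2,0,1,3,3,0] (.node [3,0,2,1,3,1,3,3,2,2,1] (.node [2,0,2,1,3,2,2,1,0,2,0] (.node [1,3,3,0,2,2,0,1,0] (.node [1,0,2,0,2,2,0,2,2,1,0] (.node [1,3,0,1,3,3,0,2,0,1] .nil .nil) (.node [2,0,2,0,2,1,3,0,2,0] .nil .nil)) (.node [1,3,2,1,3,3,2,0] (.node [1,3,1,3,1,3,2,1,0] .nil .nil) (.node [3,1,3,1,3,0,2,2,2,1] .nil .nil))) (.node [1,3,2,0,1,3,2,1,3,1,0] (.node [2,0,1,3,0,2,2,2,0,2] (.node [2,1,3,3,1,0,2,1,3,1] .nil .nil) (.node [0,2,2,2,0,2,2,1,0] .nil .nil)) (.node [3,3,0,1,3,2,1,0,2,2,1] (.node [0,2,3,1,3,1,3] .nil .nil) .nil))) (.node [3,3,0,2,2,1,0,2,2] (.node [2,2,0,2,3,1,3,0,2] (.node [2,1,3,0,2,0,2,0,2,2] (.node [0,2,0,2,0,2,3,0,2,0,1,0] .nil .nil) (.node [1,3,2,0,1,3,3,0,2,1] .nil .nil)) (.node [3,0,2,0,1,3,2,1,3,1,0] (.node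 [2,3,3,2,1,3,1,3,3] .nil .nil) (.node [0,2,1,0,2,3,0,2,1,3,2] .nil .nil))) (.node [2,1,0,2,2,2,0,1] (.node [1,3,3,1,3,1,3,3,0,1] (.node [3,2,1,3,2,0,1,3,2,1] .nil .nil) (.node [0,1,3,3,2,1,3,2,2,0] .nil .nil)) (.node [2,1,3,3,2,0,1,3,0,2,0] (.node [1,0,2,3,0,2,0,1,0] .nil .nil) .nil)))) (.node [0,2,3,1,3,1,3,2,0,1,0] (.node [3,0,1,3,1,3,3,1,3,1] (.node [2,3,1,3,2,0,1] (.node [1,3,2,2,0,2,1] (.node [1,0,2,2,0,2,1,3,0,1,0] .nil .nil) (.node [0,2,3,1,3,0,1,3,1,0,2] .nil .nil)) (.node [2,3,0,2,0,2,2,0,1] (.node [2,0,2,1,3,3,1,0] .nil .nil) (.node [0,2,3,1,3,1,3,2] .nil .nil))) (.node [2,1,3,0,1,3,2,2,2,0] (.node [0,2,0,2,0,2,1,3,2] (.node [2,3,1,0,2,1,0,2,3,3] .nil .nil) (.node [3,1,3,2,0,2,0] .nil .nil)) (.node [1,0,2,3,1,3,2,0,1,0] (.node [2,0,2,1,3,3,2,2,1,0] .nil .nil) .nil))) (.node [0,2,0,2,1,0,2] (.node [3,3,2,0,1] (.node [3,3,1,0,2,0,2,2,2,1] (.node [0,2,2,0,1,3] .nil .nil) (.node [3,1,3,3,1,3,2,2,1,0]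 .nil .nil)) (.node [0,1,3,3,2,0,2,2] (.node [2,0,1,3,1,3,3,1,0,2,2] .nil .nil) .nil)) (.node [2,3,0,2,2,2,1,0,2,1,0] (.node [3,2,0,2,0,1,3,2,0,2,1] (.node [0,2,2,2,0,1,3,0,2,0,1] .nil .nil) (.node [2,0,2,3,1,3,0,2,0,1] .nil .nil)) (.node [2,3,1,0,2,3,3,0,2,0,2,0] (.node [2,2,2,0,2,2,0,2,2,1] .nil .nil) .nil))))) (.node [0,2,2,2,0,2,0,2,0,2,2] (.node [2,1,0,2,2,0,2,2] (.node [1,0,2,3,1,3,1,0,2,3] (.node [3,2,0,2,3,3,1,3,2,1,0] (.node [2,1,0,2,3,3,1,0] (.node [3,1,3,1,3,3,0,2,1] .nil .nil) (.node [1,3,1,0,2,3,0,2,2,1,0] .nil .nil)) (.node [0,2,3,0,2,2,0,1,3,0,2] (.node [0,2,2,1,0,2,3,1] .nil .nil) (.node [2,2,0,1,3,2,2,1,0,2,1] .nil .nil))) (.node [3,3,1,0,2,2,2,0,2,1] (.node [3,0,1,3,0,2,0,2,1,0] (.node [2,0,1,3,2,1,3,2] .nil .nil) (.node [3,3,2,0,2,2,0,2,1] .nil .nil)) (.node [3,2,1,3,0,1,3,3,0,1] (.node [0,2,0,2,3,1,3,2,0,1] .nil .nil) .nil))) (.node [0,2,3,1,0,2,3,0,1,3,1] (.node [2,1,3,3,1,3,3,0,1,3,0]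 (.node [3,3,2,2,0,2,2,0,1,0] (.node [3,3,1,3,2,0,1,3,1,3,3] .nil .nil) (.node [1,3,3,2,1,0,2,2,2] .nil .nil)) (.node [3,2,2,0,2,3,3,2] (.node [1,3,3,1,3,2,0,2,0,1] .nil .nil) .nil)) (.node [0,2,3,1,3,2,0,2,1] (.node [3,2,1,3,2,0,2,2,1] (.node [1,3,3,2,2,0] .nil .nil) (.node [0,2,2,0,1,3,0,2,1] .nil .nil)) (.node [2,3,1,3,0,1,3,1,0,2] (.node [2,0,2,0,2,1,3,3] .nil .nil) .nil)))) (.node [2,0,2,3,3,2,2] (.node [2,3,1,3,3,2,1,0] (.node [3,0,2,2,0,2,0,2,1,3,2] (.node [2,3,1,3,3,2,1,3,2,0,1,0] (.node [2,1,3,3,2,2,1] .nil .nil) (.node [1,3,2,0,2,3,0,1,3,2] .nil .nil)) (.node [2,1,3,1,3,3,0,2,2,0] (.node [0,2,1,3,2,2,1,0,2,0] .nil .nil) (.node [3,2,2,0,2,3,0,2,1,3] .nil .nil))) (.node [1,0,2,2,2,1,0,2,1,0] (.node [2,3,1,3,2,1,0,2,2,1,0] (.node [3,3,0,2,0,2,2,0,2,0,1] .nil .nil) (.node [3,2,0,2,2,1,0,2] .nil .nil)) (.node [3,2,0,2,1,3,1,3,2,1] (.node [0,2,1,3,0,2,0] .nil .nil) .nil))) (.node [2,2,0,2,2,2,0,2,0]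 (.node [3,3,0,2,1,3,1,3,2] (.node [3,3,2,0,1,3,3,0,1] (.node [3,0,2,1,3,3,1,3,3,0,1] .nil .nil) (.node [1,3,2,2,2,0,2,1] .nil .nil)) (.node [3,0,1,3,3,0,1,3,3] (.node [3,3,1,0,2,2,0,2,3] .nil .nil) .nil)) (.node [1,0,2,2,2,0,1,3,2,0] (.node [3,2,1,0,2,0,2,0,2,1,0] (.node [3,2,2,1,0,2,2,1] .nil .nil) (.node [2,3,3,1,3,3,1,0,2,0] .nil .nil)) (.node [2,3,0,2,0,2,1] (.node [3,0,1,3,1,3,3,2,2,0] .nil .nil) .nil)))))) (.node [2,1,3,1,0,2,3,0,1,0] (.node [1,0,2,0,2,3,3] (.node [2,3,0,2,0,2,3,0,1] (.node [0,1,3,2,1,0,2,1,3,3] (.node [0,2,3,3,2,1,3,3] (.node [1,3,1,3,3,0,2,2] (.node [3,3,1,3,1,3,1,3,3,1,0] .nil .nil) (.node [1,3,0,2,0,2,3,3,1] .nil .nil)) (.node [2,3,1,3,1,3,2,0,2,3,3] (.node [1,0,2,3,0,2,0,2,3,3] .nil .nil) (.node [3,1,3,2,2,1,0,2,0] .nil .nil))) (.node [2,0,1,3,2,2,0,1,3] (.node [2,0,2,0,2,3,0,1,3,0] (.node [1,0,2,1,0,2,0,2,2] .nil .nil) (.node [1,3,1,3,0] .nil .nil)) (.node [3,3,0,2,0,2,2,1,0]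 (.node [1,3,0,1,3,2,0,2,0,1] .nil .nil) .nil))) (.node [1,3,0,2,1,3,1,3,2] (.node [0,1,3,2,1,3,2,1,3,2] (.node [1,0,2,1,3,1,0,2,0] (.node [1,0,2,3,3,1,0] .nil .nil) (.node [3,2,2,1,0,2,0,1,0] .nil .nil)) (.node [2,3,0,1,3,3,1,3,2] (.node [3,2,1,3,3,0,2,0,1] .nil .nil) (.node [0,2,2,1,0,2,3,1,0,2,3,3] .nil .nil))) (.node [3,1,3,2,2,2,1,0,2,2] (.node [1,0,2,3,0,2,1,3,1,3] (.node [2,2,2,0,2,0,2,3,1,0] .nil .nil) (.node [0,1,3,3,0,2,1,0] .nil .nil)) (.node [3,2,1,3,1,3,0,1] (.node [2,0,2,1,3,3,0,2,2,1] .nil .nil) .nil)))) (.node [0,2,2,0,2,3,1,0,2,3,1] (.node [0,1,3,2,1,3,2,1,3] (.node [0,1,3,2,1,0,2,3,1,0] (.node [2,2,2,1,0,2,2] (.node [1,3,0,1,3,1,3,0,2] .nil .nil) (.node [2,2,0,2,0,2,1,0] .nil .nil)) (.node [2,3,1,3,1,3,3,1,3,3,2] (.node [3,1,3,1,3,3,0,1,3,0,2] .nil .nil) (.node [2,3,3,1,0,2,0] .nil .nil))) (.node [3,3,0,2,2,0,1,3,2,1] (.node [2,3,3,1,0,2,3,3,2,2] (.node [2,2,0,2,0,2,2,0,1,0] .nil .nil)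 (.node [2,2,1,0,2,2,0,2,1] .nil .nil)) (.node [3,1,3,2,0,2,0,1] (.node [3,1,3,2,2,2,1] .nil .nil) .nil))) (.node [1,0,2,3,1,0,2,3,3] (.node [2,3,1,3,2,0,2,2,1,0] (.node [0,2,3,0,2,1] (.node [2,2,2,0,2,0,1,3,0,2] .nil .nil) (.node [0,1,3,2,2,0,1,3,1] .nil .nil)) (.node [2,1,3,1,3,2,2,0,1,0] (.node [2,2,0,2,3,3,1,0] .nil .nil) .nil)) (.node [3,3,2,1,3,3,2,0,2,2,1,0] (.node [2,0,2,0,1,3,1,3,3] (.node [3,3,2,0,1,3,1,3,2,2] .nil .nil) (.node [3,3,0,1,3,1,3,3,2,0] .nil .nil)) (.node [2,3,3,1] (.node [2,3,1,0,2,2,1,0,2,1] .nil .nil) .nil))))) (.node [3,0,2,0,1,3,2,2,1] (.node [0,1,3,2,0,2,1] (.node [2,2,2,1,0,2,1,0,2] (.node [0,2,1,3,1,3,3] (.node [3,3,0,1,3,2,1,0,2,2,0,1] (.node [2,0,2,0,2,3,0,1,3,2,1] .nil .nil) (.node [2,0,2,2,0,1,3,2,2,0] .nil .nil)) (.node [0,2,3,3,2,0,2,1,0] (.node [1,3,1,3,2,0,2,1,3,1] .nil .nil) (.node [3,0,1,3,1,3,2,2,2,1] .nil .nil))) (.node [1,3,2,0,2,1,3,3,2,0] (.node [2,1,3,3,0,1,3,1,3,0]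 (.node [3,2,1,0,2,2,0,2,0] .nil .nil) (.node [2,3,0,1,3,0,2,2,0,2] .nil .nil)) (.node [3,1,3,1,3,3,0,1,3,0] (.node [2,3,3,2,0,2,2] .nil .nil) .nil))) (.node [3,2,0,1,3,1,3,1,0] (.node [2,0,1,3,3,2,0,2,1,0] (.node [3,3,2,1,0,2,0,2,2,0,2] (.node [2,3,3,1,3,2,2,0] .nil .nil) (.node [3,3,1,0,2,0,1] .nil .nil)) (.node [2,1,0,2,3,0,2,0] (.node [3,3,1,3,2,1,3,2,0,2,1] .nil .nil) .nil)) (.node [3,2,0,2,1,3,3,0] (.node [3,1,0,2,3,0,1] (.node [3,3,1,0,2,3,3,1,0] .nil .nil) (.node [1,3,3,2,0,1,3,2,2,2] .nil .nil)) (.node [0,2,3,0,1,3,0,1] (.node [3,1,3,2,1,3,2,2,1,0,2] .nil .nil) .nil)))) (.node [3,3,1,0,2,2,0,1] (.node [2,1,3,1,3,1,3,0,1] (.node [0,2,1,0,2,3,1,0,2,2] (.node [2,1,3,3,2,2,0,2,2] (.node [1,3,0,2,2,0,2,0,1,3] .nil .nil) (.node [0,2,0,2,3,3,1,0] .nil .nil)) (.node [3,2,2,0,1,3,0,1,3,1,0] (.node [0,2,1,3,3,1,3,3,0,2] .nil .nil) (.node [1,3,0,2,1,0,2,0] .nil .nil))) (.node [1,3,3,2,0,2,1,0,2] (.node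 [2,3,1,0,2,0,2,2,1,0] (.node [3,3,2,1,0,2,0,2,2,1,0] .nil .nil) (.node [2,2,0,2,3,1,3,0,2,0,1] .nil .nil)) (.node [0,1,3,3,1,3,2,2] (.node [3,2,0,2,2,2,0,2] .nil .nil) .nil))) (.node [2,0,2,3,1,3,0,1,3,1] (.node [3,1,3,1,3,3,0,2,2,0] (.node [3,2,0,2,0,2,3,1,0] (.node [1,0,2,2,0,2,2,0,2,0] .nil .nil) (.node [1,0,2,3,3,0,1,3,0] .nil .nil)) (.node [3,3,1,3,2,1,3,2] (.node [2,2,0,2,0,1,3,2] .nil .nil) .nil)) (.node [2,2,1,0,2,0,2,3,3] (.node [3,2,1,3,2,2,0,2,0,2,1] (.node [3,3,1,0,2,3,0,2,2] .nil .nil) (.node [2,1,3,2,0,2,0] .nil .nil)) (.node [3,2,0,1,3,0,2,1,0,2,0] (.node [2,1,3,2,1,3,1,0,2,2] .nil .nil) .nil))))))) (.node [0,2,0,2,0,2,1,3,2,0] (.node [3,2,2,0] (.node [0,1,3,0,1,3,1,3,0,2] (.node [0,2,3,1,3,0,1,3,2,0] (.node [0,2,3,1,0,2,1,0] (.node [3,2,0,1,3,3,2,2,0,2,2] (.node [2,2,0,2,1,3,1,0] (.node [3,1,3,2,0,2,0,2,1,3,2,0] .nil .nil) (.node [3,1,3,3,2,0,2,2] .nil .nil)) (.node [3,2,1,3,2,2,0,1,3,2,1]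 (.node [1,0,2,0,2,0] .nil .nil) (.node [2,2,2,0,2,2,1,0,2] .nil .nil))) (.node [3,0,2,1,0,2,2,2,1] (.node [0,2,1,3,1,3,1,0,2,1,3] (.node [1,3,0,2,0,1,3,3,0] .nil .nil) (.node [2,1,3,2,0,2,0,1,3,0] .nil .nil)) (.node [2,2,2,0,2,1,3,2,0,2,1] (.node [2,0,1,3,0,2,0,2,2,0,1] .nil .nil) .nil))) (.node [2,3,0,1,3,3,0,2,2] (.node [3,2,2,1,0,2,2,0,2,0,2,0] (.node [2,0,2,1,3,3,0,1,3,0] (.node [0,2,3,1,3,2,2,2,1] .nil .nil) (.node [1,3,1,3,3,1,3,1,0] .nil .nil)) (.node [0,2,1,3,1,3,2,2] (.node [2,0,2,0,2,3,0,2,0] .nil .nil) (.node [3,1,3,0,2,0,2,1,0,2,0] .nil .nil))) (.node [3,1,3,2,1,3,0,1,3,1,0] (.node [1,3,2,1,3,1,3,1,3,2] (.node [2,1,3,3,1,3,0,1,3,2] .nil .nil) (.node [2,0,2,3,3,2,0,2,2,1,0] .nil .nil)) (.node [0,2,3,0,1,3,1,3,0,2,0] (.node [0,2,0,1,3,2,1,3,3,0] .nil .nil) .nil)))) (.node [2,3,3,2,1,3,1,3,3,2] (.node [2,1,3,3,2,2,0,1,0] (.node [3,1,3,2,0,2,3,1,3,0] (.node [1,3,1,3,2,2,0,1,3] (.node [2,0,1,3,1,0,2,3,1]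 .nil .nil) (.node [2,1,3,2,2,0,2,0,2,1,0] .nil .nil)) (.node [2,2,0,2,1,3,1,3,0,2,0] (.node [2,0,1,3,1,3,0,2,2,0] .nil .nil) (.node [2,2,0,2,3,1] .nil .nil))) (.node [0,2,1,0,2,3,1] (.node [3,0,2,2,0,2,3,3,1,0] (.node [2,3,1,0,2,3,1,3,2] .nil .nil) (.node [1,3,2,0,1,3,3,2,1,0] .nil .nil)) (.node [2,1,0,2,0,2,2,0,1] (.node [2,3,2,1,3,2,2,2,1] .nil .nil) .nil))) (.node [3,0,1,3,0,1,3,3] (.node [3,3,0,2,0,2,2,0,2,1] (.node [2,0,1,3,2,1,0,2,0,2,0] (.node [3,2,0,1,3,3,2,1,0,2,0] .nil .nil) (.node [3,1,0,2,0,2,3,3,0,2] .nil .nil)) (.node [2,3,3,2] (.node [0,2,1,3,0,1,3,2,2,1] .nil .nil) .nil)) (.node [2,0,1,3,3,0,1,3,2,0,1,0] (.node [2,3,3,1,3,2,0,1,3] (.node [3,2,2,0,2,2,0,2,2,2,1,0] .nil .nil) (.node [3,1,0,2,1,3,0,2,2] .nil .nil)) (.node [3,2,0,2,2,0,1,3,2,0] (.node [3,1,3,1,3,3,2,2,0] .nil .nil) .nil))))) (.node [3,1,3,2,0,2,3,3,0] (.node [3,0,1,3,2,2,0,1,3,0] (.node [1,3,0,1,3,3,2,1,3,3,1] (.node [2,3,0,2,0,2,3,1,3,1,3,0]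 (.node [2,0,2,0,2,1,0,2,1,0,2] (.node [3,0,2,2,0,1,3,3] .nil .nil) (.node [2,1,3,3,1,3,2,2,1,0] .nil .nil)) (.node [1,3,1,3,2,2,2,0,1,0] (.node [2,2,2,0,2,0,1,3,0] .nil .nil) (.node [3,2,0,2,3,0,2,0,2,3,1,0] .nil .nil))) (.node [2,1,3,1,3,1,3,3,2,1] (.node [3,2,0,2,3,3,2,0,1,3] (.node [2,3,0,1,3,0,1,3,0] .nil .nil) (.node [0,2,3,3,2,1,0,2,2,1] .nil .nil)) (.node [1,3,2,2,1,0,2,3] (.node [3,3,2,2,1,0] .nil .nil) .nil))) (.node [2,1,0,2,1,3,0,2,2,0] (.node [1,3,3,1,3,0,2,2] (.node [3,2,0,1,3,2,0,2,1] (.node [2,1,3,2,0,2,2,0,1,0] .nil .nil) (.node [2,3,1,3,2,2,0,2,1,0] .nil .nil)) (.node [2,0,2,1,0,2,2,2,0,2] (.node [3,2,0,1,3,2,1,3,3,0] .nil .nil) .nil)) (.node [2,1,3,0,2,0,1,0] (.node [2,3,2,1,3,1,3,0] (.node [0,1,3,3,2,0,2,1,0,2,0] .nil .nil) (.node [3,3,1,0,2,1,0,2,3,1,3] .nil .nil)) (.node [2,3,1,0,2,1,3,0,1,0] (.node [0,1,3,2,0,2,2,0,2] .nil .nil) .nil)))) (.node [2,2,2,0,2,2,2,1,0] (.node [3,0,2,1,0,2,0,2,0]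 (.node [3,1,3,2,1,3,3,0,2] (.node [3,0,1,3,3,0] (.node [2,3,2,1,3,1,3,1,3,3] .nil .nil) (.node [2,0,2,1,0,2,1,0,2,2,1] .nil .nil)) (.node [3,3,1,3,0,2,2,2,0,2] (.node [2,2,0,1,3,3,1,3,0,1] .nil .nil) (.node [3,1,0,2,1,3,0,2,2,2,1] .nil .nil))) (.node [3,1,3,3,2,1,3,1,3,3,2] (.node [3,1,3,0,2,0,2,0,2,1,0] (.node [3,3,2,1,3,1,3] .nil .nil) (.node [0,1,3,2,2,2,0,2,0,2,1,0] .nil .nil)) (.node [2,3,2,1,0,2,1,0,2] (.node [3,1,3,3,1,3,1,3,2,1,0] .nil .nil) .nil))) (.node [2,2,0,2,2,1] (.node [3,3,0,1,3,3,0,2,2] (.node [3,0,1,3,3,2,2,2,0] (.node [2,0,2,2,2,0,2,0,2,3] .nil .nil) (.node [1,3,1,3,2,2,1,0,2,2] .nil .nil)) (.node [3,2,0,2,1,3,0,1,0] (.node [0,1,3,3,1,3,1,3,0,2,0] .nil .nil) .nil)) (.node [3,3,1,3,1,3,2,0] (.node [1,3,2,2,0] (.node [3,1,3,0,2,1,3,3,0,2,0] .nil .nil) (.node [2,3,0,2,0,2,0,2,0,2,0,1] .nil .nil)) (.node [2,0,2,0,1,3,3,0,2,0,1] (.node [3,1,3,0,1,3,0,2] .nil .nil) .nil)))))) (.node [0,2,1,3,3,2,1,0,2]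 (.node [2,1,3,0,1,3,3,0] (.node [3,0,2,2,2,0,1,0] (.node [0,2,1,0,2,1,0,2,3] (.node [2,3,3,1,3,2,0,1,3,3] (.node [0,1,3,0,2,1,3,3,1] (.node [2,3,1,3,1,3,3,1,3,0] .nil .nil) (.node [1,3,3,0,2,0,2,1,0] .nil .nil)) (.node [2,1,3,0,2,2,0,2,2,0,1] (.node [3,3,1,3,1,0,2,2,2] .nil .nil) (.node [2,3,3,0,2,2,2,1] .nil .nil))) (.node [0,2,0,2,3,3,0,2,1,0] (.node [2,1,0,2,3,3,2,2,2,1] (.node [3,0,2,1,3,3,0,2,0,1,3] .nil .nil) (.node [1,0,2,1,3,3,2,2,0,1,0] .nil .nil)) (.node [2,2,1,0,2,3,3,2,1] (.node [0,1,3,3,0,2,1,0,2,0] .nil .nil) .nil))) (.node [3,3,1,0,2,1,3,3,2,2] (.node [3,3,1,3,1,0,2,3] (.node [2,0,2,2,1,0,2,0,2,1,0] (.node [3,0,2,0,1,3,0,2,0] .nil .nil) (.node [0,2,3,1,0,2,2,0,1] .nil .nil)) (.node [2,3,2,1,3,3,0,1,3,1] (.node [0,2,1,0,2,2,1,0,2,2] .nil .nil) (.node [0,2,2,0,2,3,0,1,0] .nil .nil))) (.node [0,1,3,3,1,3,1,3,3,0] (.node [1,3,1,3,2,1,3,0,1] (.node [2,2,0,1,3,3,2] .nil .nil) (.node [2,0,2,2,1,0,2,1,3,3]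 .nil .nil)) (.node [0,2,3,1,3,0,2,2,2] (.node [2,1,3,2,0,1,3,1,3,2] .nil .nil) .nil)))) (.node [3,3,0,1,3,3,1,3,0,1,0] (.node [3,0,1,3,0,1] (.node [2,2,0,2,1,3,3,2,0] (.node [0,2,2,0,2,2,0,2] (.node [2,1,0,2,3,3,1,3,0] .nil .nil) (.node [3,0,2,0,2,2,0,1,3,2,0] .nil .nil)) (.node [0,1,3,3,0,2,1,0,2,2,1] (.node [2,1,0,2,0,2,1,3] .nil .nil) (.node [2,2,2,0,2,2,0,2,1,0,2,0] .nil .nil))) (.node [3,2,1,3,0,2,1,0,2,1,3] (.node [2,3,2,2,1,0,2,1,3,1] (.node [0,2,3,3,2,1,3,2,0,1,3] .nil .nil) (.node [0,2,3,3,0,2,1,3,1,3,0] .nil .nil)) (.node [0,2,2,1,0,2,0,1] (.node [2,3,1,3,0,1,3,2,2] .nil .nil) .nil))) (.node [1,3,3,2,0,2,1,3,2] (.node [3,3,0,1,3,2,2,1,0] (.node [0,2,2,0,2,0,1,3,2,0] (.node [2,0,1,3,1,3,0,2,1] .nil .nil) (.node [2,1,3,1,3,2,1,0,2,3,3,0] .nil .nil)) (.node [2,3,0,2,1,3,1,3,3] (.node [1,3,3,2,2,2,0,2,1,3,3] .nil .nil) .nil)) (.node [2,3,1,3,2,0,2,3,0,1] (.node [2,0,1,3,0,2,2,0,2,3] (.node [3,3,0,1,3,1,3,2,2,1,0]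 .nil .nil) (.node [1,3,2,2,1,0,2,1,0,2,0] .nil .nil)) (.node [0,1,3,3,0,1,3,3] (.node [3,1,3,1,3,3,0,2,2] .nil .nil) .nil))))) (.node [2,3,3,1,3,3,2,2,0,1,0] (.node [0,1,3,3,0,2,0,1] (.node [3,0,1,3,1,3,3,0,1,3] (.node [3,0,2,1,3,0,2,1,3,0,2] (.node [2,3,1,3,2,1,3,2] (.node [0,2,2,0,2,3,0,2,2,2] .nil .nil) (.node [3,0,2,0,2,3,3,2,0] .nil .nil)) (.node [3,1,0,2,2,0,2,3,1,3] (.node [3,2,2,0,2,0,1,3,2,0] .nil .nil) (.node [2,3,1,0,2,2,2,1] .nil .nil))) (.node [2,2,1,0,2,3,0,1,0] (.node [2,0,2,3,0,1,3,3] (.node [2,1,3,0,1,3,0,1,3,3] .nil .nil) (.node [0,2,3,1,3,2,1,0,2,3,1] .nil .nil)) (.node [3,1,3,1,0,2,0,2] (.node [2,3,1,0,2,0,2,3,1,3] .nil .nil) .nil))) (.node [2,0,2,1,3,2,1,3,1,3,3] (.node [3,3,0,2,0,2,0,1,3] (.node [3,1,3,0,2,2,0,1,3,2,1] (.node [0,2,1,0,2,0,2,2,1] .nil .nil) (.node [3,1,3,0,2,0,2,1,0] .nil .nil)) (.node [3,2,0,1] (.node [3,3,2,2,1,0,2,3,3,0] .nil .nil) .nil)) (.node [3,2,1,0,2,3,0,2,2,2,1]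 (.node [2,3,3,2,1,3,0,1,3,1] (.node [1,3,3,2,2,0,1,3,2] .nil .nil) (.node [0,2,3,0,2,0,1,3,3,2] .nil .nil)) (.node [3,1,3,1,0,2,3,0,2,2,0] (.node [1,3,2,1,3,1,0,2,0,2] .nil .nil) .nil)))) (.node [3,2,0,1,3,0,2,2] (.node [2,2,1,0,2,1,0] (.node [2,3,2,1,3,2,1,3] (.node [2,3,3,2,0,1,3,1,3,2] (.node [1,0,2,2] .nil .nil) (.node [0,1,3,0,1,3,2,2,1] .nil .nil)) (.node [3,2,0,2,3,1,3,0,2,1,0] (.node [0,2,1,0,2,1,0,2,1] .nil .nil) (.node [0,2,2,0,2,0,2,3,3,0,2,2,0] .nil .nil))) (.node [1,0,2,3,3,1,0,2,3,1] (.node [1,3,2,1,3,0,2,1,0,2,1,3] (.node [3,1,3,0,2,0,1,3] .nil .nil) (.node [2,1,3,3,2,0,1,3,3,2,1,0] .nil .nil)) (.node [3,2,2,0,1,3,3,0] (.node [1,3,3,2,1,3,1,3,3,2] .nil .nil) .nil))) (.node [2,0,2,0,2,1,3,0,1] (.node [3,2,2,0,2,1,3,2,1] (.node [1,0,2,0,2,3,1] (.node [3,2,1,3,3,1,0] .nil .nil) (.node [2,0,1,3,1,3,3,1,3,1,0] .nil .nil)) (.node [2,3,3,1,3,3,0,2,0,2,1,0] (.node [0,1,3,3,2,2,2,0,2,0] .nil .nil)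 .nil)) (.node [2,3,2,0,2,2,1,0,2,1,0] (.node [2,0,1,3,2,1,0,2,2] (.node [2,3,1,3,0,2,1,3,3,1] .nil .nil) (.node [2,3,0,2,1,3,2,2,1,0] .nil .nil)) (.node [3,1,3,0,1,3,1,3,0] (.node [2,0,1,3,3,2,0,1,3,3,2] .nil .nil) .nil))))))))

/-- Part of `setWord`. -/
noncomputable def setWord_r_l_l_l : Arr (List ℕ) :=
  .node [2,0,2,2,1,0,2,0,1,0] setWord_r_l_l_l_l setWord_r_l_l_l_r

/-- Part of `setWord`. -/
noncomputable def setWord_r_l_l_r_l : Arr (List ℕ) :=
  (.node [3,2,0,2,2,0,2,1,0,2] (.node [2,3,1,0,2,1,3,3,0] (.node [2,1,3,2,1,3,2,0,1,0] (.node [3,3,1,3,2,2,2,0,1,0] (.node [1,3,0,2,2,2,0,1,3,3,0] (.node [1,3,0,2,1,3,2,1] (.node [0,2,2,2,0,1,3,3] (.node [3,1,3,1,3,1,3,3,0,1,0] (.node [2,0,2,1,0,2,2,2] .nil .nil) (.node [2,0,2,1,0,2,3,3,2,2] .nil .nil)) (.node [3,2,0,2,0,2,3,0,2,0,1,0] (.node [3,0,1,3,1,3,2,2,0,2] .nil .nil) (.node [2,2,1,0,2,3,1,3,3,1,3,0] .nil .nil))) (.node [3,0,1,3,3,1,3,2,1,0] (.node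 [3,0,2,2,0,2,0,2,3] (.node [3,1,0,2,3,0,1,0] .nil .nil) (.node [1,3,0,2,1,3,3] .nil .nil)) (.node [0,1,3,2,0,2,1,3,0,1,0] (.node [2,3,0,2,0,2,3,3,0] .nil .nil) .nil))) (.node [2,3,0,1,3,1,0,2,3] (.node [2,1,3,2,1,3,2,1,0] (.node [0,1,3,1,0,2,3] (.node [2,0,1,3,1,0,2,3] .nil .nil) (.node [2,3,1,3,3,1,3,1] .nil .nil)) (.node [3,2,2,0,2,3,0,1,3,2] (.node [2,3,3,0,1,3,1,3,3,0] .nil .nil) (.node [2,0,1,3,0,1,3,2,1,0,2,0] .nil .nil))) (.node [3,2,1,3,2,2,2,1] (.node [2,2,0,1,3,0,2,1,3,2] (.node [2,3,0,2,2,0,1,3,3,2,0] .nil .nil) (.node [3,3,1,3,3,1,0,2,0] .nil .nil)) (.node [1,3,3,2,2,0,2,0,2,2] (.node [0,2,3,1,3,2,0,2,2,1] .nil .nil) .nil)))) (.node [2,0,2,1,0,2,2,2,1] (.node [2,3,2,1,3,0,2,0,2,3] (.node [3,0,2,1,0,2,2,2,0,2,0] (.node [2,1,3,1,0,2,1,3,3] (.node [2,1,3,0,2,2,1,0,2,1,3] .nil .nil) (.node [1,3,0,1,3,0,1,3,3,0,1] .nil .nil)) (.node [2,0,2,0,2,1,3,2] (.node [2,3,1,3,2,0,2,0,1] .nil .nil) (.node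 [1,3,3,0,1,3,1,3,2,2,2,1] .nil .nil))) (.node [3,1,3,1,3,2,2,0] (.node [2,1,0,2,3,3,1,3,2,0,1] (.node [3,3,2,0,1,3,0,2,2,0] .nil .nil) (.node [3,3,1,3,3,1,0,2,3,1] .nil .nil)) (.node [3,3,1,3,2,1,3,1,3] (.node [3,1,3,0,2,2,0,2] .nil .nil) .nil))) (.node [3,1,3,1,3,0,2,2,2,1,0] (.node [2,0,2,0,2,0,2,1,3,3] (.node [1,3,2,0,1,3,1,3,0,2,2,0] (.node [3,3,0] .nil .nil) (.node [3,0,2,1,3,2,0,2,2,0,1,0] .nil .nil)) (.node [2,3,1,3,2,2,0,1,0] (.node [2,0,1,3,3,2,2,2,1] .nil .nil) .nil)) (.node [3,3,1,3,3,2,2] (.node [1,0,2,0,2,1,0,2,3] (.node [2,3,2,1,3,3,0,2,1,0] .nil .nil) (.node [0,2,0,2,1,3,3,2,0] .nil .nil)) (.node [3,0,1,3,1,3,2,1,3,3,0] (.node [2,1,3,0,1,3,3,0,2,1] .nil .nil) .nil))))) (.node [2,2,2,0,2,2,0,2,2] (.node [2,2,2,0,2] (.node [0,2,1,0,2,3,0,2,2] (.node [1,3,1,0,2,3,0,2,1,3,2] (.node [1,3,3,1,3,3,0,1,0] (.node [0,1,3,0,2,1,3,1,3] .nil .nil) (.node [1,0,2,3,0,1,3,2] .nil .nil)) (.node [3,1,3,3,1,3,3,2]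 (.node [1,0,2,3,3,0,2,1,3,3] .nil .nil) (.node [1,0,2,2,0,2,3,3,0] .nil .nil))) (.node [2,3,0,2,1,3,2,0,1,0] (.node [3,2,2,0,2,3,0,2,1] (.node [2,3,3,0,1,3,0,2,0,1] .nil .nil) (.node [0,2,3,3,0,2,2,1,0] .nil .nil)) (.node [0,1,3,3,2,0,2,2,1,0] (.node [3,3,2,1,3,3,1,3,3,1] .nil .nil) .nil))) (.node [1,0,2,3,3,0,2,2,2,1,0] (.node [3,2,2,0,2,3,3,0,2,1,0] (.node [3,0,2,0,2,0,1,3,2,1] (.node [3,3,1,0,2,3,3,0,2] .nil .nil) (.node [2,2,1,0,2,1,3,3,1,3,1] .nil .nil)) (.node [2,3,1,3,1,0,2,3,3,0] (.node [2,1,0,2,2,0,1,0] .nil .nil) .nil)) (.node [3,2,0,1,3,2,2,2,0,1,3,0] (.node [2,1,3,3,2,0,2,2,2,1,0] (.node [2,0,1,3,3,2,1,3,0,2] .nil .nil) (.node [0,2,3,3,1,3,3,2,2,1] .nil .nil)) (.node [2,0,2,1,3,2,2,0,1,0] (.node [1,3,1,0,2,3,3,1,3,1,0] .nil .nil) .nil)))) (.node [0,2,0,2,3,1,0] (.node [2,0,2,3,1,3,2,2,1,0] (.node [3,2,0,2,0,2,3,0,2] (.node [3,3,2,1,0,2,0,2,1] (.node [2,3,3,2,2,2,1,0,2,2] .nil .nil) (.node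 [3,3,0,1,3,2,1] .nil .nil)) (.node [0,2,0,2,2,1] (.node [0,2,3,1,0,2,3,3,0,2,2] .nil .nil) (.node [1,3,3,0,2,1,0,2,0] .nil .nil))) (.node [2,3,2,2,1] (.node [3,1,0,2,3,1,0,2,0,2] (.node [3,0,1,3,3,2,0,2,0,1] .nil .nil) (.node [2,0,2,3,3,1,3,1,0,2] .nil .nil)) (.node [0,1,3,3,1,0] (.node [1,3,2,0,2,1,3,2,2,1] .nil .nil) .nil))) (.node [3,2,0,2,0,2,3,0,2,2] (.node [3,2,1,3,2,1,3,2,2,2] (.node [1,3,3,1,3,1,0,2,1] (.node [2,1,0,2,0,2,0,1,0] .nil .nil) (.node [3,0,1,3,0,2,1,3,0,2] .nil .nil)) (.node [3,1,3,2,2,2,0,1,3,3,2] (.node [3,3,0,2,2,0,2,2,0,2,0] .nil .nil) .nil)) (.node [0,2,2,1,0,2,1,0,2,0] (.node [0,2,3,0,2,1,3,3,2,2,1] (.node [3,1,3,1,0,2,3,3,1,0] .nil .nil) (.node [1,3,0,1,3,3,2,1,0] .nil .nil)) (.node [3,3,2,1,0,2,3,0,1,0] (.node [3,1,3,2,0,1,3,1,0] .nil .nil) .nil)))))) (.node [0,2,1,3,3,1,0,2,1,3,1,0] (.node [1,3,2,1,3,2,0,2,2,1] (.node [0,1,3,0,1,3,3,0] (.node [2,1,3,2,1,3,3,0,1,3,0] (.node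 [2,0,2,3,1,3,3,1,3,2,1] (.node [0,2,0,2,1,0,2,0,2] (.node [0,2,3,3,1,3,3,0,1] .nil .nil) (.node [3,0,1,3,3,0,2,2,1,0] .nil .nil)) (.node [3,0,2,0,1,3,0,2,0,1] (.node [1,3,2,2,0,2,1,3,3] .nil .nil) (.node [2,1,3,3,1,0,2,0] .nil .nil))) (.node [0,2,3,1,3,2,2,1,0,2,1,0] (.node [3,2,2,0,2,3,1,3,3,0] (.node [3,0,2,0,2,3,1,3,3,0] .nil .nil) (.node [3,3,2,2,2,0,1,3,3,2,2] .nil .nil)) (.node [2,3,3,0,1,3,3,1,3,0] (.node [2,3,1,0,2,3,3,2,2,0] .nil .nil) .nil))) (.node [1,3,1,3,1,3,1,0] (.node [1,0,2,3,3,1,3,3,1,3,0] (.node [0,1,3,2,2,0,2,2,2,1] (.node [3,2,2,0,2,2,0,2,2,2] .nil .nil) (.node [3,3,1,3,1,3,3,2,2,1] .nil .nil)) (.node [2,3,2,0,1] (.node [0,2,3,1,0,2,3,3,2,2,0] .nil .nil) (.node [3,2,0,1,3,3,0,2,0,2,0] .nil .nil))) (.node [2,3,0,1,3,2,1,0,2,1,3,3] (.node [2,3,0,2,1,3,2,0,1,3] (.node [2,0,2,2,0,2,3,0,2,1,3] .nil .nil) (.node [3,2,2,0,2,3,1,0,2,2] .nil .nil)) (.node [0,2,2,1,0,2,3,3,0,1,0] (.node [3,1,3,0,2,2,0,2,0]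 .nil .nil) .nil)))) (.node [1,3,3,0,1,3,3,1,3,1,0] (.node [1,0,2,2,0,2,2,2,0,1,0] (.node [2,3,3,1,3,2,1,3,1] (.node [2,3,0,1,3,1,3,3,1] (.node [2,1,3,3,2,2] .nil .nil) (.node [3,3,0,1,3,0,1,3,0] .nil .nil)) (.node [3,2,1,3,0,2,1,0,2] (.node [3,0,2,2,1,0,2,1,0,2,0] .nil .nil) (.node [1,0,2,0,2,0,2,1,0,2] .nil .nil))) (.node [2,3,2,1,0,2,3,3,0] (.node [3,2,2,0,2,1,3,0,2,2,0] (.node [1,3,1,3,3,1,3,0,2] .nil .nil) (.node [2,2,2,1,0,2,1,0,2,0] .nil .nil)) (.node [2,0,1] (.node [2,3,3,1,3,0] .nil .nil) .nil))) (.node [3,2,0,1,3,3,2,2] (.node [0,2,1,0,2,3,0,2,2,1,0] (.node [3,2,0,2,3,3,1,3,0,1] (.node [3,1,0,2,1,3,3] .nil .nil) (.node [2,3,1,3,3,0,2,2,0,2,0] .nil .nil)) (.node [3,2,1,3,0,1,3,0,1] (.node [2,3,3,0,2,1,3,3,1,3,0] .nil .nil) .nil)) (.node [0,2,3,1,3,1,3,2,0,2,0] (.node [3,3,1,3,2,2,2,0,1,3,0] (.node [2,0,1,3,3,2,1,0,2] .nil .nil) (.node [2,0,2,2,0,2,1,0,2,0] .nil .nil)) (.node [2,3,2,0,1,3,0,2,0,1]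 (.node [3,1,3,0,1,3,2,1] .nil .nil) .nil))))) (.node [2,2,0,2,1,3,3,1,3,0] (.node [1,3,3,2,1,3,1,3,0,2] (.node [2,1,0,2,3,0,1,3,3,2] (.node [2,0,2,2,0,2,3,1,3,2] (.node [0,2,1,0] (.node [0,2,2,2,0,2,0,1,3,2] .nil .nil) (.node [2,1,3,2,1,3,0,2,0,1] .nil .nil)) (.node [2,3,2,1,3,2,0,2,0,2,2] (.node [1,3,0,2,0,2,2,0,2,1] .nil .nil) (.node [2,3,3,0,1,3,3,2,1,0] .nil .nil))) (.node [0,2,0,1,3,3,2,0,1,3,1] (.node [0,2,0,1,3,0,2] (.node [3,1,3,3,0,2,1,3,3] .nil .nil) (.node [0,1,3,0,2,2,1,0,2,1] .nil .nil)) (.node [0,1,3,2,0,1,3,0,2,1] (.node [0,2,3,1,0,2,3,3,0,2] .nil .nil) .nil))) (.node [3,2,0,1,3,2,2,2,1] (.node [0,2,3,3,1,0,2,3,0,2] (.node [3,1,0,2,3,1,3,0,2,2] (.node [3,3,1,3,1,3,1,3] .nil .nil) (.node [2,3,0,1,3,2,0,2,3,0,1] .nil .nil)) (.node [0,2,0,2,3,0,2,0] (.node [0,2,3,3,0,2,2,2,1] .nil .nil) .nil)) (.node [3,2,0,2,2,0,2,2,0,1] (.node [3,2,0,1,3,1,3,3,0] (.node [0,1,3,3,0,2,2,0,2,1] .nil .nil)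 (.node [1,0,2,1,3,3,2,1,3,2] .nil .nil)) (.node [1,3,1,3,3,2,2,0,1,3] (.node [2,3,1,0,2,2,1,0,2,3,3] .nil .nil) .nil)))) (.node [3,0,2,2,2,0,1,3,3,2,2] (.node [1,3,3,2,1,3,0,2,1,0] (.node [2,1,3,0,1,3,3,1,3,1] (.node [3,2,1,3,2,2,2,0,1,0] (.node [0,2,1,3,3,1,3,2,0,1] .nil .nil) (.node [2,1,3,3,2,0] .nil .nil)) (.node [2,3,0,1,3,1,3,3,2,1,0] (.node [2,0,2,1,3,3,2,2,2,1,0] .nil .nil) (.node [0,1,3,3,0,2,0,2,0] .nil .nil))) (.node [3,2,1,3,3,2,2,2,0] (.node [0,2,2,0,2,0,2] (.node [0,1,3,1,3,3,0,1,0] .nil .nil) (.node [3,1,0,2,0,2,2,0,2,1,0] .nil .nil)) (.node [0,2,1,0,2,2,2,0,2,2] (.node [3,1,3,2] .nil .nil) .nil))) (.node [2,3,0,2,1,0,2,1,0,2,3] (.node [3,0,2,2,2,1,0,2,1,0] (.node [3,2,1,3,1,3,0,1,3,0] (.node [0,2,2,0,2,2,0,2,3,1] .nil .nil) (.node [3,3,1,3,1,3,3,1,3,0] .nil .nil)) (.node [1,0,2,3,3,2,1] (.node [2,3,3,2,0,2,1,0,2,2,1] .nil .nil) .nil)) (.node [2,2,0,2,0,2,1,3,2,0] (.node [3,2,0,2,3,0,2,2,0,2,1]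 (.node [0,2,1,0,2,3,0,2,1,3] .nil .nil) (.node [0,2,1,0,2,0,2,1,0,2,1] .nil .nil)) (.node [2,2,1,0,2,3,1,3,2,2,0] (.node [3,1,3,3,2,1,0,2,3] .nil .nil) .nil))))))) (.node [2,1,3,3,0,2,0,2,0] (.node [2,2,1,0,2,3,0,2,0,1] (.node [3,0,1,3,1,3,2,0,1,0] (.node [1,0,2,0,2,2,0,2,3,1] (.node [3,3,0,1,3,0,2,1,3,2] (.node [1,3,1,3,2,1,3,0,1,3,3] (.node [1,3,1,3,0,2,0,2,2,1] (.node [3,0,2,0,2,1,0,2,3] .nil .nil) (.node [3,3,2,1,3,3,0,2,1,0] .nil .nil)) (.node [1,3,3,2,0,2,0,1] (.node [1,0,2,2,2,0,2,2,0,2,1] .nil .nil) (.node [3,1,3,0,2,1,3] .nil .nil))) (.node [3,0,2,1,3,2,0,1,3,1,0] (.node [3,1,3,2,0,2,0,2,2,0,2] (.node [0,2,1,3,1,3,1,3,0] .nil .nil) (.node [2,2,0,2,2,2,1,0,2,1] .nil .nil)) (.node [1,0,2,1,0,2,3,3,0,2,2] (.node [3,2,0,2,0,1,3] .nil .nil) .nil))) (.node [1,3,2,1,3,0,2,1,0,2] (.node [2,3,1,0,2,2,2,0,1,3] (.node [1,3,1,3,2,0,1] (.node [2,3,0,2,2,1,0,2,3,3] .nil .nil) (.node [3,1,3,3,1,3,0] .nil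 .nil)) (.node [0,2,0,2,1,3,0,2] (.node [3,3,0,2,2,2,0,2,0,2,1,0] .nil .nil) (.node [0,2,0,1,3,2,0,2,0,2,2] .nil .nil))) (.node [3,1,3,0,1,3,1,3,3,1,3] (.node [0,1,3,0,1,3,1,3,0] (.node [2,3,3,0,2,1,3,2,2,2,0] .nil .nil) (.node [3,2,1,3,0,2,2,2,1] .nil .nil)) (.node [3,3,1,3,3,1] (.node [0,2,1,3,1,3,1,3,2] .nil .nil) .nil)))) (.node [1,3,0,2,0,2,0,2,0,2,1,0] (.node [0,1,3,0,1,3,1,3,3,0,1] (.node [2,2,2,0,1,3,3,1,3,1,0] (.node [3,2,2,0,1,3,2,1] (.node [2,3,3,1,3,2,1,0,2,1,0] .nil .nil) (.node [2,0,1,3,2,1,3,3,2,0] .nil .nil)) (.node [2,2,2,0,1,3,2,1,3,3] (.node [3,3,0,1,3,2,1,0,2,1,0] .nil .nil) (.node [0,2,2,0,2,1] .nil .nil))) (.node [3,2,1,3,2,0,1,3,3] (.node [3,3,1,0,2,2,1,0] (.node [3,3,0,2,1,3,0,1] .nil .nil) (.node [3,2,0,2,1,0,2,0,1,3] .nil .nil)) (.node [2,2,2,0,1,3,3,2,1] (.node [2,0,2,0,2,3,3,1] .nil .nil) .nil))) (.node [3,2,0,2,3,3,2,0,2,1,0] (.node [0,1,3,1,3,2,1,3,2] (.node [3,1,3,3,2,1,0,2,0,2]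 (.node [1,3,3,0,1,3,3,0,1] .nil .nil) (.node [2,3,0,2,1,0,2,1,0,2,1] .nil .nil)) (.node [2,1,0,2,0,2,1,0] (.node [3,2,0,2,0,1,3,3] .nil .nil) .nil)) (.node [2,3,3,0,1,3,1,3,3,1] (.node [2,1,0,2,3,1,0,2,0,2] (.node [1,3,2,1,3,1,3,3] .nil .nil) (.node [1,3,3,0,1,3,1,3,3,2,0] .nil .nil)) (.node [1,3,2,2,0,2,1,3,0] (.node [0,2,1,3,3,0,1,3,2,0] .nil .nil) .nil))))) (.node [3,2,0,2,1,3,0,2,2,1,0] (.node [2,1,3,1,0,2,3,3] (.node [3,1,0,2,3,3,0,2] (.node [3,1,3,3,2,2,0,1,3] (.node [3,3,0,2,1,0,2,3,3,0] (.node [0,2,3,0,2,1,0,2,2,1,0] .nil .nil) (.node [2,0,2,1,3,2,1,3,0,2] .nil .nil)) (.node [0,2,2,0,1,3,2,0,2,1] (.node [1,3,0,1,3,3,0,2,2] .nil .nil) (.node [3,0,2,0,2,3,0,2,1,3] .nil .nil))) (.node [0,2,2,2,0,1,3,3,2] (.node [0,2,3,0,2,2,0,2,1,3,1] (.node [0,2,1,3,3,0,1,3] .nil .nil) (.node [2,0,2,2,0,1,3,2] .nil .nil)) (.node [3,1,0,2,3,3,0] (.node [3,2,0,2,1,0,2] .nil .nil) .nil))) (.node [3,2,0,2,3,1,3,3,1]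 (.node [0,2,0,2,1,3,3,1,3,1] (.node [2,3,1,0,2,2,2,0,2,1,0] (.node [1,3,0,1,3,1,3,3,0] .nil .nil) (.node [2,3,2,1,3,0,1,3,3,2] .nil .nil)) (.node [2,1,3,2,0,2,0,2,2,0,2] (.node [0,1,3,3,1,3,2,0,2,1,3] .nil .nil) .nil)) (.node [2,3,3,1,3,3,0,1,3,0] (.node [3,1,3,2,1,3,2,0] (.node [2,3,3,0,2,1,3,1,3,3] .nil .nil) (.node [0,2,1,0,2,1,3,3,2,2,1,0] .nil .nil)) (.node [1,3,1,3,0,1,3,0,2,0,1] (.node [2,3,1,3,0,2,1,3,2,1,0] .nil .nil) .nil)))) (.node [2,1,3,2,2,1,0,2,3,0,1,0] (.node [3,2,0,1,3,1,3,2,1] (.node [2,0,2,2,0,2,0,1,3,0,2,0] (.node [3,2,1,3,0,2,2,2,0,1,0] (.node [3,1,3,0,2,0,2,1,3,1] .nil .nil) (.node [2,3,0,1,3,1,3,3,2,2] .nil .nil)) (.node [3,3,1,3,3,1,3,3] (.node [3,0,1,3,3,2,2] .nil .nil) (.node [1,3,2,0,2,1,0,2,0] .nil .nil))) (.node [2,1,3,2,2,2,0,1,3,2,2,2,0] (.node [3,1,3,1,0,2,1,3,3,1,0] (.node [1,3,0,1,3,3,0,1,3,3,0] .nil .nil) (.node [2,2,0,2,1,0,2,0,2] .nil .nil)) (.node [1,3,0,1,3,3,1,3,1]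 (.node [3,2,0,2,3,1,0,2,3,1,0] .nil .nil) .nil))) (.node [3,1,3,3,0,2,2,0,1,3] (.node [0,2,0,2,2,1,0,2,3,1] (.node [3,3,2,1,0] (.node [2,1,3,2,1,3,1,3,1,3,0] .nil .nil) (.node [3,3,1,3,0,2,0,1,3,2,2] .nil .nil)) (.node [3,2,1,3,3,2,0,1,3,2] (.node [1,3,2,1,3,2,2,0,2,1,0] .nil .nil) .nil)) (.node [1,3,1,3,1,3,3,0,1,3,3] (.node [2,0,2,0,1,3,2,2,0] (.node [3,3,1,3,3,1,3,2,0] .nil .nil) (.node [2,3,2,0,1,3,2,2,2] .nil .nil)) (.node [2,3,0,2,1,3,2,2,1] (.node [2,3,1,0,2,2,0,2] .nil .nil) .nil)))))) (.node [2,3,2,2,0,2,0,1,3,0,2] (.node [0,1,3,3,1,3] (.node [3,3,2,1,0,2] (.node [2,0,2,2,2,0,2,2,1,0,2] (.node [2,3,1,3,3,1] (.node [2,2,0,2,1,3,3,2,2,1] (.node [2,2,0,2,0,2,3,1,3,2,2] .nil .nil) (.node [2,3,0] .nil .nil)) (.node [0,2,1,0,2,2,2,0,1,0] (.node [2,3,0,2,1,0,2,1,0,2] .nil .nil) (.node [1,0,2,3,3,0,1,3,2,2,0] .nil .nil))) (.node [2,3,3,1,0,2,3,1,3,0] (.node [2,1,3,1,3,3,1,3,0] (.node [1,3,0,1,3,1,0]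 .nil .nil) (.node [3,2,0,1,3,0,2,2,0,2,1] .nil .nil)) (.node [3,1,0,2,3,3,2,1,3,0,1] (.node [2,3,3,0,2,0,1,3,0,2] .nil .nil) .nil))) (.node [3,1,3,0,2,1,0,2,3] (.node [2,1,3,2,0,2,0,2,1,3,2,1] (.node [3,2,1,3,0,1,3,2,2,1] (.node [2,2,0,2,1,3,3,2,0,2,1,0] .nil .nil) (.node [3,0,2,2,0,2,2,0,2] .nil .nil)) (.node [2,1,3,2,1,3,0,2,0,2,3] (.node [1,3,2,2,0,1,3,3,2,2] .nil .nil) (.node [3,1,3,2,0,2,3,0,2,1,3] .nil .nil))) (.node [0,2,2,2] (.node [0,2,0,2,3,3,1,3,0,2] (.node [0,1,3,2,0,2,0,1,3,2] .nil .nil) (.node [2,2,0,2,0,2,2,0,2,1,0] .nil .nil)) (.node [3,3,1,3,3,1,0,2,3,1,0] (.node [2,3,1,3,1,3,2,1] .nil .nil) .nil)))) (.node [2,3,2,2,1,0,2,2,1] (.node [3,3,2,1,0,2,0,2,3,0,2,2] (.node [2,0,2,1,0,2] (.node [2,1,3,0,1,3,0,1,0] (.node [2,1,3,0,2,0,1,3,2] .nil .nil) (.node [1,0,2,3,0,2,0,2,1] .nil .nil)) (.node [3,1,3,3,2,1,0,2,2,1] (.node [2,1,0,2,2,2,0,1,3,2] .nil .nil) (.node [1,3,1,0,2,3,3,1,3,2,1] .nil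 .nil))) (.node [2,3,0,2,1,3,2,1,0] (.node [3,2,2,0,2,1,3,2] (.node [2,0,2,3,0,1,3,2,2] .nil .nil) (.node [2,1,3,1,3,1,3,3,1,0,2,0] .nil .nil)) (.node [2,0,2,3,1,3,1,3] (.node [0,2,0,2,3,1,3,1,3] .nil .nil) .nil))) (.node [3,0,2,0,2,2,0,2,0,2] (.node [3,0,2,2,0,2,1,3] (.node [2,3,2,1,3,0,1] (.node [0,2,1,3,1,0,2,3,1,0] .nil .nil) (.node [3,1,3,3,2,2,2,0,2,1] .nil .nil)) (.node [1,0,2,1,3,0,1,3,0,2,0] (.node [3,2,0,1,3,2,0,2,0,2,2] .nil .nil) .nil)) (.node [0,1,3,1,3,2,2,1,0,2,1] (.node [3,0,1,3,2,0,2,1,0,2] (.node [3,1,3,2,0,1,3,1,0,2,3] .nil .nil) (.node [3,1,3,0,1,3,2,2,2] .nil .nil)) (.node [3,2,1,3,3,0,2,0,2,1] (.node [0,2,3,1,3,2,1,0] .nil .nil) .nil))))) (.node [1,3,0,2,1,0,2,1,0] (.node [2,0,1,3,3,1,3,3,2,2] (.node [1,0,2,1,3,0,1,3,3,1] (.node [2,1,0,2,3,1,0,2,3,1,0] (.node [2,0,2,3,3,1] (.node [2,1,3,2,0,2,2,1,0] .nil .nil) (.node [0,1,3,2,0,2,3,3] .nil .nil)) (.node [2,3,3,2,2,2,0,2,1,0] (.node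 [3,1,0,2,3,3,1,3,0] .nil .nil) (.node [1,0,2,3,1,3,1,3,3,2,2] .nil .nil))) (.node [2,3,3,2,1,3,2] (.node [2,1,0,2,0,1] (.node [1,3,0,2,2,0,1,3,3,2,2] .nil .nil) (.node [3,3,0,1,3,2,2,0,2] .nil .nil)) (.node [0,2,3,3,0,1,3,3,1,0] (.node [3,1,3,3,0,1,3,2,0] .nil .nil) .nil))) (.node [0,1,3,2,2,2,0,1,3,0] (.node [1,0,2,0,2,1,3,3,0] (.node [1,3,2,1,0,2,3,3,1] (.node [2,0,2,3,0,1,0] .nil .nil) (.node [1,3,3,2,0,2,0,2,3,1] .nil .nil)) (.node [2,3,2,1,0] (.node [3,3,1,0,2,0,2,3,1,3] .nil .nil) .nil)) (.node [0,2,3,3,2,0,2,2] (.node [0,2,0,2,0,1,3,3,2,1,0] (.node [2,2,0,2,3,1,3,1,3] .nil .nil) (.node [0,1,3,2,1,3,0,1,3,1,0] .nil .nil)) (.node [1,3,2] (.node [3,2,1,3,1,3,1,3,3,2] .nil .nil) .nil)))) (.node [0,2,0,2,3] (.node [3,1,3,2,0,2,1,0,2,3] (.node [2,1,3,3,0] (.node [2,0,2,1,3,3,1,3,3,1] (.node [1,0,2,1,0,2,3,3] .nil .nil) (.node [2,0,2,3,3,1,3,0] .nil .nil)) (.node [0,1,3,2,1,0,2,2,0,2,0] (.node [3,3,2,2,0,1,3,2]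 .nil .nil) (.node [1,3,0,1,3,3,2,0,2,0] .nil .nil))) (.node [1,3,2,0,2,3,3,1,3,0,1] (.node [1,3,1,3,3,1,3,2,1,0] (.node [2,2,2,0,2,1,3,3,2,2,1] .nil .nil) (.node [0,2,3,3,2,0,2,2,1,0] .nil .nil)) (.node [0,1,3,0,1,3,2,0,2,0,1] (.node [3,2,2,0,2,2,0,1,0] .nil .nil) .nil))) (.node [0,2,3,1,3,3,1] (.node [3,1,3,3,0,2,1] (.node [3,2,1,3,1,3,1,3,0] (.node [1,0,2,3,1,3,1,3,0,1] .nil .nil) (.node [2,0,2,3,1,3,3,1,3,1] .nil .nil)) (.node [0,2,3,1,3,0,2,2,0,2] (.node [3,2,2,1,0,2,3,0,2] .nil .nil) .nil)) (.node [2,1,3,0,2,2,0] (.node [2,0,1,3,0,2] (.node [0,2,3,1,3,0,2,0,2,1,0] .nil .nil) (.node [0,2,0,2,1,0,2,0] .nil .nil)) (.node [1,0,2,0,2,3,1,3,0,2] (.node [1,0,2,3,3,0,1,3,2,0] .nil .nil) .nil))))))))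

/-- Part of `setWord`. -/
noncomputable def setWord_r_l_l_r_r : Arr (List ℕ) :=
  (.node [3,0,2,1,3,0,2,2,0,2,2] (.node [2,0,1,3,0,1,3,1,3,2,0] (.node [1,3,2,0,2,3,3,2,1,0] (.node [1,3,1,3,3,1,3,3,2] (.node [3,2,0,2,0,1,0] (.node [3,0,2,1,3,3,2,1,0,2] (.node [2,1,3,2,2,1,0,2,2,2] (.node [3,2,1,3,3,0,2,2,1,0] (.node [2,1,0,2,3,0,1,0] .nil .nil) (.node [2,2,1,0,2,3] .nil .nil)) (.node [2,3,2,0,2,0,2,1,3,1] (.node [3,2,2,0,2,1,3,3] .nil .nil) (.node [3,3,1,3,0,2,0] .nil .nil))) (.node [1,0,2,3,3,1,0,2,1,3,1,0] (.node [1,3,3,1,3,1,0,2,3] (.node [3,3,2,0,2,0,2,3,1,0] .nil .nil) (.node [2,3,2,2,1,0,2,1,3,3,0,2,0] .nil .nil)) (.node [0,2,0,2,3,3,2,2,0] (.node [0,2,3,3,2,0,2,0,1] .nil .nil) .nil))) (.node [3,1,0,2,2,0,2,3,0,1,3] (.node [0,2,2,1,0,2,2,0,2,1,0] (.node [3,1,0,2,2,0,2,3,3,1,0] (.node [2,0,1,3,0,2,1,0,2,3] .nil .nil) (.node [1,3,3,2,1,3,2,2,2] .nil .nil)) (.node [3,0,1,3,1,3,2,2,2,1,0] (.node [0,2,3,1,3,3,0,2,2,1,0]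 .nil .nil) (.node [3,2,0,2,0] .nil .nil))) (.node [1,3,3,0,2,1,3,2,2,0] (.node [3,2,0,2,2,0,2,0,1,0] (.node [3,2,0,2,1,0,2,2,0,1,0] .nil .nil) (.node [1,0,2,1,3,1,3,1,3,3,0] .nil .nil)) (.node [3,0,2,1,3,3,1,3,1] (.node [1,3,1,3,3,0,2,1,0] .nil .nil) .nil)))) (.node [1,3,0,1,3,0,2,0,1,0] (.node [2,3,2,0,2,0,2,2,0,2] (.node [3,1,3,3,2,0,2,0,1,3,0] (.node [2,3,0,2,1,3,1,0,2,1] (.node [2,1,0,2,1,0,2,1,0,2,2,1] .nil .nil) (.node [2,0,2,0,2,0,2,3,1] .nil .nil)) (.node [1,3,1,3,3,2,0,1,3,2,2] (.node [3,2,2,0,2,2,0,2,0,2,1,0] .nil .nil) (.node [2,0,2,1,3] .nil .nil))) (.node [1,3,0,2,0,2,3,1,3,2,2] (.node [3,3,1,3,1,3,0,1,3,2,0] (.node [2,3,2,1,3,1,0] .nil .nil) (.node [2,1,0,2,2,2,1] .nil .nil)) (.node [1,0,2,3,0,2,2,2] (.node [1,0,2,3,0,2,0,1,3,2,2] .nil .nil) .nil))) (.node [3,2,0,2,2,0,1,3,2,1] (.node [0,2,3,1,0,2,1,3,3,0,2,0] (.node [3,1,3,0,2,0,2,2,1] (.node [1,3,3,2,1,3,0,2] .nil .nil) (.node [1,3,2,2,1,0,2,2,2]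 .nil .nil)) (.node [3,2,0,1,3,0,1,3,2,1] (.node [1,3,0,2,0,1,3,2,0,2,1] .nil .nil) .nil)) (.node [1,3,2,0,2,0,2,3,1] (.node [3,2,2,0,2,1,3,1,0,2,1] (.node [3,2,2,1,0,2,3,0,1,0] .nil .nil) (.node [2,3,2,0,2,1,0,2,0] .nil .nil)) (.node [3,2,0,1,3,3,0,1,3,0,1,0] (.node [2,3,2,2,0,2,1,3,0,2,0] .nil .nil) .nil))))) (.node [0,1,3,3,2,0,1,3,1,0] (.node [1,3,3,2,1,3,3,0] (.node [1,3,3,2,2,0,1,0] (.node [3,2,2,0,2,1,0,2,1,3] (.node [0,2,1,3,3,2,1,3,2,1] (.node [3,1,0,2,1,0,2,2] .nil .nil) (.node [2,0,2,1,3,2,2,2,0] .nil .nil)) (.node [2,3,3,0,2,0,2,2,1] (.node [2,2,1,0,2,2,2,1,0,2,0] .nil .nil) (.node [3,1,3,2,0,2,3,1] .nil .nil))) (.node [3,2,2,0,2,1,3,2,0,2,1] (.node [2,3,1,3,0] (.node [0,1,3,0,2,0,2,0,2,2] .nil .nil) (.node [0,2,1,3,3,2,0,2,2,0,2,1] .nil .nil)) (.node [1,3,0,2,1] (.node [2,3,2,1,0,2,2,2] .nil .nil) .nil))) (.node [3,2,0,2,0,2,1,3,3,1,0] (.node [3,0,2,1,3,2,2,1] (.node [3,2,2,0,2,1,3,3,0,2,0]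 (.node [1,0,2,2,0,2,1,0] .nil .nil) (.node [3,2,1,3,0,1,3,2,0] .nil .nil)) (.node [0,2,0,2,2,1,0] (.node [3,2,0,2,3,3,0,2,0,1,0] .nil .nil) .nil)) (.node [2,1,3,3,1,3,0,2,2,0,1,0] (.node [2,1,0,2,2,0,2,1,3,1] (.node [0,2,0,2,3,1,3] .nil .nil) (.node [2,3,1,0,2,0,2,2,0,2,1,0] .nil .nil)) (.node [3,1,0,2,3,1,3,1,0,2] (.node [0,2,3,3,2,1,3,1,3,2] .nil .nil) .nil)))) (.node [1,3,2,2,2,1,0,2,1,0] (.node [0,1,3,2,1,0,2,2] (.node [3,3,0,2,1,3,0,2,2,1] (.node [2,3,3,2,2,2,0,2,2,1,0] (.node [1,3,0,1,3,1,3,0,2,1] .nil .nil) (.node [0,2,1,3,2,1,3,2,2,1] .nil .nil)) (.node [1,3,2,1,3,3] (.node [2,2,0,2,1,3,1,0,2] .nil .nil) (.node [3,0,2,2,1,0,2,3,0,1,0] .nil .nil))) (.node [2,1,3,3,2,1,3,1,0] (.node [0,2,3,3,2,2,1] (.node [3,1,3,2,1,3,2,1,3,3,1] .nil .nil) (.node [2,1,3,1,3,0,1,3,2,1,0] .nil .nil)) (.node [3,3,0,1,3,0,2,2,0] (.node [1,0,2,0,2,0,2,2,1,0] .nil .nil) .nil))) (.node [2,3,2,1,3,0,2,2,1] (.node [3,3,0,2,1,0,2,3,1]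 (.node [3,0,2,2,2,0,1,3,0,2] (.node [3,2,0,2,3,3,0,2,0] .nil .nil) (.node [2,2,2,1,0,2,1,0] .nil .nil)) (.node [2,3,0,1,3,0,1,3,1,0] (.node [1,3,1,3,2,2,1,0,2,3] .nil .nil) .nil)) (.node [1,3,3,0,1,3,3,0,2,2] (.node [2,0,1,3,2,1] (.node [1,3,2,1,0,2,2,0,2,1,0] .nil .nil) (.node [3,0,1,3,2,1,3,1,0,2,2] .nil .nil)) (.node [2,0,1,3,1,3,3,2,1,0,2,2] (.node [1,0,2,1,3,1,3,2,0] .nil .nil) .nil)))))) (.node [1,3,2,1,0,2,3,1,3,3,2,2] (.node [2,1,3,0,2,2,0,2,3,1,0] (.node [2,0,2,2,0,1,3,2,2,1] (.node [2,3,2,0,1,3,1,3,0,1] (.node [0,1,3,0] (.node [3,3,0,1,3,3,0,1,3,3,1] (.node [3,3,2,0,2,2,0,2,2,1] .nil .nil) (.node [2,0,1,3,1,3,2,0,1] .nil .nil)) (.node [2,1,3,3,2,1,3,1,3,3,2] (.node [3,3,2,2,0] .nil .nil) (.node [0,2,0,2,1,0,2,1] .nil .nil))) (.node [0,1,3,2,2,0,2,1,0,2,0] (.node [0,1,3,0,2,1,3,0,1,3,1] (.node [3,1,3,3,1,3,2,1] .nil .nil) (.node [1,3,1,3,3,1,3,3] .nil .nil)) (.node [3,3,0,2,1,3,1,0,2,1] (.node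 [0,2,3,1,3,1,0,2,2,1] .nil .nil) .nil))) (.node [2,1,3,1,0,2,2,1] (.node [3,3,1,3,1,3,2,1,0,2] (.node [3,3,0,1,3,1,3,2,2,2,1,0] (.node [3,1,3,0,2,1,3,0,1] .nil .nil) (.node [2,1,3,2,1,3,1,0,2] .nil .nil)) (.node [0,2,3,3,0,2,0,2,2,0,2] (.node [0,2,2,1,0,2,0,1,3,2] .nil .nil) (.node [3,2,2,2,0,2,2,2,1] .nil .nil))) (.node [2,1,3,3,0,1,3,3,0] (.node [1,3,0,2,2,2,0,1,3,0] (.node [1,0,2,3,0,2,1,3,0,2,0] .nil .nil) (.node [3,0,1,3,3,1,3,1,0,2,3] .nil .nil)) (.node [1,3,2,1,3,1,3,2,0] (.node [3,3,1,3,1,3,2,1,3,2,2,0] .nil .nil) .nil)))) (.node [1,3,0,2,1,0,2,2,1] (.node [2,0,1,3,3,1,3,1,3,2,0] (.node [2,2,0,2,0,2,3,3,2,1] (.node [1,3,3,1,0,2,3,3,1,3,0] (.node [0,2,0,2,3,1,3,3,1,0] .nil .nil) (.node [0,2,1,3,0,2,1,3,1,0,2,1] .nil .nil)) (.node [2,3,3,1,0,2,3,3,1] (.node [2,0,2,2,0,2,1,3,3,0,2] .nil .nil) (.node [0,1,3,0,1,3,2,2,2,1] .nil .nil))) (.node [3,0,1,3,2,1,0,2,0] (.node [2,2,0,2,1,3,1,3,0] (.node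 [2,1,3,3,0,1,3,0,2,0,1] .nil .nil) (.node [0,2,3,3,0,2,1,0,2,0,1] .nil .nil)) (.node [2,2,1,0,2,3,0,2] (.node [2,0,2,2,0,2,2,0,2,1] .nil .nil) .nil))) (.node [3,2,0,1,3,1,3,1,3,0] (.node [3,3,0,2,0,1,3,2,0,2,0] (.node [3,0,1,3,1,3,0,2,0] (.node [2,3,0,2,1,3,0,2,2,0] .nil .nil) (.node [1,0,2,3,1,3,0,1,3,0,1] .nil .nil)) (.node [3,3,1,0,2,2,0,2,2,2,1,0] (.node [2,3,3,0,2,2,1,0] .nil .nil) .nil)) (.node [2,3,2,2,2,0,1,3,2,2,2,0] (.node [0,2,1,3,0,1,3,3,2,2] (.node [2,2,0,2,1,0,2,1,0] .nil .nil) (.node [2,3,2,0,2,0,2,1,0,2,0] .nil .nil)) (.node [3,1,3,2,1,0,2,2,1,0] (.node [2,0,2,0,2,1,3,3,1,0] .nil .nil) .nil))))) (.node [3,0,2,2,2,0,1,3,0] (.node [0,1,3,2,1,3,0,1,3,3,0] (.node [2,0,2,1,0,2,3,3,0,2] (.node [3,3,1,3,3,2,2,2,0,1,0] (.node [2,3,1,3,3,1,3,3,1,3,0] (.node [3,0,2,0,2,1,3,2,2,0] .nil .nil) (.node [0,2,0,2,3,1,3,0,2] .nil .nil)) (.node [3,1,0,2,3,1,0,2,3] (.node [2,2,1,0,2,1] .nil .nil) (.node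 [3,3,2,2,2,1,0,2,2,0,2,1] .nil .nil))) (.node [3,1,3,1,3,2,0,1,0] (.node [3,2,2,0,2,0,1,3,3,2,2] (.node [0,1,3,2,2,1,0,2,2,1,0] .nil .nil) (.node [3,2,2,2,0,2,1,3] .nil .nil)) (.node [1,3,0,2,2,1,0,2,3] (.node [2,3,2,0,2,2,1,0,2,0] .nil .nil) .nil))) (.node [3,1,3,2,2,2,0,1,3,1] (.node [0,2,2,0,2,0,1,0] (.node [0,2,3,1,0,2,0] (.node [1,0,2,2,2,0,2,2,1,0] .nil .nil) (.node [3,3,2,1,0,2,0,2,1,3] .nil .nil)) (.node [0,2,1,0,2,3,3,0,2,2] (.node [2,1,3,2,0,1,3,1,0,2,3] .nil .nil) .nil)) (.node [2,3,1,3,2,2,0,1,3] (.node [1,3,3,2,0,2,1] (.node [2,3,2,2,0,2,1] .nil .nil) (.node [0,2,1,0,2,1,3,3,1,0] .nil .nil)) (.node [2,2,0,2,3,3,2,1,0] (.node [0,1,3,3,0,2,2,0,1,3] .nil .nil) .nil)))) (.node [1,3,3,2,1,0,2,2] (.node [2,0,2,1,0,2,2,1,0,2,2] (.node [0,2,1,3,2,2,2,0] (.node [2,3,0,2,1,3,3,2,2] (.node [1,3,3,1,3] .nil .nil) (.node [1,3,0,1,3,0,2,2,0] .nil .nil)) (.node [0,2,0,2,1,3,3,1,3,0] (.node [2,1,3,2,2,0,2,1]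 .nil .nil) (.node [3,3,1,0,2,1,0,2,0] .nil .nil))) (.node [3,3,2,1,3,3,1,3,0,1] (.node [3,3,0,2,0,1,3,2,0] (.node [2,1,3,2,2,0,2,0,2,1] .nil .nil) (.node [2,3,2,1,3,0,2,2,2,1] .nil .nil)) (.node [1,3,2,1,3,2,2,0,1,0] (.node [0,1,3,1,3,2,0,1,3,2,1] .nil .nil) .nil))) (.node [0,2,1,3,3,0,1,3,2,1] (.node [0,2,1,3,3,0,1,3,2,2,1] (.node [0,2,3,1,0,2,2,0,1,0] (.node [2,3,3,2,1,0,2,3,3,1,0] .nil .nil) (.node [2,1,3,3,0,2,1,3,3,0] .nil .nil)) (.node [2,0,2,0,2,3,3,1,0,2,1] (.node [3,0,1,3,0,2,2,1,0] .nil .nil) .nil)) (.node [0,2,3,0,2,2,0,1,3,0] (.node [3,2,2,0,1,3,1,3,3,1,0] (.node [2,1,3,1,3,1,3,0] .nil .nil) (.node [2,1,3,3,2,2,1,0,2,0] .nil .nil)) (.node [0,2,0,2,3,1,0,2,2,2] (.node [0,1,3,1,3,2,1,3,3] .nil .nil) .nil))))))) (.node [3,1,3,0,1,3,0,2,2,0] (.node [3,3,2,0,1,3,0,1,3,1,0] (.node [1,3,0,2,1,3,0,1,3,3] (.node [3,1,3,2,2,2,0,1,3,2,1] (.node [2,2,0,2,2,2] (.node [0,1,3,2,0,2,1,0,2,3] (.node [3,3,0,2,0,2,1,3,2,2,1]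 (.node [2,1,3,2,1,3,3,1,3,0] .nil .nil) (.node [3,0,2,2,0,2,0,1,0] .nil .nil)) (.node [1,0,2,0,2,0,2,3,1,3,2,0] (.node [3,1,3,1,3,1,0,2,0,2] .nil .nil) (.node [3,2,1,3,3,0,2,0] .nil .nil))) (.node [2,1,0,2,0,2,1,3,0] (.node [1,3,1,3,0,2,1,3,1] (.node [2,1,0,2,1,3,1] .nil .nil) (.node [3,3,0,1,3,1,3,0,1] .nil .nil)) (.node [2,1,0,2,3,3,2,2,0] (.node [3,2,1,3,3,2,0,2,2,1,0] .nil .nil) .nil))) (.node [3,1,3,1,3,2,0,1,3] (.node [3,3,0,2,2,1] (.node [3,0,2,2,1,0,2,1] (.node [2,1,3,3,2,0,1,3,2,2,1] .nil .nil) (.node [2,1,0,2,3,1,0,2,1] .nil .nil)) (.node [2,2,0,2,1,0] (.node [3,1,0,2,0,2,1,3] .nil .nil) (.node [1,3,1,3,2,0,2,0] .nil .nil))) (.node [0,2,2,1,0,2,2,0,2] (.node [1,3,0,2,2,0,2,1,3] (.node [1,0,2,3,1,3,0,2,2] .nil .nil) (.node [1,0,2,3,0,2,2,0,1,0] .nil .nil)) (.node [1,3,0,1,3,3,0,1,3,1] (.node [1,3,1,3,2,1,3,2,2,0] .nil .nil) .nil)))) (.node [2,2,0,1,3,2,0,1] (.node [2,0,2,2,2,0,2,2,0,2,1] (.node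 [0,2,0,2,3,0,1,3,2,1] (.node [1,0,2,3,3,1,3,1,3,3,1] (.node [1,0,2,2,2,0,1,0] .nil .nil) (.node [1,3,1,3,0,1,3,3,0,1] .nil .nil)) (.node [2,2,0,2,1,3,2,2,0] (.node [0,2,0,2,0,2,0,1,3,2,0] .nil .nil) (.node [3,2,1,3,1,0,2,1,3] .nil .nil))) (.node [3,3,1,3,0,1,3,0,2,1,3] (.node [2,2,0,2,2,0,1,3,2,2,1] (.node [3,1,3,3,1,3,0,2] .nil .nil) (.node [3,3,2,2,0,2,0] .nil .nil)) (.node [3,3,0,1,3,2,2] (.node [3,3,1,3,0,1,3,0,2,2,0] .nil .nil) .nil))) (.node [2,1,0,2,2,0,2,3,3,0,2] (.node [3,0,2,1,3,2,2,0,2,1,0] (.node [2,3,3,2,1,3,2,1,3,0,1] (.node [3,2,2,0,2,2,1,0,2,0] .nil .nil) (.node [3,0,1,3,1,3,1,0,2] .nil .nil)) (.node [3,1,3,1,0,2,3,0,2,1] (.node [3,2,2,0,2,0,2,1,3,2,0] .nil .nil) .nil)) (.node [2,3,3,1,3,1,3,3,1] (.node [1,0,2,3,1,3,1,3,3] (.node [2,0,2,3,1,0,2,2,0,1,0] .nil .nil) (.node [3,2,1,3,3,0,2,2,0,2,1] .nil .nil)) (.node [0,2,0,2,0,2,3,0,2,0] (.node [2,0,2,2,0,1,3,2,1] .nil .nil) .nil))))) (.node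 [1,3,0,1,3,0,1,3,0] (.node [2,1,3,2,0,2,0,2,1,3,1] (.node [3,0,2,1,0,2,2,1] (.node [1,3,3,1,3,3,0,2,2,1] (.node [3,3,2,0,2,2,0,2,3,1,0] (.node [0,2,2,2,0,2] .nil .nil) (.node [3,1,3,3,1,3,3,1,3,0] .nil .nil)) (.node [2,3,3,1,3,1] (.node [1,3,3,1,3,2,1,0,2] .nil .nil) (.node [3,2,2,2,0,1,3,3,2,1,0] .nil .nil))) (.node [1,3,2,2,0,2,0,2,1] (.node [2,1,3,3,2,1,0,2,3,0,1,0] (.node [2,1,0,2,2,1,0,2,2] .nil .nil) (.node [3,1,3,1,3,2,1,0,2,0] .nil .nil)) (.node [2,1,3,2,2,2,0,1,3] (.node [0,2,0,1,3,2,0,1] .nil .nil) .nil))) (.node [0,1,3,2,1,3,3,2,2,1] (.node [3,3,2,0,2,1,3,2,1] (.node [3,1,3,1,3,1,0,2,3,3,1] (.node [3,2,0,2,1,3,3,2,0,2,0] .nil .nil) (.node [2,1,3,3,2,1,3,0,2,2,1,0] .nil .nil)) (.node [3,3,1,3,1,3,3,1,3] (.node [0,2,1,3,0,1,3,2,1,0] .nil .nil) .nil)) (.node [3,1,3,1,0,2,2,2] (.node [3,2,2,2,0,1,0] (.node [3,1,0,2,1,3,3,1,3,0] .nil .nil) (.node [0,2,0,2,0,2,1,3,2,2,1,0] .nil .nil)) (.node [3,2,0,2,1,3,3,2,2,1]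 (.node [1,3,2,1,3,0,2,1,3,1] .nil .nil) .nil)))) (.node [2,2,0,2,0,2,1,0,2] (.node [2,3,2,2,0,1,3,0] (.node [2,3,1,3,2,0,2,1,3,1] (.node [3,3,0,2,0,1,3,2,2,2] (.node [2,1,3,0,1,3,3,0,2] .nil .nil) (.node [1,3,0,2,1,3,2,0,1,3] .nil .nil)) (.node [2,1,3,2,0,1,3,3] (.node [2,3,1,3,3,0] .nil .nil) (.node [2,0,2,1,3,3,1,0,2,3,1] .nil .nil))) (.node [3,1,0,2,2,1,0,2,3,1] (.node [3,3,0,2,1,0,2,3,0,2] (.node [1,0,2,3,0,1,3] .nil .nil) (.node [3,2,0,2,2,0,1,3,2] .nil .nil)) (.node [2,3,1,3,2,2,1,0] (.node [0,1,3,1,3,1,3,2,2,0] .nil .nil) .nil))) (.node [3,0,2,1,3,0,1,3,3] (.node [1,3,3,1,3,3,0,2,2,0] (.node [1,3,2,0,2,3,3,0,2,0,1] (.node [3,0,1,3,3,1,0] .nil .nil) (.node [2,0,2,3,3,2,0,1,3,3] .nil .nil)) (.node [2,0,2,1,3,3,1,0,2,0] (.node [1,3,1,3,0,2] .nil .nil) .nil)) (.node [2,2,0,2,1,3,3,1] (.node [2,3,3,1,3,3,0,1,3,2,1] (.node [3,0,1,3,2,0,2,0,1] .nil .nil) (.node [1,3,1,0,2,2,2,1] .nil .nil)) (.node [1,3,3,1,3,0,2,2,0,1,0]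 (.node [1,0,2,1,3,3,0,1,3,2,0] .nil .nil) .nil)))))) (.node [1,3,3,2,2,1] (.node [3,1,3,0,2,0,2,2,1,0] (.node [1,3,2,1,3,3,0,1,0] (.node [3,0,2,2,0,2,1,3,0,1] (.node [1,3,3,0,1,3,0,1,0] (.node [2,3,1,3,2,0,2,1,0] (.node [3,1,3,1,3,3,2] .nil .nil) (.node [3,1,0,2,0,2,2,2,1,0] .nil .nil)) (.node [0,2,1,3,1,3,1,3,2,2] (.node [3,3,1,0,2,3,0,2,1,0,2,0] .nil .nil) (.node [1,3,0,2,1,3] .nil .nil))) (.node [3,2,1,0,2,0,2,2,1] (.node [0,1,3,2,1,0,2,2,2,1] (.node [2,3,3,1,3,1,3,1,3,0] .nil .nil) (.node [3,0,2,1,0,2,3,3,2,2] .nil .nil)) (.node [3,0] (.node [0,2,3,0,1,3,2,1,0] .nil .nil) .nil))) (.node [2,0,1,3,3,1,3,1,0,2,2] (.node [0,2,3,0,1,3,2,0] (.node [2,3,3,1,3,0,2,0,1,3,0] (.node [0] .nil .nil) (.node [3,3,1,0,2,3,3,0,2,2] .nil .nil)) (.node [3,3,2,0,2,2,0,2,0,1] (.node [3,0,1,3,1,3,1,0,2,0,2] .nil .nil) (.node [2,1,3,0,1,3,2,2,2] .nil .nil))) (.node [2,1,3,3,2,1,3,1,0,2,1] (.node [3,2,0,2,2,1,0,2,2] (.node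 [3,3,1,3,3,2,1,3,3,1,3,0] .nil .nil) (.node [1,3,3,1,3,0,2,2,2,1] .nil .nil)) (.node [2,0,1,3,2,1,3,3,1,0] (.node [0,2,1,3,2,0,2,2,1,0,2,0] .nil .nil) .nil)))) (.node [3,1,3,3,0,1] (.node [2,0,1,3,3,2,2,0,1,3,1] (.node [3,0,2,0,2,1,0,2,3,0,2] (.node [1,3,2,1,0,2,3,0,1] (.node [0,2,2,0,2,3,1,3,3,1] .nil .nil) (.node [2,1,3,1,3,3,0,2,2] .nil .nil)) (.node [1,3,2,1,3,1,3] (.node [3,0,2,0,1,3,2,0,2,1] .nil .nil) (.node [2,0,1,3,0,2,2,0,2] .nil .nil))) (.node [2,0,2,1,3,1,3,3,0,2,2] (.node [2,3,3,0,1,3,2,0,1,0] (.node [0,2,0,2,1,0,2,2] .nil .nil) (.node [3,2,1,0,2,1,3] .nil .nil)) (.node [0,2,1,3,3,2,0,2,1,0,2] (.node [1,3,3,0,1,3,2,1,0,2,0] .nil .nil) .nil))) (.node [2,3,2,0,2,2,0,1,3] (.node [2,3,2,2,1,0,2,1,0,2,3] (.node [2,1,0,2,2,0,2,1,0] (.node [2,0,2,1,3,0,2,1,3,2,0] .nil .nil) (.node [2,3,2,1,3,2,0,2,2,1] .nil .nil)) (.node [3,1,3] (.node [2,2,0,2,2,0,2,3,1] .nil .nil) .nil)) (.node [3,3,0,1,3,0,2,2,1,0]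 (.node [2,1,3,0,2,1,3,2,0] (.node [0,2,1,3,2,2,2,1,0,2,0] .nil .nil) (.node [1,3,2,2,0,1,3,2,1,3,1] .nil .nil)) (.node [0,2,2,0,1,3,0,2,2,1] (.node [2,3,0,1,3,1,3,2,1,0] .nil .nil) .nil))))) (.node [0,2,3,0,2,1,3,1,3] (.node [1,3,0,2,0,2,0,2,3] (.node [3,1,3,2,0,2,2] (.node [3,1,3,2,0,2,3,3,2] (.node [3,1,3,3,1,0,2,3] (.node [2,3,2,1,3,2,1,3,1,3,2,0] .nil .nil) (.node [2,0,2,0,2,3,3,1,3,2] .nil .nil)) (.node [2,0,1,3,3,1,3,1,0] (.node [3,3,0,1,3,0,1,3,2,2,2] .nil .nil) (.node [1,3,0,2,0] .nil .nil))) (.node [0,1,3,3,0,1,3,1] (.node [0,1,3,1,3,0,2,2,0] (.node [2,3,0,2,0,2,0,2,2,1] .nil .nil) (.node [2,3,1,0,2,1,0,2,3,1,3] .nil .nil)) (.node [2,0,1,3,0,1,3,2,2,1,0] (.node [3,0,2,2,0,2,2,0,2,1,0] .nil .nil) .nil))) (.node [2,3,3,2,0,1,3,2,0] (.node [2,2,0,2,3,3,0,2,2,0] (.node [3,3,1,0,2,1,0,2,3,3,0] (.node [0,2,3,3,2,2,0,1,3,2] .nil .nil) (.node [3,2,1,3,2,2,1] .nil .nil)) (.node [1,3,2,2,1,0,2,0,2,1,0]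 (.node [0,2,2,0,2,3,3,2,1,0] .nil .nil) .nil)) (.node [1,3,0,1,3,1,3,3,1] (.node [2,0,1,3,0,2,2,2,0,2,1] (.node [2,3,3,1,0,2,2,1,0] .nil .nil) (.node [0,2,2,0,2,3,3,0] .nil .nil)) (.node [1,3,3,2,0,1,3,0] (.node [2,2,0,1,3,0,1,3,1,3,2,0] .nil .nil) .nil)))) (.node [2,2,0,2,0,1,3,2,1,3] (.node [2,3,2,0,1,3,3,1] (.node [2,2,0,2,0,2,2] (.node [3,2,0,2,0,1,3,3,2,2,1] (.node [3,3,2,2,0,2,0,2,0,1] .nil .nil) (.node [3,2,0,1,3,3,1,3,3,2,1] .nil .nil)) (.node [3,0,2,2,0,2,3,3] (.node [2,1,0,2,2,2,0,1,3] .nil .nil) (.node [1,0,2,1,0,2,0,2,1,0,2,1] .nil .nil))) (.node [1,3,0,2,1,3,0,2,1,3,1] (.node [2,3,1,3,3,0,1,3] (.node [3,0,2,0,1,3,3,0] .nil .nil) (.node [0,1,3,0,2,2,1,0,2,3,3,0] .nil .nil)) (.node [2,1,0,2,0,2,2,1,0,2,3] (.node [1,3,0,1,3,3,1,3,2,2] .nil .nil) .nil))) (.node [3,1,3,0,2,0,1,3,0] (.node [3,2,0,1,3,1,3,3,1,0] (.node [1,0,2,3,0,1,3,2,0] (.node [1,3,2,2,1,0,2,1,0] .nil .nil) (.node [0,2,0,2,2,2,0,1,3,0]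 .nil .nil)) (.node [1,3,3,2,0,2,1,0,2,3] (.node [0,2,1,3,0,2,2,0,1,0] .nil .nil) .nil)) (.node [3,0,2,1,3,2,0,2,1] (.node [2,0,1,3,1,3,0,2,2,1] (.node [2,3,1,0,2,3,1,3,0] .nil .nil) (.node [3,1,0,2,0,2,0,2,1,0,2] .nil .nil)) (.node [2,3,1,3,1,3,2,0,2,2,1] (.node [0,2,3,1,0,2,2,0,2] .nil .nil) .nil))))))))

/-- Part of `setWord`. -/
noncomputable def setWord_r_l_l_r : Arr (List ℕ) :=
  .node [0,2,2,0,2,3,1,3,2,0] setWord_r_l_l_r_l setWord_r_l_l_r_r

/-- Part of `setWord`. -/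
noncomputable def setWord_r_l_l : Arr (List ℕ) :=
  .node [3,1,3,0,2,2,0,2,2] setWord_r_l_l_l setWord_r_l_l_r

/-- Part of `setWord`. -/
noncomputable def setWord_r_l_r_l_l : Arr (List ℕ) :=
  (.node [0,1,3,0,2,2,2,1,0,2,1,0] (.node [0,2,2,0,2,0,2,3,1,3,2,2] (.node [0,1,3,0,2,0,2,3,3,2,1] (.node [2,1,0,2,3,0,1,3] (.node [2,3,3,0,1,3,0,2] (.node [3,1,0,2,2,0,2,3,3] (.node [3,3,0,2,0,1,3,0] (.node [1,3,2,0,1,3,1,3,2,2] (.node [2,0,2,1,0,2,1,0,2,0,1] .nil .nil) (.node [3,0,1,3,2,2,0,2,0,1] .nil .nil)) (.node [2,2,2,0,1,3,3,2] (.node [2,3,1,0,2,3,1,3,0,2,2] .nil .nil) (.node [2,1,3,0,2,0] .nil .nil))) (.node [2,2,1,0,2,1,0,2,0,1] (.node [3,0,1,3,0,1,3,0,2,2] (.node [0,2,1,0,2,0,2,2,1,0] .nil .nil) (.node [2,1,0,2,1,3,1,3,0] .nil .nil)) (.node [0,2,3,0,1,3,0,2,0] (.node [2,3,3,1,3,2,2,2] .nil .nil) .nil))) (.node [3,3,2,2,0,2,1,0,2,3] (.node [3,2,0,1,3,0,2,2,0,2,0] (.node [3,2,0,1,3,0,2,0,2,3,1] (.node [1,0,2,0,2,3,3,0]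 .nil .nil) (.node [0,1,3,0,2,0,2,1,3,1] .nil .nil)) (.node [3,2,1,3,0,2,0,2,2,1] (.node [2,3,0,2,1,3,2,0,2,2,1] .nil .nil) (.node [3,1,0,2,1,0,2,0] .nil .nil))) (.node [1,3,3,0,2,2,1,0,2,0] (.node [3,3,1,3,1,3,2,2] (.node [0,2,2,0,2,3,3,2,0] .nil .nil) (.node [3,3,2,2,2,0,2,1,3] .nil .nil)) (.node [1,3,0,2,0,1,3,2,0,2,0,1] (.node [0,2,2,1,0,2,2,0,2,3,1] .nil .nil) .nil)))) (.node [2,3,2,1,3,3,0,2,2] (.node [3,3,2,1,3,2,1,3,3,1,0] (.node [0,2,0,1,0] (.node [3,3,1,0,2,0,2,2,1] (.node [2,3,3,0,1,3,0,1,3,2,2] .nil .nil) (.node [3,3,0,1,3,2,1,3,1,3] .nil .nil)) (.node [2,1,3,1,3,0,1,3,0,1] (.node [2,1,0,2,3,0,2,2,2,1] .nil .nil) (.node [3,3,1,0,2,0,2,1,0,2,1] .nil .nil))) (.node [3,1,0,2,3,1,3,1,3] (.node [1,0,2,1,3,0,2,2,1,0] (.node [0,2,0,2,3,3,0,2,2,0] .nil .nil) (.node [3,2,1,3,2,2,0,2,0] .nil .nil)) (.node [2,2,2,0,1,3,0] (.node [3,3,2,0,2,2,1,0,2,0,1] .nil .nil) .nil))) (.node [1,0,2,2,0,2,0,2,0,2,0]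 (.node [0,1,3,1,3,2,2] (.node [3,2,2,0,2,1,3,0,2] (.node [0,1,3,2,0,1,3,1,3,2] .nil .nil) (.node [0,2,0,2,3,1,3,0,2,2,1] .nil .nil)) (.node [3,3,0,1,3,0,1,3,3,0] (.node [0,2,1,3,2,1,3,0,2,2] .nil .nil) .nil)) (.node [3,1,3,1,3,3,2,2,1] (.node [0,2,2,1,0,2,1,0] (.node [3,1,3,3,2,1,3,1,3,0] .nil .nil) (.node [1,0,2,3,1,0,2,2] .nil .nil)) (.node [1,3,2,0,2,0,2,1,3,3] (.node [0,2,1,3,3,0,2,2,0] .nil .nil) .nil))))) (.node [3,3,2,0,2,1,3,0,1,3,1,0] (.node [0,2,1,3,1,3,3,1,3,1] (.node [3,0,2,1,3,2,1] (.node [1,3,2,2,1,0,2,3,0,2,2] (.node [3,3,2,0,2,0,2,2,0,2] (.node [1,3,0,2,2,2,0,1,3] .nil .nil) (.node [2,1,3,0,2,1,3,2,2,1] .nil .nil)) (.node [3,2,0,2,3,1,3,0,2] (.node [2,0,1,3,0,1,3,2,2] .nil .nil) (.node [2,2,0,2,2,1,0,2,1,0,2] .nil .nil))) (.node [3,3,1,3,0,1,3,3,2,1] (.node [2,3,3,2,2,1,0,2,0,1] (.node [2,0,2,2,0,2,2,2] .nil .nil) (.node [3,3,0,2,2,2,1,0,2,2] .nil .nil)) (.node [2,3,3,0,2,0,2,1] (.node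 [0,2,0,2,3,0,1,3,2,0,1] .nil .nil) .nil))) (.node [0,2,3,0,2,2,2] (.node [0,2,0,2,0,2] (.node [1,3,0,1,3,2] (.node [2,3,2,2,2,0,2,2,1,0] .nil .nil) (.node [1,0,2,0,2,2,1,0,2,0,1,0] .nil .nil)) (.node [3,2,2,2,0,2,0,1,3,0,2] (.node [2,1,3,1,3,0,2,1,3,3] .nil .nil) .nil)) (.node [3,1,0,2,3,3,0,2,1,3] (.node [0,1,3,3,0,1,3] (.node [2,0,2,3,3,2,1,0,2,2] .nil .nil) (.node [0,2,0,2,0,2,2,1,0,2,0] .nil .nil)) (.node [2,2,0,2,1,3,1,3,2] (.node [2,3,2,1,3,3,2,2] .nil .nil) .nil)))) (.node [0,2,1,3,1,3,0,2,1,0,2] (.node [2,0,1,3,1,3,2,0,2,2] (.node [2,3,2,1,3,1,3,2,2,0] (.node [1,0,2,1,0,2,3,0,2,2,1,0] (.node [3,0,1,3,0,2,2,0] .nil .nil) (.node [2,2,2,0,2,2,0,2,0,2,1,0] .nil .nil)) (.node [0,2,2,0,2,2,0,2,3,1,0] (.node [3,1,3,2,1,3,1,0,2,2] .nil .nil) (.node [0,2,3,3,1,0,2,3,0,1,0] .nil .nil))) (.node [1,3,0,2,2,1,0,2,1,3] (.node [2,1,0,2,3,0,2,2,2] (.node [2,1,3,0,2,1,3,3,1,3,3] .nil .nil) (.node [0,1,3,2,0,2,1,3,2,1]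 .nil .nil)) (.node [0,2,3,1,3,1,3,2,2,2] (.node [2,2,1,0,2,3,3,0] .nil .nil) .nil))) (.node [0,2,3,1,3,1,3,2,0,1] (.node [2,3,0,2,2,1,0,2,2] (.node [0,2,1,3,1,3,0,2,0] (.node [3,2,1,3,0,2,2,2] .nil .nil) (.node [2,3,0,2,1,3,1,0,2] .nil .nil)) (.node [3,3,2,2,0,1,3,3,0] (.node [2,3,3,1,3,3,2,2] .nil .nil) .nil)) (.node [0,1,3,3,2,0] (.node [3,3,1,3,0,2,0,1,3] (.node [2,3,2,1,3,3,2,1,0] .nil .nil) (.node [0,2,3,0,1,3,2,0,2,0] .nil .nil)) (.node [2,3,3,1,3,0,2,2] (.node [2,0,1,3,2,2,2,1] .nil .nil) .nil)))))) (.node [0,1,3,2,1,0,2] (.node [3,1,0] (.node [3,2,2,0,2,2,0,2,0,2] (.node [3,1,3,2,1,0,2,0,2,0] (.node [2,2,2,0] (.node [3,3,1,3,0,2,1,3,1,3,2,0] (.node [3,2,1,3,0,1,3,2,2,0] .nil .nil) (.node [3,1,0,2,3,3,2,2,2,0] .nil .nil)) (.node [2,1,0,2,2,1,0,2,0,1,0] (.node [2,3,3,0,1,3,0,2,2] .nil .nil) (.node [2,0,2,1,3,3,1,3,2] .nil .nil))) (.node [2,3,0,2,1,3,0,2,2,1,0] (.node [2,3,3,1,3,2,2,2,0,1,0] (.node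 [2,3,2,1] .nil .nil) (.node [3,1,0,2,0,2,1,0,2,3] .nil .nil)) (.node [1,3,1,0,2,3,0,1,3,3] (.node [2,1,3,1,3,2,1,0,2,2] .nil .nil) .nil))) (.node [2,0,2,0,2,3,0,2,2,0] (.node [2,0,2,0,2,0,2,3,1,3,3,1] (.node [0,2,3,1,3,1,0,2,1,3] (.node [0,2,3,1,3,2,2,2] .nil .nil) (.node [2,1,3,1,0] .nil .nil)) (.node [3,2,0,2,1,3,1,0] (.node [1,3,3,0,1,3,3,2,1] .nil .nil) (.node [0,2,1,0,2,0,2,0,2,0] .nil .nil))) (.node [2,2,0,2,1,3,0] (.node [3,3,1,0,2,3,3,2,2] (.node [1,0,2,3,3,0,1,3,1,3,0] .nil .nil) (.node [3,1,3,2,2,0,2,0] .nil .nil)) (.node [0,2,1,3,0,1,3,0,2] (.node [1,0,2,2,0,2,1,0,2,1,0] .nil .nil) .nil)))) (.node [3,0,1,3,3,2,1,3,3,1] (.node [2,1,0,2,2,2,1,0,2,0] (.node [3,1,3,3,1,3,3,1,3,0,1] (.node [3,1,0,2,3,0,2,0] (.node [3,2,2,1,0,2,2,2] .nil .nil) (.node [2,3,3,1,3,3,1,3,3] .nil .nil)) (.node [3,1,0,2,3,1,0] (.node [0,2,3,3,1,3,1,3,2,1] .nil .nil) (.node [3,2,1,0,2,0,2,1,0,2,0] .nil .nil))) (.node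 [0,1,3,2,2,0,2,0,2,1,0] (.node [1,0,2,1,3,1,0,2,0,2] (.node [3,1,3,2,0,1,3,1,3,0,2,1] .nil .nil) (.node [3,3,1,0,2,1,3] .nil .nil)) (.node [1,3,1,3,2,1,3,3,0,2] (.node [3,1,3,3,0,1,3,0,1,3,0,2] .nil .nil) .nil))) (.node [1,3,1,3,3,1,3,3,2,2,0] (.node [2,2,0,2,3,3,0,2,0,2,0] (.node [0,1,3,0,2,0,2,3,1] (.node [2,0,2,1,0,2,0,2,1,0] .nil .nil) (.node [3,3,2,0,1,3,1,0] .nil .nil)) (.node [2,2,1,0,2,2,2,0,2,2] (.node [3,2,2,0,2,0,2,0,1,3,2] .nil .nil) .nil)) (.node [2,0,2,1,0,2,2,1] (.node [3,3,1,0,2,1,3,1,0] (.node [2,3,1,3,1,3,3,0,2,2,0] .nil .nil) (.node [2,0,2,3,0,2,1,3] .nil .nil)) (.node [3,0,1,3,2,1,3,2] (.node [2,0,2,3,1,0,2,0] .nil .nil) .nil))))) (.node [2,2,2,0,1,3,3,0,1] (.node [1,3,1,0,2,0,2,0,2,3] (.node [3,1,3,2,0,2,3,3,0,2,0] (.node [3,3,1,0,2,3,0,1,3,0] (.node [2,0,2,3,3,0,2,1,3,2] (.node [3,2,0,1,3,3,0,2,1] .nil .nil) (.node [0,1,3,1,3,3,1,3,1] .nil .nil)) (.node [3,1,3,3,1,3,1,3,0] (.node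 [3,3,2,0,2,2,0,1,3,0,2] .nil .nil) (.node [1,3,0,2,1,3,2,1,3,2,0] .nil .nil))) (.node [2,2,0,2,1,3,0,1,0] (.node [3,2,2,1,0,2,2,0,2] (.node [3,1,3,1,3,1,3,0,2] .nil .nil) (.node [2,3,1,0,2,1,0,2,0] .nil .nil)) (.node [0,1,3,3,0,2,0,2,1,3,2] (.node [2,1,0,2,0,2,3,0,2,0] .nil .nil) .nil))) (.node [1,3,3,0,2,1,3,1,0] (.node [2,3,2,0,2,0,2,2] (.node [3,2,2,2,0,1,3,2,0,1] (.node [3,2,2,0,2,1,3,0,2,1,3] .nil .nil) (.node [3,3,1,3,3,1,3,2,2] .nil .nil)) (.node [3,3,0,1,3,3,0,1,3,1,0] (.node [2,3,3,1,0,2,1,3,1,3,0] .nil .nil) .nil)) (.node [2,0,2,0,2,2,1,0,2,3,1] (.node [2,3,2,1,3,0,1,3,3,2,2] (.node [2,0,1,3,0,2,0,2,3,1] .nil .nil) (.node [3,2,1,3,1,0,2,0] .nil .nil)) (.node [1,3,3,2,1,3,2,1,0] (.node [3,2,0,2,1,3,1,3,1,3,2] .nil .nil) .nil)))) (.node [3,3,1,0,2,3,3,2,2,2,1] (.node [3,1,3,0,1,3,0,1,3,3,0] (.node [2,3,1,0,2,3,1,3,1,0,2] (.node [2,3,3,2,0,2,1,3,0,2] (.node [2,3,3,1,3,3,1,3,3,2,2] .nil .nil)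 (.node [1,3,1,0,2,0,2,3] .nil .nil)) (.node [0,2,3,0,2] (.node [2,1,0,2,0,2] .nil .nil) (.node [1,3,2,1,3,1,0,2,1,3] .nil .nil))) (.node [1,0,2,3,0,2,1] (.node [3,0,1,3,1,3,2,2,2] (.node [1,3,0,1,3,3,2,0,2,0,1] .nil .nil) (.node [3,1,3,3,1,3,0,2,0] .nil .nil)) (.node [3,2,1,0,2,3,3,2,1] (.node [0,2,2,0,2,0,1,3,3,2,0] .nil .nil) .nil))) (.node [2,1,3,3,0,2,2,0,2,2,1,0] (.node [3,3,1,0,2,2,0,2,0,1] (.node [2,0,1,3,3,2,1,3,1,0] (.node [2,0,2,0,2,0,1,3,2] .nil .nil) (.node [2,0,1,3,0,2,2,0] .nil .nil)) (.node [2,3,1,3,1,0,2,1] (.node [2,3,3,2,1,3,0,2,1,3,3] .nil .nil) .nil)) (.node [2,0,2,3,3,2,2,2,1] (.node [0,1,3,3,0,1,3,3,1,0] (.node [1,3,1,3,2,1] .nil .nil) (.node [1,3,3,1,3,2,0,2,1,3] .nil .nil)) (.node [2,3,2,1,3,0,2,0,1] (.node [1,3,2,0,2,3,1,3,0] .nil .nil) .nil))))))) (.node [3,3,1,3,2,0,2,1,3,1,0] (.node [3,1,3,1,3,1,3,2,0,1,0] (.node [0,1,3,3,2,1,3,3] (.node [2,3,1,3,2,0,2,2,2,1,0] (.node [0,2,2,0,1,0]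 (.node [1,3,2,0,2,1,0,2,3] (.node [3,3,1,3,3,2,0,1,3,0] (.node [2,2,0,2,0,2,1,3,0] .nil .nil) (.node [3,2,1,3,1,0,2,0,2] .nil .nil)) (.node [3,2,0,2,2,0,2,0,1] (.node [2,1,3,3,2,1,3,3,1,0] .nil .nil) (.node [3,0,2,0,2,0,2,1,0,2] .nil .nil))) (.node [2,0,2,2,0,2,3,0,1,3] (.node [1,3,1,3,2,0,1,3,2] (.node [2,3,2,1,3,0,2,2] .nil .nil) (.node [3,3,0,1,3,1,3,0] .nil .nil)) (.node [2,0,1,3,1,3,2,1,0] (.node [2,2,0,2,1,3,0,1,3,1,0] .nil .nil) .nil))) (.node [3,0,2,0,2,2,1,0,2,1,0] (.node [2,3,1,0,2,2,0,1,0] (.node [0,2,1,0,2,3] (.node [3,0,2,1,3,3,2,0] .nil .nil) (.node [0,1,3,3,0,2,1,3,3,1,0] .nil .nil)) (.node [0,1,3,3,1,3,3,0] (.node [1,3,0,2,2,0,2,1,3,3,1] .nil .nil) (.node [2,3,3,1,0,2,1,0,2,0] .nil .nil))) (.node [2,3,2,0,2,0,1,3,3,2,1,0] (.node [0,2,3,0,2,1,3,2,0,1,0] (.node [0,1,3,0,2,1,0,2,0] .nil .nil) (.node [0,2,3,3,0,1,3,3,2,2] .nil .nil)) (.node [0,2,2,0,2,3,1,0] (.node [3,3,1,3,3,0,2,0,2,1,0]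 .nil .nil) .nil)))) (.node [3,3,0,2,0,1,3,2,2] (.node [3,1,3,2,2,2,0] (.node [2,2,0,2,2,1,0,2,3,1,0] (.node [1,3,3,2,0,1,3,1,3,3] (.node [0,2,3,3,0,1,3,2] .nil .nil) (.node [2,1,3,0,2,0,1,3] .nil .nil)) (.node [1,0,2,3,0,1,3,3,2,1] (.node [2,0,2,1,0,2,3,1,0,2,2] .nil .nil) (.node [3,1,3,0,1,3,3,0,2,1,0] .nil .nil))) (.node [3,0,1,3,0,2,1,0,2,0] (.node [1,0,2,0,2,0,1,3] (.node [0,2,0,2,3,3,2,2,1] .nil .nil) (.node [2,2,1,0,2,3,1,0,2,2] .nil .nil)) (.node [3,1,0,2,0,2,3,3,0] (.node [0,2,3,1,3,3,1,3,3,2,2] .nil .nil) .nil))) (.node [1,3,0,2,1,0,2,3,0,2,1] (.node [3,1,3,3,0,1,3,3,2,1] (.node [3,1,0,2,3,0,2,2] (.node [2,2,0,2,0,2,3,1,3,3] .nil .nil) (.node [0,2,1,3,3,2,0,2,1,0] .nil .nil)) (.node [3,0,1,3,3,2,1,3,1,0] (.node [2,1,0,2,0,2,2,2,1] .nil .nil) .nil)) (.node [3,1,3,1,3,2,0,1] (.node [3,2,1,3,2,1,3,2,2,0] (.node [2,2,0,1,3,2,0,2,1,0] .nil .nil) (.node [2,1,3,1,3,2,1,3,0,2,0] .nil .nil)) (.node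 [0,2,2,2,0,2,0,2,2,1] (.node [1,3,1,3,0,1,3,0,2] .nil .nil) .nil))))) (.node [2,3,1,3,3,2,0,1,3,3,0] (.node [3,3,2,0,2,2,2,0,1,0] (.node [1,3,2,0,2,3,3,2,0,1,0] (.node [3,2,2,2,0,1,3,3] (.node [3,1,0,2,1,3,0,1,3,1,0] (.node [3,3,2,1,3,0,2,1,0,2] .nil .nil) (.node [0,1,3,3,1,3,3] .nil .nil)) (.node [0,2,0,2,1,0,2,0,2,1] (.node [2,1,3,1,0,2,0,2,3,3,0] .nil .nil) (.node [1,0,2,2,0,2,0,1,3,2] .nil .nil))) (.node [2,0,2,0,2,2,1,0,2,0,1,0] (.node [3,2,2,0,1,3,0] (.node [3,2,0,2,2,0,2,3,1] .nil .nil) (.node [3,3,2,0,2,2,0,1,3,2] .nil .nil)) (.node [0,2,1,3,1,0,2,3,3] (.node [1,0,2,1,3,1,3,3,1] .nil .nil) .nil))) (.node [0,2,0,2,2,1,0,2,0,2,1] (.node [0,2,1,3,3,1,3,3,0,2,0,1] (.node [2,3,3,2,2,2,0,1,3,3] (.node [3,3,2,2,2,0,1,3,2,0] .nil .nil) (.node [1,3,3,1,0,2,3,1,3,0] .nil .nil)) (.node [2,1,3,0,1,3,3,1,3,2,1] (.node [1,3,2,2,2,0,2,0,2,1,0] .nil .nil) .nil)) (.node [3,2,1,3,2,1,3,0,1] (.node [1,0,2,2,2,0,2,0,1,3,2,0]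 (.node [2,0,2,3,0,1,3,0,2,0] .nil .nil) (.node [3,0,1,3,0,2,2,0,2] .nil .nil)) (.node [2,3,2,1,3,1,3,2] (.node [0,2,0,1,3,1,3,2,0,1] .nil .nil) .nil)))) (.node [3,0,1,3,2,1,3,2,0,1] (.node [2,3,2,2,0,2,2,1] (.node [3,3,0,2,1,0,2,2,2,0,1] (.node [2,0,2,0,1,3] (.node [2,3,3,0,1,3,1,3,2,0,2,0] .nil .nil) (.node [0,1,3,2,1,0,2,1,0] .nil .nil)) (.node [2,0,2,3,3,2,2,1] (.node [2,3,1,3,1,3,2,2,0,2] .nil .nil) (.node [2,1,3,1,0,2,2,2,1] .nil .nil))) (.node [2,1,3,1,3,0,1] (.node [3,1,3,1,0,2,0,2,3,1] (.node [3,3,2,0,2,0,2,3] .nil .nil) (.node [2,0,2,3,1] .nil .nil)) (.node [0,2,3,3,1,0,2,3,3] (.node [0,2,2,1,0,2,1] .nil .nil) .nil))) (.node [2,0,1,3,2,0,2,3,3,2,1] (.node [3,1,3,0,1,3,3,1,3,2,1] (.node [3,2,2,0,2,1,3,2,2,1] (.node [3,2,1,3,0,2,1,0] .nil .nil) (.node [1,0,2,1,0,2,0,2,2,1] .nil .nil)) (.node [2,3,0,1,3,3,2,0,1,3,3,2] (.node [1,0,2,3,0,2,0] .nil .nil) .nil)) (.node [0,2,1,3,1,0,2,2,2] (.node [3,3,2,1,3,1,3,2,1]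 (.node [2,0,2,2,1,0,2,1,0,2,0] .nil .nil) (.node [0,2,1,0,2,3,3,0,1,0] .nil .nil)) (.node [1,0,2,3,0,1,3,0,2,2,0] (.node [3,3,0,1,3,1] .nil .nil) .nil)))))) (.node [2,3,2,1,3,3,1,3,2,2] (.node [1,3,1,3,2,0,1,3,3,2,1] (.node [3,3,1,0,2,0,2] (.node [0,2,3,0,2,1,3,1,3,0] (.node [2,1,0,2,1,0,2,3,3] (.node [1,3,0,1,3,0,2,2,1] (.node [3,0,1,3,0,1,0] .nil .nil) (.node [2,1,0,2,0,2,0,2,2,0,1] .nil .nil)) (.node [2,0,2,0,2,0,2,1,0,2,0] (.node [1,0,2,1,0,2,2,0,1,0] .nil .nil) (.node [3,1,0,2,2,1,0,2,3,3,1,0] .nil .nil))) (.node [3,3,1,3,1,0,2,1] (.node [0,1,3,3,2,0,2,1] (.node [0,2,0,1,3,0,2,2,0] .nil .nil) (.node [1,3,0,1,3,3,0,1,0] .nil .nil)) (.node [2,3,3,0,1,3,2,1] (.node [1,3,0,2,1,3,1] .nil .nil) .nil))) (.node [3,3,0,2,1,3,3,2,2,1] (.node [3,0,1,3,1,3,1,3,0,2,0] (.node [3,2,1,3,3,1,3,1,3,2,2] (.node [2,3,1,3,2,1,3,2,0] .nil .nil) (.node [2,0,1,3,2,2,2,1,0,2,1,0] .nil .nil)) (.node [1,0,2,2,0,2,3,3,0,2]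 (.node [1,3,0,1,3,2,0] .nil .nil) (.node [1,0,2,0,2,0,2,0,1,3,3] .nil .nil))) (.node [3,1,3,0,1,3,2,2,1,0] (.node [3,0,2,1,0,2,1,0] (.node [3,0,2,1,3,1,0,2,2] .nil .nil) (.node [2,0,2,0,2,1,0,2,0,2,0] .nil .nil)) (.node [3,2,2,2,0,1,3,3,2,2] (.node [2,2,0,2,1,3,3,1,3,3] .nil .nil) .nil)))) (.node [1,3,0,1,3,2,2,0,1,3] (.node [2,1,3,3,2,2,0,1,3,3] (.node [1,0,2,2,0,2,3,3,1] (.node [0,2,1,3,1,3,2,2,2] (.node [3,3,0,2,1,0,2] .nil .nil) (.node [3,0,1,3,2,0,2,0,2,1,0] .nil .nil)) (.node [0,2,0,2,1,3,3,1] (.node [1,0,2,3,3,0,2,0] .nil .nil) (.node [1,3,3,0,1,3,0,1,3,2,0] .nil .nil))) (.node [2,3,3,2,0,2,1,3,1,3,0] (.node [3,0,2,2,0,2,2] (.node [3,1,3,3,1,3,1,0,2,1] .nil .nil) (.node [2,0,1,3,2,1,0,2,1,0,2,0] .nil .nil)) (.node [3,3,1,0,2,3,3,0,2,0,2,0] (.node [1,0,2,1,0,2,3,3,0,2] .nil .nil) .nil))) (.node [2,0,1,3,0,1,3,3] (.node [0,2,3,1,3,0,2,0] (.node [0,2,1,3,0,2,0,2,1] (.node [2,0,1,3,1,3,1,3,3,2] .nil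 .nil) (.node [2,3,3,1,0,2,0,2] .nil .nil)) (.node [2,2,0,1,3,2,2,0,2,0] (.node [3,1,0,2,1,3,1,3,2,2,0] .nil .nil) .nil)) (.node [3,0,2,0,2,2,1,0,2,2,2,1] (.node [0,2,1,0,2,0,2,0,1] (.node [1,0,2,2,1,0,2,2,1] .nil .nil) (.node [2,3,1,3,1,0,2,3,1] .nil .nil)) (.node [2,2,0,2,1,3,0,1] (.node [2,3,2,1,3,2,1,3,2] .nil .nil) .nil))))) (.node [0,2,0,1,3,3,2,2,0,2,0] (.node [3,2,1,3,1,0,2,1] (.node [2,3,1,3,3,0,1,0] (.node [3,1,3,0,2,1,3,2,1,0] (.node [2,1,0,2,0,2,0,2,0] (.node [2,1,0,2,0,2,3,3] .nil .nil) (.node [3,0,1,3,0,1,3,2,0,1] .nil .nil)) (.node [3,2,2,2,0,1,3,2,2,2,0] (.node [2,3,0,1,3,3,0,2,2,1] .nil .nil) (.node [3,1,3,2,2,0,2,2,2,1] .nil .nil))) (.node [3,3,0,2,1,3,3,1,0] (.node [3,0,1,3,0,2] (.node [1,3,1,0,2,3,0,2] .nil .nil) (.node [2,2,0,2,3,3,0,2,2,1,0] .nil .nil)) (.node [3,0,2,1,0,2,2,0,2,2] (.node [2,3,1,3,3,2,2,0,2,1] .nil .nil) .nil))) (.node [1,3,2,0,1,3,2,0] (.node [0,2,1,3,3,2,0] (.node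 [3,0,2,1,3,2,1,3,2,2,2] (.node [0,1,3,3,0,2,0,1,0] .nil .nil) (.node [1,0,2,2,0,2,3,0,1] .nil .nil)) (.node [0,2,2,2,0,1,3,2] (.node [2,2,2,0,2,0,2,3,3,2,1] .nil .nil) .nil)) (.node [1,3,2,2,0,1,3,2,1] (.node [2,3,1,3,1,3,3,2,2,0] (.node [2,3,3,0,2,1,0] .nil .nil) (.node [1,3,2,0,2,3,1,0,2,2] .nil .nil)) (.node [1,3,1,3,2,0,2,0,2,2] (.node [2,3,3,2,2,1,0,2,2,2] .nil .nil) .nil)))) (.node [2,2,2,0,2,0,2,2,1] (.node [1,0,2,0,2,3,0,1,0] (.node [2,0,2,3,3,0,2,2,0,1,0] (.node [3,3,2,0] (.node [0,1,3,2,1,3,2,0,2,2,1] .nil .nil) (.node [0,2,2,0,2,2,0,2,2,2] .nil .nil)) (.node [2,0,1,3,3,2,2,0,2,1] (.node [3,1,0,2,2,1,0] .nil .nil) (.node [2,1,3,2,2,1,0,2,0] .nil .nil))) (.node [0,1,3,2,0,2,3,1] (.node [0,2,0,2,2,0,1] (.node [3,3,2,2,0,1,3,2,2,1] .nil .nil) (.node [2,2,0,2,2,0,1,3,2] .nil .nil)) (.node [1,3,2,2,0,2,0,2,1,3,2] (.node [2,3,1,3,0,1,3,3,2,2] .nil .nil) .nil))) (.node [3,2,0,2,0,2,0,2,2,0,1] (.node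 [2,3,2,1,3,3,1,3,2,0] (.node [2,3,2,0,1,3,3,2,2,1] (.node [2,3,3,0,2,1,3,0,2,1,3] .nil .nil) (.node [3,0,2,0,2,1,3,3,0,2,0] .nil .nil)) (.node [0,2,3,1,3,1,0,2,1] (.node [0,2,3,0,2,1,3,3,1,3,1] .nil .nil) .nil)) (.node [3,0,2,1,3,2,0,2,2,1] (.node [2,0,1,3,2,2,1,0,2] (.node [2,1,3,3,2,1,3,1,3,3] .nil .nil) (.node [1,3,3,1,3,2,0,2,2,2,1] .nil .nil)) (.node [2,3,2,2,1,0,2,0,2,1,0] (.node [0,2,1,3,3,0,2,1,3,2,2,0] .nil .nil) .nil))))))))

/-- Part of `setWord`. -/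
noncomputable def setWord_r_l_r_l_r : Arr (List ℕ) :=
  (.node [3,3,1,3,2,2,0,2,0,2,0] (.node [2,3,0,2,0,2,2,1] (.node [0,2,1,3,1,3,1,3,1,3] (.node [3,3,1,3,2,1,3,2,2,2,1] (.node [3,1,0,2,2,2,0,2] (.node [3,2,1,0,2,2,0,2,2] (.node [2,3,1,3,3,1,3,2,2,1,0] (.node [1,0,2,0,2,1,3,0,2,2,0,2] (.node [0,2,1,3,1,3,2,0,1,0] .nil .nil) (.node [3,1,3,2,2,0,2,0,1] .nil .nil)) (.node [1,3,1,0,2,3,3,0,1,3,1] (.node [2,2,1,0,2,3,1,3] .nil .nil) (.node [2,1,3,3,0,2,2,0,2,1] .nil .nil))) (.node [0,2,3,0,1,3,1,3,3] (.node [3,0,1,3,2,2,0,2,0,2,1,0] (.node [2,3,0,2,2,2,1,0,2,0] .nil .nil) (.node [3,1,3,2,0,2,2,0,1] .nil .nil)) (.node [2,3,2,0,1,0] (.node [0,2,2,2,1,0,2,2,0,2,1] .nil .nil) .nil))) (.node [2,3,3,2,1,3,3,1,3,3] (.node [2,2,0,1,3,3,2,1,0,2,2] (.node [2,3,0,2,2,2,0,1,3,2] (.node [3,2,1,3,3,0,2,0,2,0,1] .nil .nil) (.node [2,2,0,2,2,0,2,1,3] .nil .nil)) (.node [2,0,2,2,0,2] (.node [2,3,1,3,2,0,2,0,2,1,3,2] .nil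 .nil) (.node [3,2,0,1,3,2,2,0,2,2,0,1] .nil .nil))) (.node [1,3,3,1,3,1,3,0,2,2,0] (.node [2,0,2,3,1,3,0,2,0,1,0] (.node [2,0,2,3,3,2,0,2,2] .nil .nil) (.node [0,1,3,3,1,3,2,0] .nil .nil)) (.node [3,2,0,2,1,3,2,0,2,0] (.node [2,1,3,2,1,3,2,2,2,1] .nil .nil) .nil)))) (.node [2,3,1,3,3,1,3,0,1,0] (.node [2,0,1,3,3,2,1,0,2,0] (.node [1,3,1,3,3,2,1,3,3,1] (.node [3,3,0,2,0,2,1,0,2] (.node [2,3,1,3,3,0,2,0,2,0] .nil .nil) (.node [3,2,0,1,3,2,1,0,2,1,0] .nil .nil)) (.node [2,3,0,2,1,3,0,1,3,3,0] (.node [0,2,3,3,1,3,1,3] .nil .nil) (.node [2,1,3,2,1,3,1,3,2,0,2,0] .nil .nil))) (.node [0,2,1,3,2,1,3,0,2] (.node [0,2,0,2,0,2,1,3,0,2] (.node [2,0,2,0,2,0,1,3,0,2] .nil .nil) (.node [2,3,2,2,2,0,2,0] .nil .nil)) (.node [2,0,2,2,2,0,2,0,2,0,1] (.node [1,3,3,2] .nil .nil) .nil))) (.node [1,0,2,2,1,0,2,0,1] (.node [2,0,1,3,2,2,2,0] (.node [2,1,3,3,2,0,2,2,1] (.node [2,2,2,0,2,2,2] .nil .nil) (.node [0,2,0,2,2,0,1,3,3,0,2]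 .nil .nil)) (.node [2,1,3,0,2,2,1] (.node [1,3,0,2,1,0,2,3,0,2] .nil .nil) .nil)) (.node [2,3,3,1,3,0,2,2,1,0] (.node [3,1,3,2,2,0,2,2,2] (.node [3,0,2,0,2,0,2,1,3] .nil .nil) (.node [0,2,1,3,3,2,1,3,1,3,0] .nil .nil)) (.node [2,1,3,2,1,0,2,3,0,1] (.node [0,2,1,3,2,0,2,0,1,0] .nil .nil) .nil))))) (.node [2,1,3,3,2,2,2,0,2,1,0] (.node [1,0,2,1,3,1,3,0,2] (.node [1,3,2,1,0,2,2,0,2,2] (.node [1,3,0,2,0,1,3,3] (.node [2,3,1,3,3,1,3,1,0] (.node [2,2,0,2,3,1,3,2,2,2,0] .nil .nil) (.node [2,0,1,3,2,0,2,3,0,2] .nil .nil)) (.node [2,3,2,1,3,2,2,2,0] (.node [0,2,0,2,3,1,3,2,2,1] .nil .nil) (.node [2,2,0,2,1,3] .nil .nil))) (.node [0,2,3,0,1,3,3,2,2] (.node [1,3,1,3,3,1,0,2,2] (.node [2,3,2,1,3,1,3,0,2,2,0] .nil .nil) (.node [1,3,2,2,2,0,2,2,0,2,1] .nil .nil)) (.node [1,3,1,3,3,2,0,2,1,0] (.node [3,0,2,2,0,2,3,3,0,2,0] .nil .nil) .nil))) (.node [2,0,2,2,0,2,3,3,2,0] (.node [2,3,2,1,3,3,0,1,0] (.node [1,3,0,2,1,3,2,0,2,1]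 (.node [1,0,2,0,2,3,0,1,3,2] .nil .nil) (.node [2,1,3,2,1,3,2] .nil .nil)) (.node [0,1,3,0,2,0,2,3] (.node [3,3,0,2,1,0,2,1,3] .nil .nil) .nil)) (.node [2,1,3,2,2,0,2,1,3,1] (.node [1,3,1,0] (.node [0,2,1,0,2,2,0,1,0] .nil .nil) (.node [1,3,1,3,3,2,1,0,2,0] .nil .nil)) (.node [2,2,1,0,2,2,2,0,2,0] (.node [3,1,0,2,3,3,2,0,2,2] .nil .nil) .nil)))) (.node [0,2,0,2,3,0,2,0,1,0] (.node [3,3,1,3,2,0,2,2,1] (.node [1,3,0,1,3,2,1,3,0,1] (.node [0,1,3,2,2,0,2,1,0] (.node [2,3,0,2,0,2,3,0,1,3,2] .nil .nil) (.node [2,1,3,0,2,2,0,2] .nil .nil)) (.node [2,0,2,2,0,1,3,3,0,2] (.node [3,2,0,2,1,0,2,2,0,2,2] .nil .nil) (.node [2,2,0,2,3,3,1,0,2,2,1,0] .nil .nil))) (.node [1,0,2,2,2,0,2,2,0,2,0] (.node [0,2,1,3,3,0,1,3,1,3,0] (.node [2,2,1,0,2,0,2,0,2,0] .nil .nil) (.node [2,2,2,0,2,2,0,1,3,2] .nil .nil)) (.node [2,1,0,2,3,3,2,1] (.node [3,1,0,2,0,2,2,2,1] .nil .nil) .nil))) (.node [0,1,3,3,2,0,1,3,3,2] (.node [2,0,2,2,0,2,0,2]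 (.node [0,2,3,3,0,2,1,3,0,2,0] (.node [3,0,2,1,3,3] .nil .nil) (.node [2,1,3,2,1,3,2,1,3,3,1] .nil .nil)) (.node [1,0,2,3,0,1,3,0,2,0] (.node [3,1,0,2,1,0,2,2,0,2,1] .nil .nil) .nil)) (.node [2,3,1,3,0,1,3,2,2,1] (.node [1,0,2,0,2,3,1,0,2,1] (.node [3,1,3,0,1,3,3,2,1] .nil .nil) (.node [3,1,3,3,0,1,3,2,1,0] .nil .nil)) (.node [3,2,2,2,0,1,3,3,0,1] (.node [2,2,0,2,3,1,3,2,1] .nil .nil) .nil)))))) (.node [2,3,2,2,0,2,0,1,3,3,2,2] (.node [2,1,3,3,1,3,2,0,1] (.node [3,0,1,3,0,1,3,0,1] (.node [3,1,3,0,2,0,1,0] (.node [3,1,3,0,2,0,2,3,0,2,1] (.node [1,3,2,0,2,3,3] (.node [2,3,3,0,2,0,1,0] .nil .nil) (.node [0,2,3,3,1,3,3,1] .nil .nil)) (.node [2,1,3,0,2,2,2,1,0] (.node [2,1,0,2,3,0,1,3,3,0] .nil .nil) (.node [1,3,3,1,3,2,1,3,0,2,0] .nil .nil))) (.node [2,1,3,3,2,1,3,3,2,2,1] (.node [3,0,2,0,2,3,0,2,2,0] (.node [1,3,2,1,3,2,0] .nil .nil) (.node [3,3,0,2,1,3,0,1,3,1] .nil .nil)) (.node [2,2,0,2,3,0,2,2,1,0,2]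 (.node [1,0,2,0,2,3,0,2,2,0] .nil .nil) .nil))) (.node [3,2,1,0,2,1,3,0,1,0] (.node [0,2,0,2,3,0,2,1,3,3] (.node [2,0,1,3,1,3,3,1,3] (.node [1,0,2,2,0,2,3,0,2,1] .nil .nil) (.node [1,3,0,1,3,0,1,0] .nil .nil)) (.node [2,1,3,0,1,3,1,0,2,3] (.node [3,3,2,0,2,0,2,1,3,3] .nil .nil) (.node [2,1,3,0,2,2,0,1,3,2] .nil .nil))) (.node [3,3,1,3,3,1,3,1,3,3,2] (.node [2,1,3,0,2,1,0,2,2,2] (.node [2,2,0,1,3,2,1,3,3,1,0] .nil .nil) (.node [0,1,3,3,1,3,3,1,0,2,1,0] .nil .nil)) (.node [2,3,0,1,3,0] (.node [3,1,0,2,0,2,1,3,3,1,0] .nil .nil) .nil)))) (.node [2,2,2,0,1,3,2,1] (.node [3,3,1,0,2,1,0,2,2,0,1] (.node [3,0,2,0,1,3,2,2,2,1] (.node [3,1,3,1,3,3,2,2] (.node [2,2,1,0] .nil .nil) (.node [0,2,2,0,2,3,0,2,2,0,2,1] .nil .nil)) (.node [0,2,1,3,2,2,2,0,1,0] (.node [2,3,3,0,2,1,0,2,3,0,2] .nil .nil) (.node [3,3,1,0,2,2,0,2,1] .nil .nil))) (.node [3,1,3,1,3,2,1,3,2,2,0] (.node [3,1,3,2,2,2,0,2,0,2,0,1] (.node [1,3,1,0,2,0,2,3,1,0]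 .nil .nil) (.node [2,2,0,2,0] .nil .nil)) (.node [1,0,2,1,3,1,3,0,2,2] (.node [0,1,3,0,2,0,2,1,0] .nil .nil) .nil))) (.node [1,3,1,0,2,3,1,3,0,2] (.node [3,2,2,0,2,3,3,1,0] (.node [1,3,1,3,1,3,2,2,2] (.node [0,1,3,2,0,2,3,0,1,0] .nil .nil) (.node [2,0,1,3,0,2,0] .nil .nil)) (.node [0,2,3,0,2,2,1] (.node [3,3,1,3,3,0,1,3,0,2] .nil .nil) .nil)) (.node [3,1,3,3,0,2,0,2,0] (.node [3,2,1,3,1,0,2] (.node [1,3,2,0,2,3,1,3,3,0] .nil .nil) (.node [2,1,0,2,3,1,3,3,2] .nil .nil)) (.node [0,2,2,2,0,1,3,2,2] (.node [3,3,1,3,2,0,1,3,2,1] .nil .nil) .nil))))) (.node [2,3,1,3,2,2,0,2,0,2,0] (.node [0,2,0,2,1,3,3] (.node [1,3,3,2,2,2,1,0] (.node [1,3,2,0,2,1,3,3] (.node [3,1,3,2,0,2,1,3,2,1] (.node [0,2,2,0,2,3,0,1] .nil .nil) (.node [0,2,0,1,3,2,2,1,0,2,0] .nil .nil)) (.node [3,2,0,2,1,0,2,3,1,0] (.node [2,1,3,2,0,2,0,1,3,0,2] .nil .nil) (.node [1,3,3,2,1,0,2,2,2,1] .nil .nil))) (.node [0,2,3,3,1,3,3,1,0] (.node [3,2,1,0,2,0,2,2,0,2]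 (.node [2,1,3,2,1,3,1,0] .nil .nil) (.node [2,2,0,1,3,3,2,1,0] .nil .nil)) (.node [3,2,0,2,3,1,0,2,3,3,0] (.node [2,2,2,0,2,0,2,3,0,1] .nil .nil) .nil))) (.node [1,3,2,1,3,1,3,0,1] (.node [2,0,1,3,2,0,2,2,0,2] (.node [3,2,0,2,3,0,1,3,1] (.node [0,2,3,0,2,1,3,1] .nil .nil) (.node [3,2,1,3,3,1,3,1,3,2] .nil .nil)) (.node [2,3,3,2,1,3,2,0,2,2,1] (.node [1,3,0,2,1,3,2,2,0] .nil .nil) .nil)) (.node [2,3,3,2,0,2,0,2,2,2,1] (.node [0,2,0,1,3,2,1,3] (.node [1,0,2,1,0,2,1,0,2,0] .nil .nil) (.node [1,3,3,2,1,3,2,0,2,0] .nil .nil)) (.node [1,3,0,1,3,2,2,0,2,0,1,0] (.node [3,0,1,3,3,2,0,2,2] .nil .nil) .nil)))) (.node [2,3,1,3,0,2] (.node [3,1,3,0,1,3,0,1,3,3,0,1] (.node [2,3,2,0,1,3,1,3,3,2] (.node [2,0,2,0,2,2,1,0,2,1,0] (.node [3,0,2,1,0,2,1,0,2,3] .nil .nil) (.node [0,1,3,3,1,3,2,1,3,1,0] .nil .nil)) (.node [2,3,1,0,2,3,0,2,2,2] (.node [0,2,1,0,2,1,0,2,0] .nil .nil) (.node [2,0,1,3,2,2,0,2,2,0,1] .nil .nil)))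 (.node [1,3,0,2,0,2,3,1,0,2,3,1,0] (.node [3,0,1,3,2,1,0,2,3,3,0] (.node [3,0,2,2,2,1,0,2,0,2,2] .nil .nil) (.node [1,3,2,0,1,3,0,2,2,2] .nil .nil)) (.node [3,1,3,3,2,1,3,3,1] (.node [1,3,3,1,3,0,2,1,3,1] .nil .nil) .nil))) (.node [3,3,1,3,3,2,1,3,0,1] (.node [2,0,2,2,0,2,3,0,1] (.node [2,0,2,2,0,2,0,2,0,2,2] (.node [2,1,3,0,1,3,0,1,3,3,2,2] .nil .nil) (.node [3,1,0,2,2,0,1] .nil .nil)) (.node [3,3,0,1,3,3,0,2,2,0,1,0] (.node [2,2,0,1,3,3,2,0,2,1,0] .nil .nil) .nil)) (.node [3,1,3,1,3,2,0,2,0,1,0] (.node [2,0,1,3,2,1,3,2,0,2,0] (.node [3,2,0,1,3,3,1,3,0] .nil .nil) (.node [1,3,2,0,2,1,3] .nil .nil)) (.node [2,2,2,0,1,3,2,2] (.node [2,1,3,1,3,3,2,0,2,1,0] .nil .nil) .nil))))))) (.node [2,0,1,3,0,2,2,1,0,2] (.node [2,3,1,3,2,2,2] (.node [3,1,3,2,0,2,2,0,2,0] (.node [3,1,3,3,1,3,1,3,2,1] (.node [0,2,3,0,2,1,3,2,1,3,0,2] (.node [1,3,3,2,2] (.node [1,3,1,0,2,3,0,2,2] (.node [0,2,3,3,2,0,1,3,1,3,1,0] .nil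 .nil) (.node [2,3,2,1,3,3,0,2,2,0] .nil .nil)) (.node [2,0,1,3,1,3,1,3,0,2,0] (.node [1,0,2,0,2,3,1,3,3] .nil .nil) (.node [1,3,3,2,0,2,0] .nil .nil))) (.node [0,1,3,3,0,2,2,2,1] (.node [2,1,0,2,3,3,0] (.node [1,3,0,1,3,2,1,3,3,2,0] .nil .nil) (.node [2,2,0,1,3,3,1,3,3] .nil .nil)) (.node [3,1,3,3,0,1,3,2,0,1,0] (.node [1,3,2,2,2,0,2,2,0,2,0] .nil .nil) .nil))) (.node [3,2,0,1,3,2,1,3,3] (.node [3,3,2,2,1,0,2,1,3,3] (.node [2,0,1,3,1,3,3,2,2] (.node [1,3,1,3,0,2,2,2,0,1,0] .nil .nil) (.node [3,2,1,0,2] .nil .nil)) (.node [1,3,0,1,3,0] (.node [0,2,2,0,2,2,2,1,0,2,0] .nil .nil) (.node [2,3,2,2,0,1,3,3,2,1,0] .nil .nil))) (.node [1,3,3,0,1,3,2,0] (.node [3,1,3,1,3,2,2,1,0] (.node [3,3,0,2,0,1,3,3,2,0] .nil .nil) (.node [2,3,3,0,2,0,2,1,0,2,0] .nil .nil)) (.node [2,3,1,3,3,0,2,1,0] (.node [3,3,2,1,3,2,2,1,0] .nil .nil) .nil)))) (.node [0,2,3,3,2,1,3,0,2,2,1,0] (.node [2,2,0,1,3,2,2,2,0,2] (.node [2,1,3,1,3,2,2,1,0]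 (.node [3,3,2,0,2,2,0,2,2] (.node [3,0,1,3,0,2,2,0,1,0] .nil .nil) (.node [1,3,3,2,1,3,1,0,2,1] .nil .nil)) (.node [1,3,1,3,2,0,2,3,3,0] (.node [3,3,2,0,1,3,1,0,2,3] .nil .nil) (.node [1,3,2,1,0,2,3,1,0,2,2] .nil .nil))) (.node [3,0,1,3,2,0,2,0,1,3,2] (.node [1,3,2,1,3,3,2,0,1,3,0] (.node [3,3,1,3,2,2,2,0] .nil .nil) (.node [2,3,1,3,0,1,3,3,2,1,0] .nil .nil)) (.node [0,2,3,3,2,0,2,2,2,1,0] (.node [1,0,2,1,0,2,1,0,2,1,0] .nil .nil) .nil))) (.node [1,3,2,0,2,1,3,2,0,2,0] (.node [2,1,3,1,3,0,1,3,1,3,3] (.node [1,0,2,3,3,2,2] (.node [2,1,3,1,3,3,2,1,3,0,2] .nil .nil) (.node [1,0,2,1,3,3,1,3,1] .nil .nil)) (.node [3,0,2,2,0,2,0,2,0,2,2] (.node [2,2,2,0,2,0,2,3] .nil .nil) .nil)) (.node [1,3,1,3,0,1,3,3,2,0] (.node [2,3,3,2,0,1,3,3] (.node [1,0,2,1,3,3,1,0,2,0] .nil .nil) (.node [1,3,2,0,1,3,2,2,2] .nil .nil)) (.node [0,2,0,2,0,2,2,2,1,0] (.node [1,0,2,3,1,3,2,0] .nil .nil) .nil))))) (.node [2,3,2,1,3,1,3,3,2,2,1]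 (.node [2,3,1,3,2,1,3,1,3,2,0] (.node [3,3,1,3,0,2,2,0,2,2] (.node [2,3,1,0,2,1,3,1,0] (.node [0,2,3,1,3,0,2,1,0,2] (.node [2,1,0,2,0,1,0] .nil .nil) (.node [2,2,1,0,2,0,2,1,3,0] .nil .nil)) (.node [1,3,3,2,1,3,3,2,0,1,3,0] (.node [1,0,2,3,0,1,3,2,1,0] .nil .nil) (.node [0,2,0,2,0,2,2,0,1,3] .nil .nil))) (.node [2,1,3,1,3,2,2,0,1,3,1] (.node [0,2,3,3,1,0,2,0,1] (.node [0,1,3,0,1,3,3,2,2] .nil .nil) (.node [2,3,3,1,3,2,1,0,2,0] .nil .nil)) (.node [2,0,1,3,2,1,0,2,0,1] (.node [2,0,2,2,0,2,2,0,2,2] .nil .nil) .nil))) (.node [3,0,2,0,2,3,0,2,0,1,3,3] (.node [2,3,2,2,0,2,1,3,1] (.node [2,1,3,3,1,3,1,3,1,0] (.node [0,2,1,3,1,3,3,0,1] .nil .nil) (.node [0,2,0,2,3,3,0,1,3] .nil .nil)) (.node [0,2,0,1,3,2,1,0,2,3] (.node [0,1,3,1,3,1,3,0,2,0] .nil .nil) .nil)) (.node [0,2,3,1,0,2,3,1,3,0] (.node [1,3,0,1,3,0,1,3,0,1] (.node [2,3,3,2,0,1,3,3,1,3,3] .nil .nil) (.node [0,2,1,3,3,1,3,3,2,2] .nil .nil)) (.node [2,0,2,3,1,0,2,3,3,0]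 (.node [3,1,3,3,0,2,2,1,0] .nil .nil) .nil)))) (.node [3,0,2,0,2,0,2,0,1,3,2] (.node [3,2,0,1,0] (.node [0,2,1,3,0,2,1,3,3,2,2,0] (.node [2,3,2,1,3,0,2,2,2] (.node [2,3,1,3,0,2,2,0] .nil .nil) (.node [3,3,0,1,3,2] .nil .nil)) (.node [1,3,2,2,0,2,0,2,1,0] (.node [0,1,3,0,2,2,0,2,3] .nil .nil) (.node [1,3,0,2,0,2,3,0,2,1,3] .nil .nil))) (.node [2,3,2,0,1,3,2,2,1,0,2] (.node [2,3,2,0,1,3,3,1,3,1] (.node [3,0,2,1,3,0,2,2,2,1,0] .nil .nil) (.node [2,2,0,1,3,0,1,3,2,0] .nil .nil)) (.node [1,3,0,2,1,3,1,3,2,0] (.node [0,1,3,2,1,3] .nil .nil) .nil))) (.node [1,3,3,2,0,1,3,3,2] (.node [2,0,2,0,2,0,2,0,1] (.node [1,3,2,2,1,0,2,0,2,1] (.node [3,2,0,2,1,3,1,3,2,0] .nil .nil) (.node [0,2,1,3,1,0,2] .nil .nil)) (.node [3,3,1,3,1,3,3,0,1,3,0] (.node [3,1,3,2,2,0,1,3,2] .nil .nil) .nil)) (.node [3,3,2,1,3,3,1,3,1] (.node [3,3,2,1,3,3,1,0] (.node [0,1,3,3,1,3,3,2,1] .nil .nil) (.node [3,0,1,3,2,1,3,1] .nil .nil)) (.node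 [1,0,2,3,1,0,2,3,0,2,1] (.node [0,2,1,0,2,0,2,3,0,2] .nil .nil) .nil)))))) (.node [2,3,1,0,2,0,2,0,1,0] (.node [0,2,1,3,2] (.node [0,2,0,1,3,1,3,2,1,3,2] (.node [3,3,2,0,1,3,3,2,2,1] (.node [1,0,2,3,0,2,0,1,3] (.node [2,2,1,0,2,1,3,3] (.node [0,2,3,0,2,0,2,2,1] .nil .nil) (.node [2] .nil .nil)) (.node [2,3,0,2,0,2,3,1,3,2] (.node [1,3,3,2,0,1,3,2,0] .nil .nil) (.node [2,1,3,2,2,0,2,1,3] .nil .nil))) (.node [2,1,3,1,3,1,3,0,1,3,0] (.node [1,3,1,3,3,2,2,0,1,0] (.node [2,3,1,0,2,0,2,0,2,0] .nil .nil) (.node [0,2,0,2,0,1,3,3,0,2] .nil .nil)) (.node [2,0,2,0,2,3,1,3,2,0] (.node [1,3,2,1,3,3,1,3,1] .nil .nil) .nil))) (.node [0,1,3,1,3,0,2,2,0,2,2] (.node [0,2,0,2,2] (.node [2,3,2,2,1,0,2,2,0,2,2] (.node [0,1,3,3,0,1] .nil .nil) (.node [3,3,2,0,2,0,2,1,3] .nil .nil)) (.node [0,2,0,1,3,0] (.node [0,2,3,1,3,2,2,0] .nil .nil) (.node [2,2,0,1,3,1,3,2,0] .nil .nil))) (.node [0,2,1,3,1,3,1,3,2,1,0] (.node [3,2,2,2,0,2,1,0,2,3]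 (.node [2,0,2,2,0,2,2,2,0,2] .nil .nil) (.node [1,3,2,2,0,2,0] .nil .nil)) (.node [0,1,3,1,3,3,2,2,1] (.node [0,1,3,3,0,1,3,2,1,0] .nil .nil) .nil)))) (.node [3,2,1,0,2,3,0,1,0] (.node [3,3,0,2,1,0,2,2,0,1] (.node [3,2,2,0,2,3,0,1,3,2,0] (.node [0,2,3,3,1,3,3,1,3,1] (.node [1,3,2,2,0,1,3,0,2,2,0] .nil .nil) (.node [1,3,3,2,2,0,2,2] .nil .nil)) (.node [0,2,0,2,0,2,2,0,2,3,1,0] (.node [2,0,1,3,2,2,0,2,0] .nil .nil) (.node [2,0,2,3,0,2,0,2,3,1,0] .nil .nil))) (.node [0,1] (.node [2,1,0,2,3,0,2,0,2,1] (.node [2,1,0,2,3,3,2,1,0] .nil .nil) (.node [0,2,1,3,2,2,0,2,0] .nil .nil)) (.node [2,0,2,2,2,1,0,2,2,0,2,1] (.node [3,0,2,1,3,3,1,3,0] .nil .nil) .nil))) (.node [2,1,3,2,1,3,3,0] (.node [3,0,2,1,0,2,1,3,3] (.node [2,0,1,3,2,0,2,2,1] (.node [2,3,2,1,3,0,1,3,0,1] .nil .nil) (.node [0,2,2,2,0,2,0,2,1,3,1] .nil .nil)) (.node [3,3,2,1,3,2,1,3,3,0] (.node [3,2,2,2,0,2,0,2,0,1] .nil .nil) .nil)) (.node [2,1,0,2,3,3]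 (.node [0,2,0,2,1,0,2,1,3,0,1] (.node [2,3,3,2,0,2,0,1,3,3,2] .nil .nil) (.node [1,3,1,3,0,2,2,2,1] .nil .nil)) (.node [1,0,2,1,3,0,1,3,1,3,2] (.node [2,0,1,3,3,0,2,2] .nil .nil) .nil))))) (.node [1,3,0,1,3,2,2,2,0] (.node [2,0,2,1,3,2,0,1,3,1,0] (.node [2,3,3,1,0,2] (.node [1,3,1,3,0,1,3,3,0] (.node [3,2,1,0,2,3,0,2,2,0] (.node [0,2,3,1,3,0,1,3,0,1] .nil .nil) (.node [1,3,2,0,2,3,3,1,0,2,0] .nil .nil)) (.node [3,0,2,1,3,3,0,1,3] (.node [0,2,3,3,0,2,2] .nil .nil) (.node [3,3,0,1,3,1,3,2,0] .nil .nil))) (.node [2,3,1,0,2,3,1,3,3,2,2] (.node [2,2] (.node [2,3,0,1,3,3,1] .nil .nil) (.node [0,1,3,1,3,2,1,3] .nil .nil)) (.node [3,1,3,2,1,0,2] (.node [2,3,0,1,3,2,1,0,2,0] .nil .nil) .nil))) (.node [2,2,0,2,3,0,2,2,0] (.node [0,2,3,0,2,1,3,3,1,3,2] (.node [2,2,0,2,1,0,2,3,1,0] (.node [1,3,0,2,2,0,2,2,2,1,0] .nil .nil) (.node [2,1,0,2,3,0,1,3,3,2,1] .nil .nil)) (.node [3,1,3,2,1,3,2,2,0,1,0] (.node [3,2,0,2,3,1,3,1,3,0]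 .nil .nil) .nil)) (.node [3,3,2,0,1,3,3,0] (.node [2,0,2,1,3,0,1,3,1] (.node [0,2,3,1,0,2,1,0,2,3,3] .nil .nil) (.node [2,0,2,2,0,2,0,2,3,3] .nil .nil)) (.node [3,3,0,2,2,0,1,0] (.node [3,1,3,1,0,2,3,3,0,2,2] .nil .nil) .nil)))) (.node [3,2,2,2,1,0,2,1,0] (.node [2,1,3,2,2,2,1,0,2,2] (.node [3,3,2,1,0,2,0,2,0,2,0] (.node [1,3,2,0,2,3,0,2,0,1,3] (.node [3,0,2,1,3,1,3,1,3,3] .nil .nil) (.node [3,0,2,0,2,3,3,1,3,2] .nil .nil)) (.node [3,3,0,2,2,1,0,2,0,1] (.node [2,3,3,2,2,2,0,2,0,2,1,0] .nil .nil) (.node [2,3,3,1,3,2,0,2,2,2,1] .nil .nil))) (.node [1,0,2,0,2,3,1,3,0] (.node [2,3,2,0,1,3,1,3,2,2,2] (.node [1,0,2,0,2,2,0,1,0] .nil .nil) (.node [2,1,3,3,2,0,2,0] .nil .nil)) (.node [3,1,0,2,3,3,0,2,0,2,0] (.node [1,0,2,2,1,0,2,3,1] .nil .nil) .nil))) (.node [3,2,0,2,3,3,0,2,2,0] (.node [1,3,3,1,3,2,0,1,0] (.node [2,2,0,2,3,0,2,2,0,2,2] (.node [0,2,3,1,3,2,1,0,2,2] .nil .nil) (.node [0,2,1,3,3,1,3,1,3,3,0]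 .nil .nil)) (.node [3,0,2,0,2,1,3,0,1,0] (.node [1,3,0,1,3,2,2,2,1] .nil .nil) .nil)) (.node [3,3,1,3,2,0,2,1,3,0] (.node [0,2,3,3,1,0,2,3,3,1,0] (.node [3,0,2,1,3,3,2,2,1,0] .nil .nil) (.node [0,2,1,0,2,1,3,0,2,2] .nil .nil)) (.node [2,2,0,2,3,0,1,3] (.node [1,3,3,2,0,2,0,1,3,0] .nil .nil) .nil))))))))

/-- Part of `setWord`. -/
noncomputable def setWord_r_l_r_l : Arr (List ℕ) :=
  .node [2,3,3,0,2,0,1,3,3,2] setWord_r_l_r_l_l setWord_r_l_r_l_r

/-- Part of `setWord`. -/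
noncomputable def setWord_r_l_r_r_l : Arr (List ℕ) :=
  (.node [2,0,1,3,0,1,3,2,2,0] (.node [2,2,0,1,3,0,1,3,2,2] (.node [1,0,2,3,0,2,2,1,0] (.node [0,2,1,3,0,2] (.node [3,1,3,2,2,2,0,1,0] (.node [2,3,3,1,3,2,1,0] (.node [3,1,3,0,2,0,2,2,0,2] (.node [3,2,0,2,0,2,2,0,2] (.node [3,3,0,1,3,1,3,3] .nil .nil) (.node [0,2,0,2,2,0,2,0,2] .nil .nil)) (.node [0,2,0,2,3,1,3,2,2,1,0] (.node [0,1,3,0,1,3,2,2,0] .nil .nil) (.node [3,3,0,1,3,2,2,2] .nil .nil))) (.node [0,2,3,0,2,0,1,3,2,1] (.node [2,1,3,2,2,0,1,3,0,2,0] (.node [3,0,1,3,2,1,3,1,0,2,1] .nil .nil) (.node [0,2,1,0,2,3,0,1] .nil .nil)) (.node [2,2,0,2,3,3,2,1,0,2,0] (.node [2,0,1,3,3,2,1,0,2,0,2] .nil .nil) .nil))) (.node [1,3,0,1,3,3,1,3,0] (.node [3,1,3,0,2,2,1] (.node [3,1,3,2,2,0,1,3,0] (.node [2,3,0,1,3,3,2,1] .nil .nil) (.node [0,1,3,3,2,0,1,3,3,0] .nil .nil)) (.node [0,2,0,2,2,0,2,3,1,3,0] (.node [2,0,1,3,1,3,0,2,2,1,0] .nil .nil) (.node [0,2,0,2,3,0,2,1,3,2]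 .nil .nil))) (.node [3,0,2,1,3,1,3,0,2,2,0] (.node [2,2,0,1,3,1,3,3,0] (.node [2,1,3,3,1,3,1,3,2,2] .nil .nil) (.node [1,3,3,1,0,2,0] .nil .nil)) (.node [3,3,0,1,3,2,2,2,0,1,0] (.node [2,3,2,0,1,3,0,2,2] .nil .nil) .nil)))) (.node [0,2,2,1,0,2,3,1,0] (.node [2,1,3,2,1,3,3,1,3,1] (.node [2,0,1,3,1,3,1,0] (.node [1,3,3,2,0,1,3,1] (.node [1,3,3,2,0,1,3,1,0] .nil .nil) (.node [1,0,2,3,1,3] .nil .nil)) (.node [0,1,3,2,0,2,0,2,2,0,2] (.node [1,3,1,3,2,2,0,1,3,2] .nil .nil) (.node [3,2,0,1,3,2,2,2] .nil .nil))) (.node [1,3,3,1,3,3,2,2,0,1,0] (.node [3,3,2,1,3,3,0,2,0,1] (.node [1,0,2,1,0,2,1,0] .nil .nil) (.node [0,1,3,0,1,3,1,3,3,2,1,0] .nil .nil)) (.node [3,0,2,1,3,0,2,1,3,1,0] (.node [2,0,2,3,3,2,2,2,1,0,2,0] .nil .nil) .nil))) (.node [3,1,3,2,1,3,3,1,3,2,2] (.node [3,1,3,2,2,0,1,3,3,2,2] (.node [3,0,2,1,3,0,2,0] (.node [2,0,2,2,2,0,2,1,3,2] .nil .nil) (.node [1,0,2,0,2,3,1,3,3,1,0] .nil .nil)) (.node [1,3,2,1,3,1,3,2,0,1]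 (.node [2,3,1,3,2,0,2,1,3,2,1] .nil .nil) .nil)) (.node [1,3,3,2,0,1,3,3,0] (.node [2,2,0,2,0,2,3,0,2,0] (.node [3,1,0,2,3,3,2,0,1,3,1] .nil .nil) (.node [2,1,3,1,0,2,3,1,0,2,2] .nil .nil)) (.node [3,3,2,0,2,2,1,0,2,1,3] (.node [3,0,1,3,3,1,3,3,0,1] .nil .nil) .nil))))) (.node [2,3,2,1,3,0,2,1,3,0,2] (.node [2,0,2,3,1,0,2,1,0] (.node [3,2,0,2,0,2,0,2,1] (.node [1,3,1,3,2,0,1,3] (.node [2,3,3,1,3,3,0] (.node [0,2,2,0,1,3,2,0,1] .nil .nil) (.node [1,3,3,1,3,1,3,3] .nil .nil)) (.node [3,3,1,3,3,1,3,0,2] (.node [1,3,1,3,3,0,1,3,2,2,0] .nil .nil) (.node [3,2,2,0,2,1,3] .nil .nil))) (.node [2,3,1,0,2,3,0,1,3,3,0] (.node [1,0,2,3,3,2,2,1] (.node [1,3,2,0,2,1,3,3,0,2,0] .nil .nil) (.node [1,3,1,3,1,3,3,2,0,2,0] .nil .nil)) (.node [1,0,2,1,0,2,1,3,0,1] (.node [0,2,1,3,0,1,3,1,0] .nil .nil) .nil))) (.node [1,3,0,1,3,2,0,2,1,3,0] (.node [2,3,2,1,0,2,0,2,0] (.node [2,3,2,2,0,1,0] (.node [1,3,3,0,2,0,1] .nil .nil)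 (.node [2,2,1,0,2,3,1,3,2,0] .nil .nil)) (.node [2,1,3,0,2,1,3,1] (.node [3,3,1,3,2,1,3] .nil .nil) .nil)) (.node [0,2,1,0,2,3,1,3,2,0,2,2] (.node [2,3,1,3,2,0,2,3,3,2] (.node [2,1,3,3,1,0,2,3,0,1,0] .nil .nil) (.node [0,2,3,1,0,2,2] .nil .nil)) (.node [1,0,2,2,0,2,2,1] (.node [2,1,3,2,2,2,0,1,3,2,0] .nil .nil) .nil)))) (.node [2,3,3,1,3,1,3,1,3,3,2] (.node [3,2,0,2,0,2,3,3,1,3,2] (.node [1,3,0,2,2,2,0,1,0] (.node [3,2,1,3,1,3,3,2] (.node [2,3,1,3,1,3,1,3,3,2,1] .nil .nil) (.node [0,2,1,0,2,3,3] .nil .nil)) (.node [2,3,2,1,3,3,0,1,3] (.node [2,0,2,3,3,2,1,0,2,0] .nil .nil) (.node [2,3,3,2,2,1,0,2,2,0,2,1] .nil .nil))) (.node [0,2,2,0,1,3,2,2,1] (.node [2,3,3,0,1,3,1,3,2,0,1,0] (.node [3,2,1,3,3,0,1,3,3,2] .nil .nil) (.node [0,2,0,2,3,3,0,2,1] .nil .nil)) (.node [0,2,3,0,2,0,1,3,2,2,0] (.node [2,3,3,0,1,3,3,0,2,2,0] .nil .nil) .nil))) (.node [2,3,2,1,0,2,2,2,0,1] (.node [1,3,0,1,3,3,2,1,0,2,0] (.node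 [2,2,0,1,3,2,0,1,3,3] (.node [2,0,2,1,3,1,3,0] .nil .nil) (.node [2,3,2,0,2,2,0,1,0] .nil .nil)) (.node [1,3,1,3,0,1,3,3,1,3] (.node [1,0,2,0,2,3,3,1,0,2,1] .nil .nil) .nil)) (.node [2,1,3,1,3,2,2,2,0,1,0] (.node [3,3,0,2,0,1,3,3,0] (.node [1,3,0,2,1,3,2,0,2,0] .nil .nil) (.node [2,0,2,3,3,1,0,2,2,1,0] .nil .nil)) (.node [0,1,3,3,0,1,3,2,0,1,0] (.node [2,3,1,3,3,2,0,2,1,0] .nil .nil) .nil)))))) (.node [2,3,0,1,3,2,0,2,3,1] (.node [3,0,2,2,0,2,1,0,2,2,2] (.node [1,0,2,0,2,0,1,3,2] (.node [2,3,2,1,3,3,0,1,3,0] (.node [3,2,1,3,3,1,3,3,1] (.node [0,2,3,0,2,0,2,1,3,2,1] (.node [0,2,3,1,0,2,1,3,0,1,0] .nil .nil) (.node [1,3,0,2,2,2,0,1,3,2] .nil .nil)) (.node [1,0,2,2,0,2,3,1,3,2,0] (.node [3,2,2,0,2,1,3,3,1] .nil .nil) (.node [2,1,3,3,2,0,1,3,2,0,2,0] .nil .nil))) (.node [2,2,0,2,0,2,0,1,0] (.node [1,0,2,0,2,1,3,2,2,0] (.node [3,3,2,0,1,3,0,2,0,1] .nil .nil) (.node [2,0,2,0,2,3,3,0,2,2] .nil .nil)) (.node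 [1,0,2,1,0,2,1,3,0,1,0] (.node [1,0,2,0,2,1] .nil .nil) .nil))) (.node [0,2,0,2,1,3,0,2,1,3,2,0] (.node [2,2,0,2,2,0,2,2,2] (.node [2,0,1,3,2,0,1,3,3,0] (.node [3,3,1,3,3,0] .nil .nil) (.node [2,0,1,3,3,1,3,0,1,0] .nil .nil)) (.node [1,3,3,2,0,1,3,2,2,2,0] (.node [3,1,0,2,2,0,2,2,1] .nil .nil) (.node [3,2,1,0,2,3,0,2,1,3] .nil .nil))) (.node [2,0,1,3,3,0,2] (.node [0,1,3,3,1,3,2] (.node [2,3,0,1,3,2,2,1,0,2] .nil .nil) (.node [3,1,3,2,0,1,3,3,2,1,0] .nil .nil)) (.node [3,2,1,0,2,1,3,3,1,3,0] (.node [3,3,1,3,1,0,2,0,2] .nil .nil) .nil)))) (.node [1,3,1,3,0,2,1,3,3] (.node [2,2,0,1,3,2,1,0,2,2,0,1] (.node [1,3,0,1,3,3,2,2,1] (.node [3,3,0,2,1,3,1,3,2,1] (.node [1,3,3,2,1,3,3] .nil .nil) (.node [3,2,0,1,3,2,1,3,0,2,0] .nil .nil)) (.node [1,0,2,0,2,2,0,2,2] (.node [0,2,1,3,2,2,0,2,1,0] .nil .nil) (.node [1,3,1,3,0,1,3,3,2,1,0] .nil .nil))) (.node [2,3,1,3,3,2,2,2,1,0] (.node [1,3,3,1,3,3,1,3,0,1,0] (.node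 [0,2,3,0,2,1,0,2,1,3,3] .nil .nil) (.node [3,3,2,2,1,0,2,2,0,2,1] .nil .nil)) (.node [3,0,1,3,2,1,3,0,1] (.node [2,3,2,1,3,2,0,1,3,1,0] .nil .nil) .nil))) (.node [2,0,2,0,2,2,1,0,2,3] (.node [2,1,3,3,1,0] (.node [0,2,0,2,2,0,2,2,1] (.node [0,2,3,1,3,3,2,1,0] .nil .nil) (.node [1,3,1,3,2,1,3,1,3] .nil .nil)) (.node [3,3,2,0,2,2] (.node [3,3,2,2,0,2,0,1,3,2] .nil .nil) .nil)) (.node [1,3,1,3,0,2,1,0] (.node [3,3,1,0,2,2,0,2,2] (.node [2,3,3,1,0,2,3,1,0,2,1] .nil .nil) (.node [3,0,2,1,3,0,2,2] .nil .nil)) (.node [3,2,0,1,3,1,3,3,2] (.node [2,2,2,1,0,2,2,0,2,2,1] .nil .nil) .nil))))) (.node [1,0,2,1,0,2,3,3,0] (.node [2,0,2,1,3,0,2,2,0,2,0] (.node [0,2,1,3,3,1,3,2,1,3,1] (.node [3,0,2,2,0,2,3] (.node [0,2,0,2,3,1,3,2,1,0] (.node [3,3,1,0,2,3,0,1,3] .nil .nil) (.node [1,3,1,3,2,1,3,2] .nil .nil)) (.node [2,3,1,3,2,2,2,0,1,3] (.node [0,2,0,2,2,1,0,2,2,2,1] .nil .nil) (.node [2,3,2,2,1,0,2,0] .nil .nil)))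 (.node [0,2,3,3,2,1,0,2,0] (.node [2,2,0,2,1,0,2,0,2,1,0] (.node [0,2,3,3,1,0,2,3,3,1] .nil .nil) (.node [3,0,2,0,2,0,1,3,3,2,0,1] .nil .nil)) (.node [2,3,0,1,3,2,2,0] (.node [1,3,2,1,3,0,2,0,1,0] .nil .nil) .nil))) (.node [2,2,2,1,0,2,2,0,2,3,1] (.node [2,3,3,0,2,0,2,1,0] (.node [2,1,0,2,2,1,0,2,3,3] (.node [2,0,2,0,1,3,2,1] .nil .nil) (.node [3,1,0,2,2,2,0,1,3,2] .nil .nil)) (.node [3,1,0,2,0,2,2,1,0,2,1,0] (.node [0,2,1,3,1,3,3,2] .nil .nil) .nil)) (.node [0,2,1,3,3,0,1,3,1] (.node [1,3,2,1,0,2,3,1,0,2,1] (.node [3,1,3,3,1,3,3,2,1,0] .nil .nil) (.node [1,3,2,0,2,3,1,3,3,2] .nil .nil)) (.node [2,0,1,3,1,3,2,1,3,2] (.node [0,1,3,3,2,2,0,1,3] .nil .nil) .nil)))) (.node [0,2,1,3,2,1,3] (.node [2,2,0,1,3] (.node [0,2,3,3,1,0,2,1,3,1,0] (.node [2,3,2,1,0,2,0,2,3,3,0] (.node [2,1,0,2,0,2,3,3,1,3,2,1] .nil .nil) (.node [0,1,3,2,2,0,1,3,0] .nil .nil)) (.node [3,3,1,3,3,1,3,3,1] (.node [0,2,3,0,1,3,3,2,2,1]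 .nil .nil) (.node [2,0,1,3,3,2,1,0] .nil .nil))) (.node [0,1,3,3,2,0,2,0,1] (.node [0,2,2,0,2,2] (.node [1,3,1,3,2,2,2,0,2,1,0] .nil .nil) (.node [3,3,0,1,3,2,0,2,0] .nil .nil)) (.node [0,2,0,2,0,1,3,0,2] (.node [0,2,2,0,2,2,0,1,0] .nil .nil) .nil))) (.node [3,3,1,0,2,3,3,2,2,2,0] (.node [2,0,2,1,3,2,1,3,2,0,1,0] (.node [2,3,1,3,0,1,3,1,3,0] (.node [2,2,2,0,2,1,3,3] .nil .nil) (.node [1,3,1,3,1,3,1,3,1,3] .nil .nil)) (.node [0,2,3,3,2,1] (.node [1,3,1,0,2,3,3,2,0,2,0] .nil .nil) .nil)) (.node [2,0,2,0,1,3,2] (.node [1,3,2,2,2,0,2,2,1] (.node [3,1,0,2,1,3,3,1,0] .nil .nil) (.node [2,3,2,1,0,2,2,1,0,2] .nil .nil)) (.node [0,1,3,0,1,3,3,0,1,3,1] (.node [0,1,3,3,2,1,3,2,0,1] .nil .nil) .nil))))))) (.node [1,3,2,2,0,1,3,1,3,3,1,0] (.node [3,3,0,1,3,1,3,2] (.node [0,2,2,1,0] (.node [2,3,1,3,0,2,1,0,2] (.node [3,3,0,1,3,1,3,1,3,0] (.node [0,2,2,0,1,3,2,0] (.node [3,3,2,0,2,1,3,0,2,2,0] (.node [1,3,1] .nil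 .nil) (.node [3,3,2,0,2,1,3,1,3,0] .nil .nil)) (.node [2,1,3,2,0,1,3,2] (.node [3,2,1,3,2,1,3,0,2,2,1] .nil .nil) (.node [3,2,2,1,0,2,0] .nil .nil))) (.node [2,3,3,0,2,2,0,2,2] (.node [2,2,2,1,0,2,2,0,2,0,1] (.node [0,2,1,3,0,2,1,3,0,2] .nil .nil) (.node [3,0,2,0,2,3,3,2,2] .nil .nil)) (.node [3,2,0,2,1,0,2,1,3,3] (.node [0,2,1,3,3,1,3,1,3,2] .nil .nil) .nil))) (.node [3,3,2,0,2,2,0,2,1,3] (.node [0,2,3,0,1,3,3,0,1] (.node [1,3,3,0,1,3,1,0,2,3] (.node [3,3,1,3,1,3,1,0,2,1] .nil .nil) (.node [1,0,2,3,1,3,2,2,2] .nil .nil)) (.node [3,1,3,0,1,3,1,3,3,0] (.node [1,0,2,0,1,3,2,0,1] .nil .nil) (.node [2,1,3,2,0,1,3,2,0,2,0] .nil .nil))) (.node [3,1,3,3,0,1,3,0] (.node [2,3,1,0,2,0,2,3,0,2,2] (.node [3,3,2,1] .nil .nil) (.node [2,3,0,2,1,3,3,0,2,0,1] .nil .nil)) (.node [3,1,0,2,1,0,2,3,3] (.node [1,3,3,1,0,2,3,3,0] .nil .nil) .nil)))) (.node [1,3,2,0,2,2,1,0,2,1,0] (.node [0,2,2,0,2,3,0,1,3,2] (.node [0,2,3,3,1,0,2,0,2,0]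 (.node [3,1,0,2,1,3,3,0,2,0] (.node [2,3,0,1,3,2,1,3] .nil .nil) (.node [2,3,0,2,1,3,2,1] .nil .nil)) (.node [1,3,2,0,2,1,3,0,2,2,1,0] (.node [3,1,3,1,3,3,1,0,2,3] .nil .nil) (.node [3,3,1,3,1,3,1,0,2,3,1] .nil .nil))) (.node [3,1,3,2,2,1,0,2,3,3,1] (.node [3,2,1,3,2,2,0,2,1] (.node [2,1,0,2,2,0,2,0,2,2,0,1] .nil .nil) (.node [2,1,3,3,2,0,2,2,2,1] .nil .nil)) (.node [1,3,0,1,3,1,3,3] (.node [2,1,3,1,3,2,0,2,2] .nil .nil) .nil))) (.node [3,3,2,2,0,1,3,2,2,0] (.node [1,3,2,0,2,1,3,1,0,2,1] (.node [1,3,0,2,1,0,2,1,3] (.node [3,0,1,3,0,1,3,0,1,3,3,0] .nil .nil) (.node [2,3,0,2,1,0,2,0,2,1] .nil .nil)) (.node [2,3,0,1,3,0,2,0] (.node [3,1,3,1,3,2,1,0,2] .nil .nil) .nil)) (.node [0,2,2,0,2,3,0,2,2] (.node [0,1,3,3,2,0,1] (.node [2,0,2,2,0,2,1,3,3,1] .nil .nil) (.node [2,1,0,2,2,0,2,0,1,3,2] .nil .nil)) (.node [3,1,3,2,1,3,0,1,3,3] (.node [2,1,0,2,1,0,2,3,3,1,0] .nil .nil) .nil))))) (.node [3,2,0,1,3,3,1,3,0,1,0]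 (.node [2,3,2,2,2,0,2,0,2,2,1] (.node [0,2,0,2,1,3,2,2,1,0,2,0] (.node [0,1,3,0,2,0,1,3,3] (.node [1,0,2,2,1,0,2,0] (.node [0,1,3,2,0,2,1,3,1] .nil .nil) (.node [2,0,1,3,0,2,2,0,1,0] .nil .nil)) (.node [3,1,3,0,2,1,0,2,2] (.node [1,3,3,2,2,0,1,3,0,2] .nil .nil) (.node [3,2,0,1,3,2,1,3,1] .nil .nil))) (.node [3,3,1,3,0,2,1,3,2,0] (.node [0,2,2,1,0,2,0,2,3,1,0] (.node [1,0,2,1,3,3,0,1,3,0] .nil .nil) (.node [3,2,0,2,1,3,2,2,1,0] .nil .nil)) (.node [3,2,0,2,1,3,3] (.node [3,3,1,3,3,1,3,2,1,3,1] .nil .nil) .nil))) (.node [3,3,1,3,0,1,3,2] (.node [3,1,3,0,2,1,3,2,0] (.node [0,2,3,3,2,2,2,0,2,1,0] (.node [0,1,3,2,0,2,0,1,3,2,1] .nil .nil) (.node [3,0,1,3,2,0,1] .nil .nil)) (.node [0,1,3,2,2,0,2,2,2] (.node [1,0,2,3,3,1,0,2,0] .nil .nil) .nil)) (.node [2,1,3,3,1,3,3,1,3,1] (.node [2,1,3,0,2,0,2,3,0,1] (.node [3,3,2,0,1,3,2,0] .nil .nil) (.node [2,3,2,0,2,0] .nil .nil)) (.node [2,0,2,3,1,3,2,2,2,0] (.node [3,3,1,3,0,1,3,1,3,3,0]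 .nil .nil) .nil)))) (.node [2,2,0,2,0,2,2,1] (.node [2,0,2,0,1,3,2,1,3,2] (.node [2,3,0,2,0,2,3,3,2,1,0] (.node [3,3,1,0,2,3,3] (.node [3,0,2,0,2,0,1,0] .nil .nil) (.node [3,1,3,3,1,3,2,1,3,2] .nil .nil)) (.node [2,1,0,2,1,0,2,1,0,2,1] (.node [1,3,1,0,2,1,3,1] .nil .nil) (.node [3,2,1,0,2,0,2,0,1,3,3] .nil .nil))) (.node [1,0,2,0,2,3,1,3,1,3,0] (.node [2,1,3,1,3,0] (.node [3,0,1,3,2,2,0,1,3,3,0,1] .nil .nil) (.node [3,1,0,2,0,2,0,1,3,3] .nil .nil)) (.node [1,0,2,3,3,1,0,2,0,2,0] (.node [0,2,3,1,3,2,2,1,0] .nil .nil) .nil))) (.node [1,0,2,1,3,3] (.node [3,3,2,2,1,0,2,2,2,0,1] (.node [3,0,2,0,2,2,0,2,2,1] (.node [2,2,2,0,2,1,0] .nil .nil) (.node [0,1,3,3,0,1,3,0] .nil .nil)) (.node [0,2,0,2,1,3,1,3,2,2] (.node [2,3,1,0,2,2] .nil .nil) .nil)) (.node [2,0,1,3,3,2,0,1,3,3,0] (.node [0,1,3,0,1,3,3,1,3,0] (.node [2,2,0,2,1,3,2,1] .nil .nil) (.node [1,3,3,2,1,3,3,1,0,2,0] .nil .nil)) (.node [3,1,3,2,2,0,2,1,3,0,1]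 (.node [2,3,1,3,2,0,2,1] .nil .nil) .nil)))))) (.node [2,1,3,0,1] (.node [1,0,2,2,0,2,2,2,0,2,1] (.node [2,0,2,3,1,3,1,3,1,0] (.node [2,1,3,1,3,0,2] (.node [1,0,2,2,0,2,0,2,1,0] (.node [3,0,2,1,3,1,0,2,1] (.node [1,3,2,2,1,0,2,0,1,0] .nil .nil) (.node [2,3,1,3,1,3,3,2,2,2,0] .nil .nil)) (.node [2,3,2,0,2,0,2,2,1] (.node [3,3,2,1,3,3,1,3,0,2] .nil .nil) (.node [0,1,3,2,0,1,3,3,0,1] .nil .nil))) (.node [2,1,3,0,1,3,2,0,1] (.node [0,1,3,2,2,2,1] (.node [3,3,1,3,3,2,1] .nil .nil) (.node [2,2,0,2,3,0,2,0,2,1] .nil .nil)) (.node [2,3,2,1,0,2,3,3,0,2] (.node [3,3,1,3,2,0,2,1] .nil .nil) .nil))) (.node [3,0,1,3,1,3,3,1,3] (.node [3,1,3,2,0,1,3,2] (.node [3,2,1,3,3,1,0,2,3,0,1,0] (.node [3,1,3,1,3,3,2,1] .nil .nil) (.node [2,3,1,0,2,2,0,2,1,0] .nil .nil)) (.node [3,3,0,2,1,3,3,1] (.node [3,2,1,3,0,1,3,1,0] .nil .nil) (.node [0,2,2,0,2,3,0,2,2,0,2,2] .nil .nil))) (.node [2,2,0,2,0,2,2,0,2,2] (.node [1,3,3,2,1,3,0,1,3,2,0]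 (.node [2,0,2,0,2,2,1,0,2,0] .nil .nil) (.node [0,2,3,3,0,2,0,1,3,2,1] .nil .nil)) (.node [0,2,1,3,0,1,3,3,0] (.node [2,2,2,0,2,1,3,3,1,0] .nil .nil) .nil)))) (.node [0,1,3,1,3,1,3,0,1,3,0] (.node [1,0,2,3,0,1,3,3,0,2] (.node [0,2,1,0,2,3,1,3,1,3] (.node [1,3,2,1,0,2,0,2,3,1] (.node [3,0,1,3,3,1,3,3,0] .nil .nil) (.node [3,3,0,1,3,2,0,1,0] .nil .nil)) (.node [2,0,2,0,1,3,3,0,2,0] (.node [0,2,1,3,2,0,2,1,0,2,0] .nil .nil) (.node [3,1,3,2,1,0,2,3,1] .nil .nil))) (.node [1,3,2,1,3,1,0,2,3] (.node [3,0,2,0,2,2,0,1,3,2] (.node [3,1,3,3,1,3,0,2,1] .nil .nil) (.node [0,1,3,2,0,2,3,0,2,2,0] .nil .nil)) (.node [2,3,1,0,2,1,3,3,2,2,0] (.node [1,3,2,0,1,3,3,0,1] .nil .nil) .nil))) (.node [2,2,0,2,2,1,0,2,1,0] (.node [0,2,1,3,3,0,2,2,1,0] (.node [1,0,2,3,1,3,3,0,2,0,1,0] (.node [1,0,2,3,1,3,2,2] .nil .nil) (.node [3,1,0,2,1,0,2,0,2,1,0] .nil .nil)) (.node [1,0,2,3,1,3,1,0,2,1] (.node [3,0,2,1,3,2,0,2,2,1,0] .nil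 .nil) .nil)) (.node [1,3,3,1,3,3,0,1,3,2,2,0] (.node [2,3,2,0,2,1,0,2,2,1] (.node [3,3,1,3,3,1,0,2,3] .nil .nil) (.node [3,0,2,1,3] .nil .nil)) (.node [1,3,2,2,2,0,1,3,3,2] (.node [1,3,3,1,3,1] .nil .nil) .nil))))) (.node [0,2,1,3,3,1,3,1,3,3,2] (.node [3,1,3,0,1,3,2,2] (.node [3,2,0,2,0,1,3,3,0] (.node [0,2,3,0,2,1,3,2,1,3] (.node [2,3,1,3,0,1,3,3,0] (.node [3,1,3,3,1,3,2,1,3,1,0] .nil .nil) (.node [3,0,1,3,1,3,2,0,1] .nil .nil)) (.node [3,1,0,2,3,1,3,2,1,3] (.node [0,1,3,2,1,3,2,2,1,0] .nil .nil) (.node [1,3,1,0,2,3,3,0,2,2,1] .nil .nil))) (.node [2,3,3,2,1,3,0,2] (.node [3,2,0,2,1,3,2,0] (.node [3,0,2,2,0,1,3,3,2,2] .nil .nil) (.node [1,0,2,3,0,2,1,3,2,1,0] .nil .nil)) (.node [1,3,1,0,2,0,2,0,2,2] (.node [3,0,1,3,2,2,2,1] .nil .nil) .nil))) (.node [2,0,1,3,2,1,3,3] (.node [1,3,0,1,3,0,2,1,3] (.node [2,3,3,1,3,2,0,2,0,2,2] (.node [1,3,2,0,1,3,2,2,1,0,2] .nil .nil) (.node [3,1,3,3,2,2,2,0] .nil .nil))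 (.node [3,3,1,3,2,1,0,2,2,1] (.node [1,3,0,2,1,0] .nil .nil) .nil)) (.node [2,3,3,0,2,0,1] (.node [2,2,0,2,3,0,2,2,1] (.node [3,3,1,0,2,2,1,0,2,3] .nil .nil) (.node [1,0,2,3,1,3,3,1,3,0] .nil .nil)) (.node [1,3,0,2] (.node [0,2,2,0,2,1,0,2,3] .nil .nil) .nil)))) (.node [2,0,2,1,3,0,1,3,2,2,1] (.node [3,2,0,2,0,2,2,0,1] (.node [3,1,3,0,2,0,2,3,1] (.node [0,2,0,1,3,2,0,2,1] (.node [1,0,2,1,3,0,1] .nil .nil) (.node [0,2,0,2,1,3,2] .nil .nil)) (.node [3,1,3,1,0,2,0,2,2] (.node [2,0,1,3,3,1,3,3,2,1,0] .nil .nil) (.node [3,2,1,3,0,2,1,3] .nil .nil))) (.node [2,2,0,2,0,2,3,0,1] (.node [3,1,0,2,0,2,0,2,0,2] (.node [3,2,1,3,1,0,2,2,1] .nil .nil) (.node [3,0,1,3,3,0,2,1,0] .nil .nil)) (.node [2,3,2,0,2,0,1,3] (.node [3,2,2,0,2,0,2,3,1,0] .nil .nil) .nil))) (.node [3,1,0,2,0,2,3,3,0,2,2,0] (.node [1,3,0,2,2,0,2,3,1] (.node [3,0,1,3,1,0,2] (.node [1,3,3,1,3,1,3,2,2,1,0] .nil .nil) (.node [2,0,2,0,2,0,1,0] .nil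 .nil)) (.node [1,3,1,3] (.node [1,0,2,0,2,0,2,2,0,2,1,0] .nil .nil) .nil)) (.node [0,2,3,1,0,2,2,0] (.node [3,0,2,0,1,3,2,0,2,3] (.node [2,1,0,2,2,1,0,2,3,1,0] .nil .nil) (.node [3,1,3,1,3,0,2,0] .nil .nil)) (.node [2,3,3] (.node [3,1,3,2,1,3,3] .nil .nil) .nil))))))))

/-- Part of `setWord`. -/
noncomputable def setWord_r_l_r_r_r : Arr (List ℕ) :=
  (.node [3,1,3,0,1,0] (.node [3,0,2,0,2,3,3,0] (.node [0,1,3,2,1,0,2,3,0,2,1] (.node [0,2,1,3,3,2,2] (.node [0,2,3,3,1,3,3,2,1,0] (.node [1,3,1,3,3,0] (.node [3,1,3,1,3,3,0,2,2,1,0] (.node [1,3,0,2,1,3,3,2,0,2,0] (.node [2,1,3,1,3,3,2,2,0] .nil .nil) (.node [2,2,2,0,1,3,2,0] .nil .nil)) (.node [0,2,1,0,2,3,0,1,3,0] (.node [2,0,2,1,3,1,0,2,0] .nil .nil) (.node [3,1,0,2,3,3,1,3,2,1] .nil .nil))) (.node [0,2,2,2,0,2,0,1,0] (.node [3,2,0,1,3,3,2,0,2,1] (.node [2,1,3,0,1,3,3,2] .nil .nil) (.node [2,0,2,1,0,2,0,2,3,1] .nil .nil)) (.node [3,2,0,1,3,2,2,1,0,2,2,1]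 (.node [3,1,0,2,1,3,3,2,2,0] .nil .nil) .nil))) (.node [2,3,3,1,3,2,0,2,1,3,0] (.node [3,0,1,3,2,0,2,2,2,1] (.node [0,1,3,0,1,3,0,2,2,1,0] (.node [1,3,1,3,2,0,2,1,0] .nil .nil) (.node [0,2,1,0,2,1,0,2,1,3,0,1] .nil .nil)) (.node [3,1,3,2,2,0,1,0] (.node [3,0,1,3,1,3,2,0,2,0] .nil .nil) (.node [2,3,0,2,2,2,1] .nil .nil))) (.node [0,2,1,3,3,2,2,2,1,0] (.node [3,1,3,2,1,3,3,0,2,2] (.node [3,1,3,1,3,0,2,2,2] .nil .nil) (.node [1,3,3,2,2,1,0,2,0] .nil .nil)) (.node [1,3,1,3,1,3,3] (.node [2,3,1,3,2,0,2,2] .nil .nil) .nil)))) (.node [0,2,0,1,3,2,1,0,2,2,1,0] (.node [1,3,2,0,1,3,2,1,3,3,1] (.node [2,0,2,3,0,2,2,1,0,2,2] (.node [1,3,1,3,2,0,1,0] (.node [1,3,2,0,2,0,1] .nil .nil) (.node [3,2,1,3,0,1,3,3,2,0] .nil .nil)) (.node [1,3,0,1,3,3,1,3,0,2,2] (.node [0,1,3,0,1,3,3,1,3,2] .nil .nil) (.node [3,1,3,2,1,3,3,1,3,0,2,0] .nil .nil))) (.node [1,0,2,3,3,2,0,2,0] (.node [0,2,1,3,2,0,2,1,0,2,2,1] (.node [3,2,0,2,0,1,3,2]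 .nil .nil) (.node [2,0,2,0,1,3,3,0,2,1,0] .nil .nil)) (.node [0,2,3,3,0,2,2,2,1,0] (.node [2,0,1,3,3,2,0,2,1] .nil .nil) .nil))) (.node [2,2,1,0,2,1,3,0,1,3,0] (.node [0,2,2,0,1,3,3,2,2] (.node [2,3,3,2,1,0,2,3,3,1] (.node [1,0,2,0,2,2,2,0,1] .nil .nil) (.node [1,3,2,0,2,0,2,0,1] .nil .nil)) (.node [0,2,2,0,1,3,3,2,2,2,0] (.node [1,3,0,2,2,1] .nil .nil) .nil)) (.node [2,3,1,3,1,3,1,3,1,0] (.node [2,1,3,3,1,0,2,3,1,0] (.node [2,2,0,2,1,3,2,0,2,1] .nil .nil) (.node [2,3,1,0,2,2,0,2,1] .nil .nil)) (.node [2,0,2,0,2,2,1,0,2,0,2,0] (.node [2,2,0,2,0,2,1,3,2] .nil .nil) .nil))))) (.node [3,0,1,3,2,1,3,1,3] (.node [2,0,2,1,3,1,3,1,3,1,0] (.node [0,2,3,3,2,0,2,2,0,1,0] (.node [1,0,2,3,3,1,3,0] (.node [1,3,0,2,2,2,1,0,2,1,0] (.node [2,3,2,1,3,0,2,1] .nil .nil) (.node [0,2,1,3,1,0,2,0,2,2] .nil .nil)) (.node [2,1,0,2,2,1,0,2,0,2,0] (.node [1,3,3,0,1,3,1,3,2,1,0] .nil .nil) (.node [3,0,1,3,2,2,2] .nil .nil)))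 (.node [2,3,1,3,1,3,3,2,1] (.node [3,3,1,3,2,2,2,1] (.node [1,0,2,1,3,3,0,1,3] .nil .nil) (.node [2,3,1,3,0,1,3,2,2,2] .nil .nil)) (.node [2,3,3,0,2,2,0,2,2,1,0] (.node [2,3,3,1,3,0,2] .nil .nil) .nil))) (.node [2,0,2,3,3,2] (.node [0,2,3,1,0,2,2,1,0,2] (.node [2,3,0,1,3,1,3,3,0] (.node [2,2,0,2,0,1,3,3,2] .nil .nil) (.node [2,3,3,1,3,0,2,0,1] .nil .nil)) (.node [3,1,0,2,0,1,3] (.node [0,1,3,0,1,3,0,2,0] .nil .nil) .nil)) (.node [2,3,2,0,1,3,3,0,2,2,1] (.node [2,3,0,2,0,2,3,3,1,3,2] (.node [1,3,0,2,1,3,3,2,2,0] .nil .nil) (.node [3,1,0,2,3,0,2,2,0,1,0] .nil .nil)) (.node [0,2,3,0,2,1,3,2,0] (.node [0,2,1,3,3,2,2,0,1,3] .nil .nil) .nil)))) (.node [0,2,2,1,0,2,0,2] (.node [2,1,3,1,0,2,3,0,2,2,2] (.node [1,3,1,3,3,0,1,3,0,2] (.node [2,0,2,3,1,3,3,0,2,0,1] (.node [0,2,3,3,0,1,3,1] .nil .nil) (.node [2,1,3,1,0,2,1] .nil .nil)) (.node [1,3,2,0,2,2,0,1,3,2,2,0] (.node [2,1,3,3,2,1,3,3,0] .nil .nil) (.node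 [2,3,2,1,3,1,3,2,0,2,0] .nil .nil))) (.node [3,2,1,3,2,2,0,2,0,1] (.node [1,3,0,1,3,3] (.node [1,0,2,3,1,3,3,1,0] .nil .nil) (.node [1,3,1,0,2,3,1,3,3,2] .nil .nil)) (.node [2,3,3,1,0,2,2] (.node [3,2,0,2,2,0,2,1,0] .nil .nil) .nil))) (.node [2,0,2,1,0,2,2,2,0,2,0] (.node [3,3,1,3,2,0,2,0,1,0] (.node [0,2,3,3,2,1,3,0,2,0] (.node [2,3,0,2,1,3,0,1,3,3] .nil .nil) (.node [3,0,1,3,1,3,3,0,1] .nil .nil)) (.node [2,2,0,2,3,0,1,3,3,2] (.node [2,0,2,1,3,1,3,3,1,3,1] .nil .nil) .nil)) (.node [2,0,1,3,3,2,1,3,3,0] (.node [0,1,3,0,2,1,0,2] (.node [2,1,0,2,0,2,1,0,2] .nil .nil) (.node [3,2,1,3,0,2,1,0,2,0] .nil .nil)) (.node [0,2,3,0,1,3,2] (.node [3,2,0,2,3,1,3,0] .nil .nil) .nil)))))) (.node [0,2,1,3,2,2,0,1,3,3] (.node [2,2,2,1,0,2,2,0,2,1,0] (.node [2,3,2,1,3,0,2,1,3,2] (.node [3,3,1,3,2,1,3,0,2,1] (.node [2,3,0,1,0] (.node [0,2,0,2,1,3,2,2,0] (.node [0,2,2,0,2,3,0,1,3,0] .nil .nil) (.node [1,3,3,2,0,2,1,0,2,2,2]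 .nil .nil)) (.node [3,2,0,2,0,1,3,3,0,2] (.node [1,3,2,1,3,1] .nil .nil) (.node [0,2,3,1,0,2,0,2,1,0] .nil .nil))) (.node [1,3,2,0,2,2,2,1,0] (.node [1,3,3,1,3,3,0,1] (.node [1,0,2,1,0,2,0,2,0,2] .nil .nil) (.node [2,1,3,2,1,3,0,1,3,0,1] .nil .nil)) (.node [1,3,2,0,1,3,3,0,1,3,1] (.node [3,0,1,3,2,0,1,3,2] .nil .nil) .nil))) (.node [2,1,3,2,2,0,2,1,3,3] (.node [2,3,2,2,0,1,3,3,0] (.node [0,2,0,2,2,1,0,2,1,0,2] (.node [3,3,0,2,0,2,0,1] .nil .nil) (.node [0,2,1,3,3,2,2,2,0,1,0] .nil .nil)) (.node [2,3,1,0,2,2,0,2,2,1] (.node [1,3,3,0,2,0,1,3,2] .nil .nil) (.node [3,3,1,3,3,1,3,2,0,2,0] .nil .nil))) (.node [3,0,2,0,2,0,2,1,0] (.node [3,0,2,2,2,0,1,3,0,2,2] (.node [1,3,0,2,0,2,1,3,3,0] .nil .nil) (.node [1,3,3,1,3,3,0,2,2,2,1] .nil .nil)) (.node [0,2,3,3,2,0,2,0,1,3] (.node [2,0,2,2,2] .nil .nil) .nil)))) (.node [2,0,1,3,3,2,2,2,0] (.node [3,2,2,1,0,2,0,2,1,3,0] (.node [1,0,2,2,0,2,0,1] (.node [2,2,2,0,1,3,3,2,2,1]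 (.node [1,0,2,1,3,3,1,3,2,0,1] .nil .nil) (.node [3,2,2,0,2,2,0,2,0,1,0] .nil .nil)) (.node [2,3,3,2,2,0,1,3,3,0] (.node [1,0,2,0,2,3,1,3,2,2] .nil .nil) (.node [2,1,3,0,1,3,0,2,2,2] .nil .nil))) (.node [0,2,3,0,1,3,2,1] (.node [1,3,3,2,2,0,1,3,1,0] (.node [3,3,1,3,1,3,3,2,2] .nil .nil) (.node [2,1,3,3,1,0,2,3,1] .nil .nil)) (.node [0,2,1,3,2,2,0,1,3] (.node [2,3,0,2,0,1,3,0,2,0,1] .nil .nil) .nil))) (.node [1,0,2,0,2,3,0,1,3,1] (.node [2,3,1,3,2,0,2,1,3,2,0] (.node [2,2,0,1,3,3,1,3,3,0] (.node [3,2,1,3,1,3,0,2,0,2,1] .nil .nil) (.node [1,3,1,0,2,3,3,2,0,1,0] .nil .nil)) (.node [2,2,0,2,3,3,1,3,2] (.node [2,0,2,1,3,3,2,2,2,0] .nil .nil) .nil)) (.node [1,3,1,3,0,2,2,2,1,0] (.node [0,2,3,3,2,2,2,0,1,0] (.node [0,2,1,3,0,2,2,0] .nil .nil) (.node [2,2,2,0,1,3,1,3,2,0] .nil .nil)) (.node [3,2,0,2,3,3,1,0,2,1,3] (.node [3,1,3,3] .nil .nil) .nil))))) (.node [3,2,0,2,3,3,2,2,2,1] (.node [0,2,1,3,0,1,0] (.node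 [3,2,1,3,3,1,3,2,2,0] (.node [2,3,2,2,2,0,1,3] (.node [0,2,2,2,0,2,0,2,3] (.node [1,3,1,3,3,2,2,2,0] .nil .nil) (.node [0,2,1,0,2,2,0,2,0,1] .nil .nil)) (.node [0,2,1,3,2,0,2,1,0,2,3] (.node [2,0,2,2,2,0,1,3,2] .nil .nil) (.node [3,3,0,1,3,1,3,2,2,2,1] .nil .nil))) (.node [1,3,0,2,0,2,0,2,1,0] (.node [1,0,2,3,0,1,3,0,1,0] (.node [2,3,2,0,2,2,1] .nil .nil) (.node [3,2,1,3,1,0,2,3,1] .nil .nil)) (.node [3,3,1,3,0,1,3,2,2,1] (.node [0,2,2,0,1,3,3,0,2] .nil .nil) .nil))) (.node [0,2,3,1,3,2,0,1,3,3] (.node [2,3,3,0,1,3,0,1,3,1,0] (.node [0,1,3,0,1,3,3,2,1,0] (.node [2,2,0,2,3,3,0,2] .nil .nil) (.node [0,2,0,2,3,0,1,3,0] .nil .nil)) (.node [0,2,2,2,0,1,3,0,2] (.node [3,0,2,0,2,0,1,3] .nil .nil) .nil)) (.node [3,3,1,3,0,2,1,3,1,3] (.node [2,2,0,2,1,3,1,3,3] (.node [2,1,3,2,0,2,0,2,0,1,3] .nil .nil) (.node [3,0,1,3,2,1,0,2,1,0,2,0] .nil .nil)) (.node [3,2,1,0,2,0,2,3,3] (.node [2,3,0,1,3,3,2,0,1,3,3,0] .nil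 .nil) .nil)))) (.node [2,3,2,1,0,2,0,2,0,2,0] (.node [3,3,1,3,1,3,0,1,3,1,0] (.node [2,3,0,1,3,3,2,1,0,2,2] (.node [3,0,1,3,3,1,3,3,1,3,0] (.node [2,0,2,1,3,1,3,1,3] .nil .nil) (.node [2,3,3,2,2,1] .nil .nil)) (.node [3,3,0,1,3,3,1,0] (.node [1,0,2,2,0,2] .nil .nil) (.node [3,3,2,0,2,0] .nil .nil))) (.node [3,2,2,0,1,3] (.node [2,3,3,1,3,1,3,0] (.node [3,0,2,1,3,0,2,1,3,2,0] .nil .nil) (.node [0,2,3,3,2,1,3,3,0] .nil .nil)) (.node [1,0,2,3,3,0,2,0,2,0] (.node [2,2,0,2,1,3,3,0,2,0] .nil .nil) .nil))) (.node [3,1,3,1,3,1,3,3,1,0] (.node [2,2,1,0,2,3,0,2,1] (.node [1,3,3,2,2,0,2,0,2,2,1] (.node [0,1,3,0,1,3,2,2,1,0] .nil .nil) (.node [3,3,2,1,3,0,2] .nil .nil)) (.node [3,1,3,3,2,0,2,2,1,0] (.node [1,3,2,0,2,1,3,2,1] .nil .nil) .nil)) (.node [2,3,2,1,0,2,3,3,1] (.node [0,2,3,3,0,2,0,1,3,2] (.node [2,3,3,1,0,2,2,1] .nil .nil) (.node [3,2,0,1,3,1,3,2,2,2,1] .nil .nil)) (.node [2,1,3,3,2,0,2,1,0,2] (.node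 [2,2,0,1,3,2,2,0,1,3,0] .nil .nil) .nil))))))) (.node [3,0,1,3,3,0,2,2,1] (.node [2,0,1,3,2,0,2,2,1,0] (.node [0,2,2,2,0,1,3,0] (.node [0,2,0,1,3,2,1,0,2,2] (.node [0,1,3,0,2,1,3,1,0,2,1] (.node [3,1,3,2,0,2,3,0,2,1] (.node [2,1,0,2,1,3,0,1,3,0,1] (.node [2,3,1,3,0,2,2,2,0,1,3] .nil .nil) (.node [1,3,0,1,3,0,2,0,1] .nil .nil)) (.node [2,0,2,1,3,1,3,2,2,2] (.node [1,3,0,2,1,0,2,3,1] .nil .nil) (.node [3,2,0,2,1,3] .nil .nil))) (.node [0,2,0,2,3,3,0,2] (.node [2,2,0,2,1,3,3] (.node [3,3,2,0,2,2,0,1,0] .nil .nil) (.node [3,1,3,2,1,3,0,2,1] .nil .nil)) (.node [1,0,2,2,2,0,1,3,2] (.node [1,3,1,3,3,2,1,3,1,3,0] .nil .nil) .nil))) (.node [1,0,2,0,2,3,3,1,3,0] (.node [3,3,1,3,0,1,3,3,2] (.node [3,0,1,3,0,2,0,2,2,1,0] (.node [1,0,2,3,1,3,2,1] .nil .nil) (.node [3,2,1,3,3,1,3,2,0] .nil .nil)) (.node [1,3,2,0,2,1,3,2,1,3,2] (.node [1,3,2,1,3,3,0,2,2] .nil .nil) (.node [1,3,1,3,1,3,2,1,0,2,0] .nil .nil))) (.node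 [1,0,2,2,1,0,2,2,0,2] (.node [1,0,2,3,1,3,0,2,0] (.node [2,2,2,0,1,3,2,0,1] .nil .nil) (.node [2,2,2,1,0,2,0] .nil .nil)) (.node [3,3,2,2,2,0,1,3,0] (.node [3,3,1,0,2,3,3,0] .nil .nil) .nil)))) (.node [3,2,0,1,3,0,1,3,1,3,2] (.node [0,2,2,2,1,0,2,0,2,2] (.node [2,1,3,2,0,2,1,0,2] (.node [1,3,2,0,2,2,0,2,2,0,1] (.node [1,3,3,2,1,0,2,3,0,2] .nil .nil) (.node [0,2,3,3,0,1,3,3,0] .nil .nil)) (.node [3,1,3,1,3,1,3,3,0] (.node [3,3,2,1,3,1,3,2,0] .nil .nil) (.node [2,3,3,2,0,1,3,3,2,1,0] .nil .nil))) (.node [2,1,3,2,2,0,2,0,1,0] (.node [3,3,2,2,2,1,0,2,2] (.node [3,1,3,3,2,2,2,1,0] .nil .nil) (.node [2,0,2,1,3,3,0,2,0,1] .nil .nil)) (.node [0,2,1,3,3,2,0,1,3,1] (.node [3,0,1,3,2,2,1,0] .nil .nil) .nil))) (.node [2,2,0,2,2,2,0,1] (.node [2,1,0,2,2,2,0,2,2,1,0] (.node [2,2,0,2,1,0,2,2,2] (.node [2,3,3,0,2,1,3,3,1,0] .nil .nil) (.node [0,1,3,3,0,2,1,3,2,0] .nil .nil)) (.node [2,2,0,1,3,3,2,2,2,0] (.node [2,1,3,3,1,0,2,1,0]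 .nil .nil) .nil)) (.node [3,1,3,2,0,2,0,2,2,1] (.node [2,1,0,2,3,0,2,2] (.node [1,3,0,2,1,3,0,2,1,3] .nil .nil) (.node [3,1,0,2,3,1,3,3,2] .nil .nil)) (.node [2,2,0,1,3,0,2,0] (.node [2,3,1,0,2,3,3,0] .nil .nil) .nil))))) (.node [3,0,2,0,2,2,2,0,1,0] (.node [1,0,2,1,0,2,3,0,1,3,0] (.node [3,2,2,2,0,2,0,2,2,2,1] (.node [2,0,2,3,1,3,2,0,2,1,3,0] (.node [1,0,2,1,0,2,2,1,0,2,3,3] (.node [3,0,1,3,3,0,2,1,0,2] .nil .nil) (.node [0,2,1,3,3,0,1,3,3] .nil .nil)) (.node [1,3,1,0,2,2,2,0,2] (.node [1,3,3,0,2,0,2,0] .nil .nil) (.node [1,0,2,2,1,0,2] .nil .nil))) (.node [1,3,1,0,2,3,3,2,2,0] (.node [0,2,1,3,2,0,1,3,3,1] (.node [1,0,2,0,2,3,3,0,2,2,0] .nil .nil) (.node [2,0,2,0,1,3,2,1,3,1,3] .nil .nil)) (.node [2,2,1,0,2,2,0,2,0,1] (.node [3,0,2,2,0,2,1,3,3,1] .nil .nil) .nil))) (.node [0,1,3,0,2,1,3,0,1] (.node [2,0,2,3,1,0,2,3,0,2,1] (.node [0,2,3,0,2,1,0,2] (.node [3,3,1,3,3,0,2,0,1] .nil .nil) (.node [0,2,3,0,2,0,2,0,2,2]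 .nil .nil)) (.node [0,1,3,1,3,1,3,3,0,1] (.node [2,3,2,1,3,3,1,0,2,1,0] .nil .nil) .nil)) (.node [3,1,0,2,3,1,0,2,1,3] (.node [3,3,1,3,3,0,1,3] (.node [0,2,3,0,2,2,2,0,2,1,0] .nil .nil) (.node [2,1,3,0,2,1,3,0,2,2] .nil .nil)) (.node [0,2,3,3,1,3,0] (.node [3,1,0,2,2,0,2,3,3,2,2,0] .nil .nil) .nil)))) (.node [0,1,3,3,1,3,2,0,1] (.node [2,0,2,3,3,0,1,3,0,1,3,0] (.node [2,1,0,2,3,3,0,2,0] (.node [3,2,1,3,3,1,3,0] (.node [0,2,0,2,0,2,0,2,2,1] .nil .nil) (.node [2,0,2,0,2,0,2,2,2,1,0] .nil .nil)) (.node [3,0,2,1,3,0,2,2,1,0,2,0] (.node [2,2,1,0,2,0,1,3,2] .nil .nil) (.node [3,2,0,1,3,3,1,3,2,2,2,1] .nil .nil))) (.node [3,2,0,2,0,2,3,3,2,1] (.node [1,3,3,2,1,3,3,2,1,3,3] (.node [1,3,2,1,3,3,0,1,3,3,2] .nil .nil) (.node [1,3,2,2,1,0,2,1,3] .nil .nil)) (.node [3,2,1,3,0,2,0,1,3,2] (.node [3,0,2,0,2,1,3,2,0,2,0] .nil .nil) .nil))) (.node [0,2,1,3,0,1,3,0,2,2,0] (.node [2,0,2,3,1,3,2] (.node [0,2,0,2,1,3,3,1,0]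 (.node [2,3,3,2,0,1,3,0,2,1] .nil .nil) (.node [3,3,2,1,3,0,2,0,1,3,2] .nil .nil)) (.node [2,1,3,3,2] (.node [2,2,0,1,3,0,2,1] .nil .nil) .nil)) (.node [0,1,3,2,2,2,0,2,1,3] (.node [2,1,3,1,3,2,2,2] (.node [2,3,1,3,3,0,2,1,0,2] .nil .nil) (.node [2,1,3,3,2,1,0,2,3,1] .nil .nil)) (.node [2,3,0,2,0,1,3] (.node [2,3,1,3,3,1,3,1,3,2] .nil .nil) .nil)))))) (.node [2,0,1,3,2,2,2,0,2,1] (.node [1,3,2,0,1,3,3,1,0] (.node [3,1,3,2,0,2,0,2,0,1] (.node [3,3,2,1,0,2,1,0,2,3] (.node [2,1,3,0,1,3,0,2,2,0] (.node [1,3,3,1,3,3,0,1,3,2,0] (.node [0,2,1,0,2,2,0,2,2,1,0] .nil .nil) (.node [3,2,1,3,0,2,1,3,1] .nil .nil)) (.node [0,1,3,1,3,2,0,1] (.node [2,2,1,0,2,1,3,3,0,2,0] .nil .nil) (.node [1,3,1,3,1,0,2,3,1] .nil .nil))) (.node [2,0,2,2,0,2,1,0] (.node [0,2,3,3,2,1,3,0,1,3,1] (.node [3,3,1,3,3,0,2,1] .nil .nil) (.node [3,2,2,0,1,3,0,2,0] .nil .nil)) (.node [1,0,2,3,1,3,3,1] (.node [2,0,2,1,0,2,0,2,1,3] .nil .nil)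 .nil))) (.node [1,3,1,3,2,1,0,2,2] (.node [0,2,1,3,2,2,2,0,2,2,1,0] (.node [2,2,2,1,0,2,0,2,1,0] (.node [2,3,1,0,2,1,0,2,0,2,0] .nil .nil) (.node [3,3,0,2,0,1] .nil .nil)) (.node [0,2,1,3,0,1,3,3,1] (.node [1,3,2,0] .nil .nil) (.node [0,2,0,2,1,0,2,3,0,1,0] .nil .nil))) (.node [1,3,3,2,2,2,0,2,0,2,1,0] (.node [0,2,0,2,1,3,3,0,2,0] (.node [3,3,1,3,0,2,2,2] .nil .nil) (.node [2,1,3,3,2,1,0,2,1,3] .nil .nil)) (.node [0,2,1,3,3,1,0,2,3,3] (.node [2,1,3,3,2,2,2,0] .nil .nil) .nil)))) (.node [3,1,3,1,3,0,1] (.node [2,1,0,2,1,0,2,1,0,2,0] (.node [2,1,3,1,3,1,3,0,2,1,0] (.node [0,1,3,1,3,3,1] (.node [3,1,3,0,1,3,0,1] .nil .nil) (.node [3,2,1,3,1,3,2,2,2] .nil .nil)) (.node [2,0,2,3,1,3,0,2,2,1] (.node [3,0,2,2,1] .nil .nil) (.node [2,2,2,1,0,2,2,0,2,1] .nil .nil))) (.node [3,1,3,3,1,3,2,0] (.node [3,2,0,2,2,1,0,2,3,1,0] (.node [3,0,2,0,2,3,1,3,1,3,0] .nil .nil) (.node [0,1,3,3,1,3,2,2,2,1] .nil .nil)) (.node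 [2,3,2,2,1,0,2,3,3,2,1] (.node [2,2,2,1,0,2,2,1,0,2,0,1] .nil .nil) .nil))) (.node [1,3,1,3,1,0,2,0,2] (.node [3,2,2,0,2,2,1,0,2,1] (.node [0,2,0,2,3,3,1,0,2,0] (.node [3,0,2,1,0,2,1,3,0,1,0] .nil .nil) (.node [1,3,0,2,1,3,1,0] .nil .nil)) (.node [3,1,3,2,2,2,0,2] (.node [1,0,2,0,2,1,0,2,3,3] .nil .nil) .nil)) (.node [0,2,3,3,2,0,1,3,3,2,1,0] (.node [1,3,2,2,0,1,3,3] (.node [2,1,0,2,3,0,2,0,1] .nil .nil) (.node [0,1,3,0,2,1,3,1] .nil .nil)) (.node [1,3,1,3,0,2,2,0,2,1,0] (.node [2,0,2,0,2,3,0,2] .nil .nil) .nil))))) (.node [2,2,2,0,1,3,1,3,3] (.node [2,3,2,1,3,1,3,2,0,2,2,1] (.node [3,1,0,2,3,3,1] (.node [2,0,2,1,3,0,2,0] (.node [1,3,0,1,3,0,2] (.node [3,1,3,0,2,1,3,1,0,2] .nil .nil) (.node [2,3,3,1,0,2,2,0,2,2,2] .nil .nil)) (.node [0,2,1,3,2,0] (.node [3,0,2,1,0,2,1,0,2,2,1] .nil .nil) (.node [2,0,2,3,3,0,2,2,1] .nil .nil))) (.node [1,3,2,2,0,2] (.node [1,3,1,3,1,3,3,2,0] (.node [2,2,0,1,3,3,1,3,2,1,0]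 .nil .nil) (.node [0,2,1,3,0,2,0,2,1,0] .nil .nil)) (.node [1,3,3,0,1,3,0,2,0,1] (.node [2,1,3,0,2,1,3,3,1,3,1] .nil .nil) .nil))) (.node [0,2,1,3,3,1,3,2,2,0,1,0] (.node [3,2,0,1,3] (.node [3,0,2,1,3,1,3,1,3,2] (.node [1,0,2,3,3,0,2,2,0,1,0] .nil .nil) (.node [3,2,2,2,0,1,3,0,2] .nil .nil)) (.node [3,3,1,3,3,0,2,2,0,1,0] (.node [3,3,0,2,0,2,1,0,2,3,1] .nil .nil) .nil)) (.node [2,2,1,0,2,2,0,1] (.node [1,3,3,1,3,3,1,3,0] (.node [1,3,0,2,2,0,2,2,0,1] .nil .nil) (.node [3,0,2,1,0,2,0,1,3] .nil .nil)) (.node [3,2,1,3,0,2,2,0,2,2] (.node [1,3,0,2,1,3,2,1,0] .nil .nil) .nil)))) (.node [0,2,2,0,2,1,0,2,3,1] (.node [0,1,3,2,1,3,2,1,3,1] (.node [2,2,0,2,0,2,3,0,2,2] (.node [1,3,0,1,3,2,1,3] (.node [3,0,2,1,3,1,0] .nil .nil) (.node [1,0,2,2,0,2,1,3,1] .nil .nil)) (.node [0,2,3,3,2,0,1,3] (.node [2,0,1,3,1,0] .nil .nil) (.node [2,3,0,1,3,0,2,2,2] .nil .nil))) (.node [3,2,2,0,2,3,1,3,1,3] (.node [0,1,0] (.node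 [2,1,3,0,2,1,3,3,0,2,0] .nil .nil) (.node [1,3,1,3,2,0,2,2,2,1] .nil .nil)) (.node [2,2,0,2,2,0,1,0] (.node [2,0,2,0,2,3,3,2,1] .nil .nil) .nil))) (.node [0,2,3,1,3,2,1,3,1,3] (.node [3,3,1,3,2,2,0,2] (.node [1,0,2,0,2,2] (.node [3,1,3,3,0,1,3,3,1,0] .nil .nil) (.node [2,3,0,2,1,0,2] .nil .nil)) (.node [1,3,0,1,3,2,2,2,0,2] (.node [2,0,2,0,2,1,0,2,0,2] .nil .nil) .nil)) (.node [2,0,1,3,1,0,2,3,1,0] (.node [3,1,0,2,1,3,1,3,1,3,0] (.node [2,3,2,1,3,0,2,1,0,2] .nil .nil) (.node [3,0,2,1,3,2,0,2,1,0] .nil .nil)) (.node [0,2,3,1,3,3,0,2,2] (.node [3,2,2,2,0,1,3,1] .nil .nil) .nil))))))))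

/-- Part of `setWord`. -/
noncomputable def setWord_r_l_r_r : Arr (List ℕ) :=
  .node [1,3,2,0,2,0,2,0,2,1,0] setWord_r_l_r_r_l setWord_r_l_r_r_r

/-- Part of `setWord`. -/
noncomputable def setWord_r_l_r : Arr (List ℕ) :=
  .node [2,3,3,0,2,1,3,0,2,0] setWord_r_l_r_l setWord_r_l_r_r

/-- Part of `setWord`. -/
noncomputable def setWord_r_l : Arr (List ℕ) :=
  .node [0,2,0,2,0,2,3,1,3,2,0] setWord_r_l_l setWord_r_l_r

/-- Part of `setWord`. -/
noncomputable def setWord_r_r_l_l_l : Arr (List ℕ) :=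
  (.node [0,2,3,1,3,2,1,3,2,0] (.node [2,3,2,0,1,3,2,1] (.node [0,2,3,3,0,2,0,2,2,1] (.node [0,1,3,2,0,2,0,2,1,0] (.node [0,1,3,3,0,1,3,2] (.node [3,0,1,3,3,2,1,3,1,3] (.node [1,3,0,2,2,0,1,3,2,0,1] (.node [2,1,3,0,1,3,1,3,3,0] (.node [2,3,2,0,2,0,2,2,2,1,0] .nil .nil) (.node [0,1,3,3,2,0,1,3,2,2,0] .nil .nil)) (.node [3,3,2,1,3,1,3,0,2] (.node [2,0,2,3,3,1,3,0,1] .nil .nil) (.node [0,1,3,3,1,3,1,3,2,1,0] .nil .nil))) (.node [2,1,0,2,3,3,0,2,2,0,1,0] (.node [3,3,0,1,3,2,0,2,3,1] (.node [2,3,1,3,1,3,1,3,2,0] .nil .nil) (.node [2,2,2,0,2,0,2,2,2,1] .nil .nil)) (.node [1,3,1,3,3,0,1,3,3,1] (.node [3,1,3,1,3,1,3,3,2,1,0] .nil .nil) .nil))) (.node [3,2,0,2,2,0,2,3,1,0] (.node [3,3,0,2,2,2,0,2,0] (.node [3,3,1,3,1,3,0,2,2,0] (.node [2,1,3,2,2,1,0,2,0,2,1] .nil .nil) (.node [3,0,2,0,1,3,2,2,0,2,2] .nil .nil)) (.node [1,3,2,0,1,0] (.node [2,1,3,3,1,3,1,0,2] .nil .nil) (.node [2,2,2,0,2,1,0,2,0] .nil .nil)))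 (.node [1,0,2,3,3,1,3,1,3,2] (.node [3,3,1,0,2,1,3,1] (.node [2,0,1,3,3,0,2,1,0,2] .nil .nil) (.node [1,3,1,3,3,1,3,0,2,0] .nil .nil)) (.node [3,3,2,0,2,0,2,0,1] (.node [0,1,3,2,0,2,0,2,1] .nil .nil) .nil)))) (.node [0,2,2,0,2,1,3,0,2,0] (.node [0,2,2,0,2,3,3,0,2] (.node [0,2,1,3,3,1,3,3,0,1] (.node [3,1,3,3,1,3,2,0,1,3] (.node [0,2,2,2,0,2,2,0,2,2] .nil .nil) (.node [1,0,2,0,2,1,3,0,1,0] .nil .nil)) (.node [1,3,1,3,0,2,0,2,2,1,0] (.node [1,0,2,3,1,3,2,0,1,3,1] .nil .nil) (.node [0,2,1,3,3,2,1,3,2] .nil .nil))) (.node [3,2,2,1,0,2,3,3,0] (.node [0,2,3,1,3,3,0,2,2,1] (.node [3,1,3,1,3,1,3,1,0,2,1] .nil .nil) (.node [0,2,3,3,2,0,2,1,3,1,3,0] .nil .nil)) (.node [1,3,0,2,0,1,3,3,2,2] (.node [2,0,2,3,3,0,2,0,1] .nil .nil) .nil))) (.node [2,0,2,3,3,0,2,2,0,2,1] (.node [0,1,3,0,2,2,2,1,0,2,2] (.node [2,0,2,1,3,0,1,3,0,1] (.node [0,2,0,1,3,0,2,0,2,3] .nil .nil) (.node [3,0,1,3,1,3,2] .nil .nil)) (.node [3,1,3,0,1,3,0,1,3,2,0,1]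 (.node [3,2,2,0,2,0,1,3,0] .nil .nil) .nil)) (.node [3,2,0,2,1,3,3,1,0] (.node [0,2,1,3,3,0,2,1] (.node [2,3,1,3,3,0,2,1] .nil .nil) (.node [1,3,1,0,2,3,1,0,2,2] .nil .nil)) (.node [1,3,3,0,2,0,1,3,0] (.node [1,3,0,2,2,0,1,3,2,2,0] .nil .nil) .nil))))) (.node [3,1,3,0,1,3,0,1,0] (.node [3,3,0,1,3,2,2,0,2,2,1,0] (.node [2,2,0,2,0,2,0,2,1,3] (.node [3,0,1,3,3,2,0,2,1,0] (.node [2,3,2,0,2,1] (.node [2,3,1,0,2,2,2,0,2] .nil .nil) (.node [1,3,3,1,0] .nil .nil)) (.node [1,0,2,1,3,0,2] (.node [2,3,2,2,0,2,0,1,3] .nil .nil) (.node [0,1,3,3,0,1,3,2,0] .nil .nil))) (.node [1,3,1,3,1,3,1,0,2,1] (.node [0,2,0,2,2,2,0,1,3,2] (.node [3,3,2,1,0,2,1,0] .nil .nil) (.node [3,1,3,1,3,3,1,3,0,2,0] .nil .nil)) (.node [2,3,3,0,2,1,3,2,0,2,1] (.node [2,3,1,3,1,3,2,2,2] .nil .nil) .nil))) (.node [3,3,0,2,0,1,3,1,3,1,0] (.node [2,1,3,0,1,3,3,1,0] (.node [2,1,3,1] (.node [3,1,3,1,3,0,1,3,3,2,2] .nil .nil) (.node [1,0,2,0,2,0,2,1,3,1]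 .nil .nil)) (.node [2,1,3,3,1,3,3,1,3,2,0] (.node [2,3,0,2,1,3,0,1] .nil .nil) .nil)) (.node [0,2,2,0,2,1,0,2,2,1] (.node [2,2,2,0,2,2,0,2,1,0] (.node [2,3,3,0,2,1,3,3,2,2,1] .nil .nil) (.node [0,2,1,0,2,3,1,3,2] .nil .nil)) (.node [1,3,2,0,2,0,2,3,0,2,2] (.node [2,3,2,0,1,3,3,2,2] .nil .nil) .nil)))) (.node [1,3,1,3,0,1,3,3,1,0] (.node [1,3,1,3,1,0,2,0,2,2] (.node [2,2,2,0,1,3,1,3,2,1,0] (.node [2,0,2,3,0,1,3,2] (.node [3,2,2,1,0,2,0,2,3,1] .nil .nil) (.node [3,0,2,1,0,2,0,2,3,1] .nil .nil)) (.node [0,2,0,2,0,2,0,2,2] (.node [0,2,3,0,2,1,3,3,2,2,0] .nil .nil) (.node [2,0,2,3,1,3,2,0,2,3,1] .nil .nil))) (.node [1,3,2,2,2,0,2,2,0,1,0] (.node [1,3,3,0,1,3] (.node [0,2,3,3,2,0,2,1,0,2,3] .nil .nil) (.node [2,0,1,3,2,1,3,1,3,3,2] .nil .nil)) (.node [2,3,1,3,3,2,0,2,0,1] (.node [1,0,2,3,3,0,1,3,0,2,2,2] .nil .nil) .nil))) (.node [2,0,1,3,1,3,2,2,1,0] (.node [0,2,0,1,3,2,2,2] (.node [0,1,3,0,2,1,3,2,1,0]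 (.node [3,0,2,2,0,2,3,1,3,0] .nil .nil) (.node [2,3,2,1,3,1,3,3,0] .nil .nil)) (.node [3,0,1,3,2,2,2,0,2] (.node [2,3,1,3,0,2,0,1,3,3,2,1] .nil .nil) .nil)) (.node [2,3,1,3,2,0,2,2,1] (.node [3,3,2,1,3,3,2,2,0,2,2] (.node [2,3,0,1,3,0,2,1,0,2,0] .nil .nil) (.node [3,2,1,3,3,0,2,2,2,1] .nil .nil)) (.node [1,3,1,3,0,1,3,0,1,3,0] (.node [0,2,0,2,0,1,3,2,0] .nil .nil) .nil)))))) (.node [2,3,3,1,3,3,1,0,2,3] (.node [1,3,0,1,3,1,3,0] (.node [3,3,2,0,1,3] (.node [3,1,3,0,1,3,3,1,0] (.node [2,3,2,1,0,2,3,0,1] (.node [0,2,2,0,2,3,1,0,2,2] (.node [3,0,2,0,2,1,3,0,2,0] .nil .nil) (.node [1,0,2,1] .nil .nil)) (.node [1,3,2,0,1,3,0,2,0] (.node [2,3,0,1,3,3,0,2,1,0,2,0] .nil .nil) (.node [3,1,3,0,1,3,3,2,1,0] .nil .nil))) (.node [1,3,2,2,1,0,2,3,3,1] (.node [3,1,3,1,3,3,0,1] (.node [0,2,1,3,0,1,3,1] .nil .nil) (.node [0,1,3,2,1,3,2,0] .nil .nil)) (.node [3,1,0,2,3,1,3,3,2,2] (.node [3,3,2,1,0,2,0,2] .nil .nil) .nil)))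 (.node [3,2,1,3,0,1,3,2] (.node [1,0,2,3,1,3,1,0,2] (.node [2,0,1,3,3,0,1,3,3,1,0] (.node [3,2,0,2,3,1,3,0,2,2,1] .nil .nil) (.node [1,3,1,3,1,3,3,2] .nil .nil)) (.node [2,0,2,1,3,1,3,3,2] (.node [0,2,3,3,1,3,2,1,0,2,0] .nil .nil) (.node [2,2,2,0,1,3,3,2,0,2,0] .nil .nil))) (.node [3,1,3,1,0,2,3,1,0] (.node [3,1,3,1,0,2,3,3,2,2] (.node [3,3,1,3,2,0] .nil .nil) (.node [1,0,2,3,3,1,3,3,0] .nil .nil)) (.node [1,0,2,1,3,1,3,2,2,0] (.node [3,2,1,3,3,1,3,3,1,0] .nil .nil) .nil)))) (.node [1,3,3,1,3,0,2,2,0,2,2] (.node [2,3,0,1,3,3,1,3,2,1] (.node [0,1,3,3,0,2,1,3,1,0] (.node [1,3,2,2,2,0,1,3,1,0] (.node [2,2,2,0,1,3,3,2,2,0,1,0] .nil .nil) (.node [3,3,0,2,2,0,2,1,0] .nil .nil)) (.node [3,1,3,2,0,2,2,2,0,2,1] (.node [2,1,3,3,0,2,2,1,0] .nil .nil) (.node [3,1,0,2,0,2,3,0,1,3,3,0] .nil .nil))) (.node [1,3,2,1,3,2,0,1,0] (.node [0,2,3,3,2,0,2,2,2,1] (.node [2,0,2,2,0,2,0,2,2,0,1] .nil .nil) (.node [0,2,2,2,1,0,2,1,0,2,0]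 .nil .nil)) (.node [2,1,3,1,3,2,0,2,1,3,1] (.node [2,2,0,2,1,0,2,0,2,1] .nil .nil) .nil))) (.node [2,3,3,1,3,2,1,3] (.node [2,2,1,0,2,2,0,2,0,2,0] (.node [3,3,2,0,1,3,2] (.node [3,3,1,0,2,2,0,2,3,0,1,3] .nil .nil) (.node [3,1,3,3,1,3,1,0,2,2] .nil .nil)) (.node [1,3,2,1,3,0,1,3,0,1] (.node [1,0,2,2,0,2,0] .nil .nil) .nil)) (.node [2,3,0,1,3,3,1,3,1,0] (.node [3,2,0,1,3,3,0,1,3,2,1] (.node [1,3,2,1,3,2,0,1,3,2,1] .nil .nil) (.node [0,2,0,2,2,0,2,1,3,0] .nil .nil)) (.node [1,0,2,3,3,1,3,0,1,3,0] (.node [2,0,2,1,0,2,3,1] .nil .nil) .nil))))) (.node [1,3,2,0,1,3,2,1,3,2,1,0] (.node [0,2,2,1,0,2,2,0,2,0,1] (.node [2,2,0,2,1,3,3,0] (.node [2,1,0,2,0,2,3,3,2] (.node [2,3,2,2,2,0,2,1] (.node [2,2,0,2,0,2,3,3,0] .nil .nil) (.node [3,3,2,0,2,2,1,0] .nil .nil)) (.node [2,3,2,1,0,2,0,2,1,0] (.node [1,3,0,1,3,0,2,1,0,2] .nil .nil) (.node [1,3,2,2,0,2,3,1,0,2,2] .nil .nil))) (.node [0,2,1,3,0,2,1,3,3,0,1,0] (.node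 [1,3,1,0,2,3,1,3,1,3,0] (.node [2,0,2,0,2,0,2,1,3,0,1] .nil .nil) (.node [1,0,2,3,3,0,2,0,2,1,3,2] .nil .nil)) (.node [3,1,0,2,2,2,0,2,0,1] (.node [0,2,0,2,1,3,1] .nil .nil) .nil))) (.node [2,3,3,0,1,3,2,2,1,0,2,0] (.node [2,3,0,2,0,2,2,0,2] (.node [2,3,3,1,0,2,0,2,1,0] (.node [0,2,3,1,0,2,0,1,3,2,0] .nil .nil) (.node [3,0,1,3,3,2,2,1,0] .nil .nil)) (.node [1,0,2,1,0,2,3,0,2,0] (.node [2,3,2,0,2,0,1,3,2,1] .nil .nil) .nil)) (.node [3,1,3,3,1,3,0,1,0] (.node [2,0,2,0,2,2,0,1,0] (.node [2,3,0,2,1,0,2,1,0,2,0] .nil .nil) (.node [2,0,2,2,2,1,0,2,2] .nil .nil)) (.node [2,3,1,3,2,2,0,2,0,2,1,0] (.node [3,3,2,1,3,1,0,2,3] .nil .nil) .nil)))) (.node [3,0,2,2,0,2,3,0,1,3] (.node [0,2,3,3,1,3,2,1,3,2] (.node [2,2,0,1] (.node [3,1,3,3,1,3,2,2,0,1,0] (.node [3,2,1,3,0,2,2,1,0] .nil .nil) (.node [3,0,1,3,1,3,0,2,1] .nil .nil)) (.node [3,2,1,0,2,1,0,2,0,1] (.node [2,0,2,0,2,3,3,1,3,0] .nil .nil) (.node [2,1,0,2,1,0,2,0]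 .nil .nil))) (.node [3,0,2,0,1,3,2,2,0] (.node [0,1,3,2,0] (.node [3,2,1,3,1,3,2,1] .nil .nil) (.node [3,3,2,1,3,3,2,0,2,0] .nil .nil)) (.node [0,1,3,0,1,3,3,1,3] (.node [1,0,2,1,0,2,2,1,0,2,2] .nil .nil) .nil))) (.node [0,2,0,1,3,3,0,2,2,1] (.node [3,3,2,1,3,3,0,1,3] (.node [1,0,2,3,3,2,2,2,0] (.node [3,2,1,3,1,3,0,2] .nil .nil) (.node [3,3,2,1,3,1,0,2] .nil .nil)) (.node [3,1,0,2,1,3,0,2,2,2] (.node [2,3,3,1,3,1,3,0,2,1,0] .nil .nil) .nil)) (.node [2,1,3,2,1,0,2,0,2,2] (.node [3,0,1,3,1,3,2,1,3,2] (.node [2,1,3,3,2,1,3,1,3,1,0] .nil .nil) (.node [2,0,1,3,3,0,2,1,0] .nil .nil)) (.node [3,0,1,3,3,0,2,2,0,1,0] (.node [1,3,2,2,0,1,3,0,2,2] .nil .nil) .nil))))))) (.node [0,2,3,1,3,1,3,3] (.node [0,1,3,1,3,3,1,3,0] (.node [3,3,2,0,2,0,1,3,3,2,2] (.node [3,0,2,0,2,3,1,0,2,1,0] (.node [2,3,1,3,1,3,2,2] (.node [0,1,3,3,2,1,3,0,1] (.node [1,3,1,3,2,0,2,2,2,1,0] (.node [1,3,0,1,3,1,3,3,2,2,2,0] .nil .nil) (.node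 [3,1,3,1,0,2,3,3,2,2,0] .nil .nil)) (.node [1,3,2,2,0,1,0] (.node [3,0,2,1,0,2,3,1] .nil .nil) (.node [2,3,3,1,3,2,0,2,3,1] .nil .nil))) (.node [0,1,3,2,1,3,3,1,3,0] (.node [0,2,0,2,0,1,3,0,2,2,0] (.node [2,3,1,3,0,2,2,2,0,2,0] .nil .nil) (.node [2,1,3,0,1,3,1] .nil .nil)) (.node [2,1,3,0,2,2,0,2,2,1] (.node [3,1,0,2,2,2,0,2,2] .nil .nil) .nil))) (.node [3,3,2,1,0,2,0,2,3,3,0] (.node [3,1,3,1,0,2,1,3,1] (.node [0,1,3,1,3,0,2,2,1,0] (.node [1,0,2,3,0,2,1,3,2] .nil .nil) (.node [2,3,3,2,0,1,3,2,2,1] .nil .nil)) (.node [3,0,2,0,2,1,3,0,1,3,1,0] (.node [0,2,3,1,3,3,0] .nil .nil) (.node [3,1,3,3,2,0,2,1,0,2,0] .nil .nil))) (.node [0,1,3,1,3,3,1,3,2,2] (.node [0,2,1,0,2,2,0,2,2,2,1] (.node [3,2,0,2,3,1,3,3,0] .nil .nil) (.node [2,3,3,2,1,3,3,2,0,2,0] .nil .nil)) (.node [3,3,0,1,0] (.node [3,1,0,2,1,0,2,3,3,0] .nil .nil) .nil)))) (.node [2,1,3,2,2,0,2,0,2,3] (.node [2,3,2,0,1,3,2,0,1,0] (.node [2,1,3,3,2,2,0]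 (.node [1,0,2,1,0,2,1,0,2,2,1] (.node [2,1,0,2,2,0,2,2,1] .nil .nil) (.node [3,3,1,3,0,2,2,0,1,0] .nil .nil)) (.node [0,2,1,0,2,3,3,0] (.node [3,2,1,3,3,2,1,3,3,1] .nil .nil) (.node [0,2,0,2,0,2,0,2,0,1] .nil .nil))) (.node [2,2,0,1,3,0,2,2] (.node [2,3,2,2,0,2,2,0,2,3,1,0] (.node [3,2,0,1,3,3,2,0,2,1,0] .nil .nil) (.node [0,1,3,1,3,3,2,1,3] .nil .nil)) (.node [2,1,3,2,1,3,2,0,1,3,2,1] (.node [3,3,0,2,0,2,1,3,2,1] .nil .nil) .nil))) (.node [3,3,2,2,0,2,0,2,2] (.node [0,2,2,0,2,0,1,3,3,0] (.node [3,0,2,0,2,1] (.node [2,3,1,3,2,0,1,3,0,2] .nil .nil) (.node [0,2,1,0,2,2,0,2,3,1] .nil .nil)) (.node [1,3,2,0,2,1,3,0,1,0] (.node [1,3,2,2,1,0,2,1,3,3] .nil .nil) .nil)) (.node [2,3,3,2,1,0,2,3,0,1,0] (.node [1,0,2,0,2,3,0,2,2,1,0] (.node [2,3,2,2,0,1,3,3,0,1] .nil .nil) (.node [2,2,0,1,3,2,0,2,0] .nil .nil)) (.node [2,1,3,0,1,3,1,3,2] (.node [1,3,2,1,0,2,0,1] .nil .nil) .nil))))) (.node [1,0,2,3,0,1] (.node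 [3,0,2,1,0,2,2,1,0,2,1] (.node [2,1,3,1,3,1,3,2,2] (.node [3,1,3,3,0,2,1,3,0,1] (.node [2,1,3,0,2,2,2,0,2,2,1] (.node [0,2,3,0,2,1,3,3,0] .nil .nil) (.node [3,2,0,1,3,3,1,3,2,1,0] .nil .nil)) (.node [1,0,2,2,0,2,0,2,2,0,1] (.node [1,3,2,0,2,3,1,3,2] .nil .nil) (.node [3,1,3,2,2,2,0,2,0] .nil .nil))) (.node [2,0,1,3,3,0,1] (.node [3,3,0,1,3] (.node [0,2,3,1,3,2,1,3] .nil .nil) (.node [3,0,2,0,2,2,2,1,0,2,2] .nil .nil)) (.node [3,3,1,3,1,3,1,0,2,3,3,1] (.node [2,0,2,2,0,1,0] .nil .nil) .nil))) (.node [2,2,2,0,1,3] (.node [2,3,3,1,3,3,1,3,1] (.node [2,3,3,2,0,2,0,2,2] (.node [1,0,2,3,1,3,2,2,1] .nil .nil) (.node [2,0,1,3,2,0,1,3,3] .nil .nil)) (.node [1,3,1,3,3,1,0] (.node [1,3,2,0,2,1,0,2] .nil .nil) .nil)) (.node [3,2,1,0,2,3,0,1,3,3,0] (.node [1,0,2,1,0,2,3,3,1,3,0] (.node [2,3,2,0,1,3,1,3,0,2] .nil .nil) (.node [0,1,3,2,2,0,2] .nil .nil)) (.node [2,3,2,1,3,1,3,0,2] (.node [1,3,3,2,0,1,3,1,3,2] .nil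 .nil) .nil)))) (.node [2,1,0,2,3,3,1,3,0,2] (.node [2,3,3,1,0,2,3,3,1,0] (.node [3,0,2,1,3,2,2,0,1,0] (.node [2,3,1,3,0,1,3,1,3,3] (.node [0,1,3,0,2,2,0,1,3,0] .nil .nil) (.node [0,2,3,3,2,0,2,1,3,3,0] .nil .nil)) (.node [3,3,1,0,2,3,1,3,3,2,2,0] (.node [3,2,1,0,2,3,1,3,2] .nil .nil) (.node [2,2,0,2,1,3,0,2,2,2,1] .nil .nil))) (.node [0,2,3,0,2,1,3,3,2,2] (.node [2,0,2,3,0,2,2,0,2,1,0] (.node [2,2,2,1,0,2,2,1,0] .nil .nil) (.node [3,2,1,3,1,3,1,0,2,1,3] .nil .nil)) (.node [2,2,0,2,0,2,2,1,0] (.node [3,2,0,2,0,2,0,2,0,1] .nil .nil) .nil))) (.node [0,1,3,0,2,2,2,0,2] (.node [2,0,1,3,3,0,2,0,1,3,3,0] (.node [1,0,2,0,2,1,3,3,1,0] (.node [0,2,0,1,3,2,1,3,1,0] .nil .nil) (.node [0,2,3,3,0,1,3,2,0,1] .nil .nil)) (.node [2,3,1,3,3,2,2,0,2,0,1,0] (.node [3,2,1,3,2,0,2,0,2,0,1] .nil .nil) .nil)) (.node [3,1,0,2,0,2,0] (.node [2,3,1,3,0,2,0,2,3,3,0] (.node [0,2,0,2,0,2,1,0,2,3] .nil .nil) (.node [1,3,0,1,3,2,2,2]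 .nil .nil)) (.node [3,1,0,2,0,2,3,0,1,3,1] (.node [3,2,2,0,2,0,1,3,0,2] .nil .nil) .nil)))))) (.node [2,3,3,0,1,3,1] (.node [1,3,2,0,2,2,1,0,2,2] (.node [2,1,0,2,0,2,2,0,1,0] (.node [3,0,2,1,0,2,1,3,3,1,3,0] (.node [1,3,1,3,3,0,2,0,1] (.node [3,0,2,0,1,3,2,2,0,2] (.node [3,1,3,1,3,1,3,0] .nil .nil) (.node [2,2,2,0,2,0,1,3,2,0,2,1] .nil .nil)) (.node [3,1,3,1,3,0,2,0,2,1] (.node [3,2,0,2,1,3,2,0,2,1] .nil .nil) (.node [3,1,0,2,3,3,0,2,2,1] .nil .nil))) (.node [3,3,1,3,0,2,2,0,2] (.node [1,3,0,1,3,2,2,1] (.node [0,2,2,2,0,1,3,3,0] .nil .nil) (.node [1,0,2,2,0,2,3,3] .nil .nil)) (.node [2,2,0,2,2,1,0] (.node [1,3,2,1,3,0,2,2,0,1,0] .nil .nil) .nil))) (.node [2,3,1,3,1,3,2,1,0] (.node [2,2,1,0,2,0,2,2,0,1] (.node [0,2,0,2,2,1,0,2,2,1] (.node [2,0,1,3,3,2,2,0,1,0] .nil .nil) (.node [0,2,2,0,2,1,0] .nil .nil)) (.node [0,2,0,2,1,3,3,0,2,0,2,1] (.node [1,3,0,2,0,2,1,3,2,0,2,0] .nil .nil) (.node [3,3,1,3,0,1,3,2,0,2,0]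 .nil .nil))) (.node [3,2,0,2,0,2,2,1,0,2,0] (.node [3,3,1,0,2,2,0] (.node [0,2,2,0,2,1,0,2,1,0] .nil .nil) (.node [2,2,1,0,2,2,1,0,2] .nil .nil)) (.node [1,0,2,1,3,3,2,2,1,0] (.node [1,0,2,2,0,2,0,2,3] .nil .nil) .nil)))) (.node [2,2,0,1,3,0,2,0,2,3] (.node [0,2,0,2,3,0,1,0] (.node [2,3,3,0,2,1,0,2,2,2,1] (.node [0,2,2,0,2,0,2,0,2] (.node [2,3,3,2,1,0] .nil .nil) (.node [0,2,2,2,1,0,2,1] .nil .nil)) (.node [2,0,1,3,2,2,1] (.node [2,3,2,0,2,2,0,1,3,2,2,0] .nil .nil) (.node [0,2,1,0,2,3,0,2,2,0] .nil .nil))) (.node [2,0,1,3,2,2,0,2,0,1,0] (.node [3,2,2,1,0,2,2,0,2,3,1] (.node [2,1,3,0,2,0,1,3,3] .nil .nil) (.node [2,3,1,3,3,2,0,2,2,2,1] .nil .nil)) (.node [3,3,1,3,1,3,2,0,1,0] (.node [2,2,0,2,1,0,2] .nil .nil) .nil))) (.node [3,0,2,2,1,0,2,3] (.node [2,0,2,3,3,0,1,3] (.node [0,2,1,3,2,0,1,3,2,0,2,0] (.node [3,0,2,1,3,3,1,3,0,2,2] .nil .nil) (.node [3,1,3,2,0,2,1,3,1,0] .nil .nil)) (.node [0,1,3,3,0,2,0,2,2]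 (.node [0,1,3,2,2,1,0,2] .nil .nil) .nil)) (.node [3,2,0,2,3,1,3,2,1,3,3] (.node [2,0,2,2,0,2,2] (.node [2,1,3,1,3,1,3,1,0,2] .nil .nil) (.node [2,3,2,1,3,2,2,1,0,2,0] .nil .nil)) (.node [3,1,0,2,2,0,2,2,2] (.node [2,3,0,2,0,2,0,2,1,3,1] .nil .nil) .nil))))) (.node [3,2,1,3,2,1,3,2] (.node [2,0,2,3,3,1,0,2,0] (.node [1,0,2,3,3,1,3,1,3,3,0] (.node [2,1,3,0,1,3,2,2,0] (.node [3,1,3,3,2,0,2,1,3,1] (.node [3,1,3,3,0,2,2,1] .nil .nil) (.node [1,3,0,1,3,0,1,3,3,0] .nil .nil)) (.node [0,1,3,2,1,3,0,2,1,0,2] (.node [2,1,0,2,2,2,0,2,2] .nil .nil) (.node [3,1,3,2,0,1,3,2,2,2] .nil .nil))) (.node [3,2,2,0,2,2,2,0,2,0,1] (.node [2,3,0,2,0,2,3,3] (.node [2,0,2,2,0,2,0,2,1,0] .nil .nil) (.node [1,3,2,1,0,2,2,2,1] .nil .nil)) (.node [2,1,3,2,2,0,1,3,2,2,0] (.node [2,1,3,3,1,3,2,2,2] .nil .nil) .nil))) (.node [2,3,0,2,1,3,1,3,2,2,0] (.node [2,0,2,3,1,3,3,2,2,0] (.node [2,1,3,0,2,2,0,2,0,1,0] (.node [2,1,3,0,1,3,2,1]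 .nil .nil) (.node [2,3,1,3,1,3,1,3] .nil .nil)) (.node [2,3,0,1,3,0,1,3,3,2,1,0] (.node [1,3,2,2,0,2,2,1] .nil .nil) .nil)) (.node [3,1,3,2,0,1,3,1,3,3] (.node [1,0,2,3,3,2,0] (.node [3,2,1,3,2,0,2,0,2,1,0] .nil .nil) (.node [1,3,3,2,0,2,2,2,1] .nil .nil)) (.node [0,2,0,2,0,2,3,3,2,2,0] (.node [2,3,0,1,3,0,2,0,1,0] .nil .nil) .nil)))) (.node [0,2,3,0,1,3,2,2,0] (.node [0,2,3,3,0,2,1,3,3,0] (.node [3,0,2,1,3,3,0,2] (.node [1,0,2,3,3,2,2,2,1] (.node [3,3,2,2,1,0,2,2,0,2] .nil .nil) (.node [2,3,3,2,0,1,3,3,2,1] .nil .nil)) (.node [3,3,1,0,2,2,1,0,2,0,1] (.node [2,1,3,1,3,0,2,1,0] .nil .nil) (.node [3,0,2,1,0,2,0,2,0,2,0] .nil .nil))) (.node [1,3,3,2,0,1,3,0,2] (.node [0,1,3,3,0] (.node [1,3,3,2,0,1,3,0,2,0,1] .nil .nil) (.node [0,2,1,3,2,0,1,3,2,0] .nil .nil)) (.node [2,3,1,0,2,2,2,0,2,2] (.node [3,3,0,1,3,1,3,0,2,0] .nil .nil) .nil))) (.node [0,2,2,1,0,2,2,1,0] (.node [3,1,3,3,1,3,2,0,2,1] (.node [2,0,1,3,3,1,3,3,1,0]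 (.node [3,1,3,0,2,0,2,1] .nil .nil) (.node [1,3,2,2,0,2,3,1,0,2,2,0] .nil .nil)) (.node [1,3,0,1,3,3,0,1,3,3,1] (.node [1,0,2,3,0,1,3,3,2,2,1] .nil .nil) .nil)) (.node [3,1,0,2,0,2,3,0,2,2,0] (.node [2,1,3,3,2,2,2,1] (.node [2,2,1,0,2,3,3,0,2,1,0] .nil .nil) (.node [2,2,2,1,0,2,2,2,1] .nil .nil)) (.node [2,0,2,3,1,3,1,3,2,0,1] (.node [3,0,1,3,0,1,3,2] .nil .nil) .nil))))))))

/-- Part of `setWord`. -/
noncomputable def setWord_r_r_l_l_r : Arr (List ℕ) :=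
  (.node [0,2,1,3,3,1,3,0,2,0,1] (.node [2,1,3,3,1,3,2,0,1,3] (.node [2,3,3,2,0,1,3,1,0,2,3] (.node [1,3,1,3,2,1,0,2,3,3,0] (.node [2,0,2,3,1,3,2,1,0] (.node [2,1,3,1,3,2,1,3,3,0,1,0] (.node [2,3,3,1,3,3,2,2,0] (.node [2,3,1] (.node [2,2,0,2,0,1] .nil .nil) (.node [1,3,3,2,0,1,3,2,2,0] .nil .nil)) (.node [1,3,1,3,3,0,2,0,2,1] (.node [3,2,2,0,2,0,2,3,0,2] .nil .nil) (.node [1,3,2,0,1,3,1,3,2,0] .nil .nil))) (.node [2,3,0,1,3,3,1,3,1] (.node [2,1,3,2,0,2,1,0,2,3] (.node [1,3,2,2,0,2,0,2,0,1,0] .nil .nil) (.node [0,1,3,3,0,2,1,3,3,0,1,0] .nil .nil)) (.node [0,1,3,3,2,2,2,0] (.node [2,2,0,2,3,3,0] .nil .nil) .nil))) (.node [2,3,2,0,2,2,0,2,1,0] (.node [2,0,2,3,0,1] (.node [3,2,2,0,2,2,0,2,3,1,0] (.node [1,3,2,1,3,2,0,2,1] .nil .nil) (.node [3,1,3,2,1,3,2,2,2,1] .nil .nil)) (.node [0,1,3,3,1,3,3,0,1] (.node [0,1,3,0,2,1,3,3,0] .nil .nil) (.node [1,3,2,2,2,0,2,1,3] .nil .nil))) (.node [3,0,1,3,1,3,2,0,2,2]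 (.node [2,1,3,2,0,1,3,2,2,2,0] (.node [3,2,0,2,3,0,2,1,3,2] .nil .nil) (.node [3,0,1,3,0,2,2,2] .nil .nil)) (.node [3,3,0,2,0,2,0,1,0] (.node [0,2,0,2,3,1,3,3,2] .nil .nil) .nil)))) (.node [3,3,0,1,3,0,2,1,3,3,1] (.node [2,1,3,1,3,1,3,2,0] (.node [3,2,0,1,3,0,1,3,1,0] (.node [0,2,2,2,0,2,2] (.node [3,2,0,2,2,1,0,2,3,1,3] .nil .nil) (.node [0,2,3,3,0,1,3,2,1] .nil .nil)) (.node [3,2,0,2,1,3,0] (.node [2,0,2,0,2,3,1] .nil .nil) (.node [1,3,1,3,3,1,0,2,0] .nil .nil))) (.node [1,0,2,0,2,0,2,3,0,2] (.node [3,0,1,3,0,2,1,3] (.node [3,2,1,3,0,2,2,1,0,2,0] .nil .nil) (.node [3,3,1,3,2,2,1,0,2,3,1] .nil .nil)) (.node [1,3,2,0,2,3,1,3,3,1] (.node [2,1,0,2,3,1,0,2,2,0,1,0] .nil .nil) .nil))) (.node [2,1,0,2,3,1,3,1,3] (.node [1,3,3,2,0,1] (.node [3,1,3,3,0,2,2] (.node [0,2,1,3,1,3,1,3,0,1] .nil .nil) (.node [2,3,0,1,3,3,2,2,0,2,1] .nil .nil)) (.node [2,2,1,0,2,0,2,2,2,1] (.node [2,0,2,1,3,2,2,0,2,1] .nil .nil)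 .nil)) (.node [2,2,0,1,3,3,0,2,2,0,1,0] (.node [1,3,0,2,2] (.node [2,3,2,2,0,2,1,3,2,1] .nil .nil) (.node [3,2,1,0,2,0,2,2,0,2,1,0] .nil .nil)) (.node [1,0,2,3,0,1,3,1,3,2] (.node [0,2,0,2,1,0,2,3,1] .nil .nil) .nil))))) (.node [2,3,3,1,3,3,0,2,2] (.node [2,0,1,3,0,2,1,3,3,1] (.node [3,0,2,2,1,0,2,2,2,0,1,0] (.node [1,3,0,1,3,1,3,0,1] (.node [3,1,3,0,1,3,2,2,2,1] (.node [3,2,1,3,3,0,2,2,0,2,0] .nil .nil) (.node [2,2,1,0,2,0,1] .nil .nil)) (.node [2,1,0,2,3,3,0,1,3,2,0] (.node [1,3,1,0,2,2,2] .nil .nil) (.node [1,3,0,2,2,2,1,0,2,2] .nil .nil))) (.node [1,3,1,0,2,3,0,1,3,3,2] (.node [0,2,3,1,3,2,2,1,0,2,0] (.node [3,2,2,1] .nil .nil) (.node [2,2,2,0,1,3,2,2,2] .nil .nil)) (.node [0,2,2,0,2,1,3,3,0,2,0] (.node [3,1,0,2,3,0,2,2,2,1] .nil .nil) .nil))) (.node [2,3,2,1,3,2,0,1,3,2,1] (.node [0,2,1,3,3,2,2,0,1,3,2] (.node [1,0,2,1,3,1,3,3,0,2] (.node [2,1,0,2,2,0,2,3,3,1] .nil .nil) (.node [3,3,1,0,2,3,1,3,2,2,0]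 .nil .nil)) (.node [3,3,0,1,3,1,3,2,1,3,2] (.node [0,2,0,2,0,1,3,2,0,2,1] .nil .nil) .nil)) (.node [3,3,1,0,2,2,2,0,2,2] (.node [2,3,2,0,1,3,2,1,3,2,0] (.node [1,3,2,0,2,0,2,1] .nil .nil) (.node [3,0,1,3,2,0,2,1,3,2,1] .nil .nil)) (.node [3,2,1,3,1,3,3,1,3,1] (.node [2,2,2,0,1,3,1,3,2,2] .nil .nil) .nil)))) (.node [3,1,0,2,2,1,0,2,1,0] (.node [2,0,2,0,2,3,3,2,0,2,0] (.node [2,1,3,3,1,3,3,0,1] (.node [3,2,1,3,2,1,3,3,0,1,3,0] (.node [2,2,0,2,1,0,2,3,0,1,0] .nil .nil) (.node [3,0,2,2,0,2,0,1,3] .nil .nil)) (.node [2,3,3,2,0,2,1,3,3,1,0] (.node [2,3,0,1,3,1,3,0,2,0] .nil .nil) (.node [2,0,1,3,3,1,3,2,1,0,2,0] .nil .nil))) (.node [3,2,2,0,1,3,3,1,3,1] (.node [3,1,0,2,3,3,1,0,2,0] (.node [3,0,1,3,2,2,0,1,0] .nil .nil) (.node [3,1,0,2,3,1,3,3,1,3,0] .nil .nil)) (.node [0,1,3,3,2,1,3,1,0] (.node [2,3,1,3,0,2,2,1] .nil .nil) .nil))) (.node [2,0,2,0,2,1,0,2,3,1] (.node [3,1,3,1,3,3,0,1,3,3] (.node [0,2,0,2,1,0,2,1,0]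 (.node [1,0,2,1,0,2,2,1] .nil .nil) (.node [0,2,1,3,1,0,2,3,1,3,2] .nil .nil)) (.node [1,0,2,1,3,1,3,1,0,2,1] (.node [0,2,0,1,3,2,2,1,0,2,1] .nil .nil) .nil)) (.node [2,1,0,2,3,1,3,2] (.node [2,0,1,3,0,2,0,2,2,1,0] (.node [3,3,1,0,2,3,3,0,2,1,0] .nil .nil) (.node [2,1,3,3,0,2,1,3] .nil .nil)) (.node [1,3,1,3,3,1,0,2,1,3,1,0] (.node [3,1,3,1,3] .nil .nil) .nil)))))) (.node [3,2,2,0,2,2,0,2,0,1] (.node [1,0,2,3,0,1,0] (.node [3,1,3,2,2,2,0,2,1,0,2] (.node [2,3,0,2,1,3,3,1,3,0] (.node [2,3,0,1,3,1,3,2] (.node [2,3,0,2,0,2,3,3,2,1] (.node [1,0,2,1,3,1,0,2,3,0,2,1] .nil .nil) (.node [3,3,2,1,3,2,2,2,1] .nil .nil)) (.node [3,2,0,2,2,1,0,2,1,0] (.node [2,1,0,2,0,2,0,2] .nil .nil) (.node [0,2,2,0,2,0,2,1] .nil .nil))) (.node [2,3,1,3,1,0] (.node [0,2,3,3,2,1,0,2,2] (.node [3,3,1,3,1,3,0] .nil .nil) (.node [3,1,3,3,0,1,3,2,0,1] .nil .nil)) (.node [2,1,3,2,0,2,0,2,1,0] (.node [3,2,1,3,0,1,3,0,2,0,1] .nil .nil)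 .nil))) (.node [3,2,0,2,1,3,3,0,2] (.node [0,1,3,2,0,2,2,0,2,1,0] (.node [1,3,0,1,3,1,0,2] (.node [1,3,1,0,2,0,2] .nil .nil) (.node [3,1,3,1,3,0,2,2,1] .nil .nil)) (.node [2,3,2,2,1,0,2,2,0,1] (.node [1,0,2,3,1,3,2,2,1,0] .nil .nil) (.node [2,0,2,1,3,2,0,2,1,0] .nil .nil))) (.node [0,2,1,3,3,0,2,0,2,1,3,2] (.node [0,2,3,1,3,3,1,3,0,2,1] (.node [2,1,3,2,0,1,3,0,2,0] .nil .nil) (.node [3,2,2,0,1,3,2,1,3,1] .nil .nil)) (.node [3,3,0,2,2,0,2,2] (.node [2,3,0,1,3,2,1,0,2,0,1] .nil .nil) .nil)))) (.node [2,0,2,1,3,1,3,2,1,3] (.node [2,1,3,0,2,2,1,0,2,0] (.node [1,3,2,1,3,3,2,2,1] (.node [3,1,3,1,3,0,2] (.node [1,3,0,1,3,1,3,2] .nil .nil) (.node [2,3,3,2,0,1,3,2] .nil .nil)) (.node [1,3,3,0,2,1,3,3,2,2] (.node [2,2,0,1,3,2,0,2,1,3,1] .nil .nil) (.node [2,3,1,0,2,3,1] .nil .nil))) (.node [0,2,1,3,3,2,1,3,3,0] (.node [2,1,3,0,1,3,3,1,3,1,0] (.node [2,0,1,3,0,2,1,3,2] .nil .nil) (.node [1,0,2,3,1,3,2,0,2,3,0,1,0]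 .nil .nil)) (.node [1,3,2,0,2,3,1,0,2,0] (.node [3,1,3,2,2,1,0,2] .nil .nil) .nil))) (.node [2,3,2,2,0,2,0,2,2] (.node [3,2,1,3,3,0,2,2,1] (.node [2,3,2,2,2,1,0] (.node [2,2,0,2,3,3,2,2,0] .nil .nil) (.node [1,3,1,3,2,0,2,2,0,1,0] .nil .nil)) (.node [2,0,2,3,0,2,1,3,1,3,0] (.node [3,2,0,2,3,1,3,2,2,1] .nil .nil) .nil)) (.node [1,0,2,1,0,2,0,2,3,1] (.node [2,1,3,2,0,1,3,2,1] (.node [3,2,2,0,1,3,3,2,1,3,2] .nil .nil) (.node [2,3,3,2,2,2,1,0,2,0] .nil .nil)) (.node [3,1,3,1,0,2,0,2,0,2,0] (.node [3,2,2,0,2,1,0,2,0,1] .nil .nil) .nil))))) (.node [2,3,2,0,1,3,3,1,3,3] (.node [0,2,2,0,2,3,3,0,2,0] (.node [2,1,0,2,1,0,2,3,3,0,2] (.node [3,1,0,2,2,1,0,2,3] (.node [0,1,3,3,1,3,1] (.node [3,2,2,2,0,1,3,2,1] .nil .nil) (.node [2,1,0,2,0,2,0,2,2,0,2] .nil .nil)) (.node [2,3,3,2,1,3,1,3] (.node [1,3,2,0,1,3,1] .nil .nil) (.node [1,3,1,3,3,0,2,2,2,1] .nil .nil))) (.node [0,2,0,2,0,2,2,2,1] (.node [2,1,3,1,3,0,1,3,3,0]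 (.node [2,1,0,2,0,2,3,3,2,0] .nil .nil) (.node [1,3,2,2,2,1,0,2,0] .nil .nil)) (.node [3,1,0,2,3,1,3,0,2] (.node [2,1,3,3,1,0,2,1,3,3] .nil .nil) .nil))) (.node [2,0,2,3,0,1,3,2,1] (.node [0,1,3,2,1,3,3,0,2,0,1] (.node [2,3,3,2,1,3,0,1] (.node [1,3,2,2,2,1,0] .nil .nil) (.node [3,0,2,1,3,3,2,0,2,2] .nil .nil)) (.node [3,3,1,3,3,0,1,3,1,0] (.node [0,2,1,0,2,2,0,2,2,2] .nil .nil) .nil)) (.node [0,2,3,3,1,3,1,3,3,1] (.node [3,3,1,3,1,0,2,3,3,2,1] (.node [3,1,3,1,3,0,2,2,0] .nil .nil) (.node [2,3,3,1,0,2,3,1,0,2,2] .nil .nil)) (.node [2,0,2,3,1,0,2,0,1] (.node [3,3,1,3,0,2,2,1] .nil .nil) .nil)))) (.node [2,3,2,1,3,2,1,3,2,0] (.node [2,3,3,0,1,3,0] (.node [0,2,3,0,2,0,2,1,0] (.node [0,1,3,3,2,2,2,1] (.node [1,3,3,0,2,2,0,2,2,1,0] .nil .nil) (.node [0,1,3,3,0,2,2,1] .nil .nil)) (.node [3,2,0,1,3,3,0] (.node [1,3,2,1,3,3,2,2,0] .nil .nil) (.node [2,3,0,2,1,0,2,0] .nil .nil))) (.node [2,0,1,3,2,1,3,0,2,2,2,1,0]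 (.node [2,0,2,2,1,0,2,3,3] (.node [0,2,1,3,1,3,2,0,2,3,1,0] .nil .nil) (.node [2,1,3,2,0,2,2,0,2,1] .nil .nil)) (.node [0,2,3,3,2,0,1,3,1] (.node [0,2,2,1,0,2,3,1,3] .nil .nil) .nil))) (.node [0,2,3,0,1,0] (.node [2,3,3,1,3,1,3,2,1] (.node [1,0,2,3,3,1,3,2] (.node [3,0,2,0,1,3,2,1,0,2,2] .nil .nil) (.node [2,2,2,1,0,2,2,2] .nil .nil)) (.node [3,1,3,0,2,0,2,3,3] (.node [0,2,3,3,0,1,3,3,2,1,0] .nil .nil) .nil)) (.node [2,3,3,1,3,2,2,2,1,0] (.node [3,3,2,1,3,2,2,2,1,0] (.node [3,1,0,2,0,2,3,1] .nil .nil) (.node [2,1,3,0,2,1,0,2,0] .nil .nil)) (.node [1,0,2,3,3,0,1,3,3,0] (.node [1,3,0,2,1,3,1,3,0] .nil .nil) .nil))))))) (.node [1,3,2,2,2,0,2,2,1,0] (.node [0,2,3,0,2,2,0,2,1,3,0] (.node [2,0,1,3,2,0,1,0] (.node [1,3,1,0,2,3,1,0,2,3] (.node [3,2,2,0,1,3,1,3,1,0] (.node [1,3,2,2,0,2,1,3,0,2,0] (.node [2,3,0,2,1,3,3,1,3,0,2,2] (.node [0,1,3,1] .nil .nil) (.node [2,2,0,2,2,1,0,2,3,1] .nil .nil)) (.node [3,1,3,2,1,3,1,3,2,1]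 (.node [2,3,1,3,2,1,0,2,0,1] .nil .nil) (.node [3,3,2,0,2,2,2,1] .nil .nil))) (.node [3,2,1,3,3,1,0,2,1,3,3] (.node [1,3,2,2,0,1,3,1] (.node [2,1,3,1,3,2,2] .nil .nil) (.node [1,3,0,2,0,1,0] .nil .nil)) (.node [3,2,1,0,2,0,2,3] (.node [2,1,3,1,3,3,0,2,1] .nil .nil) .nil))) (.node [3,2,0,2,2,2,0,2,1,3,2] (.node [2,1,3,0,1,3,0,2,0,1] (.node [3,3,0,2,0,1,3,3,2,1] (.node [2,0,2,1,3,3,2,2,1] .nil .nil) (.node [3,0,2,1,3,3,2,2,2,1,0] .nil .nil)) (.node [3,3,2,2,0,1,3,2,2,2,0] (.node [3,0,2,0,2,2,2,1] .nil .nil) (.node [0,2,1,3,0,2,2,2,0,1,3] .nil .nil))) (.node [1,3,3,1,3,2] (.node [1,3,2,2,0,1,3,3,0,2] (.node [1,3,1,3,3,2,2,0,2,0,1,0] .nil .nil) (.node [1,3,2,2,2,0,2,2,2,1] .nil .nil)) (.node [2,1,3,3,1,3,1,3,2,2,2] (.node [0,1,3,3,2,2,1,0,2,0] .nil .nil) .nil)))) (.node [2,0,2,2,1,0,2,3,1] (.node [3,2,2,0,2,3,3,2,1] (.node [2,0,2,1,3,1,3,3,1] (.node [1,3,1,3,3,1,3,0,1,0] (.node [2,0,1,3,1,3,1,3,2] .nil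 .nil) (.node [2,3,3,2,0,2,1,0,2] .nil .nil)) (.node [1,3,3,2,1,3,0,2,2,0] (.node [3,0,1,3,0,2,0,2,3,1] .nil .nil) (.node [1,0,2,3,3,0,2,2,1] .nil .nil))) (.node [2,3,2,1,3,2,1,0] (.node [2,3,3,2,1,3,2,2,2,1] (.node [1,3,2,2,0,2,0,2,1,0,2] .nil .nil) (.node [0,1,3,1,3,2,1,3,0,2,2] .nil .nil)) (.node [0,2,3,1,0,2,0,2,1] (.node [3,1,3,1,3,0,2,1,0] .nil .nil) .nil))) (.node [2,3,3,2,0,1,3,0,2,0] (.node [2,1,0,2,0,1,3] (.node [2,3,3,0,1,0] (.node [1,3,2,1,0,2,3,0,2,2] .nil .nil) (.node [3,1,3,3,0,2,0,1,0] .nil .nil)) (.node [0,2,0,2,0,2,2,0,2] (.node [0,2,3,1,3,3,1,3,1,0] .nil .nil) .nil)) (.node [3,3,2,0,2,0,2,1] (.node [1,0,2,3,1,0] (.node [3,3,2] .nil .nil) (.node [0,2,3,1,3,0,1,3,2,0,2,0] .nil .nil)) (.node [3,1,0,2,0,2,3,0,1,3,2] (.node [2,0,1,3,2,1,0,2,2,2,1] .nil .nil) .nil))))) (.node [3,1,3,1,3,1,3,3,2] (.node [3,1,0,2,3,3,0,1,3,1] (.node [2,3,1,3,0,1,3,0] (.node [0,2,1,3,1,3,1,3] (.node [2,1,3,3,1,3,1,3,2,1]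 (.node [1,0,2,3,3,2,1,3,1,0] .nil .nil) (.node [3,2,2,2,0,2] .nil .nil)) (.node [0,2,1,3,0,2,2,1,0,2,0] (.node [2,3,2,2,2,0,2,0,1,0] .nil .nil) (.node [1,3,3,2,0,1,3,3,2,1,0] .nil .nil))) (.node [1,3,2,2,0,1,3,2,0,2,1,0] (.node [2,3,3,0,1,3,2,1,3,1,3] (.node [2,0,2,2,1,0,2,2] .nil .nil) (.node [3,3,2,0,2,1,3,2,2,1,0] .nil .nil)) (.node [3,1,3,2,0,2,1] (.node [2,3,3,1,0,2,0,2,3,3] .nil .nil) .nil))) (.node [3,0,2,0,2,3,1,0,2,3,1] (.node [2,3,3,1,3,0,2,2,0,1,0] (.node [3,3,0,2,2,0,1,3,0,2] (.node [3,1,3,0,2,1,0,2,0,2,0] .nil .nil) (.node [2,1,3,3,0,1,3,1,0] .nil .nil)) (.node [1,3,2,0,2,0,2,3] (.node [1,3,0,2,1,3,3,2,2,1,0] .nil .nil) .nil)) (.node [1,3,0,2,1,3,2,2,1] (.node [2,3,1,3,2,1,3,3,1] (.node [2,1,3,2,1,3,2,0,2,1,0] .nil .nil) (.node [2,0,1,3,1,3,3,2,1,3] .nil .nil)) (.node [2,3,3,2,0,1,3,1,3,1,0] (.node [3,2,2,2,0,1,3,2] .nil .nil) .nil)))) (.node [1,0,2,0,2,3,3,2,2,2,1] (.node [1,3,3,0,1,3,2,2,2,0]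 (.node [2,1,0,2,0,2,3,1,3,2,2] (.node [3,0,1,3,2,0,2,1,0] (.node [2,2,2,1,0,2,2,1] .nil .nil) (.node [1,3,3,0,1,3,2,2,0,1,3] .nil .nil)) (.node [1,3,3,1,3,3,2,1,3,2,0] (.node [3,0,1,3,3,1,3,2,0,2,0] .nil .nil) (.node [2,1,3,0,1,3,2,0,2,0] .nil .nil))) (.node [3,2,0,1,3,0,2,0,1] (.node [1,3,2,1,3,3,1,3,0,1] (.node [2,2,0,1,3,2,0,2,2,0,2] .nil .nil) (.node [2,1,3,1,3,2,2,1,0,2,0] .nil .nil)) (.node [0,2,1,3,3,1,3,0,2,2] (.node [0,2,0,2,3,3,2,0,2,0] .nil .nil) .nil))) (.node [1,0,2,0,2,3,0,2] (.node [3,1,3,3,2,1,3,2,2,0] (.node [2,1,0,2,0,2,3,0,2,2] (.node [3,1,0,2,2,1,0,2,0,1] .nil .nil) (.node [2,0,2,0,2,3,1,3,1,3,0] .nil .nil)) (.node [3,2,1,0,2,1,3,3,0,2] (.node [0,2,0,1,3,2,2,0,2,0] .nil .nil) .nil)) (.node [3,3,2,1,3,3,0,1,3,1] (.node [2,2,0,2,3,0,2,0,1] (.node [3,2,2,0,2,3,3,2,1,0] .nil .nil) (.node [1,3,3,1,3,1,3,0,2,0] .nil .nil)) (.node [0,1,3,0,1,3,3,0,1,3] (.node [3,2,1,0,2,0,1] .nil .nil)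 .nil)))))) (.node [2,2,1,0,2,3,0,2,2,1] (.node [0,2,2,2,0,1,3,3,2,2] (.node [0,2,2,0,2,0,2,0] (.node [0,2,2,0,1,3,3] (.node [1,3,1,0,2,3,1,3,3,2,2] (.node [1,3,2,0,2,1,3,0,2] (.node [3,0,1,3,0,2,2,0,2,3,1,0] .nil .nil) (.node [2,3,3,2,1,3,2,0] .nil .nil)) (.node [2,1,3,2,2,0,1,3,1,0] (.node [1,3,3,1,0,2,3] .nil .nil) (.node [1,3,1,0,2,0] .nil .nil))) (.node [0,2,2,0,2,3,0,2,1,3] (.node [2,3,2,1,0,2,0,2,2] (.node [3,3,2,2,0,1,3,1] .nil .nil) (.node [3,1,0,2,3,0,2,1,3,1,3] .nil .nil)) (.node [0,2,2,1,0,2,0,2,1,0] (.node [2,3,1,3,2,1,3,3,1,0] .nil .nil) .nil))) (.node [0,2,0,1,3,2,1,3,3,1] (.node [3,0,1,3,1,3,2,2,0] (.node [0,2,0,2,0,2,3,3,0,2,2] (.node [0,2,0,2,2,1,0,2,0,1,0] .nil .nil) (.node [2,1,3,3,0,1,3,0,1,0] .nil .nil)) (.node [2,1,3,2,2,0,2,2,1,0] (.node [1,0,2,1,3,0,1,3,2,0,1] .nil .nil) (.node [1,3,1,3,2,0,1,3,3,2,1,0] .nil .nil))) (.node [2,0,1,3,2,0,2,1,3,3] (.node [2,2,0,2,1,3,2,1,3,1] (.node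 [2,3,1,3,1,3,2] .nil .nil) (.node [2,1,3,0,2,2,0,2,1] .nil .nil)) (.node [2,2,2,0,2,2,0,2,3,1] (.node [2,0,2,3,0,2,0,1] .nil .nil) .nil)))) (.node [2,1,3,2,2,1,0,2,2,1] (.node [1,3,2,0,1,3,1,3,0,2,1] (.node [3,1,0,2,3,0,1,3] (.node [2,1,3,1,3,1,3,1,3,0] (.node [1,0,2,1,0,2,0,1,3,2] .nil .nil) (.node [1,3,1,3,3,0,1,3,1,0] .nil .nil)) (.node [0,1,3,0,1,3,1,0] (.node [0,2,1,3,3,0,2,1,3] .nil .nil) (.node [1,3,2,0,2,2,0,2,1] .nil .nil))) (.node [3,0,2,2,2,0,2,2,1] (.node [3,1,3,0,1,3,3,2,0] (.node [2,0,1,3,3,0,1,3,2,1] .nil .nil) (.node [2,2,0,1,3,0,2,1,3,1] .nil .nil)) (.node [3,2,0,2,3,3,2,0] (.node [1,3,1,3,0,1,3,2,1,3] .nil .nil) .nil))) (.node [2,0,2,1,3,1,3] (.node [2,3,1,3,2,0,2,3,0,1,0] (.node [3,3,0,1,3,0,2,0] (.node [3,1,3,3,1,3,3] .nil .nil) (.node [3,0,2,1,0,2,1,0,2,0,1] .nil .nil)) (.node [2,3,0,2,2,0,1,3,2,1] (.node [1,3,3,0,1,3,2,2,1,0,2,0] .nil .nil) .nil)) (.node [0,1,3,0,1,3,0,1,3,0,1]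 (.node [0,2,2,0,2,2,2] (.node [3,1,3,2,2,0,2] .nil .nil) (.node [2,3,0,1,3,1,3,2,0] .nil .nil)) (.node [2,3,0,1,3,0,1,3,2,2,0] (.node [1,3,3,0,1,3,3,1,3,0,1] .nil .nil) .nil))))) (.node [3,3,2,1,3,0,1,3,3,0] (.node [3,0,2,1,3,0,1] (.node [0,2,1,3,0,2,1,0,2] (.node [2,2,2,0,2,1,3,0,2] (.node [2,0,1,3,0,1,3,3,1,3,1] (.node [3,3,2,0,1,3,3,1,3,3,0] .nil .nil) (.node [3,0,1,3,3,1,3] .nil .nil)) (.node [2,3,0,2,1,3,1,0] (.node [0,1,3,2,0,2,1,0,2,0] .nil .nil) (.node [2,1,3,2,1,3,0,2,0] .nil .nil))) (.node [0,2,3,3,2,1,3,0,2,0,1] (.node [3,2,0,2,1,0,2,2,1,0] (.node [2,1,0,2,0,2,3,0,1,0] .nil .nil) (.node [2,3,2,0,1,3,3,2,1,0] .nil .nil)) (.node [2,3,0,2,0,2,3] (.node [2,3,2,2,1,0,2,3,3,0] .nil .nil) .nil))) (.node [3,0,1,3,1,3,2,1,3,3] (.node [3,3,0,1,3,3,0,2,2,0] (.node [3,1,3,3,1,0,2,3,3,0] (.node [2,3,0,1,3,2,2,0,1,3] .nil .nil) (.node [2,3,1,3,0,2,0,2,3] .nil .nil)) (.node [3,1,3,3,2,0,1,3,0] (.node [2,1,3,3,2,1,0,2,2]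 .nil .nil) .nil)) (.node [1,3,0,1,3,0,1,3,3,1] (.node [0,2,1,0,2,3,3,1,0] (.node [0,2,3,1,3,0,1,3,3,0,1] .nil .nil) (.node [0,2,3,1,3,2,1,3,2] .nil .nil)) (.node [2,3,2,0,2,0,2,0,1] (.node [0,1,3,0,2,2,0,2,0,1,0] .nil .nil) .nil)))) (.node [1,3,1,3,1,3,0] (.node [3,2,0,1,3,0,2,2,0,1,0] (.node [2,2,0,2,1,0,2,0,1] (.node [0,2,3,3,1,3,1,3,2] (.node [3,0,1,3,1,3,1,3,3,2] .nil .nil) (.node [0,2,1,0,2,2,1,0,2,1] .nil .nil)) (.node [2,3,3,0,1,3,3,0,2] (.node [2,2,1,0,2,3,1,3,1,3] .nil .nil) (.node [2,1,3,1,3,0,1,3,2,0,2,0] .nil .nil))) (.node [0,2,3,3,2,2,2,1] (.node [3,2,0,1,3,3,2,2,2,1] (.node [1,0,2,3,3,2,2,0,1,0] .nil .nil) (.node [3,1,3,0,2,2,0,2,0,2,1] .nil .nil)) (.node [2,1,0,2,1,3,3,0,2] (.node [3,1,0,2,2,2] .nil .nil) .nil))) (.node [3,2,1,3,3,2,2,0,1,3] (.node [2,3,0,2,0,2,3,0,1,0] (.node [1,3,0,1,3,2,1] (.node [2,3,2,1,3,2,2,0] .nil .nil) (.node [3,1,3,1,3,1,3,3,1] .nil .nil)) (.node [2,1,3,0,2,2,0,1,3,2,1]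 (.node [3,1,3,3,1,3,3,0,2,2,1] .nil .nil) .nil)) (.node [3,3,0,1,3,0] (.node [3,1,3,1,3,1,3,2,0,1] (.node [3,2,1,3] .nil .nil) (.node [3,1,3,1,3,0,1,3,3,2,1,0] .nil .nil)) (.node [0,2,2,0,2,0,1,3,2,2,0] (.node [3,0,2,1,3,0,1,3,3,1,3] .nil .nil) .nil))))))))

/-- Part of `setWord`. -/
noncomputable def setWord_r_r_l_l : Arr (List ℕ) :=
  .node [3,2,0,1,3,0,2,0] setWord_r_r_l_l_l setWord_r_r_l_l_r

/-- Part of `setWord`. -/
noncomputable def setWord_r_r_l_r_l : Arr (List ℕ) :=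
  (.node [2,3,2,0,1,3,2] (.node [0,2,2,1,0,2,2] (.node [3,0,2,2,2,0,1,3,2,1] (.node [1,3,2,0,2,3,1,3,0,2] (.node [2,1,3,3,2,1,3,2,0,1] (.node [3,1,3,3,1,3,3,0,2,0,1] (.node [2,0,2,3,3,0,2,0,2,0] (.node [0,2,1,0,2,3,1,3,3,1,0] (.node [0,2,0,2,0,2,0,2,3,3] .nil .nil) (.node [3,2,0,2,3,3,0,2,1,0] .nil .nil)) (.node [1,3,2,0,2,2,2,0,2,1] (.node [1,3,0,2,1,3,2,2,0,2,1] .nil .nil) (.node [3,0,2,1,3,2,1,3,2,0] .nil .nil))) (.node [2,2,0,1,3,1,3,0,2] (.node [3,2,0,2,3,3,1,3,1] (.node [3,0,2,1,3,2,1,3] .nil .nil) (.node [2,3,1,3,3,2,0,2,2,1,0] .nil .nil)) (.node [3,1,3,0,1,3,3,1,3] (.node [2,1,0,2,2,0,2,2,2,1] .nil .nil) .nil))) (.node [2,1,3,0,1,3,3,1,3,2] (.node [1,0,2,1,0,2,3,1] (.node [3,3,2,2,0,2,2,1] (.node [3,1,3,1,3,0,2,0,1,0] .nil .nil) (.node [2,0,2,1,3,3,1] .nil .nil)) (.node [3,2,2,2,0,2,1,0] (.node [0,2,2,0,2,1,3,0,2,2,2,1] .nil .nil) (.node [0,1,3,0,1,3,2,1,0,2,0] .nil .nil))) (.node [2,0,2,2,1,0,2,2,1,0,2,1,0]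 (.node [2,1,3,2,2,1] (.node [2,1,3,0,1,3,2,2,1] .nil .nil) (.node [1,3,2,1,3,3,0,2,2,2,1] .nil .nil)) (.node [3,3,2,1,3,2,1,3,0,1] (.node [3,1,3,2,0,1,3,2,2,2,1] .nil .nil) .nil)))) (.node [0,2,0,2,2,0,1,3,2,0] (.node [1,3,3,0,2,1,3,3,1] (.node [1,0,2,3,0,2,0,2,2,0,1] (.node [0,2,0,2,3,1,3,3,0] (.node [1,3,3,0,1,3,0,2,1] .nil .nil) (.node [2,1,0,2,3,1,0,2,2,2] .nil .nil)) (.node [2,2,0,2,3,3,1,3,0] (.node [3,1,3,3,2,2] .nil .nil) (.node [1,0,2,3,3,1,3,2,1] .nil .nil))) (.node [0,2,0,2,1,3,2,2,0,2,0] (.node [2,1,0,2,3,1,3,3,2,2,0] (.node [3,1,3,1,3,1,3,2,1] .nil .nil) (.node [2,0,2,2,1,0,2,2,0,1] .nil .nil)) (.node [1,3,3,1,3,0,1,3,2] (.node [0,2,1,3,3,1,0,2,0] .nil .nil) .nil))) (.node [2,3,3,1,3,2,0,2,1,3,2] (.node [1,3,1,3,0,1,3,2,0] (.node [2,2,0,1,3,0,1,3,2,1] (.node [2,1,3,0,1,3,3,1,3,0,1] .nil .nil) (.node [2,2,0] .nil .nil)) (.node [1,0,2,3,0,2,2,1] (.node [2,3,3,0,2,0,1,3,2,1] .nil .nil) .nil))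 (.node [3,0,1,3,1,3,3,1] (.node [3,2,0,2,1,0,2,2,1,0,2] (.node [0,1,3,2,2,1,0,2,3] .nil .nil) (.node [3,1,0,2,2,1,0,2] .nil .nil)) (.node [0,2,0,2,3,1,3,0,1] (.node [2,1,0,2,0,2,1,3,3,1,0] .nil .nil) .nil))))) (.node [0,2,3,0,1,3,0] (.node [1,3,1,3,1,0,2,3,0,1,0] (.node [0,1,3,2,0,2,1,3,2] (.node [2,1,3,0,2,1,3,3,0,2] (.node [3,0,2,0,2,2,2,1,0,2,0] (.node [2,1,3,1,3,2,2,0,2,1,0] .nil .nil) (.node [2,3,2,0,2,0,1,3,3,0] .nil .nil)) (.node [3,3,1,0,2,2,0,1,0] (.node [3,1,3,2,1,3,1,3,3,2] .nil .nil) (.node [3,1,3,1,0,2,3,1] .nil .nil))) (.node [0,1,3,3,1,3,0,1,3,3,2] (.node [2,3,2,1,0,2,3,1,3,3,2,2] (.node [2,2,0,1,3,1,3,3,2] .nil .nil) (.node [1,0,2,1,0,2,0,1,3] .nil .nil)) (.node [2,0,2,1,3,0,1,0] (.node [3,2,1,3,3,1,3,3,0] .nil .nil) .nil))) (.node [3,2,1,3,3,0,2,2,0] (.node [1,3,0,1,3,0,2,1] (.node [3,2,1,3,3,0,1,3] (.node [2,0,1,3,1,3,0,2,1,3,3] .nil .nil) (.node [1,3,0,2,0,1,3,0,2,0] .nil .nil)) (.node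 [2,1,3,3,1,3,2,2] (.node [2,1,3,3,1,3,0,2] .nil .nil) .nil)) (.node [3,3,0,1,3,3,2,2,2,0] (.node [0,2,3,0,2,1,3,2,2,0] (.node [0,2,1,3,2,2,0,1,3,0,2] .nil .nil) (.node [0,2,0,2,2,1,0,2,3,3] .nil .nil)) (.node [0,1,3,3,2,2,0] (.node [2,3,2,0,2,2,0,1,3,2,0] .nil .nil) .nil)))) (.node [3,2,2,0,2,2,0,1,3] (.node [0,2,1,3,0,2,2,2,1,0] (.node [0,2,0,1,3,2,1,3,3] (.node [2,3,1,3,2,1,0,2,2,1] (.node [2,0,2,3,0,2,2,1,0,2] .nil .nil) (.node [0,2,3,3,1,3,1,3,0,2] .nil .nil)) (.node [2,0,2,2,2,1,0,2,1,0] (.node [2,3,2,0,1,3,2,0] .nil .nil) (.node [0,2,1,0,2,1,3,0,2,1,3] .nil .nil))) (.node [0,2,1,0,2,0,2,0,1,3,3] (.node [2,0,2,0,2,1,3,0,1,0] (.node [3,1,3,1,3,3,1,0,2,2] .nil .nil) (.node [0,2,2,2,1] .nil .nil)) (.node [1,3,2,0,2,1,0,2,3,0,2] (.node [1,3,3,0,2,2] .nil .nil) .nil))) (.node [3,2,0,1,3,2,1,3,2,1] (.node [1,3,2,0,2,0,2,3,0,2,0] (.node [3,2,0,2,0,2,2,0,1,3] (.node [2,0,2,2,0,2,3,3,2,2,1] .nil .nil) (.node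 [1,3,3,2,1,3,3,2,2] .nil .nil)) (.node [1,0,2,3,3,1,3,0,1] (.node [1,0,2,3,1,0,2,1,3] .nil .nil) .nil)) (.node [2,1,3,1,3,3,0,1,3,0] (.node [3,1,0,2,3,3,2,2,0,1,0] (.node [0,1,3,3,2,1,3,0,2,0] .nil .nil) (.node [2,0,1,3,1,3,2,2,2,1] .nil .nil)) (.node [3,2,2,2,0] (.node [0,1,3,2,1,0,2,0,1] .nil .nil) .nil)))))) (.node [2,0,1,3,0,2,1] (.node [3,2,1,3,1,3,1,3,3,1] (.node [3,2,0,1,3,3,0,2,0,1] (.node [1,3,1,3,2,1,3,3,0,1,0] (.node [1,3,3,1,3,1,3,3,0,2] (.node [0,1,3,1,3,1,0,2] (.node [1,3,0,1,3,3,1,3] .nil .nil) (.node [3,3,2,0,2,1,0] .nil .nil)) (.node [3,0,2,1,3,0,1,3,1] (.node [1,3,3,0,1,3,3,2] .nil .nil) (.node [3,1,3,1,3,1,0,2,3,1] .nil .nil))) (.node [2,3,3,2,1,0,2,2,1] (.node [3,1,3,1,3,2,1] (.node [3,3,1,3,2,1,3,3,2,2,0] .nil .nil) (.node [1,3,3,0] .nil .nil)) (.node [0,2,0,1,3,2,0,2,2,0,1] (.node [3,0,2,2,2,0,2,0,1,0] .nil .nil) .nil))) (.node [2,3,0,1,3,2,0,2,0,1] (.node [2,1,3,1,3,3,1,3,0,2,1]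 (.node [2,1,3,2,0,1,3,3,2,2,1] (.node [1,3,0,2,1,3,3,2,2,2,1,0] .nil .nil) (.node [1,3,2,0,2,3,3,0] .nil .nil)) (.node [0,2,0,2,3,0,1,3,2,2] (.node [1,3,2,0,2,2,0,2,1,0] .nil .nil) (.node [1,3,0,2,0,2,1,3,2,2,1,0] .nil .nil))) (.node [3,1,0,2,1,3,1,3,3,2] (.node [0,1,3,0,2,0,2,0,1] (.node [2,0,1,3,0,2,0,2,1] .nil .nil) (.node [0,2,0,2,0,1,3,3] .nil .nil)) (.node [2,2,0,1,3,3,2,0,2,1] (.node [3,0,2,0,2,1,3,3,0] .nil .nil) .nil)))) (.node [2,0,1,3,0,1,3,3,1,3,2] (.node [3,0,1,3,3,1,3,3,1] (.node [3,2,0,2,0,1,3,2,0] (.node [0,1,3,2,1,3,3] (.node [1,3,2,1,0,2,1,3,0,1] .nil .nil) (.node [2,2,0,1,3,2,2,1] .nil .nil)) (.node [3,2,0,1,3,3,0,1,3,3,0] (.node [3,0,2,0,2,2,0,2,1] .nil .nil) (.node [2,2,0,2,1,3,2,2,1,0] .nil .nil))) (.node [2,0,2,2,0,1,3,0] (.node [3,2,0,2,1,0] (.node [2,0,2,0,2,1,0,2,3] .nil .nil) (.node [3,0,1,3,2,2,0,2] .nil .nil)) (.node [2,3,3,1,3,3,0,1] (.node [2,2,1,0,2,2,1,0,2,3] .nil .nil)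 .nil))) (.node [1,3,3,2,0,2,0,2,0,1] (.node [1,3,3,1,3,2,2,0] (.node [2,1,0,2,1,3,3,0,2,1] (.node [0,2,3,3,0,2,1,3,2,0] .nil .nil) (.node [3,3,0,1,3,0,2,1] .nil .nil)) (.node [2,2,2,0,2,0,1,3] (.node [3,0,1,3,2,1,0,2] .nil .nil) .nil)) (.node [3,3,0,2,1,3,3,0] (.node [2,3,3,2,0,1,0] (.node [2,2,0,2,2,1,0,2,1] .nil .nil) (.node [3,0,1,3,2,2,2,0,2,0,1,0] .nil .nil)) (.node [1,3,0,1,3,0,1,3,2,0,1] (.node [1,0,2,0,2,1,3,1,3,2] .nil .nil) .nil))))) (.node [3,0,1,3,3,1,3,0,2,2] (.node [2,1,0,2,3] (.node [3,2,0,2,1,0,2,3,0,2,1] (.node [2,1,3,1,3,2,0,1,3,1,0] (.node [1,0,2,0,2,1,3,1,0,2,0] (.node [3,2,1,0,2,2,1,0,2,1] .nil .nil) (.node [3,3,1,3,0,2,0,2,3] .nil .nil)) (.node [2,2,2,0,2,1,3,1,0,2,1] (.node [2,3,3,1,0,2,2,0,1] .nil .nil) (.node [0,2,3,1,3,0,2,0,1] .nil .nil))) (.node [3,0,1,3,3,1,3,3,2,2] (.node [3,3,2,0,1,3,1] (.node [3,1,0,2,2,0] .nil .nil) (.node [2,1,3,1,3,3,1,0,2,0] .nil .nil)) (.node [2,0,1,3,1,3,3,0,1,0]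 (.node [3,2,1,3,1,3,2,0,2,2,1] .nil .nil) .nil))) (.node [3,0,1,3,2,1,0,2,0,1] (.node [0,1,3,0,1,3,0,2,2,0] (.node [0,1,3,3,2,2,1,0] (.node [1,0,2,3,0,1,3,3,1] .nil .nil) (.node [3,2,1,3,2,0,2,1] .nil .nil)) (.node [3,1,3,2,1,3,1,3,2,2,2] (.node [2,1,3,2,2,0,1,3,3,0,2] .nil .nil) .nil)) (.node [3,0,2,1,3,3,0,2,0] (.node [0,2,0,1,3,3,2,1] (.node [3,2,2,0,2,2,1] .nil .nil) (.node [1,3,0,2,0,1,3,1,3,2,2] .nil .nil)) (.node [2,0,2,2,0,2,0,2,0] (.node [2,1,3,0,2,0,2,1,3,2] .nil .nil) .nil)))) (.node [1,3,2,1,3,2,0,2,0,2,2,1] (.node [3,2,0,2,3,0,2,2,0,2,2] (.node [3,1,0,2,2,1,0,2,0,1,0] (.node [3,1,0,2,3,0,2,0,1,0] (.node [3,3,2,1,3,2,1,3,3,1] .nil .nil) (.node [1,0,2,3,3,0,1,3,1] .nil .nil)) (.node [3,2,0,1,3,1,3,2] (.node [2,3,1,3,3,2,2,0,2,2] .nil .nil) (.node [3,3,2,1,0,2,1,0,2,0] .nil .nil))) (.node [3,0,1,3,3,0,1,3,2,1,0] (.node [1,3,2,1,3,2,0,1] (.node [3,3,2,2,1,0,2,0,2,0] .nil .nil) (.node [2,3,0,2,1,3,2,0,2,1,0]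 .nil .nil)) (.node [2,0,1,3,3,2,0,2,2,2,1] (.node [0,1,3,3,1,3,3,2] .nil .nil) .nil))) (.node [1,0,2,2,2,0,2,1,3,3,0] (.node [2,3,0,2,0,2,1,3,2,2,0] (.node [3,3,1,3,1,0,2,3,1,0] (.node [2,1,0,2,0,1,3,2,0,2,1] .nil .nil) (.node [2,2,0,1,3,3,2,0,1,0] .nil .nil)) (.node [0,2,1,3,3,1,3,2,0] (.node [0,1,3,1,3,3,1,3,2] .nil .nil) .nil)) (.node [3,2,0,1,3,2,1,0,2] (.node [3,1,3,1,0,2,1,3,1,0] (.node [2,3,3,1,3,2,1] .nil .nil) (.node [0,2,1,3,1,3,1,3,2,1] .nil .nil)) (.node [3,1,3,1,3,2,1,3,2,0] (.node [1,3,1,3,2,2,0,2,0,2,1,0] .nil .nil) .nil))))))) (.node [2,2,0,2,0,2,2,0,2] (.node [1,3,3,2,1,3,3,1,0] (.node [0,2,2,0,2,0,2,2,0,1] (.node [0,2,3,3,1,3,3,1,3,0,2] (.node [3,1,0,2,1,0,2,0,2,0] (.node [1,3,1,0,2,3,3,0,2,1] (.node [3,0,2,1,0,2,1,3] (.node [3,3,0,1,3,2,1,0,2,0,2,0] .nil .nil) (.node [2,2,0,1,3,1,3,1,3,2,0] .nil .nil)) (.node [3,1,3,0,1,3,2,2,0] (.node [1,3,3,0,2,2,0,2,0] .nil .nil) (.node [2,2,0,2,1,3,2,2,0,2,0]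 .nil .nil))) (.node [0,2,1,3,2,1,3,3,1,0] (.node [1,3,1,3,1,3,3,0,1,0] (.node [0,1,3,2,2,0,1,3,1,0] .nil .nil) (.node [0,1,3,3,1,3,3,0,1,0] .nil .nil)) (.node [3,1,0,2,2,2,0,2,1] (.node [3,0,2,1,3,3,0,2,2,1,0] .nil .nil) .nil))) (.node [3,1,3,3,2,2,0,2,2] (.node [2,0,1,3,2,1,3,2,1,0] (.node [0,2,1,3,3,2,1,3,2,0] (.node [0,2,0,1,3,3] .nil .nil) (.node [1,3,0,2,2,0] .nil .nil)) (.node [2,3,2,2,0,1,3,3,2,2] (.node [1,0,2,0,2,2,0,1,3,2,0,1] .nil .nil) (.node [3,2,1,0,2,1,0,2,0] .nil .nil))) (.node [0,2,2,1,0,2,3,1,3,2,0] (.node [2,3,1,3,2,1,0,2,3,3] (.node [0,2,1,3,2,2,0,2,2,2,1] .nil .nil) (.node [2,2,0,2,2,1,0,2,1,3,3] .nil .nil)) (.node [1,3,3,2,1,3,2,0,2,2] (.node [0,1,3,0,2,1,3,3,0,2,0] .nil .nil) .nil)))) (.node [0,2,1,3,0,2,2,0,2,2] (.node [0,2,2,2,0,2,1,0] (.node [2,3,1,3,2,0,1,3,3] (.node [3,3,0,2,2,1,0] (.node [1,3,0,2,0,2,0,2,2,2,1] .nil .nil) (.node [0,2,3,1,0,2,3,0,2,1] .nil .nil)) (.node [3,1,3,2,0,2,1,3,2,0]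 (.node [1,3,2,0,2,3,1,3,2,2,1] .nil .nil) (.node [3,3,0,1,3,3,0,1,3,2,0] .nil .nil))) (.node [2,0,2,2,2,0,1,3,3] (.node [0,1,3,3,0,2,2,0,1,3,2] (.node [3,1,3,1,3,0,2,1,3,3] .nil .nil) (.node [2,3,0,1,3,0,1,3,2,0] .nil .nil)) (.node [1,3,3,1,3,3] (.node [3,1,3,3,0,2,1,0] .nil .nil) .nil))) (.node [2,0,1,3,0,2,1,3,3,0] (.node [0,1,3,0,2,2,0,2,1,0] (.node [3,0,2,2,0,2,2,1,0] (.node [0,2,1,0,2,2,0,2] .nil .nil) (.node [2,3,0,1,3,3,0,2] .nil .nil)) (.node [3,3,2,0,2,0,1,3,3,2] (.node [1,0,2,2,0,2,0,2,2,1,0] .nil .nil) .nil)) (.node [1,3,0,2,2,0,2,2] (.node [0,2,0,2,2,0,1,3] (.node [3,1,3,0,2,0,1,3,3,2,1,0] .nil .nil) (.node [3,0,2,1,3,2,2,1,0] .nil .nil)) (.node [0,1,3,1,3,2,0,2,2,1] (.node [0,2,1,3,3,1,0,2,2,0] .nil .nil) .nil))))) (.node [2,0,2,1,3,3,1,3,1] (.node [1,3,1,3,0,1] (.node [2,2,2,0,1,3,3,1,3,0,1] (.node [2,0,1,3,0,1,3,2,1,3,2] (.node [2,1,0,2,2,0,2,3,0,1] (.node [2,1,3,1,3,3,0,1,3,1] .nil .nil)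 (.node [0,2,3,3,0,1,3,3] .nil .nil)) (.node [2,3,3,2,1,3,1,3,1,3,0] (.node [2,3,1,3,0,2,0,2,3,1] .nil .nil) (.node [0,1,3,0,2,2,0,2,2,0,1] .nil .nil))) (.node [3,1,0,2,3,0,1,3,3,2] (.node [1,3,1,3,2,1,3] (.node [3,3,0,2,2,2,0,1,0] .nil .nil) (.node [1,3,3,2,0,2,2,0,2,1] .nil .nil)) (.node [2,0,2,0,2,0,1,3,2,0] (.node [2,1,3,2,1,3,1,0,2,3] .nil .nil) .nil))) (.node [0,2,0,2,1,3,3,0,2] (.node [2,1,3,3,2,0,2,1,3,2] (.node [0,2,2,0] (.node [2,3,0,2,2,1,0,2,0,1,0] .nil .nil) (.node [3,3,0,1,3,3,1,3,3] .nil .nil)) (.node [3,1,3,0,1,3,3,1,3,1,0] (.node [2,1,3,2,1,3,0,2,1,0,2] .nil .nil) .nil)) (.node [2,1,3,2,1,3,3,0,1,0] (.node [0,1,3,1,3,3,0] (.node [3,0,2,1,3,3,1,3,2,1] .nil .nil) (.node [3,0,2,0,1,3,1,3,2,2] .nil .nil)) (.node [3,3,2,0,1,3,3,2] (.node [2,0,2,0,2,0,2,2,0,1] .nil .nil) .nil)))) (.node [2,0,1,3,1,3,0,2,2,0,1,0] (.node [2,3,0,2,1,3,1,3,0,2,0] (.node [1,0,2,3,1,0,2,0,2,1] (.node [3,2,2,1,0,2,3,0,2,1]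 (.node [2,0,2,1,3,2,0,2,0] .nil .nil) (.node [2,0,2,1,3,3,1,3,0] .nil .nil)) (.node [3,2,0,1,3,1,3,0,2,1] (.node [2,2,2,1,0,2,2,0,1,0] .nil .nil) (.node [2,3,1,3,1,3,0,2,1,0,2,0] .nil .nil))) (.node [3,1,3,0,2,2,2,1,0] (.node [3,2,1,3,3,1,3,1,0,2] (.node [3,2,0,2,3,3,2,2,0,2,1,0] .nil .nil) (.node [2,3,2,0,1,3,2,0,2,0] .nil .nil)) (.node [2,3,2,2,0,2,2,2,1,0] (.node [3,0,2,0,1,3,3,2,1] .nil .nil) .nil))) (.node [0,2,2,0,2,2,2,0,2,0] (.node [2,3,1,3,2,2,2,0,1,0] (.node [2,3,1,3,1,3,3,0,2] (.node [2,0,1,3,2,2] .nil .nil) (.node [2,2,0,2,2,0,1,3] .nil .nil)) (.node [2,0,2,2,0,2,1,3,3,0,1,0] (.node [3,3,2,1,3,2,0,2,2,1] .nil .nil) .nil)) (.node [3,3,0,1,3,1,3,1,0] (.node [0,2,1,3,1,3,2,1] (.node [0,1,3,3,0,1,3,2,1,3,1] .nil .nil) (.node [3,2,1,3,2,2,0,2,2,2,1] .nil .nil)) (.node [3,1,3,2,1,0,2,2,1] (.node [1,3,2,1,3,3,0,2] .nil .nil) .nil)))))) (.node [0,2,3,1,0,2,3,3] (.node [0,2,3,1,0,2,1] (.node [2,1,3,2,1,3,0,1,3,3,2,2]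 (.node [3,3,2,1,0,2,2] (.node [2,0,2,3,3,0,2,1,0,2] (.node [3,1,3,3,0,1,3,3,2] (.node [2,3,2,1,3,1,0,2] .nil .nil) (.node [3,1,3,1,3,3,0,1,3,3,1] .nil .nil)) (.node [1,3,1,0,2,0,2,2] (.node [0,1,3,3,2,2,0,2,0,1,0] .nil .nil) (.node [3,1,3,3,2,0,1,3,3,2,1,0] .nil .nil))) (.node [0,1,3,3,2,0,1,3,2,0] (.node [0,2,3,3,1,0,2,2,0,1] (.node [0,2,1,0,2,0,2,0,2] .nil .nil) (.node [1,3,0,2,2,1,0,2,0,1] .nil .nil)) (.node [1,0,2,3,3,2,1,3,3,1] (.node [3,1,3,2,1,3,2,2,1,0] .nil .nil) .nil))) (.node [3,0,1,3,2,0,2,3,3,2,0] (.node [0,2,1,3,2,0,1,3,2] (.node [2,2,0,2,2,0,1,3,2,2,0] (.node [2,3,2,1,0,2,3,0,1,0] .nil .nil) (.node [0,2,3,3,1,0,2,1] .nil .nil)) (.node [3,0,1,3,3,2,2,2,0,2,1] (.node [0,2,0,2,3,3,1,3,1,0] .nil .nil) (.node [1,0,2,2,2,0,1,3,2,2,2] .nil .nil))) (.node [1,3,1,3,3,1,3,2,1,3] (.node [3,3,2,0,1,3,3,0,2] (.node [1,3,0,2,0,1,3,2,0,2,0] .nil .nil) (.node [1,0,2,0,2,2,0,2,1,0] .nil .nil)) (.node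 [3,2,1,0,2,3,1,0] (.node [3,2,0,1,3,3,2,1,3,1,3] .nil .nil) .nil)))) (.node [0,1,3,3,0,2,0,2,2,2,1,0] (.node [1,0,2,3,0,1,3,3,2] (.node [3,3,2,2,0,1,3,0,2,2] (.node [3,3,0,1,3,3,2,2,0] (.node [3,0,2,1,0,2,3,1,0,2,1] .nil .nil) (.node [0,1,3,3,1,3,2,0,1,0] .nil .nil)) (.node [1,3,2,2,1,0,2,0,1] (.node [2,3,0,2,1,3,1,3,2,0,1] .nil .nil) (.node [0,2,3,1,3,3,1,3,3,1] .nil .nil))) (.node [2,2,0,2,3,1,3,3,2,2,1] (.node [3,0,1,3,2,1,3,3,1] (.node [3,1,3,2,1,3,0,2,1,0,2] .nil .nil) (.node [0,2,3,3,0,1,3,2,2,0] .nil .nil)) (.node [3,1,3,0,1,3,1,3,0,2] (.node [1,3,2,0,1,3,1,3,0,1] .nil .nil) .nil))) (.node [2,3,1,0,2,3,0,1,0] (.node [2,3,0,2,2,1,0,2,0,1] (.node [2,3,1,3,1,3,0,1,3,0] (.node [1,0,2,3,0,2,2,0,2,1,0] .nil .nil) (.node [2,1,3,0,2,2,1,0,2,1] .nil .nil)) (.node [3,1,3,3,0,1,3,3] (.node [0,2,1,0,2,1,3] .nil .nil) .nil)) (.node [1,3,0,1,3,2,1,3,0,2,0] (.node [1,3,1,3,3,0,2,1,0,2] (.node [2,0,2,3,3,1,3,1]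 .nil .nil) (.node [3,3,1,3,3,2,0,2,0] .nil .nil)) (.node [1,3,1,3,0,1,3,3,1] (.node [3,1,3,2,0,2,3,1,3,0,1] .nil .nil) .nil))))) (.node [3,1,3,0,2,2,0,1,0] (.node [2,3,2,0,2,2,0,2,2,1,0] (.node [3,2,0,1,3,2,1,3,3,2,0] (.node [0,1,3,1,0,2,3,3,1,0] (.node [3,2,0,2,2,2,1,0,2,1,0] (.node [2,1,3,3,1,3,3,0,2,0,1,0] .nil .nil) (.node [3,0,2,2,1,0,2,3,0,2,1] .nil .nil)) (.node [2,1,3,3,1,3,3,0,2,2] (.node [0,2,3,3,2,1,3,3,1,3,1] .nil .nil) (.node [1,3,2,1,3,1,0,2,0] .nil .nil))) (.node [0,2,3,1,3,0,2,1,0] (.node [2,0,1,3,2,0,2,0,2,2] (.node [3,3,0,1,3,3,1,3,3,2] .nil .nil) (.node [2,3,1,3,0,2,2,0,2,1] .nil .nil)) (.node [2,2,2,0,2,0,2,2,0,2] (.node [2,0,2,3,3,2,0,2,0] .nil .nil) .nil))) (.node [2,3,1,3,0,2,1,0,2,3] (.node [2,0,1,3,3,2,1] (.node [0,2,0,2,1,0,2,2,0,2,0] (.node [2,3,3,0,2,0,2,0,2,1,3] .nil .nil) (.node [1,3,2,2,2,0,1,3,2,1] .nil .nil)) (.node [2,2,2,0,2,1,3,2,2,1] (.node [2,2,1,0,2,2,0,2,3,1]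 .nil .nil) .nil)) (.node [3,2,2,0,1,3,0,2] (.node [0,1,3,1,3,2,2,2,1,0] (.node [1,0,2,1,0,2,1,0,2,1] .nil .nil) (.node [2,3,3,1,3,2,2,1,0,2,0] .nil .nil)) (.node [3,3,1,3,1,3,2,2,2,0] (.node [2,0,2,2,0,2,2,2,1,0] .nil .nil) .nil)))) (.node [3,3,1,0,2,1,0,2,3,1,0] (.node [0,2,3,1,3,2,0,1,3,2] (.node [0,2,3,1,0,2,2,0,2,1] (.node [2,3,1,3,1,3,3,1,0] (.node [2,0,2,3,3,0,1,3,3,0,1,3] .nil .nil) (.node [0,2,3,1,3,1,3,3,0,2,1] .nil .nil)) (.node [1,0,2,3,0,1,3,1] (.node [0,1,3,2,0,2,3,1,0,2,0] .nil .nil) (.node [0,2,1,3,0,2,2,2,0,1,0] .nil .nil))) (.node [2,2,0,1,3,2,0,2,3,0,2] (.node [1,3,3,1,3,0,2,2,0,2,0] (.node [3,3,0,2,0,2,1,3,1] .nil .nil) (.node [3,3,1,3,2,0,2,0] .nil .nil)) (.node [2,3,1,3,0,2,2] (.node [3,3,0,2,0,2,2,0,1,0] .nil .nil) .nil))) (.node [2,3,0,1,3,1,3,1,0,2,1] (.node [2,3,1,0,2,0,2] (.node [2,3,2,1,0,2,3,0,2,2] (.node [3,0,1,3,3,0,1,3,3,0] .nil .nil) (.node [3,1,3,1,3,1,3,3] .nil .nil))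 (.node [1,0,2,1,0,2,0,2,2,0,2] (.node [1,0,2,3,3,1,0,2,1,3,3] .nil .nil) .nil)) (.node [2,0,2,3,1,3,2,1] (.node [3,1,3,0,1,3,0,2,2] (.node [0,1,3,2,1,3,3,0] .nil .nil) (.node [2,1,0,2,1,0,2,1,3,3,1,0] .nil .nil)) (.node [3,1,0,2,2,0,2,3,3,1] (.node [3,0,1,3,0,1,3,0,2] .nil .nil) .nil))))))))

/-- Part of `setWord`. -/
noncomputable def setWord_r_r_l_r_r : Arr (List ℕ) :=
  (.node [0,2,2,0,1,3,3,2,2,1] (.node [3,3,2,1,0,2,3,3,2,2,0] (.node [3,3,1,3,3,0,2,0,1,0] (.node [2,3,2,1,3,2,0,2,2] (.node [3,0,1,3,0,2,0,2,1,3,1] (.node [3,3,0,1,3,1,3,3,0] (.node [3,0,2] (.node [2,2,2,0,2,0,2,1,0] (.node [0,2,0,1,3,2,2,0,1,0] .nil .nil) (.node [2,1,3,1,3,3,2,1,3,3] .nil .nil)) (.node [3,2,1,3,2,1] (.node [3,3,2,0,2,1,3,3,0] .nil .nil) (.node [3,2,2,2,1,0,2,2,2,1] .nil .nil))) (.node [0,1,3,2,0,1,3,1,3,2,0] (.node [2,2,0,2,1,3,2,1,3,0,2] (.node [3,2,1,0,2,2,2,0,1,0] .nil .nil) (.node [3,3,1,3,3,2,1,3,3,1] .nil .nil))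 (.node [3,2,0,2,1,0,2,2,2] (.node [2,2,2,0,2,2,1,0,2,0,1] .nil .nil) .nil))) (.node [1,3,1,0,2,3,1,0] (.node [3,1,3,1,3,1,0,2] (.node [2,3,0,1,3,3,0,2,2,1,0] (.node [0,2,3,0,1,3,2,2,1,0] .nil .nil) (.node [3,3,1,3,2,0,2,2] .nil .nil)) (.node [1,0,2,2,2,0,2,2,2] (.node [3,2,2,1,0,2,0,2,3,1,0] .nil .nil) (.node [1,0,2,2,0,2,1,0,2,0] .nil .nil))) (.node [3,2,0,1,3,3,2,0] (.node [1,0,2,1,3,3,1,3,3,0] (.node [2,2,0,2,0,2,3,0,2,2,0] .nil .nil) (.node [2,3,1,3,1,3,1,0,2,3,1] .nil .nil)) (.node [1,3,0,1,3,0,1,3,3] (.node [0,2,1,0,2,1,0,2,1,0] .nil .nil) .nil)))) (.node [2,1,3,2,2,2,0,2,2,0,2,0] (.node [2,0,2,0,2,2,2,1,0,2,0] (.node [2,1,3,0,2,1,3,3,2,2,0] (.node [1,3,3,2,0,1,0] (.node [1,3,3,0,1,3,2] .nil .nil) (.node [0,2,1,3,1,0,2,3,0,2,1] .nil .nil)) (.node [2,2,1,0,2,1,3,3,1,3,0] (.node [3,2,2,0,1,3,1,3,3,0,1] .nil .nil) (.node [2,2,2,0,2,2,0,2,1] .nil .nil))) (.node [1,3,2,2,0,2,2,0,2] (.node [2,0,2,1,0,2,1,0]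 (.node [0,1,3,1,3,0] .nil .nil) (.node [2,1,0,2,2,1,0,2] .nil .nil)) (.node [2,3,1,3,1,3,3,0,1] (.node [1,0,2,3,1,3,2,0,2,2,1] .nil .nil) .nil))) (.node [1,0,2,2,0,2,3,3,0,1,0] (.node [3,1,0,2,2,1,0,2,1] (.node [1,3,1,3,0,2,1,3,0,2] (.node [0,2,1,3,0,1,3,2,0] .nil .nil) (.node [0,2,0,2,1,0,2,0,2,0,2] .nil .nil)) (.node [2,2,1,0,2,3,3,1,3,2] (.node [2,0,2,0,2,1,3] .nil .nil) .nil)) (.node [1,3,3,1,3,3,2,2] (.node [3,3,2,1,3,2,0,2,0,2,2] (.node [1,0,2,3,3,2,2,0] .nil .nil) (.node [2,3,0,1,3,2,1,0] .nil .nil)) (.node [2,1,3,3,2,1,3,3] (.node [3,0,1,3,0,1,3,2,1] .nil .nil) .nil))))) (.node [0,2,2,0,1,3,2,1,3,1,3] (.node [2,0,1,3,2,2,0,2,3] (.node [3,0,2,1,3,0,2] (.node [0,2,2,1,0,2,3,3,2,1,0] (.node [0,2,1,3,3,1,3,3,0,2,1] (.node [0,2,3,1,3,3,1,3,0,1,0] .nil .nil) (.node [0,2,3,0,1,3,1,3,1,3,0] .nil .nil)) (.node [2,3,0,1,3,0,2,1,3,0,1] (.node [2,0,2,1,3,0,2,1,3] .nil .nil) (.node [2,3,3,2,0,2,2,2,1] .nil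 .nil))) (.node [3,1,3,2,1,0] (.node [3,1,3,2,0,2,0,2,1,3,1] (.node [1,3,2,0,2,2,0,2,3,1] .nil .nil) (.node [2,0,2,1,3,1,3,3,1,3,1,0] .nil .nil)) (.node [1,3,3,2,0,2,2,0,2] (.node [3,1,3,0,1,3,3,2,2,1] .nil .nil) .nil))) (.node [2,0,2,0,2,0,2,1,0,2,1] (.node [2,1,3,3,0,1,3,3,0,1] (.node [0,2,3,0,1,3,0,2,0,1] (.node [3,0,2,0,2,3,1,0] .nil .nil) (.node [3,1,0,2,3,0,2,2,0] .nil .nil)) (.node [1,3,1,3,3,1,3,1,3,3] (.node [3,3,2,0,2,1,0,2,3,1] .nil .nil) .nil)) (.node [2,0,2,0,2,0,2,3,3,2] (.node [3,0,1,3,1,3,0] (.node [3,3,1,3,3,2,0,1,3,1,0] .nil .nil) (.node [3,2,0,2,2,0,2,1] .nil .nil)) (.node [2,3,3,2,0,1,3,0,1,3,1,0] (.node [1,0,2,3,3,2,2,0,1,3] .nil .nil) .nil)))) (.node [0,2,2,2,0,2,2,0,2,1,0] (.node [3,2,0,2,3,0,1,3,2,1] (.node [3,2,0,2,1,0,2,3,1] (.node [0,2,0,2,3,0,1,3,1,3,3,1] (.node [3,3,0,2,1,3,2,0,2,1] .nil .nil) (.node [3,3,0,2,2,0,2,2,1,0] .nil .nil)) (.node [2,0,1,3,3,2,2,0,1,3,1,0] (.node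 [1,0,2,0,2,3,3,0,2,2,1] .nil .nil) (.node [2,3,3,2,0,1,3,2,0,2,0] .nil .nil))) (.node [0,2,3,3,2,2,2,1,0,2,0] (.node [0,1,3,0,1,3,2,0,2,2] (.node [3,0,1,3,0,2,2] .nil .nil) (.node [2,1,3,2,2,0,2,0] .nil .nil)) (.node [2,3,2,0,1,3,3,1,3,0] (.node [1,3,2,2,2,0,2,2,2,0,1,0] .nil .nil) .nil))) (.node [1,3,2,1,3,1,3,3,1,3,1] (.node [1,3,3,2,1,3,0,1,3,2,0,1] (.node [2,0,2,0,2,3,0,2,2] (.node [1,0,2,1,0,2,3,0,1] .nil .nil) (.node [2,0,2,3,0,2,0,2,2,2,1] .nil .nil)) (.node [1,3,1,3,3,2,0,1,3,0] (.node [2,3,2,1,3,3,1,3,0,2] .nil .nil) .nil)) (.node [3,3,1,0,2,3,3,2,0,2,1,0] (.node [2,3,0,2,2,0,2,2,2,1] (.node [2,0,2,2,2,0,2,0,1,0] .nil .nil) (.node [1,3,2,0,2,3,1] .nil .nil)) (.node [0,2,1,0,2,2,2,0,2,1,3,2] (.node [2,2,0,2,2,1,0,2,3,3] .nil .nil) .nil)))))) (.node [2,0,2,3,1,3,2,0] (.node [3,1,3,1,3,1,3,0,1,3,0] (.node [1,3,2,2,2,0,1,0] (.node [0,2,3,1,3,0,1] (.node [1,3,3,0,2,1,3,1,0,2,1] (.node [2,1,3,2,0,1,3]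 (.node [2,0,1,3,0,1,3,2,1] .nil .nil) (.node [1,0,2,1,3,3,1,3,3] .nil .nil)) (.node [3,1,3,2,1,3,3,0] (.node [0,2,0,2,3,3,1,0,2,2,1,0] .nil .nil) (.node [0,1,3,2,0,2,1,3,3,0] .nil .nil))) (.node [3,2,2,0,2,1,3,0,1,0] (.node [2,1,3,2,1,0,2,3,0,2,1] (.node [0,2,0,1,3,3,2,0] .nil .nil) (.node [3,0,2,2,0,2,0,2,2,1] .nil .nil)) (.node [3,0,2,0,2,3,3,1,0,2,0] (.node [2,2,0,2,0,2,1,3,1] .nil .nil) .nil))) (.node [2,1,3,3,0,1,3,3,2] (.node [2,0,2,1,0,2,3,0,1,0] (.node [0,2,3,1,0,2,3,3,0] (.node [1,3,3,1,3,0,2,2,1,0] .nil .nil) (.node [2,1,3,2,1,3,2,1] .nil .nil)) (.node [3,0,2,1,0,2,3,3,2,2,1] (.node [3,2,1,3,1,3,0,2,0,1] .nil .nil) (.node [2,3,1,3,3,2,2,2,1,0,2,0] .nil .nil))) (.node [0,2,0,2,1,0,2,0,1,3,2] (.node [3,0,2,0,2,0,2,0,2,3,1] (.node [2,2,0,2,3,3,0,2,0,1,0] .nil .nil) (.node [0,2,3,3,1,3,2,1,0,2,2] .nil .nil)) (.node [0,2,1,3,2,2,1,0,2] (.node [3,0,2,2,0,1,3,0,2] .nil .nil) .nil)))) (.node [0,1,3,2,2,0,2,1,3,0,1]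 (.node [3,3] (.node [2,3,0,2,1,3,0,1,3,0,1] (.node [1,3,2,1,3,0,2,2] (.node [0,2,1,3,0,1,3,0,2,2] .nil .nil) (.node [0,1,3,0,1] .nil .nil)) (.node [2,3,3,1,0,2,3,0,2,1] (.node [2,3,1,3,1,0,2,3,0,1,0] .nil .nil) (.node [0,1,3,2,2,2,0,2,0,1,0] .nil .nil))) (.node [0,1,3,2,2,0,1,3,2,0] (.node [1,3,0,2,0,2,1,3,2,1] (.node [3,3,1,3,0,1,3,3,2,2] .nil .nil) (.node [1,3,2,1,3,1,3,2,0,2,0] .nil .nil)) (.node [3,1,3,0,2,1,0,2,2,2] (.node [0,2,1,3,1,3,2,0,2,0] .nil .nil) .nil))) (.node [1,3,1,0,2,3,1,3,2] (.node [2,0,2,1,3,1,3,2,1] (.node [0,2,3,1,3,2,1,3,1] (.node [2,0,2,1,3,1,0] .nil .nil) (.node [3,2,2,1,0,2,1,0,2,0,1] .nil .nil)) (.node [0,2,2,0,2,3,3,1,3,2] (.node [3,2,0,2,3,0,2,2,0,2,0] .nil .nil) .nil)) (.node [0,2,1,3,1,0,2,1] (.node [1,3,1,3,1,3,3,1] (.node [0,2,2,2,0,2,0,2,0,1] .nil .nil) (.node [2,3,3,1,0,2,2,2,1] .nil .nil)) (.node [3,1,3,0,2,0,1,3,3] (.node [0,2,1,3,0,1,3,3,0,2,1] .nil .nil) .nil)))))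 (.node [0,2,1,0,2,1,3,3,1,3,0] (.node [0,1,3,1,3,0,2,1,3,0,1] (.node [3,0,2,0,2,2,2,0,1,3,0] (.node [2,2,0,2,0,2,0,2,1,0] (.node [2,0,2,1,3,3,0,1,3,3] (.node [0,1,3,2,0,2,3,3,2,1,0] .nil .nil) (.node [1,3,2,0,2,1,3,0,2,0] .nil .nil)) (.node [2,1,0,2,0,2,0,2,2,1] (.node [0,2,0,2,3,1,3,2,2] .nil .nil) (.node [1,0,2,0,2,0,1,3,3,2,0,1] .nil .nil))) (.node [0,1,3,1,3,3,1,0] (.node [2,3,3,2,0,2,2,1,0] (.node [3,1,3,1,3,2,2,2,1,0] .nil .nil) (.node [1,0,2,1,0,2,3,1,3] .nil .nil)) (.node [1,3,2,2,0,2,3] (.node [3,3,0,2,1,3,3,1,3,3] .nil .nil) .nil))) (.node [2,0,1,3,2,2,0,2,1] (.node [2,0,2,0,2,3,3,0,2,2,0] (.node [3,2,1,0,2,2,2] (.node [3,3,2,0,2,1,0,2,3,0,2] .nil .nil) (.node [1,3,0,2,1,3,3,2,0] .nil .nil)) (.node [3,0,2,2,0,2,0,1] (.node [3,0,1,3,3,0,2,2,0] .nil .nil) .nil)) (.node [2,3,2,1,3,0,1,3,3,0] (.node [3,3,2,1,0,2,3,3,0] (.node [3,3,1,0,2,1] .nil .nil) (.node [2,3,1,3,1,0,2,1,3] .nil .nil)) (.node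 [3,0,2,0,1,3,2] (.node [2,2,1,0,2,1,0,2,1,3] .nil .nil) .nil)))) (.node [2,3,1,3,3,2,2] (.node [3,2,2,0,2,3,3,0,1,3] (.node [2,2,2,0,2,1,3,0,1] (.node [2,1,3,3,0,2,2,2,0,1,0] (.node [2,2,0,2,1,0,2,0,2,0] .nil .nil) (.node [3,3,1,0,2,3,1,3,1,3] .nil .nil)) (.node [2,1,3,1,3,1,3,0,2,2,0] (.node [2,3,3,1,3,2,2,2,1] .nil .nil) (.node [3,1,3,3,0,1,3,2,0,2,0] .nil .nil))) (.node [2,1,3,1,3,2,0,1,3] (.node [0,2,0,2,2,0,1,3,3] (.node [2,0,2,3,3,2,1,0] .nil .nil) (.node [0,2,1,0,2,0,1,3] .nil .nil)) (.node [3,0,1,3,3,0,1,3,1,0] (.node [3,1,0,2,2,0,2,2,0,2,1,0] .nil .nil) .nil))) (.node [2,3,3,2,2,0,2,0,2,2,1] (.node [1,0,2,3,1,3,3,2,2] (.node [3,0,2,0,1,3,2,0,1] (.node [2,3,3,1,0,2,1,3,1] .nil .nil) (.node [3,0,1,3,3,2,2,0,1,0] .nil .nil)) (.node [3,0,2,0,1] (.node [2,1,3,1,3,3,0] .nil .nil) .nil)) (.node [3,0,2,0,2,3,3,2,1,0] (.node [2,3,1,3,1,3,3,0,1,0] (.node [2,0,2,1,3,0,1,3,0] .nil .nil) (.node [3,0,2,0,2,1,3,3,2,0]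 .nil .nil)) (.node [2,2,1,0,2,3,1,3,0] (.node [2,0,1,3,3,2,0,1,3,1,0] .nil .nil) .nil))))))) (.node [2,3,1,3,2,1,3,3,2,0] (.node [3,2,2,2,0,2,1,3,2,0] (.node [3,2,2,0,2,2,2,0,2,1] (.node [3,1,0,2,2,0,2,3,0,1] (.node [2,0,2,3,3,2,2,0,2,1,0] (.node [3,1,3,3,0,2,2,2,0,1,0] (.node [2,1,3,0,2,0,2,2] (.node [2,2,1,0,2,0,2,1,0] .nil .nil) (.node [2,3,0,2,1,3,3,0,2,2,0] .nil .nil)) (.node [1,0,2,3,3,2,1,3,2,1,0] (.node [2,3,3,2,1,3,3,1,0] .nil .nil) (.node [2,0,2,2,0,1,3,3,2] .nil .nil))) (.node [3,1,3,2,1,3,0,2,0,1,0] (.node [3,0,2,1,0,2,1,0,2] (.node [0,2,0,2,2,0,1,0] .nil .nil) (.node [3,3,0,1,3,3,0,1] .nil .nil)) (.node [2,1,3,2,1,3,1,3,3] (.node [0,2,0,2,1,3,2,1] .nil .nil) .nil))) (.node [3,1,0,2,3,1,0,2,0,2,1] (.node [3,2,1,0,2,0,2,1,3] (.node [2,0,1,3,0,1,3,3,2,2] (.node [3,3,2,2,0,2,2,0,1,3] .nil .nil) (.node [3,1,0,2,0,2] .nil .nil)) (.node [0,2,3,0,1,3,1,3,3,2,2] (.node [2,0,2,0,2,1,3,0,2] .nil .nil)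 (.node [2,1,3,2,1,3,2,0,2,0] .nil .nil))) (.node [1,3,1,3,2,1,3,0,1,3,1,0] (.node [2,1,0,2,2,0,2,3,3] (.node [1,0,2,3,0,2,0,2,2,1,0] .nil .nil) (.node [0,2,3,1] .nil .nil)) (.node [0,1,3,0,2,0,2,3,3,2,0] (.node [0,2,3,1,3,1,3,3,0] .nil .nil) .nil)))) (.node [3,2,2,0,1,3,3,0,1] (.node [3,3,1,3,2,0,2,2,1,0] (.node [2,3,2,1,3,2,0,2,0,2,1] (.node [1,0,2,1,3,3,0,1,3,1] (.node [2,0,2,0,2,1,0,2,0,2,1] .nil .nil) (.node [2,3,1,3,3,2,1,0,2,2,1] .nil .nil)) (.node [3,3,2,1,0,2,3,3,1,0] (.node [3,3,2,2,2,1] .nil .nil) (.node [2,1,3,1,3,3,0,2,2,2,1] .nil .nil))) (.node [3,1,3,3,2,2,0,2,0,2,1] (.node [2,3,2,1,3,2,0,2,1,0,2,3] (.node [0,2,2,2,0,2,0,2,2,0,1] .nil .nil) (.node [3,3,1,0,2,0] .nil .nil)) (.node [0,2,1,3,2,2,0,2,1] (.node [3,3,0,2,1,3,3,2,0,2,0] .nil .nil) .nil))) (.node [2,3,1,3,2,0,1,0] (.node [3,2,0,2,3,0,2] (.node [2,3,3,0,1,3,1,3,3] (.node [2,1,3,0,1,3,3,1,3,0] .nil .nil) (.node [0,2,3,0,2,2,1,0,2,0]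 .nil .nil)) (.node [2,3,2,2,0,2,1,3,2] (.node [3,0,2,0,1,3,2,0] .nil .nil) .nil)) (.node [2,0,2,3,0,2,0,2,1] (.node [1,3,0,2,0,2,3,3,0] (.node [3,2,1,3,0,1,3,3,1,3,3,0] .nil .nil) (.node [2,0,2,1,0,2,1,3,3,1,0] .nil .nil)) (.node [3,2,2,0,2,0,1,3,3,2] (.node [2,0,2,1,3,1,3,3] .nil .nil) .nil))))) (.node [0,2,3,3,0,2,1,0,2,3] (.node [2,3,1,3,2,2,2,1] (.node [0,1,3,1,0] (.node [2,1,3,0,2,0,1,3,0,2] (.node [0,2,0,2,0,2,3,0,2] (.node [3,1,3,0,2,2,2,0,1,0] .nil .nil) (.node [3,1,0,2,1,0,2,2,0,1] .nil .nil)) (.node [2,3,2,2,2,0,1,3,1] (.node [1,3,2,1,3,0,2,0,2,3] .nil .nil) (.node [1,3,3,2,1,0,2,1,3] .nil .nil))) (.node [2,1,0] (.node [0,2,0,2,0,1,3,3,0] (.node [2,3,2,1,0,2,3,1,0,2,1] .nil .nil) (.node [0,2,0,2,3,3,2,0,2,2] .nil .nil)) (.node [2,2,1,0,2,0,2,0,2,1,0] (.node [3,2,2,2,1,0,2,0,2,1,0] .nil .nil) .nil))) (.node [2,0,2,1,3,3,1,3,2,2,0] (.node [3,3,2,1,3,2,2,2,0,2,1] (.node [3,2,0,2,2,2,0,2,2,2]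 (.node [3,2,1,3,0,1,3,0,2,2,0] .nil .nil) (.node [0,2,0,2,2,1,0,2,3,1,3] .nil .nil)) (.node [2,3,1,3,3,0,1,3,2,0] (.node [1,3,2,0,1,3,0,2] .nil .nil) .nil)) (.node [0,1,3,1,3,3,2,2,0] (.node [2,3,1,3,2,2,2,0,1,3,0] (.node [2,3,3,0,2,1,3,2,1,3,2] .nil .nil) (.node [3,3,1,3,0,1,3,2,1,0] .nil .nil)) (.node [2,1,0,2,1,3,1,3,2,0] (.node [2,1] .nil .nil) .nil)))) (.node [3,2,2,1,0,2,3,3,2,2,0] (.node [1,3,2,2,0,2,3,0,1,3,2] (.node [3,1,3,2,0,2,0,2,1,3,0] (.node [3,3,2,0,2,0,2,1,3,1] (.node [3,1,3,3,2,0,1,3,0,2] .nil .nil) (.node [2,0,2,3,1,0,2,3,0,2,0] .nil .nil)) (.node [0,2,1,3,3,0,2,2,0,1,0] (.node [1,3,0,1,3,3,2,0] .nil .nil) (.node [3,3,2,0,1,3,3,0,2,0,2,0] .nil .nil))) (.node [3,2,2,0,2,2,2,1,0,2,0] (.node [3,2,0,2,3,3,2,1,0,2,0] (.node [0,2,0,2,2,2,0,2,1,3,1] .nil .nil) (.node [2,0,2,0,2,0,1,3,3] .nil .nil)) (.node [3,0,1,3,1,3,2,2,1] (.node [2,0,1,3,3,2,0] .nil .nil) .nil))) (.node [1,3,2,2,1,0,2,3,1,0]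 (.node [3,0,2,1,3,0,1,3,1,0] (.node [3,3,0,2,1,3,2,0,2,0] (.node [3,2,0,2,3,1,0,2,0,1] .nil .nil) (.node [2,2,2,0,2,1,3,1,3,0] .nil .nil)) (.node [0,1,3,1,3,2,2,2,0,2] (.node [2,2,0,1,3,3,1,3,0] .nil .nil) .nil)) (.node [2,2,0,2,0,1,0] (.node [3,1,3,3,1,3,1,3,2,2,1,0] (.node [3,2,1,3,3,1,3,1,3,0] .nil .nil) (.node [2,3,1,3,1,3,2,0,2,0] .nil .nil)) (.node [3,2,0,2,2] (.node [2,0,1,3,2,0,2,0,1] .nil .nil) .nil)))))) (.node [2,3,3,2,2,0,1,3,2,2,1] (.node [1,3,0,1,3,3,2,1] (.node [1,0,2,3,1,3,3,2,2,1] (.node [3,0,1,3,1,3,3,1,3,0] (.node [2,0,1,3,3,0,2,2,1] (.node [2,3,2,1,0,2,2,0,2] (.node [3,1,3,1,3,3,0,2] .nil .nil) (.node [2,1,3,3,1,3,3,1,3,0] .nil .nil)) (.node [0,2,3,1,0,2,1,3,3] (.node [1,3,2,0,2,3,3,0,1,0] .nil .nil) (.node [3,3,2,0,2,1,3] .nil .nil))) (.node [2,2,1,0,2,1,0,2,3] (.node [2,1,0,2,0,1,3,2] (.node [2,1,0,2,1,0,2,3,1,0] .nil .nil) (.node [1,3,0,1,3,3,1,0] .nil .nil)) (.node [3,3,1,3,2,2,0,1,3,1]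 (.node [1,3,1,3,1,3,2,0] .nil .nil) .nil))) (.node [3,2,1,3,3] (.node [3,3,1,3,3,1,3,0,1] (.node [0,2,0,2,2,0,2,2,1,0] (.node [1,0,2,0,2,3,0,1,3,3] .nil .nil) (.node [1,3,3,1,0,2,3,3,0,2] .nil .nil)) (.node [2,0,2,1,3,1,0,2,1] (.node [1,3,2,0,2,2,2,0,2] .nil .nil) (.node [0,2,0,2,1,0,2,0,2,0] .nil .nil))) (.node [3,0,2,1,0,2] (.node [3,1,0,2,1,3,3,0,1,3,0] (.node [1,3,0,1,3,2,2,1,0] .nil .nil) (.node [0,2,2,1,0,2,3,0,2,1,3] .nil .nil)) (.node [3,1,0,2,2] (.node [1,3,1,3,2,2,0,2] .nil .nil) .nil)))) (.node [1,3,2,2,0,1,3,1,3,1,0] (.node [1,3,3,1,3,0] (.node [1,3,2,2,2,0,1,3,0] (.node [2,2,1,0,2,3,3,0,2,0,2,0] (.node [2,2,2,0,2,0,1,3,2,0] .nil .nil) (.node [2,3,2,0,1,3,2,2,0,1,0] .nil .nil)) (.node [2,3,3,2,0,2,1,3,3,0] (.node [2,0,2,0,2,2,2,1] .nil .nil) (.node [2,2,0,2,2,0,2,1,0,2,0] .nil .nil))) (.node [1,3,3,1,3,1,3,2,2] (.node [1,3,2,0,2,3,1,3,0,1] (.node [3,1,0,2,1,3,1,0] .nil .nil) (.node [3,3,2,1,3,1,0,2,3,1]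 .nil .nil)) (.node [2,0,1,3,0,2,1,3,3] (.node [1,0,2,3,1,3,1,3] .nil .nil) .nil))) (.node [2,3,0,2,1,3,2,1,3] (.node [3,3,2,1,3,2,0,1] (.node [2,2,2,0,2,1,3,0,2,0] (.node [3,3,1,3,0,1,3,0,2,0,1] .nil .nil) (.node [0,2,3,3,1,0,2,0,2,1,0] .nil .nil)) (.node [2,3,3,2,1,3,2,2,1,0] (.node [0,1,3,0,2,2,0,2,1] .nil .nil) .nil)) (.node [1,3,2,0,2,3,0,2,2,0] (.node [1,0,2,1,0,2,1,3,3,1] (.node [0,1,3,3,1,3,2,1,0] .nil .nil) (.node [3,2,0,2,1,0,2,0] .nil .nil)) (.node [3,1,0,2,2,0,2,2,2,1,0] (.node [3,2,1,3,2,0,2,2] .nil .nil) .nil))))) (.node [0,1,3,3,1,3,3,2,2,0,1,0] (.node [3,2,0,2,3,1,0] (.node [2,0,2,0,2,0] (.node [2,3,0,2,0,2,1,3] (.node [2,1,3,3,2,0,2,2,1,0] (.node [2,0,1,3,2,0] .nil .nil) (.node [1,3,0,2,0,2,1,3,0,2,0] .nil .nil)) (.node [3,0,2,1,3,0,1,3,2] (.node [3,0,2,2,0,2,2,1] .nil .nil) (.node [2,2,0,2,3,3,1,3,2,1] .nil .nil))) (.node [0,2,1,3,1,3,1,3,3,1] (.node [2,0,1,3,0,2,0,2,2,0,2] (.node [0,1,3,3,2]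 .nil .nil) (.node [2,3,3,1,3,0,2,1,0,2,0] .nil .nil)) (.node [0,2,2,0,2,3,1,3,0] (.node [3,3,1,0,2,3,3,1,3,3] .nil .nil) .nil))) (.node [0,1,3,3,0,1,0] (.node [3,1,3,1,3,1,3,0,1] (.node [2,1,0,2,3,1,0,2,3] (.node [3,0,2,0,2,3,0,1,0] .nil .nil) (.node [2,0,2,0,2,3,3] .nil .nil)) (.node [3,0,1,3,0,2,0,2,3,3] (.node [3,2,0,1,3,1,0,2,3,1,0] .nil .nil) .nil)) (.node [3,2,0,2,0,2,3,1] (.node [1,3,1,3,0,2,2,0] (.node [2,0,1,3,2,0,2,2,0,1] .nil .nil) (.node [3,0,2,2,0,1,3,2] .nil .nil)) (.node [1,3,2,1,3,3,2,2,0,1,3] (.node [3,1,3,0,2,0,1] .nil .nil) .nil)))) (.node [3,3,1,3,2,1,0,2,3,3] (.node [3,3,2,2,2,0,1,3,3,0,2] (.node [3,3,1,3,2,2,0,1,0] (.node [1,3,0,1,3,1,3,2,0,2,2] (.node [3,3,2,2,2,0,2,1,0] .nil .nil) (.node [3,3,0,2,0,1,3,1,3,3] .nil .nil)) (.node [3,3,0,1,3,3,0,1,0] (.node [1,3,2,0,1,3,3,1,3,0] .nil .nil) (.node [2,2,0,2,3,1,0,2,2,2,1] .nil .nil))) (.node [1,3,1,3,3,0,2] (.node [0,2,2,0,2,2,0,1,3]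 (.node [3,2,1,3,3,2,2,0,2,2] .nil .nil) (.node [1,0,2,0,2,1,0,2,2,1] .nil .nil)) (.node [2,3,1,3,1,0,2,2] (.node [2,0,1,3,0,2,0,1] .nil .nil) .nil))) (.node [2,0,2,1,3,0,2,1,3,1,0] (.node [0,2,0,2,2,1,0,2,1,3] (.node [0,2,1,3,0,2,1,3,1] (.node [1,3,3,2,0,2,0,2,3] .nil .nil) (.node [1,3,0,1,3,2,0,2,2] .nil .nil)) (.node [2,1,3,0,2,2,0,2,0,1] (.node [2,2,0,2,1,0,2,2,1] .nil .nil) .nil)) (.node [3,0,1,3,0,2,2,0,2,1] (.node [0,1,3,0,2,0,2,1] (.node [0,1,3,3,1,3,3,2,2] .nil .nil) (.node [0,1,3,2,1,0] .nil .nil)) (.node [1,3,2,1,3,1,3,2,2,2] (.node [2,3,1,3,2,0] .nil .nil) .nil))))))))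

/-- Part of `setWord`. -/
noncomputable def setWord_r_r_l_r : Arr (List ℕ) :=
  .node [0,2,3,0,1,3,3,0] setWord_r_r_l_r_l setWord_r_r_l_r_r

/-- Part of `setWord`. -/
noncomputable def setWord_r_r_l : Arr (List ℕ) :=
  .node [2,1,3,1,3,3,2,0,1,3,1] setWord_r_r_l_l setWord_r_r_l_r

/-- Part of `setWord`. -/
noncomputable def setWord_r_r_r_l_l : Arr (List ℕ) :=
  (.node [3,2,0,2,2,0,2,2,1] (.node [1,3,0,2,0,2,2,0,1,0] (.node [1,3,0,2,2,0,2,0,2,0] (.node [2,1,0,2,0,2,3,1,3,3,1] (.node [2,3,3,0,1,3,2] (.node [2,1,3,3,2,2,0,2,0,2,1] (.node [2,0,2,2,2,0,1,0] (.node [0,1,3,1,3,2,0,1,3,2] (.node [0,1,3,2,1,0,2,0,2,0] .nil .nil) (.node [1,3,3,1,3,1,3,1,0] .nil .nil)) (.node [3,3,2,1,3,1,3,2] (.node [2,3,1,0,2,3,3,0,2,2] .nil .nil) (.node [0,2,3,0,1,3,1,0] .nil .nil))) (.node [0,1,3,1,3,2] (.node [2,3,0,1,3,3,1,0] (.node [3,0,2,2,2,0,2,2,0,2,0] .nil .nil) (.node [0,2,1,3,0,1,3,0,1,3,0] .nil .nil)) (.node [2,3,0,2,1,0,2,3,0,2]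 (.node [2,1,3,2,0,2,2,1,0,2,0] .nil .nil) .nil))) (.node [1,3,3,1,3,0,1] (.node [3,1,3,2,2,1,0,2,1,3,3] (.node [3,3,0,2,1,3,2,2,0] (.node [2,2,0,2,2,0,2,1,0] .nil .nil) (.node [0,1,3,0,2,1,3,3,0,1,0] .nil .nil)) (.node [2,2,2,0,2,2,0,2,3,1,0] (.node [1,3,3,1,0,2,2] .nil .nil) (.node [2,2,1,0,2,1,0,2,0] .nil .nil))) (.node [3,2,1,3,2,1,3,1,3,2,0] (.node [3,0,2,2,1,0,2,1,3] (.node [2,3,2,0,2,1,0,2,0,1] .nil .nil) (.node [2,0,2,1,3,0,2,1,3,0,1] .nil .nil)) (.node [2,1,3,3,1,3,2,1,3] (.node [1,0,2,3,3,0,2,1,3] .nil .nil) .nil)))) (.node [3,0,2,2] (.node [3,1,3,1,3,2,1,3,2] (.node [0,1,3,1,3,2,0,2,0,1] (.node [1,3,1,3,3,2,2,0,2,1] (.node [2,2,0,2,3,1,0,2,2,1] .nil .nil) (.node [1,3,0,2,1,0,2,3,1,0] .nil .nil)) (.node [2,1,3,3,0,2,0,1,3] (.node [1,3,1,3,3,2,2,1] .nil .nil) (.node [0,2,3,3,1,3,1,3,3] .nil .nil))) (.node [2,0,2,0,1,3,2,2,0,1,0] (.node [2,1,3,3,2,1,0,2,0,2,2] (.node [3,2,2,2,0,1,3,0,2,1] .nil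 .nil) (.node [0,1,3,0,1,3,2,0] .nil .nil)) (.node [2,3,3,2,1,3,2,0,1,3] (.node [3,3,2,0,1,3,3,0,2,0,1] .nil .nil) .nil))) (.node [1,0,2,3,0,1,3,0,2] (.node [3,0,1,3,3,2,1,3,1,3,1,0] (.node [1,3,2,0,2,3,0,1] (.node [0,2,3,3,0,2] .nil .nil) (.node [2,0,1,3,1,3,3,2,1,0] .nil .nil)) (.node [2,3,3,2,1] (.node [3,3,2,1,0,2,3,0,1,3,3,0] .nil .nil) .nil)) (.node [2,3,3,1,3,0,2,1,3,3] (.node [2,0,2,1,3,2,1,3,1,0] (.node [1,3,2,2,0,1,3,1,0] .nil .nil) (.node [2,0,1,3,0,1,3,2,1,3] .nil .nil)) (.node [2,3,1,3,3,1,3,1,0,2,2] (.node [3,2,2,0,1,3,2,2,0] .nil .nil) .nil))))) (.node [2,0,2,1,3,0,1] (.node [1,0,2,1,3,1,0,2,3,0,1] (.node [0,2,1,0,2,2] (.node [1,3,2,2,1,0,2,2] (.node [3,3,2,1,3,3,1,3,3,0,1] (.node [3,2,0,2,2,1,0,2,1,3] .nil .nil) (.node [0,2,3,3,0,1,3,0,2,1] .nil .nil)) (.node [0,2,2,2,0,1] (.node [3,2,0,1,3,1,0,2] .nil .nil) (.node [3,3,1,3,0,1,3,2,2,2] .nil .nil))) (.node [1,3,3,0,1,3,0,2,0] (.node [1,0,2,3,3,2,2,2,1,0]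 (.node [3,2,2,0,2,1,3,0,1,3,0] .nil .nil) (.node [3,3,1,3,1,3,2,1,0,2,0] .nil .nil)) (.node [3,0,1,3,3,0,1] (.node [2,3,1,0,2,0,2,3,3,0] .nil .nil) .nil))) (.node [3,1,3,0,1,3,3] (.node [2,3,2,2,0,1,3,0,2,0] (.node [2,2,1,0,2,2,0,2,2] (.node [2,3,3,0,1,3,0,1,0] .nil .nil) (.node [2,1,3,3,2,1,3,2,1,0] .nil .nil)) (.node [0,2,0,2,0,2,3,3] (.node [2,1,3,0,2,0,2,0,1] .nil .nil) .nil)) (.node [2,1,3,1,3,0,1,3,3,0,1] (.node [2,1,0,2,0,2,3,3,0] (.node [3,2,0,2,3,1,3,2,2] .nil .nil) (.node [3,3,2,2,0,1,3,2,1,3,1] .nil .nil)) (.node [3,3,2,2,2,0,1,0] (.node [3,1,3,3,2,1,3,3,1,3,1] .nil .nil) .nil)))) (.node [0,1,3,2,2,0,2,1,3,0,1,0] (.node [3,1,3,2,2,0,1,3,2,0] (.node [0,2,3,3,2,0,1,3,2,0] (.node [2,3,3,1,3,1,3,3] (.node [0,1,3,3,2,2,1] .nil .nil) (.node [3,2,1,0,2,3,3,0,2] .nil .nil)) (.node [2,1,3,1,3,1,3,2,1,0] (.node [3,2,0,1,3,2,2,0,1,3,0] .nil .nil) (.node [3,1,3,2,0,2,2,2,1,0,2,2] .nil .nil))) (.node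 [2,3,1,0,2,0,2,3,1,0] (.node [2,3,0,2,1,0,2,3,1,0] (.node [0,1,3,0,1,3,3,0,1,0] .nil .nil) (.node [3,1,0,2,3,0,1,3,1,0] .nil .nil)) (.node [1,3,3,2,1,3,1,3,1,0] (.node [1,3,1,0,2,1,3,3,2,2,0] .nil .nil) .nil))) (.node [3,2,0,2,0,2,2] (.node [3,2,0,1,3,3,2,1,0,2] (.node [3,3,0,2,1,3,3,1,3,0] (.node [2,3,0,2,1,3,3,0,1,0] .nil .nil) (.node [3,2,0,2,0,2,2,0,1,0] .nil .nil)) (.node [2,3,3,2,1,3,2,2,0,1,0] (.node [1,3,2,2,0,2,0,1,3,0] .nil .nil) .nil)) (.node [0,1,3,0,1,3,0,2] (.node [0,2,3,1,3,3,2,2,1] (.node [3,3,1,3,0,2,2,0] .nil .nil) (.node [2,0,2,3,1,3,3,0,2] .nil .nil)) (.node [1,3,0,2,2,1,0,2,2] (.node [3,0,2,1,3,1,3,0] .nil .nil) .nil)))))) (.node [3,2,0,2,0,2,0,1,3] (.node [0,1,3,3,0,1,3,1,0,2] (.node [2,3,1,3,0,1,3,2] (.node [3,0,1,3,0,2,2,2,0,2,1,0] (.node [2,0,2,0,1,3,3,2] (.node [2,2,0,2,0,2,0,2,3,1] (.node [3,2,0,2,3,3,1,0,2,0] .nil .nil) (.node [0,2,1] .nil .nil)) (.node [2,2,1,0,2,0,2,3,1,0]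 (.node [2,3,0,2,1,0,2,2,2,1] .nil .nil) (.node [1,3,2,1,0,2,0,2,0,1,3,3] .nil .nil))) (.node [3,0,2,0,2,3,1,3,0] (.node [0,1,3,1,3,0,2,0,1] (.node [1,3,2,1,3,3,2,1,3,1,0] .nil .nil) (.node [2,1,3,2,1,3,3] .nil .nil)) (.node [1,3,3,2,0,2,0,2,2] (.node [3,0,2,0,2,1,0,2] .nil .nil) .nil))) (.node [2,0,2,1,3,2,2,2,1] (.node [3,3,1,3,1,0,2,0,2,2] (.node [1,3,2,1,3,1,3,1,3,0] (.node [0,1,3,1,3,2,2,2,0,1,3] .nil .nil) (.node [3,1,3,2,0,1,3,2,2,0] .nil .nil)) (.node [3,0,1,3,3,1,3,0,1] (.node [1,3,0,1,3,1,0,2,3] .nil .nil) (.node [2,2,0,1,3,3,0,2,0,2,0] .nil .nil))) (.node [1,3,2,1,0,2,1,0] (.node [2,2,2,0,1] (.node [1,3,3,2,1] .nil .nil) (.node [0,2,2,1,0,2,1,3,3] .nil .nil)) (.node [2,0,2,3,3,0,2,1,3] (.node [2,1,3,0,2,1,0,2,1,3] .nil .nil) .nil)))) (.node [2,1,3,1,3,0,1,3,0] (.node [0,2,2,2,0,1,3,0,2,2,0] (.node [2,0,2,3,3,2,1] (.node [2,3,1,0,2,2,0,2,0,1,0] (.node [3,2,0,2,0,2,0,1] .nil .nil) (.node [2,1,3,3,1,3,0,2,2]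 .nil .nil)) (.node [2,1,3,2,2,0,2,1,3,0,2] (.node [3,1,3,2,1,3,3,2,0] .nil .nil) (.node [3,1,3,1,0,2,2,2,1] .nil .nil))) (.node [2,2,1,0,2,3,1,3,3,2,2] (.node [1,3,2,0,2,1,0] (.node [0,2,2,0,1,3,0] .nil .nil) (.node [2,0,2,3,0,2,2,0,1,0] .nil .nil)) (.node [2,0,2,0,2,3,1,3,2,2] (.node [0,2,1,3,0,2,2,0,2,0] .nil .nil) .nil))) (.node [3,3,0,2,1,0,2,0,1] (.node [0,2,2,0,2,0,2,1,3,2] (.node [1,3,2,0,2,3,3,2,0,2,2] (.node [2,3,3,1,3,1,3,3,1,3] .nil .nil) (.node [0,2,3,3,0,2,0,2,1,0] .nil .nil)) (.node [1,0,2,3,1,3,2,2,0,1,0] (.node [1,3,2,2,1,0,2,2,1,0] .nil .nil) .nil)) (.node [2,1,3,0,2,1,3,3] (.node [2,3,1,3,3,1,3,1,0,2,3] (.node [2,1,3,2,1,3,2,2,2] .nil .nil) (.node [3,3,1,0,2,1,3,0,2,2] .nil .nil)) (.node [0,2,3,1,3,0,1,3,3,1,0] (.node [3,1,3,0,1,3,1,0,2] .nil .nil) .nil))))) (.node [3,1,3,3,2,0,1,3,2,2] (.node [0,1,3,2,1,0,2,2,0,2] (.node [0,1,3,0,2,1,0,2,3,0,1,0] (.node [3,0,1,3,3,1,3,1,3,1,0] (.node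 [2,2,0,1,3,2,2] (.node [0,1,3,3,2,1,3,3,0] .nil .nil) (.node [2,2,0,2,3,1,3,2,2,0] .nil .nil)) (.node [0,2,3,0,2,1,3,0,2,2,1,0] (.node [2,0,2,2,0,1,3,3,2,2] .nil .nil) (.node [2,3,1,3,2,1,0,2,0] .nil .nil))) (.node [2,3,3,1,3,1,3,2,0,1,0] (.node [3,2,1,3,2,0,2,1,0] (.node [0,2,0,2,0,2,3,1,3,2] .nil .nil) (.node [3,2,2,0,2,2,1,0,2] .nil .nil)) (.node [3,1,3,1,3,3,2,2,2,0] (.node [1,0,2,3,3,2,1,3,2] .nil .nil) .nil))) (.node [0,2,1,3,3,1,0,2,2] (.node [2,1,0,2,3,0,1,3,3] (.node [3,2,0,2,3,1,3,0,2,0] (.node [0,1,3,2,1,3,0,2,2,2,1,0] .nil .nil) (.node [3,3,2,0,2,0,1,3,0,2] .nil .nil)) (.node [2,0,1,3,0,2,2,0,2,1,0] (.node [2,3,2,1,3,2,0,2,1,0] .nil .nil) .nil)) (.node [1,0,2,1,3,1,3,2,1,3,2] (.node [1,3,3,2,1,0,2] (.node [2,1,3,0,2,1,3,1,3,2,0] .nil .nil) (.node [0,2,0,2,2,0,2,1,0] .nil .nil)) (.node [3,0,1,3,1,3,0,1] (.node [3,2,1,3,2,1,0] .nil .nil) .nil)))) (.node [2,3,2,0,1,3,3,0] (.node [0,1,3,3,0,1,3,3,0,1]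 (.node [3,2,0,1,3,2,1,3,1,0] (.node [3,2,1,3,3,0,1,3,0] (.node [2,1,3,2,2,1,0,2,3] .nil .nil) (.node [3,3,2,1,3,3,1] .nil .nil)) (.node [2,1,0,2,3,1,3,2,2,0] (.node [2,0,2,0,2,2,2,1,0] .nil .nil) (.node [3,2,1,3,0,1,3,2,2,2] .nil .nil))) (.node [0,2,2,0,2,2,0,2,1] (.node [0,2,3,0,2,2,0] (.node [0,2,3,1,3,2,2,2,1,0] .nil .nil) (.node [1,3,2,0,2,0] .nil .nil)) (.node [3,3,2,2,0,2,0,2,2,0,2] (.node [3,0,1,3,2,0] .nil .nil) .nil))) (.node [1,3,1,3,0,1,3,2,0,1] (.node [3,2,2,2,0,2,0,2,2,1] (.node [2,0,1,3,1,3,2,0,2,2,1] (.node [3,2,1,3,1,3,2] .nil .nil) (.node [2,3,1,3,3,2,1,3,0,2] .nil .nil)) (.node [2,0,2,0,2,1,0] (.node [2,0,2,1,3,3,0] .nil .nil) .nil)) (.node [2,1,3,2,1,3,2,2,1] (.node [0,1,3,2,0,2,3,3,2,1] (.node [3,1,0,2,0,1,3,2,0] .nil .nil) (.node [2,2,2,0,1,3,3,2,1,0] .nil .nil)) (.node [2,2,0,2,1,0,2,1,0,2] (.node [3,3,1,3,2,0,2,0,2,1] .nil .nil) .nil))))))) (.node [0,2,3,1,0,2,2,2,0,2] (.node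 [1,3,1,3,3,2,1,3,1,3] (.node [3,1,0,2,3,3,2,2,2,1] (.node [2,3,2,2,1,0,2,3,0,2,1] (.node [1,0,2,3,3,2,0,2,2,0,1,0] (.node [3,2,2,0,2,1,3,0] (.node [2,1,3,2,1,3,2,0,1,3] (.node [0,2,1,0,2,0,2,2,0,1] .nil .nil) (.node [0,1,3,2,2,0,2,0,1,0] .nil .nil)) (.node [3,2,1,0,2,3,1,0,2,1,0] (.node [1,3,0,1,3,3,1,3,2,1] .nil .nil) (.node [3,0,1,3,3,2,0,1,3,1] .nil .nil))) (.node [0,2,1,0,2,0,2,2,0,1,0] (.node [3,0,1,3,3,0,2,1,0,2,0] (.node [2,2,2,1,0,2,1,3,3] .nil .nil) (.node [0,2,0,2,0,2,0,1,3,2] .nil .nil)) (.node [3,2,2,0,2,0,1] (.node [0,2,0,2,0,2,2,1,0] .nil .nil) .nil))) (.node [0,2,0,2,2,0,2,2] (.node [3,1,3,1,3,1,3,2,2] (.node [3,1,3,2,0,1] (.node [2,2,0,2,1,0,2,2,2,1] .nil .nil) (.node [2,3,2,1,3,3,2,2,1] .nil .nil)) (.node [3,2,0,2,1,3,2,1,3,2,1] (.node [1,3,3,0,2,1,3,0,2,0] .nil .nil) (.node [1,0,2,0,2,3,3,1,3,1,0,2] .nil .nil))) (.node [3,2,1,3,2,1,3,2,0,1,3] (.node [2,1,3,3,0,1,3,0,1,3,0] (.node [2,1,3,3,2,0,1,3,1]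 .nil .nil) (.node [0,1,3,3,0,1,3,1,0,2,3] .nil .nil)) (.node [1,3,2,2,0,2,3,0,1,3,2,0] (.node [3,1,3,2,1,3,2,2,0] .nil .nil) .nil)))) (.node [1,3,3,1,0,2,3,0,1,0] (.node [2,0,2,3,1,3,1,3,2,1] (.node [3,0,2,0,1,3,1,3,1,0] (.node [1,3,2,2,0,1,3,0,2] (.node [2,2,1,0,2,1,0,2,3,0,1,0] .nil .nil) (.node [1,3,2,0,2,2] .nil .nil)) (.node [2,3,0,2,1,3,2,1,3,2] (.node [0,2,0,1,3,3,2,1,0] .nil .nil) (.node [0,1,3,2,0,1,3,2,0,2,1] .nil .nil))) (.node [1,0,2,3,1,3,0,2] (.node [1,3,0,2,2,0,2,3,3,1,0] (.node [3,0,2,2,0,2,0,1,3,2,0] .nil .nil) (.node [3,0,2,0,2,1,3,2,2,1,0] .nil .nil)) (.node [3,3,2,0,1,3,2,2,1] (.node [3,0,2,1,3,2,2,2,1,0] .nil .nil) .nil))) (.node [3,0,2,1,3,3,0,2,2,0] (.node [2,0,2,0,2,0,2,0] (.node [2,2,0,2,0,2,0,2,1] (.node [3,0,2,0,1,0] .nil .nil) (.node [3,3,1,0,2,3,1,3,3] .nil .nil)) (.node [3,0,1,3,1,3,2,0,2,2,1] (.node [2,0,1,3,0,2,2,0,2,0] .nil .nil) .nil)) (.node [1,3,2,2,0,2,1,3,2] (.node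 [3,1,3,2,1,3,3,1,0] (.node [3,2,1,3,1,3,3,1] .nil .nil) (.node [0,2,3,0,2,0,1,3,0] .nil .nil)) (.node [2,2,2,1,0] (.node [0,2,3,1,0,2,2,0,2,3,1] .nil .nil) .nil))))) (.node [2,3,0,1,3,2,2,2,0,1,0] (.node [3,2,0,2,3,3,2,1] (.node [3,1,3,3,0] (.node [2,1,0,2,2,0,2,0,2,0] (.node [2,0,2,2,2,0,2,0,1] (.node [1,3,0,1,3,2,0,1] .nil .nil) (.node [3,2,0,2,0,2,1,3,2,1] .nil .nil)) (.node [1,0,2,2,1,0] (.node [3,3,2,1,3,2,2,0] .nil .nil) (.node [3,2,0,1,3,0,2,1,3,1] .nil .nil))) (.node [1,0,2,3,0,1,3,3,2,2] (.node [2,3,3,2,2,0,2,0,2,2] (.node [1,0,2,2,0,2,3,1,3] .nil .nil) (.node [3,0,1,3,0,1,3,2,0] .nil .nil)) (.node [2,1,0,2,0,2,0,2,3,0,2] (.node [3,0,2,2,0,2,2,0,2,1] .nil .nil) .nil))) (.node [0,1,3,2,1,3,0,2] (.node [2,2,0,2,3,1,0,2,3,3] (.node [2,0,2,2,2,0,1,3,2,0] (.node [3,3,2,0,1,3,3,2,2] .nil .nil) (.node [2,1,0,2,3,3,1,3,2,1,3] .nil .nil)) (.node [2,3,0,2,1,0,2,3,1] (.node [2,2,0,1,3,0,2,2,0,2,3,1] .nil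 .nil) .nil)) (.node [2,1,3,1,3,2,0,2,3,3] (.node [2,1,3,3,1,3,3,1,3,0,1] (.node [2,3,1,3,3,0,1,3,1,3,0] .nil .nil) (.node [3,1,0,2,1,3] .nil .nil)) (.node [3,1,3,3,1,0,2,3,0,2,1,0] (.node [3,1,3,1,3,1,0,2,2,1] .nil .nil) .nil)))) (.node [2,3,0,2,0,1,3,2,0] (.node [3,3,0,1,3,3,0,1,3] (.node [3,1,3,1,0,2,3,0,1,0] (.node [1,3,2,0,2,3,0,2] (.node [3,2,1,3,1,3,3,2,2,1] .nil .nil) (.node [2,0,1,3,0,1,3,1,3,2] .nil .nil)) (.node [0,2,3,0,1,3,3,2] (.node [0,2,0,2,3,3,0,2,2,1] .nil .nil) (.node [2,3,3,1,0,2,2,1,0,2] .nil .nil))) (.node [3,3,1,3,1,3,2,0,2,3,3] (.node [3,2,1,3,3,1,3,2,1] (.node [3,1,0,2,3,0,2,2,0,2,2] .nil .nil) (.node [1,3,1,3,2,0,2,1,3] .nil .nil)) (.node [2,3,1,0,2,0,2,3,1] (.node [1,3,2,2,1,0,2,2,0,1] .nil .nil) .nil))) (.node [2,3,1,3,1,3,2,0,1] (.node [1,0,2,1,3,0,2,1,3] (.node [0,2,3,3,2,2,2,0] (.node [0,2,0,2,3,1,3,1,3,2,1] .nil .nil) (.node [0,1,3,2,2,1,0,2,1,0] .nil .nil)) (.node [2,3,2,1,3,0,2,0,1,3,0]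 (.node [3,2,0,2,0,2,3,0,1,3,0] .nil .nil) .nil)) (.node [0,2,1,0,2,1,3,3] (.node [3,0,1,3,1,3,3,0,1,0] (.node [3,3,1,3,2,2] .nil .nil) (.node [1,3,1,3,0,1,3,2,0,2,0] .nil .nil)) (.node [3,3,1,0] (.node [3,2,2,1,0,2,2,2,0,2,2] .nil .nil) .nil)))))) (.node [1,3,0,2,2,0,1,3,0] (.node [3,1,3,2,2] (.node [1,3,1,3,2,2,1] (.node [3,3,1,3,2,0,2,1,3,2] (.node [2,2,1,0,2,2,1,0] (.node [3,1,3,1,0,2,2,1] (.node [1,3,1,3,1,3,0,2,2,1] .nil .nil) (.node [2,3,3,1,3,3] .nil .nil)) (.node [2,3,3,2,1,3,3,0,2,2,1] (.node [2,3,2,2,1,0,2,0,2,0,2,0] .nil .nil) (.node [1,3,2,2,1,0,2,0] .nil .nil))) (.node [2,3,1,0,2,1,0,2,2] (.node [3,3,2,0,2,2,0,2,1,3,0] (.node [2,3,3,0,1,3,2,0,1] .nil .nil) (.node [1,0,2,3,3,0,1,3] .nil .nil)) (.node [3,2,0,2,3,0,2,2,1,0] (.node [3,3,0,2,1] .nil .nil) .nil))) (.node [2,2,0,2,1,3,0,2,1,3] (.node [0,2,3,3,1,3,0,2,2,2,1] (.node [0,2,3,3,1,3,2] (.node [2,1,0,2,2,0,1] .nil .nil) (.node [2,2,0,2,3,0,2,0,1,0]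 .nil .nil)) (.node [3,3,2,1,3,3,0,1,0] (.node [3,2,0,2,3,1,0,2,2,1] .nil .nil) (.node [3,0,1,3,3,0,2,0,2,0] .nil .nil))) (.node [3,2,2,0,1,3,3,2] (.node [1,3,2,1,3,2,1,3,0,2] (.node [1,3,3,1,3,1,0,2,0,2] .nil .nil) (.node [2,3,1,3,0,1,3,2,1,0] .nil .nil)) (.node [2,0,1,3,0,2,2,0,2,1] (.node [2,1,0,2,3,3,1,3,1] .nil .nil) .nil)))) (.node [0,1,3,2,2,0,2,2] (.node [2,1,0,2,3,3,2,2,1] (.node [0,1,3,2,2,1,0] (.node [2,1,3,2,1,0,2,3,3] (.node [3,3,2,1,3,3,2,2,2,1,0] .nil .nil) (.node [3,1,3,2,0,2,3,3,2,1,0] .nil .nil)) (.node [2,0,2,3,1,3,1,0,2,2,1] (.node [3,2,0,1,3,1] .nil .nil) (.node [0,2,1,3,0,2,1,0,2,0] .nil .nil))) (.node [0,2,2,0,2,1,3,1,3,3] (.node [0,2,2,2,0,2,2,1] (.node [2,3,0,1,3,1,3,2,0,1,0] .nil .nil) (.node [3,1,3,2,2,1,0,2,1,3] .nil .nil)) (.node [0,2,2,0,2,0,2,0,2,0] (.node [0,1,3,2,0,1,3,3,2,1] .nil .nil) .nil))) (.node [3,2,2,0,2,3] (.node [1,3,1,3,3,2,2,1,0] (.node [1,3,2,2,0,2,2,2,1,0]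 (.node [1,0,2,1,0,2,3,0,1,0] .nil .nil) (.node [2,3,2,2,1,0,2,0,2,1] .nil .nil)) (.node [3,0,2,1,3,1,3,2,0,1] (.node [1,3,3,2,1,3,1,3,2,0] .nil .nil) .nil)) (.node [2,0,1,3,3,1,3,0] (.node [2,0,2,3,0,2,2,1] (.node [3,0,1,3,2,0,2,3,1] .nil .nil) (.node [2,3,2,2,0,2,1,3] .nil .nil)) (.node [1,0,2,3,3,0,1,3,3] (.node [1,3,2,2,2,0,1,3,1] .nil .nil) .nil))))) (.node [1,3,0,1,3,3,0,2,1] (.node [1,3,1,3,2,1,3,3,1,0] (.node [3,2,2,1,0,2,3,0,1,3,0] (.node [0,2,1,3,0,2,0,2,3] (.node [1,3,3,1,3,1,3,3,0,1,0] (.node [2,0,2,3,0,1,3,3,2,1] .nil .nil) (.node [2,1,3,3,1] .nil .nil)) (.node [2,2,2,1,0,2,2,0,2,2] (.node [2,0,1,3,1,3,2,0,2,0,1] .nil .nil) (.node [0,2,2,0,2,2,0,2,2,2,1,0] .nil .nil))) (.node [3,1,3,3,1,3,2,1,3] (.node [2,1,3,1,3,2,1,3,2] (.node [0,2,1,3,3,1,3,2,2,2] .nil .nil) (.node [0,2,2,0,2,3,1,3,1,3] .nil .nil)) (.node [3,1,0,2,3,1,3,2] (.node [2,2,0,2,3,1,3,1,3,0] .nil .nil) .nil))) (.node [0,2,1,3,2,0,2,1,0,2]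 (.node [1,0,2,0,2,0,2,1,3,2] (.node [1,3,3,1,3,0,1,3,3,2] (.node [1,0,2,0,1,3] .nil .nil) (.node [0,2,2,2,0,2,0,1] .nil .nil)) (.node [0,2,0,2,3,3,0,2,2] (.node [3,1,3,2,1,0,2,1,3,1] .nil .nil) .nil)) (.node [3,1,3,0,2,2,0,2,2,1] (.node [2,2,0,2,2,0,1,3,2,1] (.node [2,1,3,2,2,1,0,2] .nil .nil) (.node [1,0,2,0,2,1,0,2,0,2,0] .nil .nil)) (.node [3,3,1,0,2,2,2,0,1] (.node [2,1,3,2,2,2,0,2,2,1] .nil .nil) .nil)))) (.node [1,3,2,1,3,2,1,3,3,1] (.node [1,0,2,1,3,1,3,2,2] (.node [3,0,2,0,2,2,1,0,2,3] (.node [1,0,2,1,3,3,0,2,0,1,3] (.node [3,1,3,2,1,3,0,1,3,1] .nil .nil) (.node [3,2,2,0,1,3,0,2,2,0] .nil .nil)) (.node [2,0,2,3,1,3,0] (.node [1,3,2,2,0,2,3,0,1,0] .nil .nil) (.node [3,3,2,2,2,0,2,2,2,1] .nil .nil))) (.node [2,2,0,2,1,3,2,2,2,0] (.node [2,3,3,2,2,0,1,3] (.node [1,0,2,1,3,0,1,3,1] .nil .nil) (.node [1,0,2,3,1,3,0,2,0,1] .nil .nil)) (.node [0,2,0,1,3,2,0,2,3,1] (.node [2,1,3,3,2,2,0,2,2,1,0] .nil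 .nil) .nil))) (.node [3,1,0,2,3,3,1,3,3] (.node [2,1,3,1,3,3,1,3,1,0] (.node [0,2,1,3,1,0,2,0] (.node [0,2,1,3,2,1,3,3] .nil .nil) (.node [3,3,2,0,2,1,0,2,3,1,0] .nil .nil)) (.node [0,2,1,3,0,1,3,0,2,0] (.node [1,0,2,0,2,3,1,0,2,2] .nil .nil) .nil)) (.node [2,1,3,3,1,3,1,3,2] (.node [3,2,2,2,0,2,2,1,0] (.node [0,1,3,2,1,3,2,0,2,1,0] .nil .nil) (.node [2,3,1,0,2,3,1,3,3,2] .nil .nil)) (.node [3,2,0,2,0,1,3,3,2] (.node [0,2,3,0,2,0,2,3,0,2,2,0] .nil .nil) .nil))))))))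

/-- Part of `setWord`. -/
noncomputable def setWord_r_r_r_l_r : Arr (List ℕ) :=
  (.node [3,2,2,2,0,1,3] (.node [0,1,3,0,2,2,2,0,2,1,0] (.node [3,2,0,2,1,3,1,3,0,2,0] (.node [0,1,3,3,1,3,3,2,2,0] (.node [3,3,2,0,2,0,2,0,2,1,3,1] (.node [1,3,0,2,1,3,0,2] (.node [1,3,1,3,1,0,2,3,0,2,2,0] (.node [3,3,1,3,2,1,3,3,2,0] (.node [3,1,0,2,3,0,2,2,1,0] .nil .nil) (.node [0,2,2,2,0,1,3,0,2,0] .nil .nil)) (.node [3,3,1,0,2,3,1,3,3,1,3,1] (.node [1,3,2,0,2,3,1,3,2,1] .nil .nil) (.node [1,3,2,2,2,0,2,0] .nil .nil))) (.node [3,3,1,3,3,0,2,1,0] (.node [3,1,0,2,1,0,2] (.node [1,3,2,1,3,3,0] .nil .nil) (.node [2,2,1,0,2,3,3,0,2] .nil .nil)) (.node [3,2,1,0,2,0,2,1,3,0,1] (.node [0,2,3,3,0,1,3,0,2,2,2] .nil .nil) .nil))) (.node [2,3,2,0,2,0,2,0,2,0,1] (.node [2,2,0,2,3,1,3,3,2,2] (.node [2,1,3,3,2,0,2,1,0] (.node [3,0,2,0,2,1,3,3,0,2,1] .nil .nil) (.node [0,2,3,1,3,2] .nil .nil)) (.node [3,3,2,2,2,0,2,1] (.node [3,0,2,2,2]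 .nil .nil) (.node [1,3,2,0,2,2,2,1,0,2,2] .nil .nil))) (.node [3,3,1,3,3,2,1,0] (.node [1,3,3,2,1,3,2,0,1] (.node [2,3,3,1,3,3,0,1,3,1,0] .nil .nil) (.node [2,3,1,3,3,0,2,1,3] .nil .nil)) (.node [2,1,3,0,2,2,2] (.node [2,0,2,3,3,1,0,2,2,0,1] .nil .nil) .nil)))) (.node [2,3,0,2,2,0,2,2,0,1] (.node [3,0,2,2,2,0,2,1] (.node [3,3,2,1,0,2,0,2,1,0] (.node [3,3,2,1,0,2,1,0,2,0,2,0] (.node [3,3,0,1,3,2,2,0,1,3] .nil .nil) (.node [2,0,1,3,1,3,2,1] .nil .nil)) (.node [3,2,0,2,0,2,3,1,3,3,1] (.node [3,0,2,2,1,0] .nil .nil) (.node [3,3,0,2,0,2,0,2,1,0,2] .nil .nil))) (.node [1,3,2,2,1,0,2,1] (.node [0,2,2,2,0,2,1,3,3,1,0] (.node [0,2,2,1,0,2,2,1,0,2,1,0] .nil .nil) (.node [2,3,2,1,3,2,0,2,0] .nil .nil)) (.node [1,0,2,3,3,1,3,2,1,3] (.node [3,1,0,2,3,3,1,0,2,3,1] .nil .nil) .nil))) (.node [3,3,2,1,3,3,0,2] (.node [3,3,1,0,2,2,0,2,2,1] (.node [3,1,3,1,3,0,2,2] (.node [1,3,0,1,3,3,2,2,0,1,0] .nil .nil) (.node [3,0,1,3,2,2,0,2,2,1,0]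 .nil .nil)) (.node [0,2,3,1,0,2,0,2,0,1,3] (.node [1,0,2,0,2,0,2,0,2] .nil .nil) .nil)) (.node [1,3,2,1,3,1,0,2,2] (.node [2,2,0,2,2,0,2,0,1,0] (.node [2,3,1,3,2,1,0,2,2] .nil .nil) (.node [2,3,2,0,1,3,2,1,3,1] .nil .nil)) (.node [1,3,1,3,2,0,2,3,0,2,1] (.node [1,3,1,3,0,1,3,1,0,2] .nil .nil) .nil))))) (.node [1,3,0,2,2,0,2,3,1,3] (.node [2,1,3,2,0,2,1,0,2,2,1] (.node [1,3,0,2,1,3,3,2,1,0,2] (.node [3,1,3,2,0,2,3,0,2,0] (.node [2,2,0,2,3,1,0,2,1] (.node [3,0,2,1,3,0,1,3,0] .nil .nil) (.node [2,2,0,2,3,3,0,2,2] .nil .nil)) (.node [1,0,2,1,3,3,2,2] (.node [2,3,0,1,3,3,1,3,3] .nil .nil) (.node [3,3,1,3,0,1,3,3,2,1,0] .nil .nil))) (.node [2,3,1,3,2,2,0,1,3,1] (.node [2,1,0,2,3,1,3,2,2] (.node [0,1,3,0,2,2,0,2,2,1] .nil .nil) (.node [2,3,1,3,0,2,1,3] .nil .nil)) (.node [0,2,2,2,0,2,1,3,3,0] (.node [2,2,0,2,2,2,0,2,0,1] .nil .nil) .nil))) (.node [1,3,2,0,1,3,1,0,2,3] (.node [3,3,2,2,0,2,0,1,3,0] (.node [2,2,0,2,3,3,2,0,1,0]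 (.node [2,3,2,0,1,3,3,0,2,2] .nil .nil) (.node [1,3,0,2,2,0,1,0] .nil .nil)) (.node [2,3,1,3,0,2,1,3,0,2] (.node [1,0,2,0,2,3,1,0,2,3,1,0] .nil .nil) .nil)) (.node [2,0,2,3,3,0,2,0,1,0] (.node [0,2,3,1,3,1,3,3,2,1] (.node [2,3,2,0,1,3,0,2,2,0,2,0] .nil .nil) (.node [1,3,3,1,3,2,0,2,3,1] .nil .nil)) (.node [2,3,1,3,0,1,3,2,1] (.node [2,3,3,2,1,3,1,3,2] .nil .nil) .nil)))) (.node [1,0,2,3,0,1,3,2,2,0] (.node [1,3,0,2,1,0,2,0,2,0] (.node [0,2,3,0,2,0,2,1,3] (.node [1,3,1,3,3,1,3,3,0,1] (.node [2,3,3,2,0] .nil .nil) (.node [3,3,0,2,1,3,1,3,3,1] .nil .nil)) (.node [0,1,3,1,3,3,1,3,1,0] (.node [2,2,2,0,2,2,0,1,0] .nil .nil) (.node [0,2,0,2,3,0,1,3,3,0] .nil .nil))) (.node [1,0,2,1,0,2,2,0,2,1,0] (.node [2,0,2,0,2,3,1,0,2,1] (.node [1,3,1,3,3,0,1,3,3,1,0] .nil .nil) (.node [1,0,2,0,2,2,0,2,1,3,0] .nil .nil)) (.node [1,3,2,0,2,3,3,2] (.node [3,2,0,2,0,2,0,2,2,1,0] .nil .nil) .nil))) (.node [0,2,1,3,2,1,3,1,3,2]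 (.node [3,2,0,2,0,2,2,0,2,1] (.node [2,1,3,1,3,2,0,2,0,2,2] (.node [3,3,2,1,3,2,2,1,0,2,3] .nil .nil) (.node [1,0,2,3,3,0,2,1,3,2] .nil .nil)) (.node [2,1,3,0,2,1,0,2,3,0,2] (.node [1,3,3,1,3,0,1,3,2,0] .nil .nil) .nil)) (.node [1,3,0,2,1,3,0,1,3,1,0] (.node [2,2,0,2,2,2,0,2,2,1] (.node [3,2,0,1,3,1,3,0] .nil .nil) (.node [3,3,2,1,0,2,0] .nil .nil)) (.node [1,0,2,3,0,2,1,0] (.node [3,2,2,0,1,3,0,2,2] .nil .nil) .nil)))))) (.node [0,1,3,3,2,1,3,3,1] (.node [2,3,3,0,2,2,2,1,0] (.node [2,0,2,0,2,3,0,2,0,1,3,3] (.node [3,2,0,2,3,3,0,2,1,3,3,0] (.node [3,1,3,3,2,2,2,0,1,0] (.node [2,0,2,1,3,1,0,2,3,3] (.node [1,3,1,3,2,1,3,1,0] .nil .nil) (.node [1,3,3,2,1,3,2,2,2,1] .nil .nil)) (.node [3,0,2,0,2,0,2,0,2,1,0] (.node [0,1,3,3,2,0,2,2,2,1] .nil .nil) (.node [3,0,1,3,3,2,0,2,0] .nil .nil))) (.node [1,3,2,1,3,3,1,3,0] (.node [1,3,1,3,1,0,2,2,1] (.node [2,2,2,0,2,1,3,2,2,0] .nil .nil) (.node [0,2,3,1,3,2,2] .nil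 .nil)) (.node [2,0,1,3,3,2,2,1] (.node [2,2,0,2,1,3,3,0,1,0] .nil .nil) .nil))) (.node [3,2,2,2,0,1,3,0,2,2] (.node [3,0,2,1,3,0,1,3,2,2,1] (.node [2,1,3,0,2,1,0,2,3] (.node [1,3,2,1,3,3,1,3,2,0] .nil .nil) (.node [1,3,1,3,1,3,1,3,0] .nil .nil)) (.node [3,0,1,3,3,1,3,0] (.node [3,3,1,3,0,1,3,2,2,2,1] .nil .nil) (.node [2,0,1,3,3,1,3,2,2,2,1] .nil .nil))) (.node [2,1,0,2,2,0,2,3,0,1,3] (.node [2,1,3,3,0,1,3,0,2] (.node [2,3,2,1,3,3,0,2,2,1] .nil .nil) (.node [3,3,2,1,3,0,2,2,2,1] .nil .nil)) (.node [1,3,2,0,1,3,1,3,1,0] (.node [0,2,3,0,2,1,3,0,2,0] .nil .nil) .nil)))) (.node [2,1,0,2,1,3,3,0,2,0] (.node [2,3,0,2,0,2,0,2,3,3,1] (.node [1,3,1,3,3,2,1,3,3,1,3,0] (.node [2,3,1,3,1,3,1,3,0] (.node [3,1,0,2,1,3,3,2,2,2,1] .nil .nil) (.node [2,3,2,1,3,3,1,3,0] .nil .nil)) (.node [3,2,0,2,0,1,3,2,1] (.node [2,0,2,2,0,1,3,3] .nil .nil) (.node [2,1,3,2,1,0,2,0] .nil .nil))) (.node [2,3,3,1,3,3,0,2] (.node [1,0,2,3,3,0,2,0,1]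 (.node [2,2,0,1,3,0,1,3,3,2] .nil .nil) (.node [3,1,3,1,3,2,2,1,0,2,0] .nil .nil)) (.node [1,3,2,1,0,2,2,2,0,2,0] (.node [3,2,1,3,2,0,1,3,2] .nil .nil) .nil))) (.node [0,1,3,2,0,2,1,3,3] (.node [0,1,3,0,1,3,0,2,1] (.node [0,1,3,2,0,1,3,0,2,0] (.node [0,2,3,1,3,2,0,2,3,1,0] .nil .nil) (.node [3,3,1,0,2,2,0,2,2,1,0] .nil .nil)) (.node [0,2,2,0,2,0,2,2,2,1] (.node [2,3,1,3,2,2,2,1,0] .nil .nil) .nil)) (.node [0,2,0,2,1,0,2,0,2,2,1,0] (.node [3,2,1,0,2,1,3,1] (.node [1,3,2,1,3,3,2,1,3,2,1] .nil .nil) (.node [2,3,3,2,0,2,0] .nil .nil)) (.node [2,0,2,3,1,0,2,2,2] (.node [1,3,2,2,0,1,3,2,2,0] .nil .nil) .nil))))) (.node [2,0,2,3,0,2,0,1,3,2,1] (.node [2,2,2,0,1,3,3,0,2] (.node [2,3,1,3,0,2,0,1,3,2] (.node [3,1,0,2,1,0,2,0,2,2] (.node [1,3,1,3,2,0,2,1,3,2,2,1] (.node [1,0,2,2,2,0,2,0,1] .nil .nil) (.node [2,1,3,3] .nil .nil)) (.node [1,3,0,2,2,2,0,2,0,1] (.node [0,1,3,2,2,2,0,2,2,0,2,0] .nil .nil) (.node [3,2,1,0,2,0,2,1,0,2,1]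 .nil .nil))) (.node [0,2,0,2,3,0,2,0,2,1] (.node [2,3,1,3,2,0,2,3,3,1] (.node [3,3,1,3,0,2,2,0,2,2,1] .nil .nil) (.node [3,1,3,2,2,1,0,2,3,1] .nil .nil)) (.node [2,0,2,3,3,0,2,2,0] (.node [1,3,0,2,0,2,1,3,3,1,0] .nil .nil) .nil))) (.node [1,3,0,2,1,3,0,1,3,3,0] (.node [2,0,2,0,1,3,2,2,2,0] (.node [1,3,1,3,3,0,2,1,3,0,2] (.node [0,2,0,2,0,2,0] .nil .nil) (.node [3,2,0,2,0,2,3,0,2,2,0] .nil .nil)) (.node [2,0,2,0,2,1,3,0,2,2,0] (.node [2,0,1,3,2,0,2,3,1] .nil .nil) .nil)) (.node [2,3,1,3,0,2,1,3,0,1] (.node [2,1,3,1,3,0,2,2,2,1,0] (.node [0,2,3,3,1,3,3,2,0,2,0] .nil .nil) (.node [2,0,2,2,1,0,2,1,0,2] .nil .nil)) (.node [0,2,1,3,3,1,3,0] (.node [3,2,0,2,3,0,2,0] .nil .nil) .nil)))) (.node [3,3,0,1,3,3,2,2,0,1,0] (.node [0,1,3,3,0,1,3,3,0] (.node [3,2,2,0,2,0,1,3,3,2,0] (.node [1,3,0,2,1,0,2,2,2,1] (.node [2,3,1,0,2,1] .nil .nil) (.node [3,2,0,2,0,2,3,3,2,0,2,0] .nil .nil)) (.node [0,1,3,0,2,1,0,2,2] (.node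 [3,2,1,3,0,1,3,0,1,0] .nil .nil) (.node [2,3,1,0,2,3,1,0,2,2] .nil .nil))) (.node [1,3,2,1,3,0,2,1,3,0,1] (.node [2,1,3,2,1,3,2,0] (.node [3,2,1,3,2,2,2,1,0] .nil .nil) (.node [2,3,0,1,3,1,3,2,1,0,2,0] .nil .nil)) (.node [0,2,2,0,2,0,1,3,2,1,3] (.node [3,0,1,3,1,3,3,2,1,0] .nil .nil) .nil))) (.node [2,2,0,2,3,3,2,1] (.node [2,1,3,3,1,3,3,0,1,3,3,1] (.node [1,3,2,2,0,1,3,3,0,2,1] (.node [2,1,3,3,1,3,3,0,2,2,1] .nil .nil) (.node [3,2,2,0,2,3,0,2,0,1] .nil .nil)) (.node [3,1,0,2,3,3,0,1,0] (.node [1,0,2,0,2,2,0,1,3,2] .nil .nil) .nil)) (.node [3,2,1,0,2,3,3] (.node [3,2,0,1,3,3,1,3,2,1] (.node [3,3,1,0,2,2] .nil .nil) (.node [1,3,1,3,2,2,2,1,0,2,0] .nil .nil)) (.node [3,1,3,0,1,3,1,3,0,1] (.node [0,2,2,0,2,3,1,3,2] .nil .nil) .nil))))))) (.node [3,0,2,0,2,3,3,1,0] (.node [3,0,2,2,2,0,2,2,0,2,2] (.node [2,1,3,0,1,3,0,2,2] (.node [1,3,3,1,3,3,1,3,0,2,1] (.node [2,2,0,1,3,2,0,2,1] (.node [2,3,1,3,0,2,1,3,1,0,2]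 (.node [3,3,0,2,1,0] (.node [3,1,3,2,0,1,3,1,3,3,0] .nil .nil) (.node [2,1,3,0,1,3,0,2,0,1,0] .nil .nil)) (.node [3,3,0,1,3,2,2,0,1,0] (.node [2,0,1,3,2,1,0,2] .nil .nil) (.node [0,2,3,1,3,3,2] .nil .nil))) (.node [3,2,1,3,3,2,2,0,2,2,1] (.node [3,3,1,3,3,0,1,3,2,0] (.node [2,3,0,2,1,3,3,0,2,0] .nil .nil) (.node [1,3,3,1,3,3,1,3,1] .nil .nil)) (.node [0,2,1,3,2,1,0] (.node [3,2,2,0,1,3,1,0] .nil .nil) .nil))) (.node [2,3,3,0,1,3] (.node [2,3,0,2,0,2,3,0,2,0] (.node [0,1,3,3,1,3,3,1,3,2,0] (.node [2,1,3,2,1,3,3,2,2,1] .nil .nil) (.node [0,2,3,1,3,0,1,3,1,3,0] .nil .nil)) (.node [2,3,1,0,2,3,1,0] (.node [0,1,3,3,1,3,0,2,1,3,1] .nil .nil) (.node [2,3,3,1,0,2,3,1] .nil .nil))) (.node [2,1,0,2,2,0,2,1,3,0] (.node [2,1,3,0,2,2,1,0,2,0,1] (.node [0,2,3,0,2,1,0,2,0] .nil .nil) (.node [3,1,3,1,3,1,3,0,2,0] .nil .nil)) (.node [3,2,1,0,2,2,1,0] (.node [3,0,2,1,3,1,3,3] .nil .nil) .nil)))) (.node [2,3,3,1,3,0,1,3,2,2]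 (.node [3,1,0,2,2,0,2,0,1] (.node [3,1,3,1,3,1,3] (.node [3,3,1,3,3,0,1,3,2,2,2,0] (.node [2,1,3,3,1,3,1,3,3,2] .nil .nil) (.node [0,2,1,3,0,2,2,2] .nil .nil)) (.node [2,1,0,2,1,3,3,1,3,1] (.node [0,2,2,2,1,0,2,1,3,3] .nil .nil) (.node [1,3,3,0,2,2,2,1] .nil .nil))) (.node [1,3,3,0,2,2,2,0,2,0] (.node [3,3,2,1,0,2,2,0,2,2] (.node [3,1,3,2,1,0,2,2,2] .nil .nil) (.node [2,3,1,3,2,1,0,2,3,1] .nil .nil)) (.node [3,1,0,2,1,3,0,1,0] (.node [1,3,2,1,3,1,3,2,2,0] .nil .nil) .nil))) (.node [0,1,3,0,2,2,0,2,3,1,0] (.node [3,2,0,2,2,0,2,1,3,3,0,2] (.node [2,3,1,3,2,0,1,3] (.node [1,3,2,1,0,2,2] .nil .nil) (.node [2,0,2,1,3,2,2,0] .nil .nil)) (.node [2,0,2,1,3,1,3,3,1,3,0] (.node [2,0,2,0,2,3,1,3,2] .nil .nil) .nil)) (.node [3,2,0,2,3,1,3,0,1] (.node [3,1,3,2,0,2,3,3,2,1] (.node [1,3,1,3,0,2,2,0,2] .nil .nil) (.node [3,2,1,3,0,2,0] .nil .nil)) (.node [3,2,2,0,2,1,3,0,2,0] (.node [3,2,0,2,0,2,1,3,0] .nil .nil) .nil)))))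 (.node [3,3,1,3,2,0,1,3,2,2,0] (.node [3,1,3,3,0,2,0,2,1] (.node [3,2,1,0,2,1,3,1,3,0] (.node [3,0,1,3,2,2,0,2,0,1,0] (.node [1,3,3,1,0,2,3,3,1] (.node [2,1,3,1,3,0,1,3,2,0,1] .nil .nil) (.node [3] .nil .nil)) (.node [2,3,3,2,1,3,2,0,1] (.node [2,0,2,2,0,2,3,3,0,1,0] .nil .nil) (.node [3,1,3,2,1,3,2,0,2,0] .nil .nil))) (.node [3,2,0,2,3,3,1,3,1,3,0] (.node [2,3,3,1,3,0,1,3,1,0] (.node [0,2,1,3,3,0,1,3,0] .nil .nil) (.node [3,2,1,0,2,2,2,1] .nil .nil)) (.node [2,3,0,2,1,3,1,3,0] (.node [3,2,1,3,3,2,1,3,1,0,2,1] .nil .nil) .nil))) (.node [2,3,0,2,1,3,0,2] (.node [0,2,0,2,3,0,2,0,1,3,0] (.node [3,1,3,0,2,0,1,3,3,0,2] (.node [0,2,2,0,2,3,3] .nil .nil) (.node [3,1,0,2,2,0,2,0,1,0] .nil .nil)) (.node [3,3,0,2,1,3,3] (.node [1,3,2,0,1,3,2] .nil .nil) .nil)) (.node [3,1,3,1,3,3,0,1,3,2,2,0] (.node [3,2,2,2,0,2,1,3,2,2,0] (.node [3,0,1,3,1,0,2,3,1] .nil .nil) (.node [2,2,1,0,2,2,2,1] .nil .nil)) (.node [2,0,1,3,3,0,1,3,1]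 (.node [1,0,2] .nil .nil) .nil)))) (.node [3,1,3,1,0,2,1,3,3] (.node [3,3,2,1,3,2,2,0,1,0] (.node [0,2,0,2,1,0,2,2,0,1,0] (.node [2,3,3,1,3,0,1,3,0,2,0,1] (.node [3,1,3,2,2,0,2,0,2,0] .nil .nil) (.node [2,2,0,1,3,1,3,3] .nil .nil)) (.node [0,1,3,2,2,0,2,2,2,1,0] (.node [0,2,0,2,2,0,1,3,2] .nil .nil) (.node [0,2,1,3,0,2,1,3,0,1] .nil .nil))) (.node [3,3,1,3,3,0,1,3,2,2,0] (.node [2,2,0,2,2,0,2,0,2] (.node [0,2,3,1,3,1,3,0,1] .nil .nil) (.node [1,3,1,3,0,1,3,2,2,2] .nil .nil)) (.node [3,0,2,2,0,2,1,3,1] (.node [0,2,0,2,0,1,3,2,2,1] .nil .nil) .nil))) (.node [2,0,2,2,0,2,2,0,2,0] (.node [0,2,3,0,2,1,3,1,0] (.node [0,2,0,2,2,1,0,2,0] (.node [1,3,2,0,2,3] .nil .nil) (.node [0,2,1,3,2,1] .nil .nil)) (.node [3,3,2,1,0,2,3,1,0] (.node [3,1,3,3,1,3,1,3,2,0] .nil .nil) .nil)) (.node [2,3,1,3,3,1,3,3,2,2] (.node [3,3,0,2,0,1,3,2,1] (.node [2,2,0,2,3,0,2,1,3,2] .nil .nil) (.node [2,3,3,2,1,3,3,1,0,2,0] .nil .nil))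 (.node [0,2,0,2,0,2,3,3,2] (.node [1,3,1,3,2,1,3,3,1] .nil .nil) .nil)))))) (.node [0,2,1,3,0,2,0,2,2] (.node [0,2,1,3,1,3,0,1] (.node [3,2,2,0,1,3,3] (.node [2,2,1,0,2,0,2,3,1] (.node [3,2,1,3,0,1,3,3] (.node [2,0,2,3,3,0] (.node [2,3,1,0] .nil .nil) (.node [0,1,3,3,0,2,0,2,1,0] .nil .nil)) (.node [3,2,1,0,2,2,1,0,2,2,2,1] (.node [3,3,1,3,3,2,0,2,2,0,1,0] .nil .nil) (.node [2,1,3,1,3,1,3,3,2,0,2,0] .nil .nil))) (.node [3,2,0,2,0,2,2,1] (.node [2,3,1,0,2,0,2,2,0,2] (.node [3,2,1,0,2,2,1,0,2,1,3] .nil .nil) (.node [2,1,0,2,2,2,0,2,0,2,3] .nil .nil)) (.node [3,1,0,2,3,0,1,3,0] (.node [3,2,1,3,0,2,0,2,3] .nil .nil) .nil))) (.node [2,3,1,3,1,3,1,3,3,2,1,0] (.node [2,2,2,0,1,3,1,3,1,0] (.node [0,1,3,3,0,1,3,3,2,1,0] (.node [2,3,3,0,2,1,3,2,1,0] .nil .nil) (.node [2,1,3,2,2,2,0,2,2,1,0] .nil .nil)) (.node [2,1,3,3,2,2,0,1,3,0,2] (.node [3,3,1,3,0,2,1,3,1] .nil .nil) (.node [2,1,0,2,0,2,0,1,3,3] .nil .nil)))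 (.node [1,3,3,2,1,3,1,3,3,0,1] (.node [2,3,3,1,3,2,0,1] (.node [3,3,2,1,3,3,1,3,2,1] .nil .nil) (.node [1,3,0,1,3,1,3,3,2,0] .nil .nil)) (.node [0,1,3,3,1,3,0,2,2,0] (.node [0,2,1,3,0,1,3,3,2,1,0] .nil .nil) .nil)))) (.node [1,0,2,3,1,0,2,1,0] (.node [1,3,3,1,3,0,2,2,2,0,2] (.node [1,3,3,0,1,0] (.node [1,3,3,1,3,3,2,2,1] (.node [2,3,0,2,1,3,0,1,3,1,0] .nil .nil) (.node [3,2,0,2,2,0,2,1,3] .nil .nil)) (.node [3,1,3,3,0,1,3,3,0] (.node [1,3,0,2,2,2,0,2,0] .nil .nil) (.node [0,2,1,0,2,3,1,3,2,2] .nil .nil))) (.node [3,1,0,2,1,3,1,3,2,2] (.node [2,0,2,2,2,1,0,2,1] (.node [3,0,2,0,2,0,2,1] .nil .nil) (.node [1,0,2,3,1,3,1,3,1,3,0] .nil .nil)) (.node [1,3,2,1,3,0,2,1] (.node [2,3,0,1,3,2,2,2,0,2,0] .nil .nil) .nil))) (.node [1,3,3,1,3,3,1,3,1,0] (.node [2,2,0,2,2,0,2,3,1,0] (.node [3,2,0,2,2,0,2,1,3,3,1] (.node [2,1,3,3,2,2,0,1,3,1,0] .nil .nil) (.node [0,2,2] .nil .nil)) (.node [2,3,3,1,0,2,3,3,0] (.node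 [2,3,3,2,1,0,2,2] .nil .nil) .nil)) (.node [1,3,0,1,3,2,1,3,3] (.node [3,2,2,0,1,3,2,0,1,0] (.node [0,2,1,3,1,3,2,2,2,1,0] .nil .nil) (.node [1,3,1,3,1,3,3,1,0,2,0] .nil .nil)) (.node [0,2,2,1,0,2,2,2,0,1,0] (.node [1,3,1,3,2,1,3,3] .nil .nil) .nil))))) (.node [3,3,1,3,2,2,0,1,3] (.node [0,1,3,2,1,3,0,1,3,3] (.node [1,3,3,1,0,2,1,3,3] (.node [2,3,1,3,1,3,1,3,0,1] (.node [3,0,1,3,3,2,2,0,2,0,1,0] (.node [0,1,3,2,0,1,3,3,1,0] .nil .nil) (.node [0,2,3,0,2,0,1,3,0,2] .nil .nil)) (.node [3,2,1,3,2,2,1,0,2,2] (.node [0,1,3,0,1,3,2,1,0] .nil .nil) (.node [1,3,3,0,1,3,2,1,0] .nil .nil))) (.node [1,3,3,0,2,1,3,2,0] (.node [0,2,0,2,0,2,0,1,3] (.node [3,0,1,3,2,1,0,2,1,3,3] .nil .nil) (.node [3,0,2,0] .nil .nil)) (.node [0,2,0,2,3,0,2,0,1,3,2] (.node [0,2,3,3,1,3,0,2,0] .nil .nil) .nil))) (.node [3,2,1,3,2,1,3,1,0,2,2] (.node [3,0,2,2,1,0,2,1,3,1] (.node [2,2,1,0,2,2,0,2,2,2] (.node [3,3,2,1,0,2,2,0,1] .nil .nil)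 (.node [2,3,2,0,2,2,1,0] .nil .nil)) (.node [2,0,2,2,2,0,2,2,1] (.node [2,2,0,2,0,2,0,2,1,3,1] .nil .nil) .nil)) (.node [2,3,1,0,2,2,2,0,1] (.node [2,0,2,0,1,3,0,2,0,1] (.node [3,0,2,2,2,1,0,2,1,3] .nil .nil) (.node [1,3,1,3,0,1,3,2,1,0] .nil .nil)) (.node [0,2,0,1,3,3,2,2,2,0] (.node [3,3,1,3,3,0,1,3,3,2] .nil .nil) .nil)))) (.node [2,0,1,3,0,2,1,0,2,0] (.node [1,3,2,0,2,1,3,1,0] (.node [0,1,3,2,1,3,2,1] (.node [3,1,3,1,0,2,3,0,2,2,2] (.node [2,2,0,2,0,1,3,2,2,2,0] .nil .nil) (.node [2,1,3,3,2,1,0] .nil .nil)) (.node [0,2,2,2,1,0,2,0,1,3,2,0] (.node [2,3,2,2,2,1] .nil .nil) (.node [3,3,2,0,1,3,3,2,1,0] .nil .nil))) (.node [3,3,0,2,2,2,0,2,1] (.node [0,2,3,1,0,2,2,0,2,0,1,0] (.node [2,3,1,0,2] .nil .nil) (.node [0,2,0,1,3,2,1,3,1,3] .nil .nil)) (.node [1,0,2,0,2,3,3,2] (.node [3,3,0,1,3,2,2,1,0,2] .nil .nil) .nil))) (.node [3,1,0,2,1,3,3,2,2,0,1,3] (.node [2,0,2,1,3,2,0] (.node [3,0,1,3,2,0,2,2,1,0]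 (.node [2,2,0,2,0,2,0,2,0] .nil .nil) (.node [0,2,3,0,1,3,3,1] .nil .nil)) (.node [3,3,0,2,1,0,2,3,1,0] (.node [3,2,2,0,2,2,0,2,3,1,3,0] .nil .nil) .nil)) (.node [2,2,0,2,2,0,2,2] (.node [3,2,0,1,3,1,3,1,3,3,0] (.node [3,3,1,3,2,1,3,0,2,0,1,0] .nil .nil) (.node [3,1,3,1,3,1,0,2,1,3] .nil .nil)) (.node [1,0,2,0,2,1,3,0] (.node [2,3,1,3,3,1,3,2,1,0] .nil .nil) .nil))))))))

/-- Part of `setWord`. -/
noncomputable def setWord_r_r_r_l : Arr (List ℕ) :=
  .node [] setWord_r_r_r_l_l setWord_r_r_r_l_r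

/-- Part of `setWord`. -/
noncomputable def setWord_r_r_r_r_l : Arr (List ℕ) :=
  (.node [3,3,0,2,1,0,2,2,2] (.node [0,1,3,3,2,1,3,0,1,3,3,0] (.node [3,2,2,2,0,2,2,1] (.node [0,2,2,1,0,2,1,3,3,0,2] (.node [3,3,2,1,3,3,2,0,1,3,0] (.node [1,0,2,1,0,2,3,0,2,2] (.node [3,1,3,2,0,2,0,2,2] (.node [3,2,2,0,2,0,2,2] (.node [2,3,2,1,3,2,2,0,2,0,1] .nil .nil) (.node [3,3,2,0,1,3,2,2,0] .nil .nil)) (.node [0,2,1,3,0,2,1,3,2] (.node [2,0,1,3,2,2,2,0,2,1,3] .nil .nil) (.node [2,1,0,2,0,2,2,0,2,1,0] .nil .nil))) (.node [2,3,3,2,0,1,3,0] (.node [2,2,0,2,0,2,2,0,1] (.node [2,3,0,1,3,0,1,3,3,2,2] .nil .nil) (.node [1,3,2,0,2,3,3,0,2,0] .nil .nil)) (.node [0,1,3,3,2,1,0,2,3,1,0] (.node [1,0,2,3,3,0,2,2,0,2,1] .nil .nil) .nil))) (.node [3,0,2,2,0,1,3,2,2,2,0] (.node [3,0,2,1,3,2,0,2,1,0,2,0] (.node [2,3,0,2,0,2,0,2,2] (.node [0,2,0,1,3,2,1,0,2,1,0] .nil .nil) (.node [2,3,1,3,0,1,3,2,0,1] .nil .nil)) (.node [0,2,3,1,0,2,3,3,1,0]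 (.node [3,3,2,0,1,3,0,2,0] .nil .nil) (.node [3,1,3,3,0,2,1,0,2,0] .nil .nil))) (.node [1,3,3,2,0,1,3,2,1,3,3] (.node [2,3,0,1,3,1,3,2,2] (.node [2,2,1,0,2,2,1,0,2,1] .nil .nil) (.node [2,3,0,2,2,0,2,3,3,0] .nil .nil)) (.node [1,3,3,2,0,1,3,1,3,1,0] (.node [2,1,0,2,0,2,3,3,1] .nil .nil) .nil)))) (.node [3,1,0,2,2,0,2,3,1,0] (.node [1,3,3,0,2,0,1,0] (.node [0,1,3,1,3,3,1,3] (.node [3,1,0,2,2,0,2,2,1,0] (.node [3,1,0,2,3,1,0,2,2,2] .nil .nil) (.node [2,2,0,2,3,3,0,1,3] .nil .nil)) (.node [0,2,3,1,3,2,0,2,3,3,1] (.node [0,2,3,3,2,1,3,1,3,3,1] .nil .nil) (.node [3,2,0,1,3,2,2,0,2] .nil .nil))) (.node [1,3,3,2,0,2,2,0,2,3,1,0] (.node [3,3,0,2,1,0,2,2,0,2,1] (.node [0,1,3,3,2,1] .nil .nil) (.node [2,3,3,0,2,2,2,1,0,2,2] .nil .nil)) (.node [1,0,2,2,0,2,2,2,0,1] (.node [3,1,3,3,1,3,0,2,2,0,2] .nil .nil) .nil))) (.node [1,3,1,3,3,2,1,3,3] (.node [0,1,3,2,1,0,2,2,1] (.node [2,0,2,2,0,2,3,0,1,3,0] (.node [1,3,3,1,3,2,1,3,2,0]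 .nil .nil) (.node [3,1,3,1,0,2,3,3,0,1,0] .nil .nil)) (.node [3,0,2,1,3,0,1,3,0,1] (.node [0,1,3,0,1,3,2,2,2] .nil .nil) .nil)) (.node [2,0,2,2,2,0,1,3,0] (.node [3,2,2,2,1,0,2,1,3,3] (.node [0,2,3,1,3,1,3,0] .nil .nil) (.node [3,3,1,3,1,0,2,2,2,1] .nil .nil)) (.node [3,0,1,3,0,2,1,3,1,3] (.node [0,1,3,0,1,3,3] .nil .nil) .nil))))) (.node [3,2,1,3,1,3,2,2,0,1,3] (.node [0,2,0,2,3,1,0,2,3,3,0] (.node [1,3,1,0,2,3,3,0,1,3] (.node [1,0,2,1,3,0,1,3,0,1] (.node [1,3,1,3,3,0,2,1] (.node [2,3,3,2,1,3,0,2,2,1,0] .nil .nil) (.node [2,3,0,1,3,0,1,3,0,2,2] .nil .nil)) (.node [3,1,3,2,1,0,2,3,3,0] (.node [0,2,3,3,1,0,2,1,3] .nil .nil) (.node [1,0,2,0,2,3,0,1,3,3,0] .nil .nil))) (.node [2,0,1,3,0,2,1,3,0,1,3,1] (.node [3,0,1,3,3] (.node [2,0,1,3,2,1,3,0,2] .nil .nil) (.node [3,0,2,0,2,3,3,0,2,1] .nil .nil)) (.node [3,1,3,1,3,2,1,3,0,1] (.node [3,0,1,3,3,0,2,2] .nil .nil) .nil))) (.node [3,3,1,3,3] (.node [1,3,3,0,2,2,2,1,0]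 (.node [2,3,3,0,1,3,2,0,2,1,3,0] (.node [2,2,0,2,1,3,2,2,1,0,2,0] .nil .nil) (.node [2,2,0,2,0,1,3,0,2,0,1] .nil .nil)) (.node [3,1,3,3,0,1,3,1,3,0] (.node [3,2,0,1,3,2,0,1,3,3,0] .nil .nil) .nil)) (.node [2,3,3,2,0,2,1,3,2] (.node [1,3,2,2,0,2,2,2,0,2,1] (.node [0,2,1,3,3,2,0,2,0] .nil .nil) (.node [1,0,2,0,2,2,1,0,2,3,3] .nil .nil)) (.node [3,0,2,2,2,0,2] (.node [3,1,3,3,1,3,3,2,1,3,2,0] .nil .nil) .nil)))) (.node [3,2,2,1,0,2,2,2,0,1,0] (.node [1,0,2,3,3,2,0,1,3] (.node [2,1,0,2,3,1,3,1,0,2,1] (.node [1,3,3,0,1,3,2,1,0,2] (.node [3,3,1,3,3,2,1,3,0,2] .nil .nil) (.node [1,0,2,3,3,0,2,1,0,2] .nil .nil)) (.node [2,3,1,0,2,2,0,2,0,1] (.node [2,3,1,0,2,3] .nil .nil) (.node [2,0,2,0] .nil .nil))) (.node [2,0,2,3,3] (.node [1,3,2,0,2,0,1,3,0] (.node [3,0,2,1,3,2,0,1,3,0,2] .nil .nil) (.node [0,2,0,2,0,1,3,3,0,2,1,0] .nil .nil)) (.node [3,2,1,3,0,1,3,3,0,2] (.node [3,0,2,0,2,1,3] .nil .nil) .nil))) (.node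 [2,2,1,0,2,3,1,0,2,0] (.node [0,1,3,0,1,3,0,2,0,1,0] (.node [1,3,0,2,0,2,1,0] (.node [2,1,3,2,0,1,3,1,0] .nil .nil) (.node [3,1,3,3,0,1,3,0,2,0,1] .nil .nil)) (.node [1,3,3,2,1,0,2,3] (.node [1,3,1,3,0,1,3,3,0,2] .nil .nil) .nil)) (.node [2,2,2,0,2,1,3,1,3,2] (.node [2,0,2,3,0,1,3,3,2,2,1] (.node [2,0,2,3,0,2,1,3,3] .nil .nil) (.node [1,3,0,2,0,2,2,0,2,1,0] .nil .nil)) (.node [1,3,3,0,1,3,2,0,1,0] (.node [0,1,3,3,1,3,3,1,3,0,1] .nil .nil) .nil)))))) (.node [3,2,0,2,3,3,1,3,0] (.node [3,2,2,1,0,2,1,3,3,1,3,1] (.node [2,2,1,0,2,0,1,3,2,0] (.node [1,0,2,3,1,3,0,1] (.node [3,3,1,0,2,3,0,2,0,1] (.node [2,1,3,3,0,2,0,2,1,3,2] (.node [3,0,1,3,2,2,0,2,1,3,0,1] .nil .nil) (.node [3,1,3,2,0,2,0,1,3,0,2] .nil .nil)) (.node [3,1,3,0,2,2,1,0,2,0,2] (.node [3,2,0,2,0,1,3,2,2,1] .nil .nil) (.node [2,3,2,0,1,3,1,3,2,0] .nil .nil))) (.node [1,0,2,1,3,3,0,2,2,1] (.node [1,3,3,1,3,1,3,2,1,0] (.node [0,2,0,1,3,0,2,0,1]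 .nil .nil) (.node [1,0,2,3,3,0,2] .nil .nil)) (.node [1,3,2,1] (.node [2,3,3,2,0,1,3,1,3,3,2] .nil .nil) .nil))) (.node [0,1,3,1,3,1,0] (.node [3,2,1,3,3,2,1,3,1,3,0] (.node [2,1,3,2,1,0,2,3,0,2,2] (.node [2,2,2,1,0,2,1,3,1] .nil .nil) (.node [0,2,3,1,0,2,3,0,1,3,0] .nil .nil)) (.node [2,1,3,1,3,2,0,2,3,1,0] (.node [3,0,1,3,3,1,3,2] .nil .nil) (.node [3,2,1,3,0,1,3,2,0,2,0] .nil .nil))) (.node [3,3,2,0,2,0,2,0,2,2,1] (.node [2,2,1,0,2,2,0,2,2,1] (.node [2,3,1,0,2,2,1,0,2,3,1] .nil .nil) (.node [3,2,2,1,0,2,3,1,0,2,2] .nil .nil)) (.node [2,3,1,0,2,1,0] (.node [0,1,3,1,3,3,1,3,0,2] .nil .nil) .nil)))) (.node [3,0,2,2,2,0,2,2,1,0] (.node [3,3,2,0,2,0,2,3,0,2,2] (.node [3,3,2,1,3,1,3,0] (.node [2,3,2,1,0,2,3,3] (.node [1,0,2,3,1,3,3,1,3,2,1] .nil .nil) (.node [0,2,2,0,1,3,2,2,2,0] .nil .nil)) (.node [3,1,3,2,2,2,1,0] (.node [3,2,1,0,2,3,1,3,2,2,1] .nil .nil) (.node [2,2,2,0,2,0] .nil .nil))) (.node [1,0,2,2,1,0,2,2,0,2,1,0]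 (.node [1,3,1,3,1,0,2,3,3,1] (.node [3,2,0,2,1,3,3,0,2,0] .nil .nil) (.node [0,2,3,1,3,3,0,2] .nil .nil)) (.node [2,2,1,0,2,3,3,2,2] (.node [0,2,1,0,2,3,3,0,2,2,1] .nil .nil) .nil))) (.node [2,2,1,0,2,2,0,1,0] (.node [1,3,2,1,3,1,3,3,0,2] (.node [1,3,0,2,0,1,3,2,2,0] (.node [2,3,3,0,2,1,3,3,2,2,0] .nil .nil) (.node [3,2,2,0,2,3,3,0,2,0,1] .nil .nil)) (.node [2,0,1,3,2,1,3,2,2,1,0] (.node [3,3,1,3,2,1,0,2,0,1] .nil .nil) .nil)) (.node [3,3,2,0,1,3,0,2,1] (.node [2,0,2,0,2,0,1,3,2,1] (.node [1,0,2,0,2,0,2,1,0,2,1] .nil .nil) (.node [3,3,2,0,2,1,0,2,0] .nil .nil)) (.node [3,0,1,3,0,1,3,3,0] (.node [3,0,2,1,0,2,2,2,0,1] .nil .nil) .nil))))) (.node [1,3,0,1,3,3,0,2] (.node [2,3,3,1,3,0,1,3,0,2,2,0] (.node [3,1,0,2,1,3,3,0,2,1] (.node [3,2,2,0,2,3,3,1,0,2,0] (.node [3,3,0,2,1,0,2,2,1,0] (.node [3,1,0,2,3,3,1,3,1] .nil .nil) (.node [0,2,0,1,3,2,1,3,2,1,0] .nil .nil)) (.node [2,1,3,1,3,2,0,2,2,2,1,0] (.node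 [3,3,0,2,1,0,2,1,0,2,0] .nil .nil) (.node [2,3,0,2,0] .nil .nil))) (.node [0,1,3,0,1,3,1,3,3,2] (.node [3,1,3,3,2,2,0,2,1] (.node [3,2,0,2,0,1,3,3,2,1,0] .nil .nil) (.node [3,0,2,1,3,2,2,0,2,0] .nil .nil)) (.node [3,1,3,3,1,3,3,1,0] (.node [2,1,3,3,2,2,0,2,2,1] .nil .nil) .nil))) (.node [0,1,3,0,1,3,2,2,2,0,1,0] (.node [3,1,3,1,3,3,2,0] (.node [1,3,3,0,2,0,1,3,2,0] (.node [2,0,1,3,3,0,1,3,3,0] .nil .nil) (.node [2,1,0,2,1,3,3] .nil .nil)) (.node [1,3,3,1,3,3,0,1,3,1,0] (.node [1,3,2,0,1,3,3,1] .nil .nil) .nil)) (.node [2,0,2,2,0,1,3,2,0,1] (.node [2,3,3,2,1,3,1,3,3,0] (.node [3,0,2,1,3,2,2,0] .nil .nil) (.node [1,3,2,1,3,3,2,0,2,0] .nil .nil)) (.node [2,3,3,1,3,2,0,1,0] (.node [2,1,3,1,3,0,2,0,2,2,1,0] .nil .nil) .nil)))) (.node [2,2,0,2,0,2,3,1] (.node [0,2,2,2,0,2,2,2] (.node [0,2,0,1,3,2,0,2,1,0] (.node [0,2,3,1,3,3,1,0,2,0] (.node [1,3,3,0,2,1,3,1,3,3,1] .nil .nil) (.node [0,2,3,1,3,2,0,2,3,3] .nil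 .nil)) (.node [2,1,3,3,0,2] (.node [3,2,0,2,1,3,2,1] .nil .nil) (.node [2,3,3,2,1,0,2,3,1] .nil .nil))) (.node [1,3,3,1,3,2,2,1,0] (.node [3,2,0,2,3,3,1] (.node [1,3,1,0,2,1,3,1,0] .nil .nil) (.node [2,3,2,0,1,3,3,0,2,1,0] .nil .nil)) (.node [2,1,0,2,1,0,2,2,0,1,0] (.node [0,1,3,3,0,1,3,1,3,2,0] .nil .nil) .nil))) (.node [3,1,3,3,2,0,2,1,0] (.node [2,0,1,3,2,0,2,3,3,2,1,0] (.node [0,2,2,0,2,1,0,2,0,2] (.node [0,2,3,1,3,2,2,2,0] .nil .nil) (.node [3,2,0,2,0,2,3,1,3,2,2] .nil .nil)) (.node [3,3,0,2,0,1,3,1,3,3,2] (.node [3,3,2,2,0,1,3,1,3,0] .nil .nil) .nil)) (.node [3,1,0,2,2,2,1,0,2,0] (.node [0,2,3,0,2,2,1,0] (.node [2,1,3,3,0,1,3,1,3,3,0] .nil .nil) (.node [3,3,2,2,1,0,2,3,1] .nil .nil)) (.node [0,1,3,3,2,0,1,3,0] (.node [1,0,2,0,2,1,3,1,3,3] .nil .nil) .nil))))))) (.node [2,3,2,1,3,2,0,1,3,3] (.node [3,2,0,2,2,1,0,2,0] (.node [1,3,1,0,2,3,3,0,2,1,0] (.node [3,3,1,3,3,2,2,2,0] (.node [1,3,1,3,1,3,0,1]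 (.node [2,0,2,3,3,0,2,0,1,3] (.node [1,3,0,2,0,2,1] (.node [3,3,1,3,0,2,0,1,3,0] .nil .nil) (.node [0,2,1,0,2,0,2,3,0,2,2] .nil .nil)) (.node [0,1,3,1,3,3,1,0,2,2] (.node [3,2,2,1,0,2,2,0,2,2,1] .nil .nil) (.node [0,2,1,0,2,3,1,3] .nil .nil))) (.node [3,2,0,1,3,3,2,1,3,2] (.node [1,3,0,2,1,3,1,0,2,1] (.node [2,1,3,1,0,2] .nil .nil) (.node [1,3,3,1,3,3,1,3] .nil .nil)) (.node [2,3,1,0,2,3,3,2,1] (.node [3,1,3,0,2,2] .nil .nil) .nil))) (.node [1,3,2,0,2,0,1,3,2,1] (.node [0,2,2,2,0,2,1,3,1,3,0] (.node [1,0,2,3,3,1,3,1] (.node [2,3,0,1,3,1,3,3,0,1,0] .nil .nil) (.node [2,1,3,0,2,2,0,2,1,3,0] .nil .nil)) (.node [0,2,1,0,2,2,2,0,1] (.node [2,0,2,2,0,2,0,1,0] .nil .nil) (.node [1,3,0,1,3,2,0,2,0] .nil .nil))) (.node [1,3,0,1,3,3,1,3,3,2] (.node [1,0,2,0,2,3,1,3,3,1] (.node [3,2,1,3,3,1,3,1,3,1,0] .nil .nil) (.node [2,1,0,2,3,0,2,0,1,3,0] .nil .nil)) (.node [0,2,3,3,2,0,2,1,0,2] (.node [3,3,1,3,3,1,3,3,2]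 .nil .nil) .nil)))) (.node [2,3,0,2,2,2,1,0] (.node [2,1,0,2,0,2,0] (.node [1,0,2,3,1,3,0,2,1,3,2,0] (.node [1,3,1,0,2,3,3,0,2,2] (.node [2,2,0,1,3,3,1] .nil .nil) (.node [3,1,0,2,3,1,0,2,1] .nil .nil)) (.node [0,2,0,2,0,2,3,1,3,3,1] (.node [2,2,1,0,2,3,3,1,0] .nil .nil) (.node [1,3,1,0,2,3,1] .nil .nil))) (.node [0,2,0,2,1,3,1,3,0,2,0] (.node [2,1,3,3,2,1,3,2,2,2,1] (.node [3,1,3,1,3,2,2,1,0,2,2,1] .nil .nil) (.node [1,3,3,1,0,2,3,1] .nil .nil)) (.node [2,2,0,1,3,3,2,1,0,2] (.node [1,3,3,1,3,1,3,2,2,2] .nil .nil) .nil))) (.node [3,3,0,1,3,3,1,3,3,0,1] (.node [2,3,3,2,1,3,2,0,2,0,2,2] (.node [2,1,3,1,3,2,2,1,0,2,2] (.node [0,1,3,3,2,2,2,0,2,1] .nil .nil) (.node [2,1,3,2,0,1,3,3,1,0] .nil .nil)) (.node [0,2,0,2,0,2,0,2,0,2] (.node [2,1,3,3,2,1,3,1,3,0] .nil .nil) .nil)) (.node [2,1,3,3,0,1,3,2,0,1,0] (.node [3,0,2,1,3,2,0,1,3,3] (.node [2,3,0,2,0,1,3,3,2] .nil .nil) (.node [1,0,2,3,1,3,1,3,2] .nil .nil))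 (.node [2,0,2,3,3,1,3,2,1,0] (.node [1,0,2,1,0,2,0,2,3,0,2] .nil .nil) .nil))))) (.node [3,3,2,1,3,0,2,2,0] (.node [1,3,2,1,3,2,1] (.node [2,0,2,3,0,1,3,1] (.node [1,3,3,2,0,2,2,0,2,0] (.node [2,2,0,2,1,3,0,2,0,1,3] (.node [1,0,2,3,1,0,2,2,1] .nil .nil) (.node [3,1,3,0,1,3,3,1] .nil .nil)) (.node [2,3,0,1,3,0,2,2] (.node [3,3,2,1,3,2,1,3,2] .nil .nil) (.node [3,3,1,3,2,1,3,2,0,2,0] .nil .nil))) (.node [3,0,2,1,3,1,3,2,0,2,0] (.node [0,1,3,2,0,2,2,0,2,1] (.node [3,0,2,0,2,0,2,2,0,1,0] .nil .nil) (.node [3,2,1,0,2,2,0,2,1] .nil .nil)) (.node [2,3,1,3,2,0,1,3,1,0] (.node [2,0,2,2,1,0,2,2,0,2] .nil .nil) .nil))) (.node [3,3,1,3,0,1,3,0,2] (.node [1,0,2,3,1,3,2,0,2,1] (.node [2,3,0,1,3,2,2,0,2,0,1] (.node [3,0,1,3,3,2,2,0,2,2] .nil .nil) (.node [3,0,2,1,3,3,1,3,0,1] .nil .nil)) (.node [2,0,1,3,0,2,1,3,1,0] (.node [3,1,3,3,2,1,3] .nil .nil) .nil)) (.node [2,3,3,0,1,3,3,0,1] (.node [2,2,0,2,0,1,3,2,0] (.node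 [2,3,1,3,1,3,1,0] .nil .nil) (.node [1,3,3,0,1,3,3,2,1,0] .nil .nil)) (.node [3,1,3,1,3,3,1,3,0] (.node [3,0,2,2,0,2,2,0,2,3,1,0] .nil .nil) .nil)))) (.node [2,3,1,3,3,0,2,1,0,2,3] (.node [2,1,0,2,3,1,3,0] (.node [0,2,2,0,2,3,0,1,3,3,0] (.node [3,2,2,1,0,2,3,3,1] (.node [0,2,1,3,3,1,3,1] .nil .nil) (.node [1,3,0,1,3,0,2,2,0,1,0] .nil .nil)) (.node [3,1,3,2,1,3,2,1,3,1] (.node [3,1,3,2,1,3,3,1,3,3,1] .nil .nil) (.node [1,3,0,2,0,2,1,0,2,0] .nil .nil))) (.node [3,0,1,3,2,1,3,0,2,0] (.node [1,3,1,0,2,3,0,2,1,0,2,0] (.node [3,0,2,2,0,1,3,0,2,0,1] .nil .nil) (.node [0,2,2,2,0,2,0,1,3,3,2] .nil .nil)) (.node [3,2,1,3,0,2,1,3,2,0] (.node [3,2,0,2,3,3,0,2,1] .nil .nil) .nil))) (.node [2,2,2,0,2,1,3,3,0,2,2,0] (.node [0,2,2,2,0,1,3,2,0] (.node [2,3,3,1,3,2,1,3,0,1] (.node [0,2,1,0,2,0,2,0] .nil .nil) (.node [3,0,2,2,0,2,2,2,1,0] .nil .nil)) (.node [3,2,2,1,0,2,0,2,1,0] (.node [1,3,3,0,2,2,2,0,2,0,1] .nil .nil)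 .nil)) (.node [3,1,3,2,2,0,2,2,1,0] (.node [2,1,3,0,2,1,3,2] (.node [3,0,2,1,3,1] .nil .nil) (.node [3,2,2,0,2,3,1] .nil .nil)) (.node [0,2,3,3,0,2,0,1,0] (.node [3,2,1,3,3,1,3,2,2] .nil .nil) .nil)))))) (.node [2,3,2,1,3,1,0,2,3,0,1] (.node [2,2,0,2,3,0,2,2,2] (.node [3,2,1,0,2,3,1,0,2,1] (.node [1,3,2,2,0,2,0,2,0,1] (.node [0,2,3,3,2,1,3,2,0,1,0] (.node [1,3,0,2,2,0,1,3,0,2,0] (.node [3,0,2,0,2,2,1,0] .nil .nil) (.node [0,2,2,0,2,3,1,3,3,2,2] .nil .nil)) (.node [2,0,1,3,1,3,1,3,3,0] (.node [2,1,0,2,3,0,2,2,0] .nil .nil) (.node [3,3,1,3,3,0,2,2,2,1] .nil .nil))) (.node [3,1,3,0,1,3,0,2,0] (.node [2,3,3,1,3,1,3,2] (.node [1,3,1,3,3,1,3,2,1] .nil .nil) (.node [3,3,1,0,2,3,1,3,2,1] .nil .nil)) (.node [2,3,3,0,1,3,1,0,2] (.node [2,2,0,1,3,1] .nil .nil) .nil))) (.node [0,2,1,3,2,0,1,3,1,0] (.node [2,2,0,1,3,2,2,0,1,0] (.node [3,0,2,2,2,0,1,3,3,2] (.node [2,2,0,2,2,0,2,0,2,3] .nil .nil) (.node [3,0,2,1,3,2,0,1,0]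 .nil .nil)) (.node [2,3,3,2,1,3,2,1,3,2] (.node [2,0,2,3,0,2,0,2,0,1] .nil .nil) (.node [2,0,1,3,2,1,3,0,2,1,3] .nil .nil))) (.node [2,3,3,2,0,2,1,3,3] (.node [1,3,1,3,0,2,2,0,1,0] (.node [0,2,0,2,0,2,1,3,1,3,3] .nil .nil) (.node [3,2,0,2,0,2,1,0,2,0] .nil .nil)) (.node [2,1,3,0,2,1,3,0,2] (.node [2,3,1,3,2,0,1,3,3,2,2,1] .nil .nil) .nil)))) (.node [1,3,3,1,3,1,0] (.node [3,3,1] (.node [2,1,0,2,3,3,0,2,1,3] (.node [3,2,1,3,0,2,2] (.node [0,2,3,0,1,3,2,1,3,3] .nil .nil) (.node [3,2,2,1,0,2,1,3,1] .nil .nil)) (.node [3,1,3,1,3,1,0] (.node [3,0,2,1,0,2,2,1,0,2] .nil .nil) (.node [2,3,1,3,2,0,2,2,2,1] .nil .nil))) (.node [3,3,1,3,0,2,2,0,2,0] (.node [3,3,2,0,2,1,0,2,2,1] (.node [1,0,2,0,2,3,1,3,0,2,0] .nil .nil) (.node [2,3,1,3,2,0,2,3,1] .nil .nil)) (.node [2,3,1,3,2,2,0] (.node [3,1,3,3,2,0,1,3,3,2] .nil .nil) .nil))) (.node [3,0,1,3,0,2,1,3,2,1,0] (.node [3,2,1,3,1,3,1,3,2] (.node [2,2,0,2,2,0,1,3,2,0]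 (.node [2,3,1,3,2,0,1,3,2] .nil .nil) (.node [3,2,1,0,2,3,3,2,2,0] .nil .nil)) (.node [1,0,2,0,2,0,2,1,0] (.node [3,0,2,0,2,1,3,2,2,1] .nil .nil) .nil)) (.node [1,0,2,1,0,2,0,2,0,1,3,3] (.node [0,2,1,3,1,3,0,2] (.node [2,3,2,0,1,3,0,2,2,0] .nil .nil) (.node [3,2,2,1,0,2,1,3] .nil .nil)) (.node [3,1,0,2,1,3,1,3,0,2] (.node [3,2,0,2,0,2,3,1,3,3] .nil .nil) .nil))))) (.node [1,0,2,3,3,2,1,3,2,0,1,0] (.node [1,0,2,1,3,3,2,1,3,0,1] (.node [2,1,3,3,0,2,1] (.node [0,1,3,3,2,0,2,1,3,2] (.node [0,1,3,1,0,2,3,3,1,3,1] (.node [1,3,2,2,2,0,1,3,0,2] .nil .nil) (.node [0,2,3,3,1,3,0,1,3,0] .nil .nil)) (.node [0,1,3,1,0,2,3,1,3,0] (.node [2,2,0,2,0,1,3] .nil .nil) (.node [1,3,3,0,1,3,0,2,2,2] .nil .nil))) (.node [0,1,3,2,0,1,3,1,0] (.node [2,1,3,2,0,2,0,2,2] (.node [3,1,0,2,3,0,2] .nil .nil) (.node [0,2,3,0,1,3,1,3,2,0,1] .nil .nil)) (.node [2,2,1,0,2,2,1,0,2,1,0] (.node [0,2,1,0,2,2,2,0,2] .nil .nil) .nil))) (.node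 [3,0,2,0,2,0,2,3,0,2] (.node [0,1,3,3,1,3,0,1,3,2,0] (.node [0,2,3,3,1,3,3,1,3,0] (.node [0,2,1,0,2,3,3,2,2,1] .nil .nil) (.node [3,3,1,3,3,0,1,3,3,1] .nil .nil)) (.node [1,3,1,3,3,0,1,3,2,0,1,0] (.node [3,2,1,0,2,1,0,2,2,1] .nil .nil) .nil)) (.node [3,3,0,2,2,0,2,2,1] (.node [1,3,3,2,2,2,0,1,3,3,0] (.node [3,1,3,3,2,0] .nil .nil) (.node [1,3,0,2,2,0,1,3,2] .nil .nil)) (.node [3,2,1,3,3,1,3,0,2,0,1] (.node [3,2,0,2,2,2,1,0,2,0] .nil .nil) .nil)))) (.node [1,0,2,2,1,0,2,0,2] (.node [3,2,0,2,1,3,2,1,3,2] (.node [2,1,0,2,3,3,0,2] (.node [1,3,2,1,3,2,2,2,1] (.node [2,3,1,3,2,1,0,2,3,3,0] .nil .nil) (.node [2,0,2,3,3,2,1,0,2,1,0] .nil .nil)) (.node [1,3,1,0,2,3,3] (.node [1,3,1,3,3,2,0] .nil .nil) (.node [2,0,2,0,2,1,0,2,1] .nil .nil))) (.node [1,3,3,2,0,1,3,2] (.node [3,0,1,3,0,1,3,2,2,2] (.node [0,1,3,2,0,2,3,3,2] .nil .nil) (.node [1,0,2,3,1,3,2,1,3,2] .nil .nil)) (.node [3,2,1,0,2,3,3,1,3,0] (.node [0,1,3,2,1,3,0,2,0]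 .nil .nil) .nil))) (.node [2,0,2,0,2,2] (.node [2,1,3,3,1,3,3,0] (.node [3,3,2,0,1,3,3,1,3,0] (.node [1,3,0,2,2,0,1,3,0,2,0,1] .nil .nil) (.node [2,1,3,0,2,1,3,3,0,1,0] .nil .nil)) (.node [2,0,2,1,3,1,3,1,3,2] (.node [2,1,3,1,3,3,2,2,0,2,1] .nil .nil) .nil)) (.node [3,0,2,0,1,3,3,2,1,0] (.node [3,3,1,3,3,0,1,3,3,1,0] (.node [2,1,0,2,3,0,2,1,3,1,0] .nil .nil) (.node [2,1,0,2,1,3,0,2,2] .nil .nil)) (.node [1,0,2,0,2,3,3,0,2,0] (.node [3,0,2,1,3,2,2,2,0,1,0] .nil .nil) .nil))))))))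

/-- Part of `setWord`. -/
noncomputable def setWord_r_r_r_r_r : Arr (List ℕ) :=
  (.node [1,0,2,1,3,1,3,3,2,2] (.node [3,2,2,0,1,3,1,3,0] (.node [2,3,0,2,1,3,2] (.node [3,0,2,1,0,2,0,2,0,2,1,0] (.node [1,3,1,3,0,1,3,1,0] (.node [0,2,1,3,3,2,2,2,1] (.node [3,3,2,1,3,0,2,1,3,1] (.node [1,3,1,3,3,2,2,0] (.node [0,1,3,1,3,0,1,3,3,1] .nil .nil) (.node [3,3,1,3,3,0,1,3,1,3,0] .nil .nil)) (.node [2,1,3,1,3,2,2,2,1] (.node [3,0,2,0,2,0,1,3,2] .nil .nil) (.node [0,2,3,0,1,3,2,0,1] .nil .nil))) (.node [3,3,1,3,1,3,0,2,1,0] (.node [2,3,1,3,0,1,3,3,1] (.node [1,3,0,2,0,2,2,0,2,2] .nil .nil) (.node [3,1,3,0,1,3,1,3,3] .nil .nil)) (.node [2,0,2,3,3,0,2,2] (.node [3,1,3,2,2,0] .nil .nil) .nil))) (.node [2,3,2,2,0,2,1,3,0,2] (.node [1,3,3,1,3,0,2,1] (.node [1,0,2,0,2,2,0,2,1,0,2,0] (.node [2,0,2,1,3,3] .nil .nil) (.node [1,0,2,2,2,0,2,0,1,3,2] .nil .nil)) (.node [1,3,3,1,3,3,2,2,0,1,3] (.node [1,3,3,0,2,0,1,3,3,2]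 .nil .nil) (.node [3,2,1,3,2,2,1,0,2,0] .nil .nil))) (.node [2,3,1,3,1,3,3,0] (.node [3,3,0,2,0,2,2,2,1] (.node [3,1,0,2,0,1,3,2,2,2] .nil .nil) (.node [3,3,2,2,0,2,2,0,2,1] .nil .nil)) (.node [3,1,3,1,3,3,0,2,0,1,0] (.node [3,1,3,3,0,2,1,3,0,2,1,3] .nil .nil) .nil)))) (.node [2,2,2,0,2,2,1,0,2,1,3] (.node [1,3,3,0,2,1,3,3] (.node [2,0,2,0,2,3,1,3] (.node [2,1,3,1,3,2,2,0,1,3] (.node [2,1,0,2,2,0,2,1,0,2] .nil .nil) (.node [3,1,3,2,1,3,1,0] .nil .nil)) (.node [2,2,2,0,1,3,3,1] (.node [1,0,2,1,3,3,0,2,0] .nil .nil) (.node [2,1,0,2,0,2,1,0,2,1] .nil .nil))) (.node [0,2,0,2,0,2,3,1] (.node [2,2,0,1,3,3,1,3,1] (.node [1,3,0,1,3,1,3,0,2,2,0] .nil .nil) (.node [2,2,0,2,2,0,1,3,3,2] .nil .nil)) (.node [2,3,3,2,0,2,1,0,2,3] (.node [3,2,1,3,3,1,0,2,2] .nil .nil) .nil))) (.node [2,2,0,2,3,0,1,3,2,0] (.node [1,0,2,3,0,2,2,0,2,1] (.node [2,0,2,2,0,1,3,3,2,2,1] (.node [3,2,1,0,2,0,2,0] .nil .nil) (.node [2,3,3,2,2]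 .nil .nil)) (.node [0,2,3,0,1,3,2,1,0,2,2] (.node [3,0,2,2,2,0,2,0] .nil .nil) .nil)) (.node [1,0,2,1,0,2,2,0,2,1] (.node [2,2,2,0,1,3,2,2,2,0,2] (.node [1,3,2,1,0] .nil .nil) (.node [1,3,2,0,2,2,2,1] .nil .nil)) (.node [1,3,2,1,3,3,1,3,3,1] (.node [2,3,3,1,0,2,1,3,0,2,0,1] .nil .nil) .nil))))) (.node [0,2,3,0,2,1,0,2,1,0] (.node [3,2,1,3,3,2,1,0] (.node [3,1,3,1,3,3,1,3,3,1] (.node [2,1,3,1,3,1,3] (.node [2,3,1,3,1,0,2,3,0,1] (.node [2,0,2,3,3,1,3,2,1,3] .nil .nil) (.node [3,2,1,3,3,0,2,1,0,2] .nil .nil)) (.node [1,3,3,2,1,0,2,0,2,2] (.node [3,1,3,1,3,3,1,3,3,2] .nil .nil) (.node [1,3,3,0,2,2,0,1,3,2] .nil .nil))) (.node [2,0,2,0,2,0,2,1,3,1] (.node [2,3,1,3,0,2,2,2,0,2] (.node [2,0,2,0,2,2,0,2,3,1,0] .nil .nil) (.node [3,2,1,3,1,3,0,2,0] .nil .nil)) (.node [2,1,3,0,1,3,2,2] (.node [2,3,3,1,3,2] .nil .nil) .nil))) (.node [1,3,0,2,0,2,2] (.node [2,3,0,2,0,1,0] (.node [2,3,1,0,2,1,3,0,1,3,0] (.node [2,0,2,2,0,1,3,2,0]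 .nil .nil) (.node [1,3,1,3,1,3,2,2,2,0] .nil .nil)) (.node [0,2,3,1,3,2,0,2,3,3,1,0] (.node [1,3,0,2,2,0,2,2,0,2,1] .nil .nil) .nil)) (.node [1,3,2,1,0,2,0,2] (.node [2,1,3,3,0,2,1,0,2] (.node [3,0,1,3,2,2,0,2,1,0,2,0] .nil .nil) (.node [3,2,0,2,0,2,0,1,3,3] .nil .nil)) (.node [1,3,0,2,0,2,0,2,2] (.node [2,0,2,0,1,3,2,2,2,0,2] .nil .nil) .nil)))) (.node [1,3,2,0,1,3,0,2,2] (.node [3,1,0,2,3,0,2,0,1,3] (.node [3,0,1,3,2,0,2,3,3,0,2] (.node [1,0,2,1,3,3,1,3,2,1] (.node [1,3,3,2,1,3,3,1] .nil .nil) (.node [1,0,2,0,2,0,2,3,3,0] .nil .nil)) (.node [3,1,3,2,1,0,2,2] (.node [3,3,2,1,3,2,0,2,2,1,0] .nil .nil) (.node [1,3,3,2,1,3,1,0,2,1,3] .nil .nil))) (.node [1,3,2,2,0,2,0,1,3,2] (.node [2,1,3,1,3,3,1,3,3] (.node [3,2,1,3,3,0,2,1] .nil .nil) (.node [2,2,0,2,2,1,0,2] .nil .nil)) (.node [3,2,1,3,3,2,2,1] (.node [2,0,2,3,1,0,2,3,1,3,0] .nil .nil) .nil))) (.node [1,0,2,2,2,0,2,1,3,2] (.node [2,2,1,0,2,0,1,0] (.node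 [3,1,3,2,1,3,1,3,3,1] (.node [0,2,3,3,0,2,1,3,2] .nil .nil) (.node [2,0,1,3,0,2,2] .nil .nil)) (.node [1,3,2,0,1] (.node [0,2,0,2,1,3,0,2,2,0] .nil .nil) .nil)) (.node [2,0,2,3,0,1,3,3,2,0] (.node [3,3,0,1,3,2,2,0] (.node [1,3,2,0,1,3,1,3,0] .nil .nil) (.node [2,3,2,1,3,1,0,2,3,1] .nil .nil)) (.node [1,3,1,3,2,0,2,2,1,0] (.node [3,1,3,2,2,0,2,0,2,1,0] .nil .nil) .nil)))))) (.node [1,0,2,3,3,2,1,0,2,1,0] (.node [3,3,0,2,1,3,2,0,1,0] (.node [3,1,3,2,0,2,1,3,2] (.node [3,2,2,0,2,3,0,1,3] (.node [0,2,3,0,1,3,1,3,0,2,1] (.node [1,3,0,2,0,2,3,0,2,2,0] (.node [3,3,0,2,0,2,1,3,2] .nil .nil) (.node [3,1,3,3,0,2,1,3,3,2,2] .nil .nil)) (.node [2,2,0,1,3,0,2,0,1] (.node [2,2,0,2,0,2,0,2,0,1,3,0] .nil .nil) (.node [2,1,3,2,2,1,0,2,3,1] .nil .nil))) (.node [3,1,3,3,1,3,0,1] (.node [2,1,3,2,1,0,2,3,3,1] (.node [1,3,3,2,2,0,1,3,1] .nil .nil) (.node [2,0,1,3,2,0,1,3,1,0] .nil .nil)) (.node [2,0,1,3,1,3,1,3,0] (.node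 [0,2,1,3,2,0,2,2,1] .nil .nil) .nil))) (.node [0,2,3,0,2,0,2,1,3,1] (.node [2,0,1,3] (.node [1,3,2,0,2,0,2,3,1,0] (.node [1,3,1,0,2,3,0,2,2,0] .nil .nil) (.node [2,2,0,2,2] .nil .nil)) (.node [3,0,2,1,0,2,0,2,2,1] (.node [2,3,0,2,1,3,3,2,0,2,0] .nil .nil) (.node [3,1,3,2,0,1,3,3,0,2,1,0] .nil .nil))) (.node [1,3,1,3,1,3,2,0,1,0] (.node [1,3,0,2,1,0,2,1,3,0,1] (.node [1,3,1,3,0,2,2,0,2,0] .nil .nil) (.node [0,2,1,3,3,1,3,3,1,0] .nil .nil)) (.node [2,0,2,1,3,2,0,2,1] (.node [3,0,1,3,2,1,0,2,2,2] .nil .nil) .nil)))) (.node [3,3,0,2,1,3,0,2,2,1,0] (.node [2,3,3,0,2] (.node [0,1,3,2,0,2,3,3,2,0] (.node [0,2,3,0,2,2,0,2,0,1,0] (.node [2,3,2,0,1,3,0,2,1,3,2] .nil .nil) (.node [0,2,2,2,0,1,3,2,2,2,0] .nil .nil)) (.node [0,2,3,0,2,0,1,3,3] (.node [3,2,0,2,0,1,3,2,0,1] .nil .nil) (.node [0,2,1,0,2,3,3,1,3,1] .nil .nil))) (.node [2,3,2,2,1,0,2,3,1,0] (.node [0,2,1,0,2,0,2,3,1] (.node [3,0,2,2,1,0,2,3,1,0] .nil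 .nil) (.node [1,3,0,2,2,1,0,2] .nil .nil)) (.node [2,0,2,3,0,1,3,3,1,0] (.node [3,1,3,0,2,0,1,3,2] .nil .nil) .nil))) (.node [2,3,2,2,0,1,3,2,2,0] (.node [0,1,3,3,1,3,3,1,3] (.node [1,3,2,0,2,3,0,2,0,1] (.node [3,3,2,2,1,0,2,2] .nil .nil) (.node [3,2,1,3,2,0,1,3,1,3,3] .nil .nil)) (.node [2,1,3,0,2,2,2,0,2,0] (.node [2,0,2,3,0,2,2,0,2,0,1] .nil .nil) .nil)) (.node [1,3,2,0,1,3,0,2,0,1] (.node [1,0,2,2,1,0,2,2] (.node [2,0,2,3,1,3,2,0,1,3] .nil .nil) (.node [2,3,1,3,2,2,1,0,2,3,1] .nil .nil)) (.node [3,0,2,1,0,2,3,1,0] (.node [2,3,0,1,3,3,0,2,1] .nil .nil) .nil))))) (.node [3,1,3,1,3,1,3,2,2,2,0] (.node [2,3,3,1,0,2,3,1,0] (.node [3,2,0,1,3,3,1,3,3,0] (.node [3,2,2,2,0,1,3,3,0] (.node [1,3,1,3,1,3,2,2,0] (.node [2,2,1,0,2,0,2,0] .nil .nil) (.node [3,1,0,2,1,3,3,2,2] .nil .nil)) (.node [2,1,3,2,1,3,3,1,0] (.node [3,1,3,2,0,2,0,2,0,1,3] .nil .nil) (.node [2,1,3,3,1,3,0,2,0] .nil .nil))) (.node [3,2,1,0,2,2,2,0,1]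 (.node [2,3,2,1,3,2,1,3,3,1,0] (.node [1,3,1,3,1,3,3,0] .nil .nil) (.node [3,2,0,2,3,3,1,3,1,0,2] .nil .nil)) (.node [3,3,0,1,3,3,0,2,1,0,2] (.node [3,3,2,0,2,1,3,3,1,0] .nil .nil) .nil))) (.node [2,2,0,2,3,3,1,3,1,0] (.node [3,3,1,0,2,3,0,2,2,2] (.node [1,3,2,0,2,3,3,1,3,2] (.node [2,3,2,2,0,2,2,2,1,0,2,0] .nil .nil) (.node [2,3,1,3,3,1,3,1,3,0] .nil .nil)) (.node [2,1,3,1,0,2,3,3,2,1] (.node [2,3,0,1,3,1,3,2,2,1,0] .nil .nil) .nil)) (.node [1,3,3,2,2,0,1,3] (.node [2,1,0,2,3,1,3,2,0] (.node [2,0,2,1,3,2,1,3,3,2,2,1] .nil .nil) (.node [3,3,1,3,3,2,0,2,2,2,1] .nil .nil)) (.node [0,1,3,2,0,1,3,3] (.node [0,2,3,0,2,2,2,0,2,2,1] .nil .nil) .nil)))) (.node [1,0,2,0,2,3,0,2,0,1,0] (.node [2,1,3,0,1,3,2,0] (.node [1,3,2,0,1,3,1,3,3,1,0] (.node [0,2,0,2,3,1,3,0] (.node [0,2,0,2,2,0,2,1,3,1] .nil .nil) (.node [2,3,3,0,2,2,0,2,0,1,0] .nil .nil)) (.node [0,2,3,0,2,0,1,3,2] (.node [0,2,2,0,2,3,3,1,0] .nil .nil)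 (.node [2,3,3,1,0,2,2,0,2,1] .nil .nil))) (.node [0,2,0,2,1,0,2,3,0,2] (.node [0,1,3,3,0,2,2,1,0] (.node [2,3,3,2,1,3,0,2,2,0] .nil .nil) (.node [3,1,3,3,2,0,2,2,2,1] .nil .nil)) (.node [3,2,0,1,3,2,1,0,2,2] (.node [2,0,1,3,1,3,2,2] .nil .nil) .nil))) (.node [2,1,3,3,0,2,0,2,1] (.node [2,3,3,1,0,2,3,0,1,3,0] (.node [3,1,0,2,3,3,2,1] (.node [2,1,3,0,2,2,2,1,0,2,0] .nil .nil) (.node [2,2,0,2,0,2,0,1] .nil .nil)) (.node [1,3,1,0,2,3,3,0,1,0] (.node [2,1,0,2,0,2,2,2,1,0] .nil .nil) .nil)) (.node [0,2,1,0,2,2,1,0,2] (.node [0,2,0,2,0,2,0,2,1,0] (.node [0,2,3,1,3,3] .nil .nil) (.node [2,3,3,2,2,1,0,2,0] .nil .nil)) (.node [1,0,2,1,3,0,2,2,2] (.node [2,3,3,1,0,2,2,0] .nil .nil) .nil))))))) (.node [3,0,1,3,3,1,3,2,1,3,1,0] (.node [3,0,1,3,3,1,3,1,0] (.node [0,2,0,2,1,3,1,3,1,3] (.node [2,3,3,1,3,3,1,3,0,1] (.node [2,3,1,0,2,0,2,1,3,3,1,0] (.node [0,2,3,0,1,3,1,3,2] (.node [3,2,1,0,2,3,3,2,2,1] (.node [3,2,2,0,1,3,2,0]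 .nil .nil) (.node [0,2,0,2,0,2,3,0,2,2] .nil .nil)) (.node [0,2,0,2,1,3,2,1,3,1,0] (.node [0,1,3,3,2,0,2,1,0,2] .nil .nil) (.node [0,1,3,2,2,0,1,3,2,1] .nil .nil))) (.node [3,2,0,2,1,3,0,1,3,0] (.node [3,0,1,3,1,3,1,3,2,2] (.node [0,1,3,2,0,1,3,1,3,1,0] .nil .nil) (.node [3,2,2,0,1,3,3,2,1,0,2] .nil .nil)) (.node [0,1,3,0,2,2,0,2,0,1] (.node [2,2,0,2,2,1,0,2,1,3] .nil .nil) .nil))) (.node [2,0,1,3,0,2,2,1] (.node [3,1,3,0,2,2,2,0,2,0] (.node [1,3,2,2,1,0,2,3,3] (.node [3,2,0,1,3,3,2] .nil .nil) (.node [2,3,1,3,0,2,2,0,1,0] .nil .nil)) (.node [0,2,1,0,2,3,1,0,2,1] (.node [3,2,2,2,0,2,2,2,0,1,0] .nil .nil) (.node [2,3,1,3,1,3,1,3,0,2,0] .nil .nil))) (.node [2,2,0,1,3,2,1,3,2,1,0] (.node [0,2,1,3,0,1,3,3,1,3] (.node [0,2,2,0,2,1,3,3,0,1,0] .nil .nil) (.node [2,3,2,2,1,0,2,1,3] .nil .nil)) (.node [0,2,2,1,0,2,0,2,0,2,0] (.node [3,3,2,1,0,2,2,1,0,2,0,1] .nil .nil) .nil)))) (.node [0,2,1,3,2,2,0,2,2] (.node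 [2,3,3,0,2,2,0,2,0] (.node [1,3,0,2,1,3,0,1] (.node [0,2,2,2,0,2,0] (.node [1,3,3,1,3,3,2,2,0] .nil .nil) (.node [3,3,0,2,1,3,3,0,1,3] .nil .nil)) (.node [3,0,1,3,0,1,3,0] (.node [0,2,1,3,0,2,2,0,1,3] .nil .nil) (.node [3,1,0,2,3,1,0,2,2] .nil .nil))) (.node [1,0,2,3,0,2,2,2,1] (.node [1,3,2,2,0,2,1,3,0,2,2,0] (.node [2,1,3,1,0,2,3,1,3,2] .nil .nil) (.node [2,1,3,3,2,2,2,1,0,2,0] .nil .nil)) (.node [1,0,2,1,3,3,2,2,0] (.node [0,2,2,0,2,1,3] .nil .nil) .nil))) (.node [2,3,3,0,2,1,3,0,2,2,1,0] (.node [3,3,1,3,1,3,3,0,1,3,0,2] (.node [0,2,0,2,1,3] (.node [1,3,2,0,1,3,3,2,2,1] .nil .nil) (.node [3,3,2,2,1,0,2,3,1,3,0] .nil .nil)) (.node [2,1,3,2,2,0,2,1,3,2] (.node [1,0,2,3,3,1,3,0,2] .nil .nil) .nil)) (.node [3,1,3,1,0,2,3,3,1] (.node [2,0,2,3,1,3,1,3,0] (.node [3,3,0,1,3,2,1,3,0,2,0] .nil .nil) (.node [1,3,3,1,3,2,1,0,2,0] .nil .nil)) (.node [3,1,0,2,3,3,0,2,1] (.node [1,3,3,0,1,3,1] .nil .nil) .nil)))))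 (.node [3,3,1,3,2,1,3,0,1] (.node [2,0,1,3,1,3,3,2,0,2,0] (.node [2,2,0,2,2,0,2,2,0,1] (.node [2,0,2,0,2,0,2,3,0,2] (.node [3,2,0,2,2,2,0,1,3,2] (.node [3,1,3,0,1,3,2,2,1] .nil .nil) (.node [2,3,1,0,2,2,1,0,2,2,1] .nil .nil)) (.node [3,1,3,1,3,3,1,3,2,1] (.node [2,1,0,2,3,0,2] .nil .nil) (.node [3,0,1,3,0,2,1,0] .nil .nil))) (.node [1,3,2,0,2,0,2,3,3,2,1] (.node [0,2,2,1,0,2,3,3,2,2,0] (.node [2,3,1,3,1,3,0,2,0,1] .nil .nil) (.node [0,1,3,2,1,0,2,1,0,2,0] .nil .nil)) (.node [2,3,0,2,1,3,1,3,2,2,2] (.node [2,2,2] .nil .nil) .nil))) (.node [0,2,3,1,3,3,1,0,2,1,0] (.node [2,2,0,1,3,2,1,3,3,2,0] (.node [1,3,2,0,2,3,3,1] (.node [0,1,3,1,3,1,3,1,0] .nil .nil) (.node [2,2,2,0,2,2,2,0,2,0] .nil .nil)) (.node [3,2,0,2,1,3,1,3,0] (.node [0,2,0,2,3,3,0,1,0] .nil .nil) .nil)) (.node [0,2,3,0,2,2,0,2,2,0,1] (.node [2,3,1,0,2,2,0,2,2] (.node [1,0,2,0,2,0,1] .nil .nil) (.node [2,0,1,3,3,2,1,3,2,2,0] .nil .nil)) (.node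 [2,0,2,0,2,1,3,1,3,3] (.node [2,1,3,3,2,1,3,2,0] .nil .nil) .nil)))) (.node [1,3,1,3,1,0,2,1,3,3] (.node [1,3,2,2,2,0,2,1,0] (.node [2,2,2,0,2,1] (.node [1,3,1,3,0,2,2,2] (.node [2,0,1,3,2,0,1,3,1,3,0] .nil .nil) (.node [2,0,2,2,0,2,2,1] .nil .nil)) (.node [0,1,3,0,2,1,3,2,1,3] (.node [3,3,1,3,3,2,1,0,2,0,2] .nil .nil) (.node [2,2,1,0,2,3,3,1,3,2,1] .nil .nil))) (.node [2,1,0,2,3,1,0] (.node [2,3,1,3,2,2,0,2,0,1] (.node [3,0,1,3,2,2,0] .nil .nil) (.node [1,3,2,1,3,0,2,2,0,2,1] .nil .nil)) (.node [1,3,1,3,2,0,2,3,1,3,0] (.node [1,3,2,1,3,0,1,3,1,0] .nil .nil) .nil))) (.node [2,1,0,2,1,3,0,1,0] (.node [2,0,1,3,3,0,2,1,3,3,0] (.node [2,3,2,1,3,0,2,2,0] (.node [3,2,2,2,0,1,3,3,2,1] .nil .nil) (.node [2,3,3,2,0,2,0,2,1] .nil .nil)) (.node [3,3,1,3,0,1,3,3,0,1] (.node [1,3,0,2,2,1,0] .nil .nil) .nil)) (.node [3,2,0,1,3,2,2,2,0,2] (.node [0,2,0,2,1,3,1,0,2,3,3] (.node [0,1,3,0,2,2,1] .nil .nil) (.node [2,1,3,0,1,3,2,1,0]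 .nil .nil)) (.node [2,3,3,0,2,2,1,0,2,3,1,0] (.node [3,0,2,0,2,3,0,1] .nil .nil) .nil)))))) (.node [3,1,3,2,0,1,3,3,2] (.node [0,2,0,1,3,2,0] (.node [0,2,1,0,2,0,1,0] (.node [2,3,3,2,1,0,2,3,1,0] (.node [3,3,1,0,2,1,3,3,2,2,2,0] (.node [3,3,1,3,2,1,3,2,2,1,0] (.node [0,2,1,0,2,0,2,1] .nil .nil) (.node [3,2,0,1,3,3,2,2,0,2,1] .nil .nil)) (.node [2,3,2,2,0,2,0,2,3] (.node [2,3,1,0,2,3,3,0,2] .nil .nil) (.node [3,3,1,3,1,0,2,3,1] .nil .nil))) (.node [0,2,0,1,3,0,2,0] (.node [0,1,3,3,2,2,0,2,0] (.node [1,3,1,3,3,1,3,1,0,2,1] .nil .nil) (.node [2,0,2,2,0,2,1,0,2,0,1] .nil .nil)) (.node [3,0,2,0,2,0,2,1,3,1] (.node [3,3,1,3,2,1,0,2] .nil .nil) .nil))) (.node [3,2,0,2,2,0,1,3,2,2,0] (.node [0,2,3,1,3,0,2,0,2,3] (.node [3,1,3,3,2,2,0] (.node [3,3,2,2,0,2,0,1,3] .nil .nil) (.node [0,1,3,2,1,3,2,0,1,3,3] .nil .nil)) (.node [2,1,3,1,3,3,0,1,0] (.node [3,0,2,0,2,0,2,3,3,1] .nil .nil) (.node [3,2,1,3,1,0,2,2,2,1]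 .nil .nil))) (.node [0,1,3,0,2,2] (.node [3,1,3,2,0,1,3,3,2,1] (.node [3,2,0,2,0,2,1,3,1] .nil .nil) (.node [2,3,1,3,2,1,3,2,0,2,0] .nil .nil)) (.node [2,0,2,1,0,2,1,3] (.node [2,3,1,3,3,1,0] .nil .nil) .nil)))) (.node [0,1,3,2,1,3,1,0,2,1] (.node [3,1,0,2,3,3] (.node [3,2,0,1,3,3,0,2,2] (.node [0,1,3,2,1,3,0,2,2,1] (.node [2,3,3,1,3,1,3,1,3,0,2] .nil .nil) (.node [2,0,2,1,3,3,0,1,3,1,3,0] .nil .nil)) (.node [3,1,3,3,2,1,3,0,2] (.node [1,3,3,2,0,2,2,2,0,1,3] .nil .nil) (.node [2,2,2,0,2,1,3,2,2,1,0] .nil .nil))) (.node [2,2,2,0,1,3,1,3,3,2] (.node [1,0,2,0,2,0,2,3] (.node [3,1,3,2,2,2,0,2,1,0] .nil .nil) (.node [1,3,2,1,0,2,1,0,2,0] .nil .nil)) (.node [2,2,0,2,2,2,1,0,2,1,0] (.node [1,3,1,3,2,2,0] .nil .nil) .nil))) (.node [2,1,3,3,0,2,1,0,2,2,1] (.node [2,3,1,0,2,2,1,0,2,2] (.node [2,3,1,3,2,1,3,0,1] (.node [3,2,2,0,2,3,1,0,2,2,0] .nil .nil) (.node [0,1,3,1,3,0,1,3,0] .nil .nil)) (.node [3,2,2,0,2,0,2,1,3,0]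 (.node [2,1,0,2,3,3,1,3,1,0] .nil .nil) .nil)) (.node [0,2,2,2,0,2,2,0,2,0] (.node [3,3,2,1,3,0,2,1,3,2] (.node [1,3,3,1,3,3,0,1,3,2,1] .nil .nil) (.node [2,2,0,1,3,3,1,3,2,2,2,1] .nil .nil)) (.node [2,2,0,1,3,0,2,2,1] (.node [0,1,3,0,1,3,2,1,3,3,1] .nil .nil) .nil))))) (.node [0,1,3,3,0,1,3,0,2] (.node [1,3,2,1,3,0,1,3,3,2] (.node [1,3,3,2,1,3,3,0,1,0] (.node [3,1,3,2,0,2,3,3,0,2] (.node [3,3,2,0,2,2,2,1,0] (.node [3,0,1,3,1,3,1,3,1,3,0] .nil .nil) (.node [1,3,2,2,0,1,3,2,0] .nil .nil)) (.node [0,2,3,1,0,2,2,0,2,2] (.node [0,1,3,1,3,2,1,0] .nil .nil) (.node [2,0,2,2,2,1] .nil .nil))) (.node [2,1,3] (.node [3,1,3,2,0] (.node [0,1,3,3,0,2] .nil .nil) (.node [1,0,2,3,3,2,1,3,2,1] .nil .nil)) (.node [2,3,2,1,3,3,0] (.node [2,2,1,0,2,0,2,1] .nil .nil) .nil))) (.node [3,1,3,1,3,2,0,1,3,1,0] (.node [3,0,1,3,3,1,3,0,2,0] (.node [2,0,2,3,3,0,2,1,0] (.node [3,1,3,3,1,3,3,1] .nil .nil) (.node [0,2,2,2,0,2,2,0,2,0,1]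 .nil .nil)) (.node [3,3,0,1,3,2,1,3,2] (.node [2,0,2,3,3,1,3,1,0] .nil .nil) .nil)) (.node [2,3,0,2,2,0,1,0] (.node [2,1,0,2,3,1,3,2,0,2,2] (.node [3,3,1,3,3,1,3,2,1,3] .nil .nil) (.node [2,0,1,3,0,1,3,2,0] .nil .nil)) (.node [2,1,0,2,0,2,2] (.node [3,3,2,0,2,0,1,3,2,1] .nil .nil) .nil)))) (.node [3,3,1,0,2,0,2,2] (.node [3,2,2,0,2,2,2,0,1,0] (.node [3,2,1,0,2,3,3,1,3,2] (.node [1,3,2,0,1,3,3,2,0] (.node [3,2,0,2,2,2,0,1,0] .nil .nil) (.node [0,2,0,2,0,1,3,2,1,3] .nil .nil)) (.node [1,3,3,1,3,2,0,2,2,1] (.node [1,3,1,0,2,0,2,3,1] .nil .nil) (.node [1,3,1,3,3,2,0,2,0] .nil .nil))) (.node [2,3,3,2,1,3,2,0,1,3,1,0] (.node [2,3,3,2,1,3,3,0,1,3,0] (.node [1,3,2,1,3,0,1,3,3,2,2] .nil .nil) (.node [3,3,0,2,1,0,2,0,1,3] .nil .nil)) (.node [0,1,3,2,0,2,2] (.node [0,2,3,0,2,0,1,3,2,2] .nil .nil) .nil))) (.node [0,2,1,3,0,2,0,1,3,2,2] (.node [2,3,3,0] (.node [2,3,1,0,2,2,1,0,2,0,1] (.node [2,0,2,2,1,0,2,2,2,1]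 .nil .nil) (.node [2,0,2,1,0,2,3,1,0,2,1] .nil .nil)) (.node [3,2,2,0,2,0,2,0,2,2] (.node [3,1,0,2,3,3,2,0,2,1,0] .nil .nil) .nil)) (.node [2,3,2,0,2,2,0,2,2,0,2,0] (.node [3,2,2,2,0,2,1,3,3] (.node [1,0,2,0,2,3,3,0,1,0] .nil .nil) (.node [2,1,0,2,1,3,0,2,2,2,1] .nil .nil)) (.node [3,3,0,1,3,1,3,0,1,3,0] (.node [2,1,3,3,2,2,0,2,0,1,0] .nil .nil) .nil))))))))

/-- Part of `setWord`. -/
noncomputable def setWord_r_r_r_r : Arr (List ℕ) :=
  .node [1,0,2,0,2,1,3,0,1] setWord_r_r_r_r_l setWord_r_r_r_r_r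

/-- Part of `setWord`. -/
noncomputable def setWord_r_r_r : Arr (List ℕ) :=
  .node [2,0,2,0,2,1,3,1] setWord_r_r_r_l setWord_r_r_r_r

/-- Part of `setWord`. -/
noncomputable def setWord_r_r : Arr (List ℕ) :=
  .node [1,3,3,0,1] setWord_r_r_l setWord_r_r_r

/-- Part of `setWord`. -/
noncomputable def setWord_r : Arr (List ℕ) :=
  .node [1,3,2,0,2,3,0,2,2,1] setWord_r_l setWord_r_r

/-- A word reaching a set from the first. -/
noncomputable def setWord : Arr (List ℕ) :=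
  .node [1,0,2,1,3,0,1,3,0] setWord_l setWord_r

end Cfsg.Agent.RuRankThree
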