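import Cfsg.Agent.RuRankThree.Aut
import Cfsg.Agent.RuRankThree.SetData
import Cfsg.Agent.RuRankThree.OrbitData

/-!
# Checks on the sets of four lines fixed by Sylow subgroups of order 25
-/

set_option autoImplicit false
set_option maxRecDepth 100000

namespace Cfsg.Agent.RuRankThree

open Cfsg.Agent.Compute Cfsg.Agent.StemCert

/-- The number of sets. -/
def nSets : ℕ := 14976

/-- The four lines of a set. -/
noncomputable def sPts (i : ℕ) : List ℕ :=
  forceN (setKey.get 0 i) fun k =>
    [getField 12 k 3, getField 12 k 2, getField 12 k 1, getField 12 k 0]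

/-- The key of four lines. -/
noncomputable def keyOf (l : List ℕ) : ℕ :=
  List.rec (motive := fun _ => ℕ → ℕ) (fun r => r)
    (fun p _ ih r => ih (Nat.add (Nat.mul 4096 r) p)) l 0

/-- The mask of the image of some lines. -/
noncomputable def imgMask (a : List ℕ) (l : List ℕ) : ℕ :=
  List.rec (motive := fun _ => ℕ) 0 (fun p _ r => Nat.lor (Nat.shiftLeft 1 (wApp a p)) r) l

/-- A set is well formed. -/
noncomputable def shapeB (i : ℕ) : Bool :=
  incB (sPts i) && Nat.beq (keyOf (sPts i)) (setKey.get 0 i) &&
    (Nat.beq i 0 || Nat.blt (setKey.get 0 (Nat.sub i 1)) (setKey.get 0 i))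

/-- The four generators permute the sets. -/
noncomputable def tabB (i : ℕ) : Bool :=
  forceN (setTab.get 0 i) fun r => allBelow 4 fun k => forceN (getField 14 r k) fun t =>
    Nat.blt t nSets && Nat.beq (imgMask [k] (sPts i)) (listMask (sPts t))

/-- A word reaches the set from the first. -/
noncomputable def setWordB (i : ℕ) : Bool :=
  knownB (setWord.get [] i) && allB (fun s => Nat.blt s 4) (setWord.get [] i) &&
    Nat.beq (imgMask (setWord.get [] i) setBase) (listMask (sPts i))

/-- The representative of a set. -/
noncomputable def repSet (i : ℕ) : ℕ := repSets.getD (repOf.get 0 i) 0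

/-- A word normalising the subgroup of order 13 reaches the set from its representative. -/
noncomputable def moveB (i : ℕ) : Bool :=
  Nat.blt (repOf.get 0 i) repSets.length && Nat.blt (repSet i) nSets &&
    allB (fun s => Nat.beq s 8 || Nat.beq s 10) (moveWord.get [] i) &&
    Nat.beq (imgMask (moveWord.get [] i) (sPts (repSet i))) (listMask (sPts i))

/-- The checks on sets from `lo` on. -/
noncomputable def setsB (f : ℕ → Bool) (lo len : ℕ) : Bool := allBelow len fun i => f (lo + i)

/-- Words inducing all permutations of the first set. -/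
def permWords : List (List ℕ) :=
  [[], [14], [15], [15, 14], [14, 15], [15, 15], [14, 15, 14], [15, 15, 14], [15, 14, 15],
    [14, 15, 15], [15, 15, 15], [15, 14, 15, 14], [14, 15, 15, 14], [15, 15, 15, 14],
    [15, 15, 14, 15], [15, 14, 15, 15], [15, 15, 14, 15, 14], [15, 14, 15, 15, 14],
    [14, 15, 15, 14, 15], [15, 15, 15, 14, 15], [15, 15, 14, 15, 15], [14, 15, 15, 14, 15, 14],
    [15, 15, 15, 14, 15, 14], [15, 15, 14, 15, 15, 14]]

/-- The images of the first set under a word, in order. -/
noncomputable def tupleOf (a : List ℕ) : ℕ := keyOf (setBase.map (wApp a))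

/-- The first set. -/
noncomputable def firstSetB : Bool :=
  incB setBase && Nat.beq setBase.length 4 && Nat.blt setZero nSets &&
    Nat.beq (listMask (sPts setZero)) (listMask setBase) && Nat.beq permWords.length 24 &&
    allB (fun a => knownB a && Nat.beq (imgMask a setBase) (listMask setBase)) permWords &&
    allBelow 24 fun i => allBelow 24 fun j =>
      Nat.beq i j || !(Nat.beq (tupleOf (permWords.getD i [])) (tupleOf (permWords.getD j [])))

/-- The word `n` times. -/
def repW : ℕ → List ℕ → List ℕ
  | 0, _ => []
  | n + 1, a => a ++ repW n a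

/-- Two words differ on the base. -/
noncomputable def neW (a b : List ℕ) : Bool :=
  knownB a && knownB b && !(eqOn 12 letterCodes [2305, 2306, 3378] a b)

/-- The subgroups of order 25 and 13. -/
noncomputable def sylowB : Bool :=
  fixB [[12], [13]] setBase && eqW (repW 5 [12]) [] && eqW (repW 5 [13]) [] &&
    eqW [12, 13] [13, 12] && eqW (repW 13 [8]) [] && neW [8] [] && eqW [8, 9] [] &&
    eqW [10, 11] [] && eqW [10, 8, 11] (repW 8 [8]) &&
    allBelow 25 fun i => allBelow 25 fun j => Nat.beq i j ||
      neW (repW (i / 5) [12] ++ repW (i % 5) [13]) (repW (j / 5) [12] ++ repW (j % 5) [13])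

/-- The inverse of a word in the first four letters. -/
def wInv (t : List ℕ) : List ℕ := t.reverse.map fun a => (a + 4) % 8

/-- The word reaching a representative. -/
noncomputable def repWord (o : ℕ) : List ℕ := setWord.get [] (repSets.getD o 0)

/-- Generators of a subgroup attached to a representative. -/
noncomputable def lWords (o : ℕ) : List (List ℕ) :=
  [[8], repWord o ++ ([12] ++ wInv (repWord o)), repWord o ++ ([13] ++ wInv (repWord o))]

/-- The inverse words are inverse. -/
noncomputable def repInvB (o : ℕ) : Bool := eqW (repWord o ++ wInv (repWord o)) []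

/-- The word of a witness. -/
noncomputable def witWord (e : ℕ × List ℕ) : List ℕ :=
  e.2.flatMap fun k => (lWords e.1).getD k []

/-- An element of order 16 and two elements not commuting. -/
noncomputable def witB (e : ℕ × List ℕ) : Bool :=
  Nat.blt e.1 repSets.length && allB (fun k => Nat.blt k 3) e.2 &&
    eqW (repW 16 (witWord e)) [] && neW (repW 8 (witWord e)) [] &&
    neW ([8] ++ (lWords e.1).getD 1 []) ((lWords e.1).getD 1 [] ++ [8])

/-- The trees of the representatives fixing two lines. -/
noncomputable def goodTrees : List ((Arr (ℕ × ℕ × ℕ) × ℕ) × (Arr (ℕ × ℕ × ℕ) × ℕ)) :=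
  [((treeGood0_0, treeGood0_0Size), (treeGood0_1, treeGood0_1Size)),
    ((treeGood1_0, treeGood1_0Size), (treeGood1_1, treeGood1_1Size)),
    ((treeGood2_0, treeGood2_0Size), (treeGood2_1, treeGood2_1Size))]

/-- A tree is an orbit of the given size. -/
noncomputable def orbitB (T : Arr (ℕ × ℕ × ℕ) × ℕ) (ws : List (List ℕ)) (n : ℕ) : Bool :=
  Nat.beq T.2 n && treeB T.1 T.2 ws && distinctB T.1 T.2 0 &&
    forceN (treeMask T.1 T.2) fun m => allB (fun a => allBelow T.2 fun k =>
      hasBit m (wApp a (tPt T.1 k))) ws

/-- A representative fixing exactly two lines. -/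
noncomputable def goodB (e : ℕ × ℕ) (T : (Arr (ℕ × ℕ × ℕ) × ℕ) × (Arr (ℕ × ℕ × ℕ) × ℕ)) : Bool :=
  Nat.blt e.1 repSets.length && Nat.blt e.2 4060 && !(Nat.beq e.2 0) &&
    !(hasBit (rMask 0) e.2) && fixB (lWords e.1) [e.2] &&
    orbitB T.1 (lWords e.1) 975 && orbitB T.2 (lWords e.1) 300 &&
    allBelow 4060 fun p => Nat.beq p 0 || Nat.beq p e.2 ||
      !(allB (fun a => Nat.beq (wApp a p) p) (lWords e.1))

/-- All three trees. -/
noncomputable def goodsB : Bool :=
  Nat.beq goodReps.length 3 &&
    allBelow 3 fun g => goodB (goodReps.getD g (0, 0))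
      (goodTrees.getD g ((Arr.nil, 0), (Arr.nil, 0)))

/-- Some entry has the given first component. -/
noncomputable def hasFst {α : Type} (o : ℕ) (l : List (ℕ × α)) : Bool :=
  List.rec (motive := fun _ => Bool) false (fun e _ r => Nat.beq e.1 o || r) l

theorem hasFst_spec {α : Type} {o : ℕ} :
    ∀ {l : List (ℕ × α)}, hasFst o l = true → ∃ e ∈ l, e.1 = o
  | [], h => absurd h Bool.false_ne_true
  | e :: l, h => by
    change (Nat.beq e.1 o || hasFst o l) = true at h
    rw [Bool.or_eq_true, Nat.beq_eq] at h
    rcases h with h | h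
    · exact ⟨e, List.mem_cons_self, h⟩
    · obtain ⟨x, hx, hxo⟩ := hasFst_spec h
      exact ⟨x, List.mem_cons_of_mem _ hx, hxo⟩

/-- Every representative is listed. -/
noncomputable def coverB : Bool :=
  allBelow repSets.length fun o =>
    hasFst o witness || hasFst o goodReps

end Cfsg.Agent.RuRankThree
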