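import Cfsg.Agent.RuRankThree.Iso
import Cfsg.Agent.RuRankThree.SetCheckShape
import Cfsg.Agent.RuRankThree.SetCheckTab
import Cfsg.Agent.RuRankThree.SetCheckMove
import Cfsg.Agent.RuRankThree.SetCheckWit

/-!
# The conjugates of a Sylow subgroup of order 25 and their fixed sets
-/

set_option autoImplicit false
set_option maxRecDepth 100000

namespace Cfsg.Agent.RuRankThree

open Cfsg.Agent.Compute Cfsg.Agent.StemCert

attribute [local irreducible] rowInfo rowMask rowIdx letterCodes letterWords setKey setTab setWord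
  repSets repOf moveWord witness nb sPts setBase setZero

/-- The lines in a list. -/
noncomputable def lineSet (l : List ℕ) : Finset (Fin 4060) :=
  Finset.univ.filter fun x : Fin 4060 => (x : ℕ) ∈ l

theorem mem_lineSet {l : List ℕ} {x : Fin 4060} : x ∈ lineSet l ↔ (x : ℕ) ∈ l := by
  simp [lineSet]

theorem imgMask_eq (a : List ℕ) : ∀ l : List ℕ, imgMask a l = listMask (l.map (wApp a))
  | [] => rfl
  | p :: l => by
    show Nat.lor (Nat.shiftLeft 1 (wApp a p)) (imgMask a l) = _
    rw [imgMask_eq a l]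
    rfl

theorem image_lineSet {a : List ℕ} (ha : knownB a = true) {l m : List ℕ}
    (hl : ∀ p ∈ l, p < 4060) (h : Nat.beq (imgMask a l) (listMask m) = true) :
    (lineSet l).image (ap (evalW letter a)) = lineSet m := by
  have hm : ∀ q, q ∈ l.map (wApp a) ↔ q ∈ m := fun q => by
    rw [← listMask_spec, ← imgMask_eq, Nat.eq_of_beq_eq_true h, listMask_spec]
  ext y
  simp only [Finset.mem_image, mem_lineSet]
  rw [← hm, List.mem_map]
  constructor
  · rintro ⟨x, hx, rfl⟩
    exact ⟨x, hx, (ap_word ha x).symm⟩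
  · rintro ⟨p, hp, e⟩
    exact ⟨⟨p, hl p hp⟩, hp, Fin.ext ((ap_word ha _).trans e)⟩

theorem image_ap_mul (g h : ↥grp) (S : Finset (Fin 4060)) :
    S.image (ap (g * h)) = (S.image (ap h)).image (ap g) := by
  rw [Finset.image_image]
  rfl

theorem image_ap_inv {g : ↥grp} {S T : Finset (Fin 4060)} (h : S.image (ap g) = T) :
    T.image (ap g⁻¹) = S := by
  rw [← h, ← image_ap_mul, inv_mul_cancel]
  exact Finset.ext fun x => by simp [ap_one]

theorem setsB_spec {f : ℕ → Bool} (h0 : setsB f 0 3744 = true) (h1 : setsB f 3744 3744 = true)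
    (h2 : setsB f 7488 3744 = true) (h3 : setsB f 11232 3744 = true) {i : ℕ} (hi : i < nSets) :
    f i = true := by
  have hn : nSets = 14976 := rfl
  have key : ∀ lo, setsB f lo 3744 = true → lo ≤ i → i < lo + 3744 → f i = true := by
    intro lo h hle hlt
    have h' := allBelow_eq_true.mp h (i - lo) (by omega)
    rwa [show lo + (i - lo) = i by omega] at h'
  rcases lt_or_ge i 3744 with h | h
  · exact key 0 h0 (Nat.zero_le i) (by omega)
  rcases lt_or_ge i 7488 with h' | h'
  · exact key 3744 h1 h (by omega)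
  rcases lt_or_ge i 11232 with h'' | h''
  · exact key 7488 h2 h' (by omega)
  · exact key 11232 h3 h'' (by omega)

theorem shape_ok {i : ℕ} (hi : i < nSets) : shapeB i = true :=
  setsB_spec shape0_ok shape1_ok shape2_ok shape3_ok hi

/-- A numbered set. -/
noncomputable def sSet (i : ℕ) : Finset (Fin 4060) := lineSet (sPts i)

theorem sPts_ok {i : ℕ} (hi : i < nSets) : (sPts i).Nodup ∧ ∀ p ∈ sPts i, p < 4060 := by
  have h := shape_ok hi
  simp only [shapeB, Bool.and_eq_true] at h
  exact incB_spec h.1.1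

theorem incB_sorted {l : List ℕ} (h : incB l = true) : l.Pairwise (· < ·) := by
  suffices H : ∀ (l : List ℕ) (lo : ℕ), List.rec (motive := fun _ => ℕ → Bool) (fun _ => true)
      (fun p _ ih lo => Nat.ble lo p && Nat.blt p 4060 && ih (Nat.add p 1)) l lo = true →
      l.Pairwise (· < ·) ∧ ∀ p ∈ l, lo ≤ p from (H l 0 h).1
  intro l
  induction l with
  | nil => exact fun _ _ => ⟨List.Pairwise.nil, fun p hp => absurd hp List.not_mem_nil⟩
  | cons a l ih =>
    intro lo h'
    simp only [Bool.and_eq_true, Nat.ble_eq] at h'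
    obtain ⟨h1, h2⟩ := ih _ h'.2
    refine ⟨List.pairwise_cons.2 ⟨fun b hb => h2 b hb, h1⟩, fun p hp => ?_⟩
    rcases List.mem_cons.1 hp with rfl | hp
    · exact h'.1.1
    · exact le_trans h'.1.1 (Nat.le_of_lt (h2 p hp))

theorem key_lt {j : ℕ} : j < nSets → ∀ i < j, setKey.get 0 i < setKey.get 0 j := by
  induction j with
  | zero => intro _ i hi; exact absurd hi (Nat.not_lt_zero i)
  | succ j ih =>
    intro hj i hi
    have h := shape_ok hj
    simp only [shapeB, Bool.and_eq_true, Bool.or_eq_true, Nat.beq_eq, Nat.blt_eq] at h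
    rcases h.2 with h' | h'
    · omega
    change setKey.get 0 j < setKey.get 0 (j + 1) at h'
    rcases Nat.lt_succ_iff_lt_or_eq.1 hi with hi' | rfl
    · exact (ih (by omega) i hi').trans h'
    · exact h'

theorem sSet_inj {i j : ℕ} (hi : i < nSets) (hj : j < nSets) (h : sSet i = sSet j) : i = j := by
  have hi' := shape_ok hi
  have hj' := shape_ok hj
  simp only [shapeB, Bool.and_eq_true, Nat.beq_eq] at hi' hj'
  have he : sPts i = sPts j := by
    refine List.Pairwise.eq_of_mem_iff (r := (· < ·)) (incB_sorted hi'.1.1) (incB_sorted hj'.1.1)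
      fun a => ?_
    constructor
    · intro ha
      have := Finset.ext_iff.1 h ⟨a, (sPts_ok hi).2 a ha⟩
      simpa [sSet, mem_lineSet, ha] using this
    · intro ha
      have := Finset.ext_iff.1 h ⟨a, (sPts_ok hj).2 a ha⟩
      simpa [sSet, mem_lineSet, ha] using this
  have hk : setKey.get 0 i = setKey.get 0 j := by rw [← hi'.1.2, ← hj'.1.2, he]
  rcases Nat.lt_trichotomy i j with hc | hc | hc
  · exact absurd hk (key_lt hj i hc).ne
  · exact hc
  · exact absurd hk.symm (key_lt hi j hc).ne

theorem four_eq {k : ℕ} (hk : k < 4) : four k = evalW letter [k] := by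
  have h : letterWords.getD k [] = [k] := by
    rcases (show k = 0 ∨ k = 1 ∨ k = 2 ∨ k = 3 by omega) with rfl | rfl | rfl | rfl <;>
      decide +kernel
  rw [show evalW letter [k] = letter k by simp [evalW], letter, h]
  simp [evalW]

theorem gset (g : ↥grp) : ∀ i < nSets, ∃ j < nSets, (sSet i).image (ap g) = sSet j := by
  have hg : g ∈ (Subgroup.closure (four '' {k | k < 4})).toSubmonoid := by
    rw [gen_four]; exact Submonoid.mem_top g
  rw [Subgroup.closure_toSubmonoid_of_finite] at hg
  induction hg using Submonoid.closure_induction with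
  | mem g hg =>
    obtain ⟨k, hk, rfl⟩ := hg
    intro i hi
    have h := setsB_spec (f := tabB) tab0_ok tab1_ok tab2_ok tab3_ok hi
    rw [tabB, forceN_eq, allBelow_eq_true] at h
    have h' := h k hk
    rw [forceN_eq, Bool.and_eq_true, Nat.blt_eq] at h'
    exact ⟨_, h'.1, four_eq hk ▸
      image_lineSet (letter_known (hk.trans (by decide))) (sPts_ok hi).2 h'.2⟩
  | one => exact fun i hi => ⟨i, hi, Finset.ext fun x => by simp [ap_one]⟩
  | mul g h _ _ h1 h2 =>
    intro i hi
    obtain ⟨j, hj, e1⟩ := h2 i hi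
    obtain ⟨k, hk, e2⟩ := h1 j hj
    exact ⟨k, hk, by rw [image_ap_mul, e1, e2]⟩

theorem setWord_ok {i : ℕ} (hi : i < nSets) : knownB (setWord.get [] i) = true ∧
    (∀ s ∈ setWord.get [] i, s < 4) ∧
    (lineSet setBase).image (ap (evalW letter (setWord.get [] i))) = sSet i := by
  have h := setsB_spec (f := setWordB) setWord0_ok setWord1_ok setWord2_ok setWord3_ok hi
  simp only [setWordB, Bool.and_eq_true] at h
  have hb := firstSet_ok
  simp only [firstSetB, Bool.and_eq_true] at hb
  exact ⟨h.1.1, fun s hs => Nat.blt_eq.mp (allB_spec h.1.2 s hs),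
    image_lineSet h.1.1 (incB_spec hb.1.1.1.1.1.1).2 h.2⟩

theorem setBase_facts : setBase.Nodup ∧ (∀ p ∈ setBase, p < 4060) ∧ setZero < nSets ∧
    sSet setZero = lineSet setBase := by
  have hb := firstSet_ok
  simp only [firstSetB, Bool.and_eq_true, Nat.blt_eq, Nat.beq_eq] at hb
  obtain ⟨⟨⟨⟨⟨⟨h1, -⟩, h3⟩, h4⟩, -⟩, -⟩, -⟩ := hb
  refine ⟨(incB_spec h1).1, (incB_spec h1).2, h3, Finset.ext fun x => ?_⟩
  rw [sSet, mem_lineSet, mem_lineSet, ← listMask_spec, h4, listMask_spec]

/-- The elements fixing the first set pointwise. -/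
noncomputable def fixF : Subgroup ↥grp where
  carrier := {g | ∀ x : Fin 4060, (x : ℕ) ∈ setBase → ap g x = x}
  one_mem' := fun x _ => ap_one x
  mul_mem' := fun {g h} hg hh x hx => by rw [ap_mul, hh x hx, hg x hx]
  inv_mem' := fun {g} hg x hx => by conv_lhs => rw [← hg x hx, ap_inv_ap]

theorem keyOf_congr {l : List ℕ} {f g : ℕ → ℕ} (h : ∀ p ∈ l, f p = g p) :
    keyOf (l.map f) = keyOf (l.map g) := by
  rw [List.map_congr_left h]

theorem card_fixF_le : Nat.card ↥fixF ≤ 100 := by
  have hb := firstSet_ok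
  simp only [firstSetB, Bool.and_eq_true, Nat.beq_eq, allBelow_eq_true] at hb
  obtain ⟨⟨⟨⟨-, -⟩, hlen⟩, hall⟩, hne⟩ := hb
  obtain ⟨-, hlt, -, -⟩ := setBase_facts
  have hmem : ∀ k : Fin 24, permWords.getD k [] ∈ permWords := fun k => by
    rw [List.getD_eq_getElem _ _ (by omega)]
    exact List.getElem_mem _
  have hperm : ∀ k : Fin 24, knownB (permWords.getD k []) = true ∧
      (lineSet setBase).image (ap (evalW letter (permWords.getD k []))) = lineSet setBase := by
    intro k
    have h := allB_spec hall _ (hmem k)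
    rw [Bool.and_eq_true] at h
    exact ⟨h.1, image_lineSet h.1 hlt h.2⟩
  have hfix : ∀ p : ↥fixF, (lineSet setBase).image (ap (p : ↥grp)) = lineSet setBase := by
    intro p
    refine Finset.ext fun x => ?_
    simp only [Finset.mem_image, mem_lineSet]
    exact ⟨fun ⟨y, hy, e⟩ => e ▸ (p.2 y hy).symm ▸ hy, fun hx => ⟨x, hx, p.2 x hx⟩⟩
  let f : Fin 14976 × Fin 24 × ↥fixF → ↥grp := fun z =>
    evalW letter (setWord.get [] z.1) * (evalW letter (permWords.getD z.2.1 []) * (z.2.2 : ↥grp))
  have hf : Function.Injective f := by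
    rintro ⟨i, k, p⟩ ⟨j, l, q⟩ e
    have hi : (i : ℕ) = j := by
      refine sSet_inj i.2 j.2 ?_
      have h := congrArg (fun z => (lineSet setBase).image (ap z)) e
      simp only [f, image_ap_mul, hfix, (hperm k).2, (hperm l).2, (setWord_ok i.2).2.2,
        (setWord_ok j.2).2.2] at h
      exact h
    obtain rfl : i = j := Fin.ext hi
    have e' : evalW letter (permWords.getD k []) * (p : ↥grp) =
        evalW letter (permWords.getD l []) * (q : ↥grp) := mul_left_cancel e
    have hk : k = l := by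
      by_contra hkl
      have h := hne k k.2 l l.2
      rw [Bool.or_eq_true, Bool.not_eq_true', ← Bool.not_eq_true, Nat.beq_eq, Nat.beq_eq] at h
      refine h.resolve_left (fun e => hkl (Fin.ext e)) (keyOf_congr fun x hx => ?_)
      have h1 := congrArg (fun z => (ap z ⟨x, hlt x hx⟩ : ℕ)) e'
      simp only [ap_mul, p.2 _ (show ((⟨x, hlt x hx⟩ : Fin 4060) : ℕ) ∈ setBase from hx),
        q.2 _ (show ((⟨x, hlt x hx⟩ : Fin 4060) : ℕ) ∈ setBase from hx)] at h1
      rwa [ap_word (hperm k).1, ap_word (hperm l).1] at h1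
    subst hk
    rw [Subtype.ext (mul_left_cancel e')]
  have h := Nat.card_le_card_of_injective f hf
  rw [Nat.card_prod, Nat.card_prod, Nat.card_fin, Nat.card_fin, card_grp] at h
  omega

/-- A subgroup of order 25. -/
noncomputable def qZero : Subgroup ↥grp := wordsGrp [[12], [13]]

theorem evalW_repW (a : List ℕ) : ∀ n : ℕ, evalW letter (repW n a) = evalW letter a ^ n
  | 0 => by simp [repW, evalW]
  | n + 1 => by rw [repW, evalW_append, evalW_repW a n, pow_succ']

theorem eqW_pow {a : List ℕ} {n : ℕ} (h : eqW (repW n a) [] = true) : evalW letter a ^ n = 1 := by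
  rw [← evalW_repW, eqW_spec h]
  simp [evalW]

theorem neW_spec {a b : List ℕ} (h : neW a b = true) : evalW letter a ≠ evalW letter b := fun e => by
  simp only [neW, Bool.and_eq_true, Bool.not_eq_true'] at h
  have h' : ∀ x ∈ [2305, 2306, 3378], Nat.beq (appW 12 letterCodes a x)
      (appW 12 letterCodes b x) = true := by
    intro x hx
    have hx' : x < 4060 := isBase.1 x hx
    rw [Nat.beq_eq]
    have h1 := ap_word h.1.1 ⟨x, hx'⟩
    rw [e, ap_word h.1.2 ⟨x, hx'⟩] at h1
    exact h1.symm
  refine Bool.false_ne_true (h.2.symm.trans ?_)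
  simp only [eqOn, allB, h' 2305 (by simp), h' 2306 (by simp), h' 3378 (by simp), Bool.and_self]

theorem qZero_le : qZero ≤ fixF := fun g hg x hx => by
  have h := sylow_ok
  simp only [sylowB, Bool.and_eq_true] at h
  exact fixB_spec h.1.1.1.1.1.1.1.1.1 hg hx

theorem card_qZero : Nat.card ↥qZero = 25 := by
  have h := sylow_ok
  simp only [sylowB, Bool.and_eq_true, allBelow_eq_true, Bool.or_eq_true, Nat.beq_eq] at h
  obtain ⟨⟨⟨⟨⟨⟨⟨⟨⟨-, ha⟩, hb⟩, hc⟩, -⟩, -⟩, -⟩, -⟩, -⟩, hd⟩ := h
  set a := evalW letter [12] with ha'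
  set b := evalW letter [13] with hb'
  have hab : Commute a b := by
    have h := eqW_spec hc
    rw [show [12, 13] = [12] ++ [13] from rfl, show [13, 12] = [13] ++ [12] from rfl, evalW_append,
      evalW_append] at h
    exact h
  have hpa : a ^ 5 = 1 := eqW_pow ha
  have hpb : b ^ 5 = 1 := eqW_pow hb
  let f : Fin 5 × Fin 5 → ↥grp := fun z => a ^ (z.1 : ℕ) * b ^ (z.2 : ℕ)
  have hmul : ∀ z w, f z * f w = f (z + w) := by
    intro z w
    show _ = a ^ ((z.1 + w.1 : Fin 5) : ℕ) * b ^ ((z.2 + w.2 : Fin 5) : ℕ)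
    rw [Fin.val_add, Fin.val_add, ← pow_eq_pow_mod _ hpa, ← pow_eq_pow_mod _ hpb, pow_add, pow_add]
    simp only [f, mul_assoc]
    rw [← mul_assoc (b ^ _) (a ^ _), ((hab.pow_pow _ _).symm).eq, mul_assoc]
  have hrange : ∀ g ∈ qZero, g ∈ Set.range f := by
    intro g hg
    rw [qZero, wordsGrp, ← Subgroup.mem_toSubmonoid, Subgroup.closure_toSubmonoid_of_finite] at hg
    induction hg using Submonoid.closure_induction with
    | mem g hg =>
      obtain ⟨w, hw, rfl⟩ := hg
      simp only [Set.mem_setOf_eq, List.mem_cons, List.not_mem_nil, or_false] at hw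
      rcases hw with rfl | rfl
      · exact ⟨(1, 0), by simp [f, a]⟩
      · exact ⟨(0, 1), by simp [f, b]⟩
    | one => exact ⟨0, by simp [f]⟩
    | mul g h _ _ h1 h2 =>
      obtain ⟨z, rfl⟩ := h1
      obtain ⟨w, rfl⟩ := h2
      exact ⟨z + w, (hmul z w).symm⟩
  have hinj : Function.Injective f := by
    rintro ⟨i, j⟩ ⟨k, l⟩ e
    by_contra hne
    have h' := hd (5 * (i : ℕ) + j) (by omega) (5 * (k : ℕ) + l) (by omega)
    rcases h' with h' | h'
    · refine hne (Prod.ext (Fin.ext ?_) (Fin.ext ?_)) <;> simp only <;> omega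
    · refine neW_spec h' ?_
      rw [evalW_append, evalW_append, evalW_repW, evalW_repW, evalW_repW, evalW_repW,
        show (5 * (i : ℕ) + j) / 5 = i by omega, show (5 * (i : ℕ) + j) % 5 = j by omega,
        show (5 * (k : ℕ) + l) / 5 = k by omega, show (5 * (k : ℕ) + l) % 5 = l by omega]
      exact e
  have hmem : ∀ z, f z ∈ qZero := fun z =>
    mul_mem (pow_mem (mem_wordsGrp (by simp)) _) (pow_mem (mem_wordsGrp (by simp)) _)
  have e : Function.Bijective fun z => (⟨f z, hmem z⟩ : ↥qZero) :=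
    ⟨fun z w h => hinj (congrArg Subtype.val h), fun g => by
      obtain ⟨z, hz⟩ := hrange g g.2
      exact ⟨z, Subtype.ext hz⟩⟩
  rw [← Nat.card_eq_of_bijective _ e, Nat.card_prod, Nat.card_fin]

theorem eq_qZero {R : Subgroup ↥grp} (hR : R ≤ fixF) (hc : Nat.card ↥R = 25) : R = qZero := by
  have h1 : qZero.relIndex fixF ≤ 4 := by
    have h := qZero.relIndex fixF
    have hm : Nat.card ↥qZero * qZero.relIndex fixF = Nat.card ↥fixF := by
      rw [← Subgroup.card_mul_index (qZero.subgroupOf fixF), Subgroup.relIndex]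
      congr 1
      exact (Nat.card_congr (Subgroup.subgroupOfEquivOfLe qZero_le).toEquiv).symm
    rw [card_qZero] at hm
    have := card_fixF_le
    omega
  have h0 : qZero.relIndex fixF ≠ 0 := by
    rw [Subgroup.relIndex]
    exact Subgroup.index_ne_zero_of_finite
  have h2 : qZero.relIndex R ≤ 4 := (Subgroup.relIndex_le_of_le_right hR h0).trans h1
  have h3 : qZero.relIndex R ∣ 25 := hc ▸ Subgroup.index_dvd_card _
  have h4 : qZero.relIndex R = 1 := by
    generalize qZero.relIndex R = q at h2 h3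
    interval_cases q <;> simp_all
  exact Subgroup.eq_of_le_of_card_ge (Subgroup.relIndex_eq_one.1 h4) (by rw [hc, card_qZero])

/-- The conjugate of the subgroup of order 25. -/
noncomputable def qConj (g : ↥grp) : Subgroup ↥grp := qZero.map (MulAut.conj g).toMonoidHom

theorem card_qConj (g : ↥grp) : Nat.card ↥(qConj g) = 25 := by
  rw [qConj, Subgroup.card_map_of_injective (f := (MulAut.conj g).toMonoidHom)
    (MulAut.conj g).injective, card_qZero]

theorem qConj_eq {g h : ↥grp}
    (e : (lineSet setBase).image (ap g) = (lineSet setBase).image (ap h)) : qConj g = qConj h := by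
  have hk : (lineSet setBase).image (ap (h⁻¹ * g)) = lineSet setBase := by
    rw [image_ap_mul, e]
    exact image_ap_inv rfl
  have hle : qConj (h⁻¹ * g) ≤ fixF := by
    rintro _ ⟨q, hq, rfl⟩ x hx
    rw [← mem_lineSet, ← hk] at hx
    obtain ⟨y, hy, rfl⟩ := Finset.mem_image.1 hx
    rw [MulEquiv.coe_toMonoidHom, MulAut.conj_apply, ap_mul, ap_mul, ap_inv_ap,
      qZero_le hq y (mem_lineSet.1 hy)]
  have h1 := eq_qZero hle (card_qConj _)
  have h2 : qConj g = (qConj (h⁻¹ * g)).map (MulAut.conj h).toMonoidHom := by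
    rw [qConj, qConj, Subgroup.map_map]
    congr 1
    ext z
    simp [mul_assoc]
  rw [h2, h1]
  rfl

end Cfsg.Agent.RuRankThree
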