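import Cfsg.Agent.RuRankThree.Rel

/-!
# A rank three group on 4060 points with the twisted group as point stabiliser
-/

set_option autoImplicit false
set_option maxRecDepth 100000

namespace Cfsg.Agent.RuRankThree

open MulAction

attribute [local irreducible] rowInfo rowMask rowIdx letterCodes nb Cfsg.Lie.twistedF4
  Cfsg.Lie.chevF4

theorem exists_equiv_hgrp {Ω : Type*} [Fintype Ω] [DecidableEq Ω] (hΩ : Fintype.card Ω = 4060)
    (G : Subgroup (Equiv.Perm Ω)) [MulAction.IsPretransitive G Ω] (a : Ω)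
    (e : MulAction.stabilizer G a ≃* Cfsg.Lie.twistedF4 (ZMod 2) 1) (b c : Ω)
    (hb : (MulAction.orbit (MulAction.stabilizer G a) b).ncard = 1755)
    (hc : (MulAction.orbit (MulAction.stabilizer G a) c).ncard = 2304) :
    Nonempty (↥G ≃* ↥Rud.Hgrp) := by
  classical
  set H := stabilizer G a with hHdef
  let φ : ↥H ≃* ↥grp := e.trans psi
  have hH : Nat.card ↥H = 35942400 := (Nat.card_congr φ.toEquiv).trans card_grp
  have hG : Nat.card ↥G = 4060 * 35942400 := by
    have h := H.index_mul_card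
    rw [hH] at h
    rw [← h, hHdef, index_stabilizer, orbit_eq_univ, Set.ncard_univ, Nat.card_eq_fintype_card, hΩ]
  -- point stabilisers in the stabiliser
  have hcard : ∀ d : Ω, ∀ n, (orbit ↥H d).ncard = n →
      n * Nat.card ↥((stabilizer ↥H d).map φ.toMonoidHom) = 35942400 := by
    intro d n hd
    rw [Subgroup.card_map_of_injective (f := φ.toMonoidHom) φ.injective, ← hd, ← index_stabilizer,
      Subgroup.index_mul_card, hH]
  have hbase : ∀ (d : Ω) (x x0 : Fin 4060), (∀ g : ↥grp, g ∈ (stabilizer ↥H d).map φ.toMonoidHom ↔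
      ap g x = x) → (∃ g : ↥grp, ap g x0 = x) →
      ∃ d' ∈ orbit ↥H d, ∀ h : ↥H, h • d' = d' ↔ ap (φ h) x0 = x0 := by
    rintro d x x0 hd ⟨g, rfl⟩
    refine ⟨(φ.symm g)⁻¹ • d, mem_orbit _ _, fun h => ?_⟩
    have h1 := hd (g * φ h * g⁻¹)
    have h2 : g * φ h * g⁻¹ ∈ (stabilizer ↥H d).map φ.toMonoidHom ↔
        φ.symm g * h * (φ.symm g)⁻¹ ∈ stabilizer ↥H d := by
      rw [show g * φ h * g⁻¹ = φ.toMonoidHom (φ.symm g * h * (φ.symm g)⁻¹) by simp,
        Subgroup.mem_map_iff_mem (f := φ.toMonoidHom) φ.injective]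
    rw [h2, mem_stabilizer_iff, ap_mul, ap_inv_ap, ap_mul] at h1
    rw [mul_smul, mul_smul] at h1
    constructor
    · intro hh
      have := h1.1 (by rw [hh, smul_inv_smul])
      exact Equiv.injective (g : Equiv.Perm (Fin 4060)) this
    · intro hh
      have := h1.2 (congrArg (ap g) hh)
      exact eq_inv_smul_iff.2 this
  -- the two base points
  obtain ⟨xb, hxb, hKb⟩ := exists_line_adj (K := (stabilizer ↥H b).map φ.toMonoidHom) (by
    have := hcard b 1755 hb; omega)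
  obtain ⟨xc, hxc, hxc0, hKc⟩ := exists_line_far (K := (stabilizer ↥H c).map φ.toMonoidHom) (by
    have := hcard c 2304 hc; omega)
  obtain ⟨b1, hb1, hb1s⟩ := hbase b xb lineB hKb (trans_near hxb)
  obtain ⟨c1, hc1, hc1s⟩ := hbase c xc lineC hKc (far_facts hxc hxc0)
  obtain ⟨hbA, hcA, hc0, hb0⟩ := lines_facts
  -- the map to the points
  have hσ : ∀ x : Fin 4060, ∃ d : Ω, (x = 0 ∧ d = a) ∨
      (Adj 0 x ∧ ∃ h : ↥H, ap (φ h) lineB = x ∧ d = h • b1) ∨
      (¬Adj 0 x ∧ x ≠ 0 ∧ ∃ h : ↥H, ap (φ h) lineC = x ∧ d = h • c1) := by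
    intro x
    by_cases h0 : x = 0
    · exact ⟨a, Or.inl ⟨h0, rfl⟩⟩
    by_cases hA : Adj 0 x
    · obtain ⟨g, hg⟩ := trans_near hA
      exact ⟨φ.symm g • b1, Or.inr (Or.inl ⟨hA, φ.symm g, by rw [φ.apply_symm_apply, hg], rfl⟩)⟩
    · obtain ⟨g, hg⟩ := far_facts hA h0
      exact ⟨φ.symm g • c1,
        Or.inr (Or.inr ⟨hA, h0, φ.symm g, by rw [φ.apply_symm_apply, hg], rfl⟩)⟩
  choose σ hσ using hσ
  have uniq : ∀ (x0 : Fin 4060) (d : Ω), (∀ h : ↥H, h • d = d ↔ ap (φ h) x0 = x0) →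
      ∀ h h' : ↥H, (h • d = h' • d ↔ ap (φ h) x0 = ap (φ h') x0) := by
    intro x0 d hs h h'
    rw [← inv_smul_eq_iff, ← mul_smul, hs, map_mul, map_inv, ap_mul]
    constructor
    · intro e1
      have := congrArg (ap (φ h')) e1
      rwa [ap_ap_inv] at this
    · intro e1
      rw [e1, ap_inv_ap]
  have σ0 : σ 0 = a := by
    rcases hσ 0 with h | h | h
    · exact h.2
    · exact absurd h.1 not_adj_zero
    · exact absurd rfl h.2.1
  have σb : ∀ h : ↥H, σ (ap (φ h) lineB) = h • b1 := by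
    intro h
    have hA : Adj 0 (ap (φ h) lineB) := (adj_zero_ap _ _).2 hbA
    rcases hσ (ap (φ h) lineB) with h' | ⟨-, k, hk, hd⟩ | h'
    · rw [h'.1] at hA
      exact absurd hA not_adj_zero
    · rw [hd]
      exact (uniq lineB b1 hb1s k h).2 hk
    · exact absurd hA h'.1
  have σc : ∀ h : ↥H, σ (ap (φ h) lineC) = h • c1 := by
    intro h
    have hA : ¬Adj 0 (ap (φ h) lineC) := fun hA => hcA ((adj_zero_ap _ _).1 hA)
    rcases hσ (ap (φ h) lineC) with h' | h' | ⟨-, -, k, hk, hd⟩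
    · exfalso
      have := congrArg (ap (φ h)⁻¹) h'.1
      rw [ap_inv_ap, ap_zero] at this
      exact hc0 this
    · exact absurd h'.1 hA
    · rw [hd]
      exact (uniq lineC c1 hc1s k h).2 hk
  have hHa : ∀ h : ↥H, h • a = a := fun h => h.2
  have hequi : ∀ (h : ↥H) (x : Fin 4060), σ (ap (φ h) x) = h • σ x := by
    intro h x
    rcases hσ x with ⟨rfl, hd⟩ | ⟨-, k, rfl, hd⟩ | ⟨-, -, k, rfl, hd⟩
    · rw [ap_zero, σ0, hHa]
    · rw [← ap_mul, ← map_mul, σb, σb, mul_smul]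
    · rw [← ap_mul, ← map_mul, σc, σc, mul_smul]
  -- the orbits are different
  have horb_b : ∀ h : ↥H, h • b1 ∈ orbit ↥H b := fun h => by
    rw [← orbit_eq_iff.2 hb1]; exact mem_orbit _ _
  have horb_c : ∀ h : ↥H, h • c1 ∈ orbit ↥H c := fun h => by
    rw [← orbit_eq_iff.2 hc1]; exact mem_orbit _ _
  have horb_a : orbit ↥H a = {a} := Set.ext fun v =>
    ⟨fun ⟨h, e⟩ => e ▸ hHa h, fun e => by rw [show v = a from e]; exact mem_orbit_self a⟩
  have dbc : ∀ v, v ∈ orbit ↥H b → v ∉ orbit ↥H c := fun v hv hv' => by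
    rw [← orbit_eq_iff.2 hv, orbit_eq_iff.2 hv', hc] at hb
    omega
  have dab : a ∉ orbit ↥H b := fun h => by
    rw [← orbit_eq_iff.2 h, horb_a, Set.ncard_singleton] at hb
    omega
  have dac : a ∉ orbit ↥H c := fun h => by
    rw [← orbit_eq_iff.2 h, horb_a, Set.ncard_singleton] at hc
    omega
  have hinj : Function.Injective σ := by
    intro x y exy
    rcases hσ x with ⟨rfl, hx⟩ | ⟨-, h, rfl, hx⟩ | ⟨-, -, h, rfl, hx⟩ <;>
      rcases hσ y with ⟨rfl, hy⟩ | ⟨-, k, rfl, hy⟩ | ⟨-, -, k, rfl, hy⟩ <;>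
      replace exy := hx.symm.trans (exy.trans hy)
    · rfl
    · exact absurd (exy ▸ horb_b k) dab
    · exact absurd (exy ▸ horb_c k) dac
    · exact absurd (exy ▸ horb_b h) dab
    · exact (uniq lineB b1 hb1s h k).1 exy
    · exact absurd (horb_c k) (exy ▸ dbc _ (horb_b h))
    · exact absurd (exy ▸ horb_c h) dac
    · exact absurd (horb_c h) (exy.symm ▸ dbc _ (horb_b k))
    · exact (uniq lineC c1 hc1s h k).1 exy
  let τ : Fin 4060 ≃ Ω := Equiv.ofBijective σ
    ((Fintype.bijective_iff_injective_and_card σ).2 ⟨hinj, by rw [Fintype.card_fin, hΩ]⟩)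
  have hτ : ∀ x, τ x = σ x := fun x => rfl
  -- the invariant relation
  let E : Ω → Ω → Prop := fun u v => ∃ g : ↥G, g • a = u ∧ g⁻¹ • v ∈ orbit ↥H b
  have hsame : ∀ g g' : ↥G, g • a = g' • a → ∀ v, g⁻¹ • v ∈ orbit ↥H b → g'⁻¹ • v ∈ orbit ↥H b := by
    intro g g' hgg v hv
    have hk : g'⁻¹ * g ∈ H := by
      rw [hHdef, mem_stabilizer_iff, mul_smul, hgg, inv_smul_smul]
    have : g'⁻¹ • v = (⟨g'⁻¹ * g, hk⟩ : ↥H) • (g⁻¹ • v) := by
      show _ = (g'⁻¹ * g) • (g⁻¹ • v)
      rw [mul_smul, smul_inv_smul]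
    rw [this]
    exact mem_orbit_of_mem_orbit _ hv
  have hEa : ∀ v, E a v ↔ v ∈ orbit ↥H b := by
    intro v
    refine ⟨fun ⟨g, hg, hv⟩ => ?_, fun hv => ⟨1, one_smul _ _, by rwa [inv_one, one_smul]⟩⟩
    have := hsame g 1 (by rw [hg, one_smul]) v hv
    rwa [inv_one, one_smul] at this
  have hEg : ∀ (g : ↥G) u v, E (g • u) (g • v) ↔ E u v := by
    intro g u v
    constructor
    · rintro ⟨k, hk, hv⟩
      refine ⟨g⁻¹ * k, by rw [mul_smul, hk, inv_smul_smul], ?_⟩
      rwa [mul_inv_rev, inv_inv, mul_smul]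
    · rintro ⟨k, hk, hv⟩
      refine ⟨g * k, by rw [mul_smul, hk], ?_⟩
      rwa [mul_inv_rev, mul_smul, inv_smul_smul]
  have htrans : ∀ u : Ω, ∃ g : ↥G, g • a = u := fun u => exists_smul_eq ↥G a u
  -- symmetry
  have hdeg : ∀ u, (Finset.univ.filter (fun v => E u v)).card = 1755 := by
    intro u
    obtain ⟨g, rfl⟩ := htrans u
    rw [← hb, Set.ncard_eq_toFinset_card']
    refine (Finset.card_equiv (MulAction.toPerm g) fun v => ?_).symm
    rw [Set.mem_toFinset, Finset.mem_filter, MulAction.toPerm_apply, hEg, hEa]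
    simp
  have hin : (Finset.univ.filter (fun u => E u a)).card = 1755 := by
    have h := Finset.sum_card_bipartiteAbove_eq_sum_card_bipartiteBelow (r := E)
      (s := (Finset.univ : Finset Ω)) (t := (Finset.univ : Finset Ω))
    simp only [Finset.bipartiteAbove, Finset.bipartiteBelow] at h
    have hall : ∀ v, (Finset.univ.filter (fun u => E u v)).card =
        (Finset.univ.filter (fun u => E u a)).card := by
      intro v
      obtain ⟨g, rfl⟩ := htrans v
      refine (Finset.card_equiv (MulAction.toPerm g) fun u => ?_).symm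
      simp only [Finset.mem_filter, Finset.mem_univ, true_and, MulAction.toPerm_apply, hEg]
    rw [Finset.sum_congr rfl (fun u _ => hdeg u), Finset.sum_congr rfl (fun u _ => hall u),
      Finset.sum_const, Finset.sum_const, Finset.card_univ, hΩ, smul_eq_mul, smul_eq_mul] at h
    omega
  have hEsymm0 : ∀ v, E v a ↔ E a v := by
    have hcover : ∀ v : Ω, v = a ∨ v ∈ orbit ↥H b ∨ v ∈ orbit ↥H c := by
      intro v
      rcases hσ (τ.symm v) with h | ⟨-, h, -, hd⟩ | ⟨-, -, h, -, hd⟩ <;>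
        rw [← hτ, τ.apply_symm_apply] at *
      · exact Or.inl h.2
      · exact Or.inr (Or.inl (hd ▸ horb_b h))
      · exact Or.inr (Or.inr (hd ▸ horb_c h))
    have hinvH : ∀ (h : ↥H) u, E (h • u) a ↔ E u a := by
      intro h u
      have := hEg (h : ↥G) u a
      rwa [show (h : ↥G) • a = a from hHa h] at this
    have hna : ¬E a a := fun h => dab ((hEa a).1 h)
    have hnc : ¬E c a := by
      intro hEc
      have hsub : orbit ↥H c ⊆ ↑(Finset.univ.filter (fun u => E u a)) := by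
        rintro _ ⟨h, rfl⟩
        simp only [Finset.coe_filter, Finset.mem_univ, true_and, Set.mem_setOf_eq]
        exact (hinvH h c).2 hEc
      have := Set.ncard_le_ncard hsub (Set.toFinite _)
      rw [hc, Set.ncard_coe_finset, hin] at this
      omega
    have hEb : E b a := by
      by_contra hnb
      have hempty : Finset.univ.filter (fun u => E u a) = ∅ := by
        rw [Finset.filter_eq_empty_iff]
        intro u _ hu
        rcases hcover u with rfl | ⟨h, rfl⟩ | ⟨h, rfl⟩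
        · exact hna hu
        · exact hnb ((hinvH h b).1 hu)
        · exact hnc ((hinvH h c).1 hu)
      rw [hempty] at hin
      simp at hin
    intro v
    rcases hcover v with rfl | ⟨h, rfl⟩ | ⟨h, rfl⟩
    · rfl
    · exact iff_of_true ((hinvH h b).2 hEb) ((hEa _).2 (mem_orbit _ _))
    · refine iff_of_false (fun h' => hnc ((hinvH h c).1 h')) fun h' => ?_
      exact dbc _ ((hEa _).1 h') (mem_orbit _ _)
  have hEsymm : ∀ u v, E u v → E v u := by
    intro u v huv
    obtain ⟨g, rfl⟩ := htrans u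
    obtain ⟨w, rfl⟩ : ∃ w, g • w = v := ⟨g⁻¹ • v, smul_inv_smul _ _⟩
    rw [hEg] at huv ⊢
    exact (hEsymm0 w).2 huv
  -- the relation is adjacency
  have hadj : ∀ x y, E (τ x) (τ y) ↔ Adj x y := by
    refine rel_eq_adj (R := fun x y => E (τ x) (τ y)) (fun x => ?_) (fun x y h => hEsymm _ _ h)
      (fun g x y => ?_) (fun x => ?_)
    · rw [hτ, hτ, σ0, hEa]
      rcases hσ x with ⟨rfl, hd⟩ | ⟨hA, h, -, hd⟩ | ⟨hA, -, h, -, hd⟩
      · rw [hd]; exact iff_of_false dab not_adj_zero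
      · rw [hd]; exact iff_of_true (horb_b h) hA
      · rw [hd]; exact iff_of_false (fun h' => dbc _ h' (horb_c h)) hA
    · show E (τ (ap g x)) (τ (ap g y)) ↔ E (τ x) (τ y)
      obtain ⟨h, rfl⟩ : ∃ h, φ h = g := ⟨φ.symm g, φ.apply_symm_apply g⟩
      rw [hτ, hτ, hequi, hequi]
      exact hEg (h : ↥G) _ _
    · obtain ⟨g, hg⟩ := htrans (τ x)
      refine ⟨(MulAction.toPerm g).trans τ.symm |> fun p => τ.trans p, ?_, fun u v => ?_⟩
      · show τ.symm (g • τ 0) = x
        rw [hτ, σ0, hg, τ.symm_apply_apply]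
      · show E (τ (τ.symm (g • τ u))) (τ (τ.symm (g • τ v))) ↔ _
        rw [τ.apply_symm_apply, τ.apply_symm_apply]
        exact hEg g _ _
  -- the image is the Rudvalis group
  let ρ : ↥G →* Equiv.Perm (Fin 4060) := (τ.symm.permCongrHom).toMonoidHom.comp G.subtype
  have hρ : ∀ (g : ↥G) (x : Fin 4060), ρ g x = τ.symm (g • τ x) := fun g x => rfl
  have hρinj : Function.Injective ρ := (τ.symm.permCongrHom).injective.comp G.subtype_injective
  have hmem : ∀ g, ρ g ∈ Rud.Hgrp := by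
    intro g
    have hpres : Pres (ρ g) := fun x y => by
      rw [← hadj, ← hadj, hρ, hρ, τ.apply_symm_apply, τ.apply_symm_apply, hEg]
    have := Rud.Hgrp_transitive
    obtain ⟨k, hk⟩ := exists_smul_eq ↥Rud.Hgrp (0 : Fin 4060) (ρ g 0)
    change (k : Equiv.Perm (Fin 4060)) 0 = ρ g 0 at hk
    have h1 : (k : Equiv.Perm (Fin 4060))⁻¹ * ρ g ∈ grp := by
      refine aut_mem (pres_mul (pres_inv (hgrp_adj k.2)) hpres) ?_
      rw [Equiv.Perm.mul_apply, Equiv.Perm.inv_eq_iff_eq]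
      exact hk.symm
    have h2 := Rud.Hgrp.mul_mem k.2 h1.1
    rwa [mul_inv_cancel_left] at h2
  let ρ' : ↥G →* ↥Rud.Hgrp := ρ.codRestrict Rud.Hgrp hmem
  have hρ'inj : Function.Injective ρ' := fun x y h => hρinj (congrArg Subtype.val h)
  exact ⟨MulEquiv.ofBijective ρ' (hρ'inj.bijective_of_nat_card_le
    (by rw [Rud.card_Hgrp, hG]))⟩

end Cfsg.Agent.RuRankThree
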