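import Cfsg.Agent.RuRankThree.Letters

/-!
# Spanning trees of orbits of subgroups of the stabiliser of the line 0
-/

set_option autoImplicit false
set_option maxRecDepth 100000

namespace Cfsg.Agent.RuRankThree

open Cfsg.Agent.Compute Cfsg.Agent.StemCert

/-- A bit of a number. -/
noncomputable def hasBit (m x : ℕ) : Bool := Nat.beq (Nat.land (Nat.shiftRight m x) 1) 1

theorem hasBit_eq (m x : ℕ) : hasBit m x = Nat.testBit m x := by
  rw [hasBit, Bool.eq_iff_iff, Nat.beq_eq]
  show (m >>> x) &&& 1 = 1 ↔ _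
  rw [Nat.and_one_is_mod, Nat.testBit_eq_decide_div_mod_eq, decide_eq_true_eq,
    Nat.shiftRight_eq_div_pow]

/-- Equality of two truth values. -/
noncomputable def sameB (a b : Bool) : Bool := cond a b (!b)

theorem sameB_eq {a b : Bool} (h : sameB a b = true) : a = b := by
  cases a <;> cases b <;> simp [sameB] at h ⊢

/-- The line in a place of a tree. -/
noncomputable def tPt (T : Arr (ℕ × ℕ × ℕ)) (k : ℕ) : ℕ := (T.get (0, 0, 0) k).1

/-- A place is one line, later ones are images of earlier ones. -/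
noncomputable def nodeB (T : Arr (ℕ × ℕ × ℕ)) (ws : List (List ℕ)) (k : ℕ) : Bool :=
  Nat.blt (tPt T k) 4060 && (Nat.beq k 0 ||
    (Nat.blt (T.get (0, 0, 0) k).2.1 k && Nat.blt (T.get (0, 0, 0) k).2.2 ws.length &&
      Nat.beq (wApp (ws.getD (T.get (0, 0, 0) k).2.2 []) (tPt T (T.get (0, 0, 0) k).2.1))
        (tPt T k)))

/-- Later lines are images of earlier ones under the listed words. -/
noncomputable def treeB (T : Arr (ℕ × ℕ × ℕ)) (n : ℕ) (ws : List (List ℕ)) : Bool :=
  Nat.blt 0 n && allB knownB ws && allBelow n (nodeB T ws)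

/-- The bit mask of the lines of a tree. -/
noncomputable def treeMask (T : Arr (ℕ × ℕ × ℕ)) (n : ℕ) : ℕ :=
  Nat.rec (motive := fun _ => ℕ) 0 (fun k r => Nat.lor (Nat.shiftLeft 1 (tPt T k)) r) n

/-- The lines of the places below `n` are different and avoid a mask. -/
noncomputable def distinctB (T : Arr (ℕ × ℕ × ℕ)) (n : ℕ) : ℕ → Bool :=
  Nat.rec (motive := fun _ => ℕ → Bool) (fun _ => true)
    (fun k ih m => forceN (tPt T k) fun p => !(hasBit m p) &&
      forceN (Nat.lor (Nat.shiftLeft 1 p) m) ih) n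

theorem testBit_lor_shift (p q m : ℕ) :
    Nat.testBit (Nat.lor (Nat.shiftLeft 1 p) m) q = true ↔ p = q ∨ Nat.testBit m q = true := by
  show Nat.testBit ((1 <<< p) ||| m) q = true ↔ _
  rw [Nat.one_shiftLeft, Nat.testBit_or, Bool.or_eq_true, Nat.testBit_two_pow, decide_eq_true_eq]

theorem treeMask_spec (T : Arr (ℕ × ℕ × ℕ)) : ∀ (n q : ℕ),
    Nat.testBit (treeMask T n) q = true ↔ ∃ k < n, tPt T k = q
  | 0, q => by simp [treeMask]
  | n + 1, q => by
    show Nat.testBit (Nat.lor (Nat.shiftLeft 1 (tPt T n)) (treeMask T n)) q = true ↔ _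
    rw [testBit_lor_shift, treeMask_spec T n q]
    constructor
    · rintro (h | ⟨k, hk, h⟩)
      exacts [⟨n, by omega, h⟩, ⟨k, by omega, h⟩]
    · rintro ⟨k, hk, h⟩
      rcases Nat.lt_succ_iff_lt_or_eq.1 hk with hk' | rfl
      exacts [Or.inr ⟨k, hk', h⟩, Or.inl h]

theorem distinctB_spec (T : Arr (ℕ × ℕ × ℕ)) : ∀ (n m : ℕ), distinctB T n m = true →
    (∀ k < n, Nat.testBit m (tPt T k) = false) ∧
      ∀ i < n, ∀ j < n, tPt T i = tPt T j → i = j
  | 0, m, _ => ⟨fun k hk => absurd hk (Nat.not_lt_zero k), fun i hi => absurd hi (Nat.not_lt_zero i)⟩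
  | n + 1, m, h => by
    have h' : forceN (tPt T n) (fun p => !(hasBit m p) &&
      forceN (Nat.lor (Nat.shiftLeft 1 p) m) (distinctB T n)) = true := h
    simp only [forceN_eq, Bool.and_eq_true, Bool.not_eq_true', hasBit_eq] at h'
    obtain ⟨h1, h2⟩ := distinctB_spec T n _ h'.2
    have h3 : ∀ k < n, Nat.testBit m (tPt T k) = false ∧ tPt T n ≠ tPt T k := fun k hk => by
      have := h1 k hk
      refine ⟨Bool.eq_false_iff.2 fun e => ?_, fun e => ?_⟩ <;>
        exact Bool.false_ne_true (this.symm.trans ((testBit_lor_shift _ _ _).2 (by tauto)))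
    refine ⟨fun k hk => ?_, fun i hi j hj e => ?_⟩
    · rcases Nat.lt_succ_iff_lt_or_eq.1 hk with hk' | rfl
      exacts [(h3 k hk').1, h'.1]
    · rcases Nat.lt_succ_iff_lt_or_eq.1 hi with hi' | rfl <;>
        rcases Nat.lt_succ_iff_lt_or_eq.1 hj with hj' | rfl
      · exact h2 i hi' j hj' e
      · exact absurd e.symm (h3 i hi').2
      · exact absurd e (h3 j hj').2
      · rfl

/-- A property of lines preserved by the words holds on the whole tree. -/
theorem tree_induction {T : Arr (ℕ × ℕ × ℕ)} {n : ℕ} {ws : List (List ℕ)}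
    (h : treeB T n ws = true) {p : Fin 4060 → Prop}
    (h0 : ∀ x : Fin 4060, (x : ℕ) = tPt T 0 → p x)
    (hs : ∀ a ∈ ws, ∀ x, p x → p (ap (evalW letter a) x)) :
    ∀ k < n, ∀ x : Fin 4060, (x : ℕ) = tPt T k → p x := by
  simp only [treeB, Bool.and_eq_true, allBelow_eq_true, Nat.blt_eq] at h
  obtain ⟨⟨hn, hw⟩, hk⟩ := h
  intro k
  induction k using Nat.strong_induction_on with
  | _ k ih =>
    intro hkn x hx
    by_cases hk0 : k = 0
    · exact h0 x (hk0 ▸ hx)
    · have h' := hk k hkn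
      simp only [nodeB, Bool.and_eq_true, Bool.or_eq_true, Nat.beq_eq, Nat.blt_eq, hk0,
        false_or] at h'
      obtain ⟨-, ⟨hj, hl⟩, he⟩ := h'
      set j := (T.get (0, 0, 0) k).2.1
      set l := (T.get (0, 0, 0) k).2.2
      have hy : tPt T j < 4060 := by
        have := hk j (hj.trans hkn)
        simp only [nodeB, Bool.and_eq_true, Nat.blt_eq] at this
        exact this.1
      have hm : ws.getD l [] ∈ ws := by
        rw [List.getD_eq_getElem _ _ hl]; exact List.getElem_mem _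
      have hx' : x = ap (evalW letter (ws.getD l [])) ⟨tPt T j, hy⟩ := Fin.ext (by
        rw [ap_word (allB_spec hw _ hm), hx, he])
      rw [hx']
      exact hs _ hm _ (ih j hj (hj.trans hkn) _ rfl)

theorem tPt_lt {T : Arr (ℕ × ℕ × ℕ)} {n : ℕ} {ws : List (List ℕ)} (h : treeB T n ws = true)
    {k : ℕ} (hk : k < n) : tPt T k < 4060 := by
  simp only [treeB, Bool.and_eq_true, allBelow_eq_true] at h
  have := h.2 k hk
  simp only [nodeB, Bool.and_eq_true, Nat.blt_eq] at this
  exact this.1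

/-- The lines of a tree are reached from the root inside any subgroup containing the words. -/
theorem tree_reach {T : Arr (ℕ × ℕ × ℕ)} {n : ℕ} {ws : List (List ℕ)}
    (h : treeB T n ws = true) {H : Subgroup ↥grp} (hH : ∀ a ∈ ws, evalW letter a ∈ H)
    {r : Fin 4060} (hr : (r : ℕ) = tPt T 0) {x : Fin 4060}
    (hx : Nat.testBit (treeMask T n) x = true) : ∃ g ∈ H, ap g r = x := by
  obtain ⟨k, hk, hkx⟩ := (treeMask_spec T n x).1 hx
  refine tree_induction h (p := fun z => ∃ g ∈ H, ap g r = z)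
    (fun z hz => ⟨1, H.one_mem, (ap_one r).trans (Fin.ext (hr.trans hz.symm))⟩) ?_ k hk x hkx.symm
  rintro a ha z ⟨g, hg, rfl⟩
  exact ⟨_, H.mul_mem (hH a ha) hg, ap_mul _ _ _⟩

/-- A tree with different lines gives a lower bound for the orbit. -/
theorem tree_le_orbit {T : Arr (ℕ × ℕ × ℕ)} {n : ℕ} {ws : List (List ℕ)}
    (h : treeB T n ws = true) (hd : distinctB T n 0 = true) {H : Subgroup ↥grp}
    (hH : ∀ a ∈ ws, evalW letter a ∈ H) {r : Fin 4060} (hr : (r : ℕ) = tPt T 0) :
    n ≤ {x : Fin 4060 | ∃ g ∈ H, ap g r = x}.ncard := by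
  let f : Fin n → Fin 4060 := fun k => ⟨tPt T k, tPt_lt h k.2⟩
  have hf : Function.Injective f := fun i j e => Fin.ext
    ((distinctB_spec T n 0 hd).2 i i.2 j j.2 (congrArg Fin.val e))
  have hsub : Set.range f ⊆ {x : Fin 4060 | ∃ g ∈ H, ap g r = x} := by
    rintro _ ⟨k, rfl⟩
    exact tree_reach h hH hr ((treeMask_spec T n _).2 ⟨k, k.2, rfl⟩)
  have h1 := Set.ncard_le_ncard hsub (Set.toFinite _)
  rwa [Set.ncard_range_of_injective hf, Nat.card_fin] at h1

/-- The subgroup generated by some words. -/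
noncomputable def wordsGrp (ws : List (List ℕ)) : Subgroup ↥grp :=
  Subgroup.closure ((fun a => evalW letter a) '' {a | a ∈ ws})

theorem mem_wordsGrp {ws : List (List ℕ)} {a : List ℕ} (ha : a ∈ ws) :
    evalW letter a ∈ wordsGrp ws := Subgroup.subset_closure ⟨a, ha, rfl⟩

/-- The words fix the listed lines. -/
noncomputable def fixB (ws : List (List ℕ)) (bs : List ℕ) : Bool :=
  allB (fun a => knownB a && allB (fun x => Nat.blt x 4060 && Nat.beq (wApp a x) x) bs) ws

theorem fixB_spec {ws : List (List ℕ)} {bs : List ℕ} (h : fixB ws bs = true) {g : ↥grp}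
    (hg : g ∈ wordsGrp ws) {x : Fin 4060} (hx : (x : ℕ) ∈ bs) : ap g x = x := by
  induction hg using Subgroup.closure_induction with
  | mem g hg =>
    obtain ⟨a, ha, rfl⟩ := hg
    have h' := allB_spec h a ha
    simp only [Bool.and_eq_true] at h'
    have h'' := allB_spec h'.2 _ hx
    simp only [Bool.and_eq_true, Nat.beq_eq] at h''
    exact Fin.ext ((ap_word h'.1 x).trans h''.2)
  | one => exact ap_one x
  | mul g g' _ _ h1 h2 => rw [ap_mul, h2, h1]
  | inv g _ h1 => conv_lhs => rw [← h1, ap_inv_ap]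

end Cfsg.Agent.RuRankThree
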